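/-
Two involutions in a finite group, one in a subgroup: an odd power of their product in the subgroup.
-/
import Cfsg.Agent.Lib.OrthWreath.Cent

set_option autoImplicit false

namespace Cfsg.Agent.OrthEvenWreath

open Cfsg.Agent.OrthWreath (dih_flip dih_even dih_succ dih_mid)

/-- Descent along the cyclic group of the product of two involutions. -/
theorem desc {G : Type*} [Group G] [Finite G] (H : Subgroup G) {t s : G} (ht : t * t = 1) (hs : s * s = 1)
    (htH : t ∈ H) (hstep : ∀ n : ℕ, ((t * s) ^ n)⁻¹ * t * (t * s) ^ n ∈ H → (t * s) ^ n ∈ H) :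
    ∃ m : ℕ, ((t * s) ^ m)⁻¹ * s * (t * s) ^ m ∈ H ∧ (t * s) ^ (2 * m + 1) ∈ H ∧
      ((t * s) ^ (2 * m + 1) = 1 ∨ ∃ n : ℕ, ((t * s) ^ (2 * m + 1)) ^ n ≠ 1 ∧
        ((t * s) ^ (2 * m + 1)) ^ n * ((t * s) ^ (2 * m + 1)) ^ n = 1 ∧
        t * ((t * s) ^ (2 * m + 1)) ^ n = ((t * s) ^ (2 * m + 1)) ^ n * t ∧
        s * ((t * s) ^ (2 * m + 1)) ^ n = ((t * s) ^ (2 * m + 1)) ^ n * s) := by
  obtain ⟨e, l, ⟨m, hm⟩, hel⟩ := Nat.exists_eq_two_pow_mul_odd (orderOf_pos (t * s)).ne'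
  have key : ∀ j, j ≤ e → ((t * s) ^ (2 * m + 1)) ^ (2 ^ (e - j)) ∈ H := fun j => by
    induction j with
    | zero =>
      intro _
      rw [← pow_mul, Nat.sub_zero, mul_comm, ← hm, ← hel, pow_orderOf_eq_one]
      exact H.one_mem
    | succ j ih =>
      intro hj
      have h1 := ih (by omega)
      rw [← pow_mul] at h1 ⊢
      refine hstep _ ?_
      rw [← dih_even ht hs]
      refine H.mul_mem htH ?_
      convert h1 using 2
      rw [show e - j = (e - (j + 1)) + 1 by omega, pow_succ]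
      ring
  have hτ := key e le_rfl
  rw [Nat.sub_self, pow_zero, pow_one] at hτ
  refine ⟨m, by rw [← dih_succ ht hs]; exact H.mul_mem htH hτ, hτ, ?_⟩
  rcases Nat.eq_zero_or_pos e with rfl | he
  · left
    rw [← hm, ← one_mul l, ← pow_zero 2, ← hel, pow_orderOf_eq_one]
  · right
    obtain ⟨e, rfl⟩ : ∃ e', e = e' + 1 := ⟨e - 1, by omega⟩
    refine ⟨2 ^ e, ?_⟩
    rw [← pow_mul]
    have hr : orderOf (t * s) = 2 * ((2 * m + 1) * 2 ^ e) := by rw [hel, hm, pow_succ]; ring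
    obtain ⟨h1, h2, h3⟩ := dih_mid ht hs hr
    refine ⟨h3, ?_, h1, h2⟩
    rw [← pow_add, ← two_mul, ← hr, pow_orderOf_eq_one]

end Cfsg.Agent.OrthEvenWreath
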