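/-
Tensor powers of a symmetric form of even dimension: vectors of one factor.
-/
import Cfsg.Agent.Lib.OrthWreathEven.Setup

set_option autoImplicit false
set_option linter.unusedSectionVars false

namespace Cfsg.Agent.OrthEvenWreath

open scoped Matrix
open Matrix Cfsg.Agent.Transvec Cfsg.Agent.TensorMax Cfsg.Agent.WreathMax Cfsg.Agent.FormWreath
open Cfsg.Agent.OrthWreath hiding Sl Ctx Base Ind Inv Gd
open Cfsg.Agent.UWreath (top top_ten Loc loc_pten loc_comp pull Has)

variable {F : Type*} [Field F] {k : ℕ} {J : Type} [Fintype J] [DecidableEq J]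

local notation "σ₁" => RingEquiv.refl F

variable {f : (Fin k → F) → (Fin k → F) → F}

namespace Sl

variable {κ : F} (S : Sl f κ)
include S

theorem exists_pair {c : Fin k → F} (hc0 : c ≠ 0) (hc : f c c = 0) : ∃ d, f d d = 0 ∧ f c d = 1 := by
  obtain ⟨z, hz⟩ : ∃ z, f c z ≠ 0 := by
    by_contra h
    push Not at h
    exact hc0 (S.hf.nondeg c h)
  have h2 := S.two
  obtain ⟨e, he⟩ : ∃ e, f c e = 1 := ⟨(f c z)⁻¹ • z, by rw [S.hf.smul_right', inv_mul_cancel₀ hz]⟩
  refine ⟨e - (f e e / 2) • c, ?_, by rw [S.hf.sub_right, S.hf.smul_right', he, hc, mul_zero, sub_zero]⟩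
  simp only [S.hf.sub_left, S.hf.sub_right, S.hf.smul_left, S.hf.smul_right', hc, he, S.hf.comm' e c]
  field_simp
  ring

variable {c d : Fin k → F} (hc : f c c = 0) (hd : f d d = 0) (hcd : f c d = 1)
include hc hd hcd

theorem finrank_W : k ≤ Module.finrank F (Wsub S.hf c d) + 2 := by
  have h1 := finrank_perp_ge S.hf ⊤ c
  have h2 := finrank_perp_ge S.hf (LinearMap.ker (S.hf.formL c)) d
  rw [top_inf_eq, finrank_top, Module.finrank_fintype_fun_eq_card, Fintype.card_fin] at h1
  unfold Wsub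
  omega

theorem W_nondeg : ∀ u ∈ Wsub S.hf c d, (∀ w ∈ Wsub S.hf c d, f w u = 0) → u = 0 := by
  intro u hu h
  obtain ⟨h1, h2⟩ := (mem_Wsub S.hf).1 hu
  refine S.hf.nondeg u fun z => ?_
  have := h (z - f z d • c - f z c • d) ((mem_Wsub S.hf).2 ⟨by
      simp [S.hf.sub_left, S.hf.smul_left, hc, S.hf.comm' d c, hcd], by
      simp [S.hf.sub_left, S.hf.smul_left, hd, hcd]⟩)
  rw [S.hf.comm']
  simpa [S.hf.sub_left, S.hf.smul_left, S.hf.comm' c u, h1, S.hf.comm' d u, h2] using this

theorem exists_W_aniso : ∃ x, f x c = 0 ∧ f x d = 0 ∧ f x x ≠ 0 := by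
  have hn : Orth.Nondeg (qf f) (Wsub S.hf c d) := fun u hu h => S.W_nondeg hc hd hcd u hu fun w hw => by
    rw [← pol_qf S.hf S.two]; exact h w hw
  obtain ⟨x, hx, hxq⟩ := Orth.exists_anisotropic (qf_nondeg S.hf S.two) hn (fun h => by
    have := S.finrank_W hc hd hcd
    rw [h, finrank_bot] at this
    have := S.hk
    omega)
  exact ⟨x, ((mem_Wsub S.hf).1 hx).1, ((mem_Wsub S.hf).1 hx).2, fun h => hxq (by rw [qf, h, zero_div])⟩

theorem exists_W_perp {y : Fin k → F} (hyc : f y c = 0) (hyd : f y d = 0) (hy : f y y ≠ 0) :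
    ∃ z, f z c = 0 ∧ f z d = 0 ∧ f z y = 0 ∧ f z z ≠ 0 := by
  have hn := perp_nondeg S.hf (S.W_nondeg hc hd hcd) ((mem_Wsub S.hf).2 ⟨hyc, hyd⟩) hy
  have hdim := finrank_perp_ge S.hf (Wsub S.hf c d) y
  have hW := S.finrank_W hc hd hcd
  have hk := S.hk
  obtain ⟨z, hz, hzq⟩ := Transvec.Orth.exists_anisotropic (qf_nondeg S.hf S.two)
    (X := Wsub S.hf c d ⊓ LinearMap.ker (S.hf.formL y)) (fun u hu h => hn u hu fun w hw => by
      rw [← pol_qf S.hf S.two]; exact h w hw) (fun h => by rw [h, finrank_bot] at hdim; omega)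
  obtain ⟨h1, h2⟩ := Submodule.mem_inf.1 hz
  rw [LinearMap.mem_ker, SF.formL_apply] at h2
  exact ⟨z, ((mem_Wsub S.hf).1 h1).1, ((mem_Wsub S.hf).1 h1).2, h2, fun e => hzq (by rw [qf, e, zero_div])⟩

theorem exists_W_value [Finite F] (v : F) : ∃ x, f x c = 0 ∧ f x d = 0 ∧ f x x = v := by
  obtain ⟨x, hx, hv⟩ := S.exists_value (S.W_nondeg hc hd hcd) (by
    have := S.finrank_W hc hd hcd; have := S.hk; omega) v
  exact ⟨x, ((mem_Wsub S.hf).1 hx).1, ((mem_Wsub S.hf).1 hx).2, hv⟩

end Sl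

namespace Sl

variable {κ : F} (S : Sl f κ)
include S

variable {M : Type*} [AddCommGroup M] [Module F M]

/-- A linear map killing the anisotropic vectors orthogonal to a singular c kills all vectors orthogonal to c. -/
theorem aniso_span {c : Fin k → F} (hc0 : c ≠ 0) (hc : f c c = 0)
    (g : (Fin k → F) →ₗ[F] M) (hg : ∀ x, f x c = 0 → f x x ≠ 0 → g x = 0) {v : Fin k → F} (hv : f v c = 0) :
    g v = 0 := by
  obtain ⟨d, hd, hcd⟩ := S.exists_pair hc0 hc
  obtain ⟨x₀, hx₀c, -, hx₀⟩ := S.exists_W_aniso hc hd hcd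
  by_cases hvv : f v v = 0
  · obtain ⟨s, hs⟩ : ∃ s : F, f (v + s • x₀) (v + s • x₀) ≠ 0 := by
      by_contra h
      push Not at h
      have a := h 1
      have b := h (-1)
      simp only [S.hf.add_left, S.hf.add_right, S.hf.smul_left, S.hf.smul_right', hvv, S.hf.comm' x₀ v] at a b
      exact mul_ne_zero S.two hx₀ (by linear_combination a + b)
    have := hg _ (by simp [S.hf.add_left, S.hf.smul_left, hv, hx₀c]) hs
    rwa [map_add, map_smul, hg x₀ hx₀c hx₀, smul_zero, add_zero] at this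
  · exact hg v hv hvv

/-- A bilinear map vanishing at singular vectors is, on the diagonal, a multiple of the form. -/
theorem scalar_sym [Finite F] (b : (Fin k → F) →ₗ[F] (Fin k → F) →ₗ[F] M) (h0 : ∀ c, f c c = 0 → b c c = 0)
    (hex : ∃ c : Fin k → F, c ≠ 0 ∧ f c c = 0) : ∃ L : M, ∀ a a', b a a' + b a' a = (2 * f a a') • L := by
  obtain ⟨c, hc0, hc⟩ := hex
  obtain ⟨d, hd, hcd⟩ := S.exists_pair hc0 hc
  have hdc : f d c = 1 := by rw [S.hf.comm', hcd]
  have h2 := S.two
  obtain ⟨L, hL⟩ : ∃ L : M, b c d + b d c = (2 : F) • L :=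
    ⟨(2⁻¹ : F) • (b c d + b d c), by rw [smul_smul, mul_inv_cancel₀ h2, one_smul]⟩
  have hkey : ∀ v, f v c = 0 → f v d = 0 → ∀ t : F, t • (t • (b v v - f v v • L) + (b c v + b v c) -
      (t * t * (f v v / 2)) • (b v d + b d v)) = 0 := by
    intro v hvc hvd t
    have h := h0 (c + t • v + (-(t * t * f v v / 2)) • d) (by
      simp only [S.hf.add_left, S.hf.add_right, S.hf.smul_left, S.hf.smul_right', hc, hd, hcd, hdc, hvc, hvd,
        S.hf.comm' c v, S.hf.comm' d v]
      field_simp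
      ring)
    simp only [map_add, map_smul, LinearMap.add_apply, LinearMap.smul_apply, h0 c hc, h0 d hd] at h
    linear_combination (norm := (match_scalars <;> field_simp <;> ring)) h + (t * t * f v v / 2) • hL
  have hdiag : ∀ v, f v c = 0 → f v d = 0 → b v v = f v v • L := by
    intro v hvc hvd
    have h1 := hkey v hvc hvd 1
    have hm := hkey v hvc hvd (-1)
    rw [← sub_eq_zero]
    refine (smul_eq_zero.1 (?_ : (2 : F) • (b v v - f v v • L) = 0)).resolve_left h2
    linear_combination (norm := module) h1 + hm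
  have hf := S.hf
  set h₁ : (Fin k → F) →ₗ[F] M := b c + b.flip c with hh₁
  set h₃ : (Fin k → F) →ₗ[F] M := b d + b.flip d with hh₃
  have hlin : ∀ v, f v c = 0 → f v d = 0 → h₁ v = (f v v / 2) • h₃ v := by
    intro v hvc hvd
    have h1 := hkey v hvc hvd 1
    rw [hdiag v hvc hvd, sub_self, smul_zero, zero_add, one_smul] at h1
    simp only [hh₁, hh₃, LinearMap.add_apply, LinearMap.flip_apply]
    linear_combination (norm := module) h1
  have han : ∀ v, f v c = 0 → f v d = 0 → f v v ≠ 0 → h₁ v = 0 ∧ h₃ v = 0 := by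
    intro v hvc hvd hv
    obtain ⟨z, hzc, hzd, hzv, hz⟩ := S.exists_W_perp hc hd hcd hvc hvd hv
    have hvz : f v z = 0 := by rw [hf.comm', hzv]
    have e1 := hlin v hvc hvd
    have e2 := hlin z hzc hzd
    have e3 := hlin (v + z) (by rw [hf.add_left, hvc, hzc, add_zero]) (by rw [hf.add_left, hvd, hzd, add_zero])
    have e4 := hlin (v - z) (by rw [hf.sub_left, hvc, hzc, sub_zero]) (by rw [hf.sub_left, hvd, hzd, sub_zero])
    simp only [map_add, map_sub, hf.add_left, hf.add_right, hf.sub_left, hf.sub_right, hvz, hzv] at e3 e4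
    have h0 : h₃ v = 0 := by
      refine (smul_eq_zero.1 (?_ : f z z • h₃ v = 0)).resolve_left hz
      linear_combination (norm := (match_scalars <;> field_simp <;> ring)) e1 + e1 - e3 - e4
    exact ⟨by rw [e1, h0, smul_zero], h0⟩
  obtain ⟨x₁, hx₁c, hx₁d, hx₁⟩ := S.exists_W_aniso hc hd hcd
  have hW : ∀ v, f v c = 0 → f v d = 0 → h₁ v = 0 ∧ h₃ v = 0 := by
    intro v hvc hvd
    by_cases hvv : f v v = 0
    · obtain ⟨s, hs⟩ : ∃ s : F, f (v + s • x₁) (v + s • x₁) ≠ 0 := by
        by_contra h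
        push Not at h
        have a := h 1
        have b := h (-1)
        simp only [hf.add_left, hf.add_right, hf.smul_left, hf.smul_right', hvv, hf.comm' x₁ v] at a b
        exact mul_ne_zero h2 hx₁ (by linear_combination a + b)
      obtain ⟨p1, p2⟩ := han x₁ hx₁c hx₁d hx₁
      obtain ⟨q1, q2⟩ := han _ (by simp [hf.add_left, hf.smul_left, hvc, hx₁c])
        (by simp [hf.add_left, hf.smul_left, hvd, hx₁d]) hs
      rw [map_add, map_smul, p1, smul_zero, add_zero] at q1
      rw [map_add, map_smul, p2, smul_zero, add_zero] at q2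
      exact ⟨q1, q2⟩
    · exact han v hvc hvd hvv
  have hoff : ∀ v, f v c = 0 → f v d = 0 → b c v + b v c = 0 := fun v h h' => (hW v h h').1
  have hoff' : ∀ v, f v c = 0 → f v d = 0 → b d v + b v d = 0 := fun v h h' => (hW v h h').2
  have hall : ∀ a, b a a = f a a • L := by
    intro a
    obtain ⟨v, hvc, hvd, ha⟩ : ∃ v, f v c = 0 ∧ f v d = 0 ∧ a = v + f a d • c + f a c • d :=
      ⟨a - f a d • c - f a c • d, by simp [S.hf.sub_left, S.hf.smul_left, hc, hdc],
        by simp [S.hf.sub_left, S.hf.smul_left, hd, hcd], by abel⟩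
    rw [ha]
    simp only [map_add, map_smul, LinearMap.add_apply, LinearMap.smul_apply, hdiag v hvc hvd, h0 c hc, h0 d hd,
      S.hf.add_left, S.hf.add_right, S.hf.smul_left, S.hf.smul_right', hc, hd, hcd, hdc, hvc, hvd,
      S.hf.comm' c v, S.hf.comm' d v]
    linear_combination (norm := module)
      f a d • hoff v hvc hvd + f a c • hoff' v hvc hvd + (f a d * f a c) • hL
  refine ⟨L, fun a a' => ?_⟩
  have h := hall (a + a')
  simp only [map_add, LinearMap.add_apply, hall a, hall a', S.hf.add_left, S.hf.add_right,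
    S.hf.comm' a' a] at h
  linear_combination (norm := module) h

end Sl

end Cfsg.Agent.OrthEvenWreath
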