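/-
Tensor powers of a symmetric form of even dimension: invariant families.
-/
import Cfsg.Agent.Lib.OrthWreathEven.Vec

set_option autoImplicit false
set_option linter.unusedSectionVars false

namespace Cfsg.Agent.OrthEvenWreath

open scoped Matrix
open Matrix Cfsg.Agent.Transvec Cfsg.Agent.TensorMax Cfsg.Agent.WreathMax Cfsg.Agent.FormWreath
open Cfsg.Agent.OrthWreath hiding Sl Ctx Base Ind Inv Gd
open Cfsg.Agent.UWreath (top top_ten Loc loc_pten loc_comp loc_id pull Has Additive)

variable {F : Type*} [Field F] {k : ℕ} {J : Type} [Fintype J] [DecidableEq J]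

local notation "σ₁" => RingEquiv.refl F

variable {f : (Fin k → F) → (Fin k → F) → F}

/-- The elementary members of one slot. -/
def Gd (hf : Sym f) (B : GL (Fin k) F) : Prop :=
  (∃ c w, f c c = 0 ∧ f w c = 0 ∧ B = eA hf c w) ∨ ∃ x, f x x ≠ 0 ∧ B = mr hf x

/-- A family of operators invariant under the elementary members of every slot. -/
structure Inv (hf : Sym f) (S : (((J → Fin k) → F) →ₗ[F] (J → Fin k) → F) → Prop) : Prop extends
    Additive S where
  inv : ∀ (j : J) {B}, Gd hf B → ∀ {X}, S X → S (cj (fac j B) X)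

theorem dd_mem {hf : Sym f} {S : (((J → Fin k) → F) →ₗ[F] (J → Fin k) → F) → Prop}
    (hS : Inv hf S) (i : J) {c w : Fin k → F} (hc : f c c = 0) (hw : f w c = 0) {Z} (hZ : S Z) :
    S (dd hf i c w Z) := by
  refine hS.toAdditive.sub (hS.toAdditive.sub (hS.add ?_ ?_) hZ) hZ
  · exact hS.inv i (Or.inl ⟨c, w, hc, hw, rfl⟩) hZ
  · exact hS.inv i (Or.inl ⟨c, -w, hc, by rw [hf.neg_left, hw, neg_zero], rfl⟩) hZ

variable {κ : F}

theorem dd_dd (hf : Sym f) (h2 : (2 : F) ≠ 0) (i : J) {c x y : Fin k → F} (hc : f c c = 0) (hxc : f x c = 0)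
    (hyc : f y c = 0) (hxy : f x y = 0) (Z : ((J → Fin k) → F) →ₗ[F] (J → Fin k) → F) :
    dd hf i c y (dd hf i c x Z) = op i ((2 * (f x x * f y y)) • bet hf i Z c c) (Cop hf c) := by
  refine bet_inj hf i fun a b => ?_
  simp only [bet_dd hf h2 i hc hyc, bet_dd hf h2 i hc hxc, bet_op, Aop_Aop hf hc hxc hyc, hxy, Cop_apply,
    Aop_apply, map_smul, map_sub, LinearMap.smul_apply, LinearMap.sub_apply, hf.smul_left, hf.sub_left,
    hf.comm' c b, hc, hxc, hyc, hf.comm' c x, hf.comm' c y, hf.comm' y x, hxy]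
  match_scalars <;> ring

theorem czc [Finite F] (S₀ : Sl f κ) {S : (((J → Fin k) → F) →ₗ[F] (J → Fin k) → F) → Prop}
    (hS : Inv S₀.hf S) (i : J) {Z} (hZ : S Z) {c : Fin k → F} (hc0 : c ≠ 0) (hc : f c c = 0) :
    ∃ r : F, r ≠ 0 ∧ S (op i (r • bet S₀.hf i Z c c) (Cop S₀.hf c)) := by
  obtain ⟨d, hd, hcd⟩ := S₀.exists_pair hc0 hc
  obtain ⟨x, hxc, hxd, hx⟩ := S₀.exists_W_aniso hc hd hcd
  obtain ⟨y, hyc, -, hyx, hy⟩ := S₀.exists_W_perp hc hd hcd hxc hxd hx
  refine ⟨2 * (f x x * f y y), mul_ne_zero S₀.two (mul_ne_zero hx hy), ?_⟩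
  rw [← dd_dd S₀.hf S₀.two i hc hxc hyc (by rw [S₀.hf.comm', hyx])]
  exact dd_mem hS i hc hyc (dd_mem hS i hc hxc hZ)

/-- A member of an invariant family acts on one slot as the identity, or gives an elementary operator there. -/
theorem slot_cases [Finite F] (S₀ : Sl f κ) {S : (((J → Fin k) → F) →ₗ[F] (J → Fin k) → F) → Prop}
    (hS : Inv S₀.hf S) (i : J) {Z} (hZ : S Z) :
    (∃ L, Z = op i L LinearMap.id) ∨
      ∃ R T, R ≠ 0 ∧ (IsC S₀.hf T ∨ IsA S₀.hf T) ∧ S (op i R T) := by
  have hf := S₀.hf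
  have h2 := S₀.two
  by_cases hC : ∃ c, c ≠ 0 ∧ f c c = 0 ∧ bet hf i Z c c ≠ 0
  · obtain ⟨c, hc0, hc, hne⟩ := hC
    obtain ⟨r, hr, hSr⟩ := czc S₀ hS i hZ hc0 hc
    exact Or.inr ⟨_, _, smul_ne_zero hr hne, Or.inl ⟨1, c, one_ne_zero, hc0, hc, (one_smul _ _).symm⟩, hSr⟩
  push Not at hC
  have h0 : ∀ c, f c c = 0 → bet hf i Z c c = 0 := fun c hc => by
    by_cases h : c = 0
    · simp [h]
    · exact hC c h hc
  by_cases hiso : ∃ c : Fin k → F, c ≠ 0 ∧ f c c = 0
  swap
  · exfalso
    obtain ⟨x, hx⟩ : ∃ x : Fin k → F, f x x = 0 ∧ x ≠ 0 := by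
      obtain ⟨x, -, hx0, hx⟩ := Transvec.Orth.exists_singular (qf_nondeg hf h2) (X := (⊤ : Submodule F (Fin k → F))) (by
        rw [finrank_top, Module.finrank_fintype_fun_eq_card, Fintype.card_fin]; exact le_trans (by norm_num) S₀.hk)
      refine ⟨x, ?_, hx0⟩
      rw [qf, div_eq_zero_iff] at hx
      exact hx.resolve_right h2
    exact hiso ⟨x, hx.2, hx.1⟩
  obtain ⟨L, hL⟩ := S₀.scalar_sym (bet hf i Z) h0 hiso
  have hsym : ∀ a b, bet hf i Z a b = (2 * f a b) • L - bet hf i Z b a := fun a b =>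
    eq_sub_of_add_eq (hL a b)
  have hdiag : ∀ a, bet hf i Z a a = f a a • L := fun a => by
    refine smul_right_injective _ h2 (?_ : (2 : F) • _ = (2 : F) • _)
    linear_combination (norm := module) hL a a
  by_cases hA : ∃ c x, c ≠ 0 ∧ f c c = 0 ∧ f x c = 0 ∧ f x x ≠ 0 ∧ bet hf i Z c x ≠ 0
  · obtain ⟨c, x, hc0, hc, hxc, hx, hne⟩ := hA
    have hxc' : bet hf i Z x c = -bet hf i Z c x := by rw [hsym, hxc, mul_zero, zero_smul, zero_sub]
    refine Or.inr ?_
    refine ⟨(2 : F) • bet hf i Z c x, _, smul_ne_zero h2 hne, Or.inr ⟨c, x, hc0, hc, hxc, hx, rfl⟩, ?_⟩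
    convert hS.toAdditive.sub (dd_mem hS i hc hxc hZ)
      (hS.inv i (Or.inr ⟨x, hx, rfl⟩) (dd_mem hS i hc hxc hZ)) using 1
    refine bet_inj hf i fun a b => ?_
    rw [bet_sub, bet_cj hf i (mr_isom hf hx), mr_inv hf hx, bet_op, bet_dd hf h2 i hc hxc,
      bet_dd hf h2 i hc hxc, h0 c hc, smul_zero, add_zero, smul_zero, add_zero]
    simp only [mv_mr hf hx, Aop_apply, map_sub, map_smul, LinearMap.sub_apply, LinearMap.smul_apply, h0 c hc,
      hxc', hdiag x, hf.sub_left, hf.smul_left, hxc, hf.comm' c b, hf.comm' x b]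
    match_scalars <;> field_simp <;> ring
  push Not at hA
  refine Or.inl ⟨L, bet_inj hf i fun a b => ?_⟩
  rw [bet_op]
  have hz : ∀ c, c ≠ 0 → f c c = 0 → ∀ v, f v c = 0 → bet hf i Z c v = 0 := by
    intro c hc0 hc v hv
    exact S₀.aniso_span hc0 hc (bet hf i Z c) (fun x hxc hx => hA c x hc0 hc hxc hx) hv
  have hzero : ∀ c, c ≠ 0 → f c c = 0 → ∀ v, bet hf i Z c v = f c v • L := by
    intro c hc0 hc v
    obtain ⟨d, hd, hcd⟩ := S₀.exists_pair hc0 hc
    obtain ⟨x, hxc, hxd, hx⟩ := S₀.exists_W_aniso hc hd hcd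
    set c' := c + x - (f x x / 2) • d with hc'
    have hc'c : f c' c' = 0 := by
      simp only [hc', hf.add_left, hf.add_right, hf.sub_left, hf.sub_right, hf.smul_left, hf.smul_right', hc, hd,
        hcd, hxc, hxd, hf.comm' c x, hf.comm' d x, hf.comm' d c]
      field_simp
      ring
    have hc'0 : c' ≠ 0 := fun e => by
      have e2 : f c' d = 1 := by simp [hc', hf.add_left, hf.sub_left, hf.smul_left, hcd, hxd, hd]
      rw [e, hf.zero_left] at e2
      exact zero_ne_one e2
    have hd0 : d ≠ 0 := fun e => by rw [e, hf.zero_right] at hcd; exact zero_ne_one hcd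
    have hy := hz c' hc'0 hc'c (x - f x x • d) (by
      simp [hc', hf.add_right, hf.sub_left, hf.sub_right, hf.smul_left, hf.smul_right', hxc, hxd, hd,
        hf.comm' d c, hcd, hf.comm' d x])
    have hdx : bet hf i Z d x = 0 := hz d hd0 hd x hxd
    have hcd' : bet hf i Z c d = L := by
      refine smul_right_injective _ hx (?_ : f x x • _ = f x x • _)
      have hcx : bet hf i Z c x = 0 := hz c hc0 hc x hxc
      have hxd' : bet hf i Z x d = 0 := by rw [hsym, hxd, hdx, mul_zero, zero_smul, sub_zero]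
      simp only [hc', map_add, map_sub, map_smul, LinearMap.add_apply, LinearMap.sub_apply, LinearMap.smul_apply,
        hcx, hdiag x, hxd', hdx, h0 d hd] at hy
      linear_combination (norm := module) -hy
    obtain ⟨u, hu, hv⟩ : ∃ u, f u c = 0 ∧ v = u + f v c • d :=
      ⟨v - f v c • d, by simp [hf.sub_left, hf.smul_left, hf.comm' d c, hcd], by abel⟩
    rw [hv, map_add, map_smul, hz c hc0 hc u hu, hcd', hf.add_right, hf.smul_right', hf.comm' c u, hu, hcd]
    module
  obtain ⟨c, hc0, hc⟩ := hiso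
  obtain ⟨d, hd, hcd⟩ := S₀.exists_pair hc0 hc
  have hdc : f d c = 1 := by rw [hf.comm', hcd]
  have hd0 : d ≠ 0 := fun e => by rw [e, hf.zero_right] at hcd; exact zero_ne_one hcd
  obtain ⟨a', hac, had, ha⟩ : ∃ a', f a' c = 0 ∧ f a' d = 0 ∧ a = a' + f a d • c + f a c • d :=
    ⟨a - f a d • c - f a c • d, by simp [hf.sub_left, hf.smul_left, hc, hdc],
      by simp [hf.sub_left, hf.smul_left, hd, hcd], by abel⟩
  have ha' : bet hf i Z a' b = f a' b • L := by
    set c' := c + a' - (f a' a' / 2) • d with hc'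
    have hc'c : f c' c' = 0 := by
      simp only [hc', hf.add_left, hf.add_right, hf.sub_left, hf.sub_right, hf.smul_left, hf.smul_right', hc, hd,
        hcd, hac, had, hf.comm' c a', hf.comm' d a', hdc]
      field_simp
      ring
    have hc'0 : c' ≠ 0 := fun e => by
      have e2 : f c' d = 1 := by simp [hc', hf.add_left, hf.sub_left, hf.smul_left, hcd, had, hd]
      rw [e, hf.zero_left] at e2
      exact zero_ne_one e2
    have := hzero c' hc'0 hc'c b
    simp only [hc', map_add, map_sub, map_smul, LinearMap.add_apply, LinearMap.sub_apply, LinearMap.smul_apply,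
      hzero c hc0 hc, hzero d hd0 hd, hf.add_left, hf.sub_left, hf.smul_left] at this
    linear_combination (norm := module) this
  rw [ha]
  simp only [map_add, map_smul, LinearMap.add_apply, LinearMap.smul_apply, LinearMap.id_apply, ha',
    hzero c hc0 hc, hzero d hd0 hd, hf.add_left, hf.smul_left]
  module

theorem op_id (i : J) (s : F) :
    op (k := k) i (s • (LinearMap.id : (Rest i k → F) →ₗ[F] Rest i k → F)) LinearMap.id = s • LinearMap.id := by
  rw [op_smul_left, op_one]

/-- A non-scalar member of an invariant family gives a product of elementary operators. -/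
theorem exists_loc [Finite F] (S₀ : Sl f κ) :
    ∀ (n : ℕ) (J : Type) [Fintype J] [DecidableEq J], Fintype.card J = n →
    ∀ S : (((J → Fin k) → F) →ₗ[F] (J → Fin k) → F) → Prop, Inv S₀.hf S →
    ∀ Z, S Z → (¬ ∃ s : F, Z = s • LinearMap.id) →
    ∃ T : J → ((Fin k → F) →ₗ[F] Fin k → F),
      (∀ j, T j = LinearMap.id ∨ IsC S₀.hf (T j) ∨ IsA S₀.hf (T j)) ∧
      (∃ j, T j ≠ LinearMap.id) ∧ S (Loc T) := by
  intro n
  induction n with
  | zero =>
    intro J _ _ hJ S hS Z hZ hns
    haveI : IsEmpty J := Fintype.card_eq_zero_iff.1 hJ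
    exact absurd ⟨Z (fun _ => 1) isEmptyElim, LinearMap.ext fun x => by
      have e : x = x isEmptyElim • fun _ => (1 : F) := funext fun a => by
        rw [Subsingleton.elim a isEmptyElim]; simp
      conv_lhs => rw [e, map_smul]
      funext a
      rw [Subsingleton.elim a isEmptyElim]
      simp [mul_comm]⟩ hns
  | succ n ih =>
    intro J _ _ hJ S hS Z hZ hns
    classical
    obtain ⟨i⟩ : Nonempty J := Fintype.card_pos_iff.1 (by omega)
    have hcard : Fintype.card {j // j ≠ i} = n := by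
      rw [Fintype.card_subtype_compl, Fintype.card_subtype_eq, hJ, Nat.add_sub_cancel]
    have hasm : ∀ (T : {j // j ≠ i} → ((Fin k → F) →ₗ[F] Fin k → F)) (C : (Fin k → F) →ₗ[F] Fin k → F),
        op i (Loc T) C = Loc fun j => if h : j = i then C else T ⟨j, h⟩ := by
      intro T C
      rw [loc_eq_op i fun j => if h : j = i then C else T ⟨j, h⟩, dif_pos rfl]
      exact congrArg (fun R => op i (Loc R) C) (funext fun j => by rw [dif_neg j.2])
    have hrec : ∀ (R : (Rest i k → F) →ₗ[F] Rest i k → F) (C : (Fin k → F) →ₗ[F] Fin k → F),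
        (C = LinearMap.id ∨ IsC S₀.hf C ∨ IsA S₀.hf C) → (¬ ∃ s : F, R = s • LinearMap.id) → S (op i R C) →
        ∃ T : J → ((Fin k → F) →ₗ[F] Fin k → F),
          (∀ j, T j = LinearMap.id ∨ IsC S₀.hf (T j) ∨ IsA S₀.hf (T j)) ∧
          (∃ j, T j ≠ LinearMap.id) ∧ S (Loc T) := by
      intro R C hC hR hSR
      obtain ⟨T, hT, ⟨j, hj⟩, hST⟩ := ih {j // j ≠ i} hcard (fun Y => S (op i Y C))
        { add := fun {x y} hx hy => by
            show S (op i (x + y) C)
            rw [op_add_left]; exact hS.add hx hy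
          neg := fun {x} hx => by
            show S (op i (-x) C)
            rw [op_neg_left]; exact hS.neg hx
          inv := fun l {B} hB {X} hX => by
            have := hS.inv (l : J) hB hX
            rwa [cj_op_other l.2] at this } R hSR hR
      refine ⟨_, fun l => ?_, ⟨j, ?_⟩, (hasm T C) ▸ hST⟩
      · by_cases h : l = i
        · rw [dif_pos h]; exact hC
        · rw [dif_neg h]; exact hT _
      · rw [dif_neg j.2]; exact hj
    rcases slot_cases S₀ hS i hZ with ⟨L, hL⟩ | ⟨R, T, hR, hT, hSRT⟩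
    · exact hrec L LinearMap.id (Or.inl rfl) (fun ⟨s, hs⟩ => hns ⟨s, by rw [hL, hs, op_id]⟩) (hL ▸ hZ)
    · by_cases hsc : ∃ s : F, R = s • LinearMap.id
      · obtain ⟨s, rfl⟩ := hsc
        have hs : s ≠ 0 := fun e => hR (by rw [e, zero_smul])
        refine ⟨fun j => if h : j = i then s • T else LinearMap.id, fun j => ?_, ⟨i, ?_⟩, ?_⟩
        · by_cases h : j = i
          · simp only [dif_pos h]; exact Or.inr (elem_smul hT hs)
          · simp only [dif_neg h]; exact Or.inl trivial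
        · simp only [dif_pos rfl]; exact elem_ne_id (elem_smul hT hs)
        · rw [← hasm (fun _ => LinearMap.id), loc_id, op_smul_right]
          rwa [op_smul_left] at hSRT
      · exact hrec R T (Or.inr hT) hsc hSRT

end Cfsg.Agent.OrthEvenWreath
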