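/-
Tensor powers of a symmetric form of even dimension: growth.
-/
import Cfsg.Agent.Lib.OrthWreathEven.Lower
import Cfsg.Agent.Lib.OrthWreath.Growth

set_option autoImplicit false
set_option linter.unusedSectionVars false

namespace Cfsg.Agent.OrthEvenWreath

open scoped Matrix
open Matrix Cfsg.Agent.Transvec Cfsg.Agent.TensorMax Cfsg.Agent.WreathMax Cfsg.Agent.FormWreath
open Cfsg.Agent.OrthWreath hiding Sl Ctx Base Ind Inv Gd
open Cfsg.Agent.UWreath (top top_ten Loc loc_pten loc_comp loc_id pull Has Additive loc_congr loc_conj_fac loc_conj_pm)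

variable {F : Type*} [Field F] {k : ℕ} {J : Type} [Fintype J] [DecidableEq J]

local notation "σ₁" => RingEquiv.refl F

variable {f : (Fin k → F) → (Fin k → F) → F}

variable {Q : ((J → Fin k) → F) → F} {κ : F} {X : Subgroup (GL (J → Fin k) F)}

/-- Compression at all slots of a set. -/
theorem contract [Finite F] (S₀ : Sl f κ) {S : (((J → Fin k) → F) →ₗ[F] (J → Fin k) → F) → Prop}
    (hS : Inv S₀.hf S) (U V : J → ((Fin k → F) →ₗ[F] Fin k → F)) (a b : F)
    (h : S (a • Loc U + b • Loc V)) (W : Finset J) (y : J → Fin k → F)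
    (hy : ∀ j ∈ W, y j ≠ 0 ∧ f (y j) (y j) = 0) :
    ∃ r : F, r ≠ 0 ∧
      S ((r * a * ∏ j ∈ W, f (U j (y j)) (y j)) • Loc (fun j => if j ∈ W then Cop S₀.hf (y j) else U j) +
        (r * b * ∏ j ∈ W, f (V j (y j)) (y j)) • Loc (fun j => if j ∈ W then Cop S₀.hf (y j) else V j)) := by
  induction W using Finset.induction with
  | empty => exact ⟨1, one_ne_zero, by simpa using h⟩
  | insert l W hl ih =>
    obtain ⟨r, hr, hSr⟩ := ih fun j hj => hy j (Finset.mem_insert_of_mem hj)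
    obtain ⟨hy0, hyy⟩ := hy l (Finset.mem_insert_self l W)
    obtain ⟨r', hr', hS'⟩ := czc S₀ hS l hSr hy0 hyy
    refine ⟨r' * r, mul_ne_zero hr' hr, ?_⟩
    convert hS' using 1
    have hu : ∀ T : J → ((Fin k → F) →ₗ[F] Fin k → F),
        Loc (fun j => if j ∈ insert l W then Cop S₀.hf (y j) else T j) =
          op l (Loc fun j : {j // j ≠ l} => if (j : J) ∈ W then Cop S₀.hf (y j) else T j) (Cop S₀.hf (y l)) := by
      intro T
      rw [loc_eq_op l, if_pos (Finset.mem_insert_self l W)]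
      exact congrArg (fun R => op l (Loc R) _) (funext fun j => by simp [j.2])
    have hbet : ∀ (T : J → ((Fin k → F) →ₗ[F] Fin k → F)) (γ : F),
        bet S₀.hf l (γ • Loc fun j => if j ∈ W then Cop S₀.hf (y j) else T j) (y l) (y l) =
          (γ * f (T l (y l)) (y l)) • Loc fun j : {j // j ≠ l} => if (j : J) ∈ W then Cop S₀.hf (y j) else T j := by
      intro T γ
      rw [loc_eq_op l, if_neg hl, ← op_smul_left, bet_op, smul_smul, mul_comm]
    rw [bet_add, hbet, hbet, hu U, hu V, Finset.prod_insert hl, Finset.prod_insert hl]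
    rw [← op_smul_left, ← op_smul_left, ← op_add_left]
    congr 1
    module

namespace Ctx

variable (C : Ctx f Q κ X)
include C

theorem mv_eA' {c w : Fin k → F} (hc : f c c = 0) (hw : f w c = 0) : Mv f X (eA C.hf c w) :=
  ⟨eA_isom C.hf C.two hc hw, fun j => C.root j c w hc hw⟩

theorem mv_mm {x y : Fin k → F} (hx : f x x ≠ 0) (hy : f y y ≠ 0) : Mv f X (mr C.hf x * mr C.hf y) :=
  ⟨fun u v => by rw [mv_mul, mv_mul, mr_isom C.hf hx, mr_isom C.hf hy], fun j => C.mm j x y hx hy⟩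

/-- The exchange of a hyperbolic pair up to scalars, fixing a chosen orthogonal vector. -/
theorem exists_swap {c d x : Fin k → F} (hc : f c c = 0) (hd : f d d = 0) (hcd : f c d = 1) (hxc : f x c = 0)
    (hxd : f x d = 0) (hx : f x x ≠ 0) :
    ∃ g : GL (Fin k) F, Mv f X g ∧ mv g c = (-(κ / 2)) • d ∧ mv g x = x := by
  obtain ⟨y, hyc, hyd, hyx, hy⟩ := C.toSl.exists_W_perp hc hd hcd hxc hxd hx
  obtain ⟨hp, hgc, -, hgw⟩ := mr_swap C.hf C.two hc hd hcd C.hκ
  refine ⟨_, C.mv_mm (by rw [hp]; exact C.hκ) hy, ?_, ?_⟩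
  · rw [mv_mul, mr_perp C.hf hy (by rw [C.hf.comm', hyc]), mv_neg, hgc, neg_smul]
  · rw [mv_mul, mr_perp C.hf hy (by rw [C.hf.comm', hyx]), mv_neg, hgw x hxc hxd, neg_neg]

/-- Transitivity on isotropic lines. -/
theorem exists_move {c e : Fin k → F} (hc0 : c ≠ 0) (hc : f c c = 0) (he0 : e ≠ 0) (he : f e e = 0) :
    ∃ (g : GL (Fin k) F) (r : F), Mv f X g ∧ r ≠ 0 ∧ mv g c = r • e := by
  have h2 := C.two
  have hκ2 : κ / 2 ≠ 0 := div_ne_zero C.hκ h2
  have step : ∀ {u v : Fin k → F}, f u u = 0 → f v v = 0 → f u v ≠ 0 →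
      ∃ (g : GL (Fin k) F) (r : F), Mv f X g ∧ r ≠ 0 ∧ mv g u = r • v := by
    intro u v hu hv huv
    obtain ⟨h1, h2', -, -⟩ := mr_swap C.hf h2 hu (d := (f u v)⁻¹ • v)
      (by rw [C.hf.smul_left, C.hf.smul_right', hv, mul_zero, mul_zero])
      (by rw [C.hf.smul_right', inv_mul_cancel₀ huv]) C.hκ
    obtain ⟨z, hzv, hz⟩ : ∃ z, f z v = 0 ∧ f z z ≠ 0 := by
      have hv0 : v ≠ 0 := fun e => huv (by rw [e, C.hf.zero_right])
      obtain ⟨dv, hdv, hvdv⟩ := C.toSl.exists_pair hv0 hv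
      obtain ⟨z, hzv, -, hz⟩ := C.toSl.exists_W_aniso hv hdv hvdv
      exact ⟨z, hzv, hz⟩
    refine ⟨_, -(κ / 2 * (f u v)⁻¹), C.mv_mm hz (by rw [h1]; exact C.hκ),
      neg_ne_zero.2 (mul_ne_zero hκ2 (inv_ne_zero huv)), ?_⟩
    rw [mv_mul, h2', smul_smul, mv_smul, mr_perp C.hf hz (by rw [C.hf.comm', hzv]), smul_neg, neg_smul]
  by_cases hce : f c e = 0
  swap
  · exact step hc he hce
  obtain ⟨dc, hdc, hcdc⟩ := C.toSl.exists_pair hc0 hc
  obtain ⟨de, hde, hede⟩ := C.toSl.exists_pair he0 he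
  obtain ⟨h, hh, hhc, hhe⟩ : ∃ h, f h h = 0 ∧ f c h ≠ 0 ∧ f h e ≠ 0 := by
    by_cases a1 : f dc e = 0
    swap
    · exact ⟨dc, hdc, by rw [hcdc]; exact one_ne_zero, a1⟩
    by_cases a2 : f c de = 0
    swap
    · exact ⟨de, hde, a2, by rw [C.hf.comm', hede]; exact one_ne_zero⟩
    refine ⟨dc + de + (-f dc de) • c, ?_, ?_, ?_⟩
    · simp only [C.hf.add_left, C.hf.add_right, C.hf.smul_left, C.hf.smul_right', hdc, hde, hc, hcdc, a2,
        C.hf.comm' de dc, C.hf.comm' dc c, C.hf.comm' de c]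
      ring
    · simp [C.hf.add_right, C.hf.smul_right', C.hf.neg_right, hcdc, a2, hc]
    · simp [C.hf.add_left, C.hf.smul_left, C.hf.neg_left, a1, C.hf.comm' de e, hede, hce]
  obtain ⟨g₁, r₁, hg₁, hr₁, he₁⟩ := step hc hh hhc
  obtain ⟨g₂, r₂, hg₂, hr₂, he₂⟩ := step hh he hhe
  exact ⟨g₂ * g₁, r₁ * r₂, hg₂.mul hg₁, mul_ne_zero hr₁ hr₂, by rw [mv_mul, he₁, mv_smul, he₂, smul_smul]⟩

theorem exists_partner_perp {c x : Fin k → F} (hc0 : c ≠ 0) (hc : f c c = 0) (hxc : f x c = 0)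
    (hx : f x x ≠ 0) : ∃ d, f d d = 0 ∧ f c d = 1 ∧ f x d = 0 := by
  obtain ⟨d₀, hd₀, hcd₀⟩ := C.toSl.exists_pair hc0 hc
  have h2 := C.two
  refine ⟨d₀ - (f x d₀ / f x x) • x + (f x d₀ * f x d₀ / (2 * f x x)) • c, ?_, ?_, ?_⟩
  · simp only [C.hf.add_left, C.hf.add_right, C.hf.sub_left, C.hf.sub_right, C.hf.smul_left, C.hf.smul_right',
      hd₀, hc, hxc, hcd₀, C.hf.comm' c x, C.hf.comm' d₀ x, C.hf.comm' d₀ c]
    field_simp
    ring
  · simp [C.hf.add_right, C.hf.sub_right, C.hf.smul_right', hcd₀, hc, C.hf.comm' c x, hxc]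
  · simp [C.hf.add_right, C.hf.sub_right, C.hf.smul_right', hxc, hx]

/-- A mirror pairing an elementary operator with one of the opposite singular vector. -/
theorem slot_pair {T : (Fin k → F) →ₗ[F] Fin k → F} (hT : IsC C.hf T ∨ IsA C.hf T) :
    ∃ (g : GL (Fin k) F) (c x y : Fin k → F) (α γ : F), Mv f X g ∧ c ≠ 0 ∧ f c c = 0 ∧ f x c = 0 ∧
      f x x ≠ 0 ∧ y ≠ 0 ∧ f y y = 0 ∧ α ≠ 0 ∧ γ ≠ 0 ∧
      f (T (cj g T y)) y = α ∧ f (cj g T (T y)) y = α ∧
      cj (eA C.hf c x) (T ∘ₗ cj g T - cj g T ∘ₗ T) - (T ∘ₗ cj g T - cj g T ∘ₗ T) = γ • Aop C.hf c x := by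
  have hf := C.hf
  have h2 := C.two
  obtain ⟨c, d, x, hc0, hc, hd, hcd, hxc, hxd, hx, hcase⟩ : ∃ c d x, c ≠ 0 ∧ f c c = 0 ∧ f d d = 0 ∧
      f c d = 1 ∧ f x c = 0 ∧ f x d = 0 ∧ f x x ≠ 0 ∧
      ((∃ r : F, r ≠ 0 ∧ T = r • Cop hf c) ∨ T = Aop hf c x) := by
    rcases hT with ⟨r, c, hr, hc0, hc, rfl⟩ | ⟨c, x, hc0, hc, hxc, hx, rfl⟩
    · obtain ⟨d, hd, hcd⟩ := C.toSl.exists_pair hc0 hc
      obtain ⟨x, hxc, hxd, hx⟩ := C.toSl.exists_W_aniso hc hd hcd
      exact ⟨c, d, x, hc0, hc, hd, hcd, hxc, hxd, hx, Or.inl ⟨r, hr, rfl⟩⟩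
    · obtain ⟨d, hd, hcd, hxd⟩ := C.exists_partner_perp hc0 hc hxc hx
      exact ⟨c, d, x, hc0, hc, hd, hcd, hxc, hxd, hx, Or.inr rfl⟩
  have hdc : f d c = 1 := by rw [hf.comm', hcd]
  obtain ⟨g, hg, hgc, hgx⟩ := C.exists_swap hc hd hcd hxc hxd hx
  have hy : f (c + x - (f x x / 2) • d) (c + x - (f x x / 2) • d) = 0 := by
    simp only [hf.add_left, hf.add_right, hf.sub_left, hf.sub_right, hf.smul_left, hf.smul_right', hc, hd, hcd,
      hdc, hxc, hxd, hf.comm' c x, hf.comm' d x]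
    field_simp
    ring
  have hy0 : c + x - (f x x / 2) • d ≠ 0 := fun e => by
    have e2 : f (c + x - (f x x / 2) • d) d = 1 := by
      simp [hf.add_left, hf.sub_left, hf.smul_left, hcd, hxd, hd]
    rw [e, hf.zero_left] at e2
    exact zero_ne_one e2
  have hcx : f (mv (eA hf c x) c) (mv (eA hf c x) c) = 0 := by rw [eA_isom hf h2 hc hxc, hc]
  have heH : cj (eA hf c x) (Aop hf c d) - Aop hf c d = Aop hf c x := by
    have e1 : mv (eA hf c x) c = c := by
      rw [eA_fix_perp hf h2 hc hxc hc, hf.comm' c x, hxc, zero_smul, sub_zero]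
    have e2 : mv (eA hf c x) d = d + x + (-(f x x / 2)) • c := by
      rw [mv_eA hf h2 hc hxc, Elin_apply, Aop_Aop hf hc hxc hxc, Cop_apply, Aop_apply, hdc, hf.comm' d x, hxd]
      module
    have e3 : Aop hf c c = 0 := LinearMap.ext fun v => by simp
    rw [cj_Aop hf (eA_isom hf h2 hc hxc), e1, e2, Aop_add, Aop_add, Aop_smul, e3, smul_zero, add_zero,
      add_sub_cancel_left]
  rcases hcase with ⟨r, hr, rfl⟩ | rfl
  · have e : cj g (r • Cop hf c) = (r * (κ / 2 * (κ / 2))) • Cop hf d := by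
      rw [cj_smul, cj_Cop hf hg.1, hgc, Cop_smul, smul_smul, neg_mul_neg]
    have hρ : r * (r * (κ / 2 * (κ / 2))) ≠ 0 :=
      mul_ne_zero hr (mul_ne_zero hr (mul_ne_zero (div_ne_zero C.hκ h2) (div_ne_zero C.hκ h2)))
    refine ⟨g, c, x, _, r * (r * (κ / 2 * (κ / 2))) * (-(f x x / 2)), -(r * (r * (κ / 2 * (κ / 2)))), hg, hc0,
      hc, hxc, hx, hy0, hy, mul_ne_zero hρ (neg_ne_zero.2 (div_ne_zero hx h2)), neg_ne_zero.2 hρ, ?_, ?_, ?_⟩
    · rw [e]
      simp only [LinearMap.smul_apply, Cop_apply, map_smul, hf.smul_left, hf.add_left, hf.sub_left, hf.add_right,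
        hf.sub_right, hf.smul_right', hc, hd, hcd, hdc, hxc, hxd, hf.comm' c x, hf.comm' d x]
      ring
    · rw [e]
      simp only [LinearMap.smul_apply, Cop_apply, map_smul, hf.smul_left, hf.add_left, hf.sub_left, hf.add_right,
        hf.sub_right, hf.smul_right', hc, hd, hcd, hdc, hxc, hxd, hf.comm' c x, hf.comm' d x]
      ring
    · have eH : (r • Cop hf c) ∘ₗ cj g (r • Cop hf c) - cj g (r • Cop hf c) ∘ₗ (r • Cop hf c) =
          (-(r * (r * (κ / 2 * (κ / 2))))) • Aop hf c d := by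
        rw [e]
        refine LinearMap.ext fun v => ?_
        simp only [LinearMap.sub_apply, LinearMap.comp_apply, LinearMap.smul_apply, Cop_apply, Aop_apply,
          hf.smul_left, hcd, hdc]
        module
      rw [eH, cj_smul, ← heH, smul_sub]
  · have e : cj g (Aop hf c x) = (-(κ / 2)) • Aop hf d x := by
      rw [cj_Aop hf hg.1, hgc, hgx, Aop_smul_left]
    have hρ : -(κ / 2) ≠ 0 := neg_ne_zero.2 (div_ne_zero C.hκ h2)
    refine ⟨g, c, x, _, -(κ / 2) * (-(f x x * f x x) / 2), -(κ / 2) * f x x, hg, hc0, hc, hxc, hx, hy0, hy,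
      mul_ne_zero hρ (div_ne_zero (neg_ne_zero.2 (mul_ne_zero hx hx)) h2), mul_ne_zero hρ hx, ?_, ?_, ?_⟩
    · rw [e]
      simp only [LinearMap.smul_apply, Aop_apply, map_smul, map_sub, hf.smul_left, hf.add_left, hf.sub_left,
        hf.add_right, hf.sub_right, hf.smul_right', hc, hd, hcd, hdc, hxc, hxd, hf.comm' c x, hf.comm' d x]
      field_simp
      ring
    · rw [e]
      simp only [LinearMap.smul_apply, Aop_apply, map_smul, map_sub, hf.smul_left, hf.add_left, hf.sub_left,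
        hf.add_right, hf.sub_right, hf.smul_right', hc, hd, hcd, hdc, hxc, hxd, hf.comm' c x, hf.comm' d x]
      field_simp
      ring
    · have eH : (Aop hf c x) ∘ₗ cj g (Aop hf c x) - cj g (Aop hf c x) ∘ₗ (Aop hf c x) =
          (-(κ / 2) * f x x) • Aop hf c d := by
        rw [e]
        refine LinearMap.ext fun v => ?_
        simp only [LinearMap.sub_apply, LinearMap.comp_apply, LinearMap.smul_apply, Aop_apply, map_smul, map_sub,
          hf.smul_left, hf.sub_left, hc, hd, hcd, hdc, hxc, hxd, hf.comm' c x, hf.comm' d x]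
        module
      rw [eH, cj_smul, ← heH, smul_sub]

/-! ### The family of centres of one slot -/

theorem cen_inv (i : J) {c : Fin k → F} (hc : f c c = 0) :
    Inv C.hf fun K => Has X (op i K (Cop C.hf c)) where
  add {K K'} hK hK' := by
    show Has X (op i (K + K') _)
    rw [op_add_left]
    exact UWreath.Has.add hK hK' (by rw [op_comp, Cop_sq C.hf hc, op_zero_right])
  neg {K} hK := by
    show Has X (op i (-K) _)
    rw [op_neg_left]
    exact UWreath.Has.neg hK (by rw [op_comp, Cop_sq C.hf hc, op_zero_right])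
  inv l {B} hB {K} hK := by
    rcases hB with ⟨c', w, h1, h2, rfl⟩ | ⟨x, hx, rfl⟩
    · have := UWreath.Has.conj hK (C.root (l : J) c' w h1 h2)
      rw [show mvLin (fac (l : J) (eA C.hf c' w)) ∘ₗ op i K (Cop C.hf c) ∘ₗ mvLin (fac (l : J) (eA C.hf c' w))⁻¹ =
        cj (fac (l : J) (eA C.hf c' w)) (op i K (Cop C.hf c)) from rfl, cj_op_other l.2] at this
      exact this
    obtain ⟨y, hyc, hy⟩ : ∃ y, f y c = 0 ∧ f y y ≠ 0 := by
      by_cases hc0 : c = 0
      · exact ⟨x, by rw [hc0, C.hf.zero_right], hx⟩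
      obtain ⟨d, hd, hcd⟩ := C.toSl.exists_pair hc0 hc
      obtain ⟨y, hyc, -, hy⟩ := C.toSl.exists_W_aniso hc hd hcd
      exact ⟨y, hyc, hy⟩
    have := UWreath.Has.conj hK (C.pair i (l : J) y x (Ne.symm l.2) hy hx)
    rw [show ∀ (A B : GL (J → Fin k) F) Z, mvLin (A * B) ∘ₗ Z ∘ₗ mvLin (A * B)⁻¹ = cj A (cj B Z) from fun A B Z =>
        LinearMap.ext fun u => by
          simp only [LinearMap.comp_apply, cj_apply, _root_.mul_inv_rev]
          show mv (A * B) (Z (mv (B⁻¹ * A⁻¹) u)) = _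
          rw [mv_mul, mv_mul]; rfl,
      cj_op_other l.2, cj_op_self, cj_Cop C.hf (mr_isom C.hf hy), mr_perp C.hf hy (by rw [C.hf.comm', hyc]),
      show Cop C.hf (-c) = Cop C.hf c by rw [← neg_one_smul F c, Cop_smul, neg_mul_neg, one_mul, one_smul]] at this
    exact this

theorem cen_skew (i : J) {c : Fin k → F} (hc0 : c ≠ 0) (hc : f c c = 0) {K}
    (h : Has X (op i K (Cop C.hf c))) (w w' : Rest i k → F) :
    Bt σ₁ f (K w) w' + Bt σ₁ f w (K w') = 0 := by
  obtain ⟨d, hd, hcd⟩ := C.toSl.exists_pair hc0 hc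
  obtain ⟨g, hg, hgx⟩ := h
  have e := C.pres (C.iso hg) (ins i d w) (ins i d w')
  rw [hgx, hgx, op_ins, op_ins, Cop_apply, C.hf.comm' d c, hcd, one_smul, C.hB.add_left, C.hB.add_right,
    C.hB.add_right, Bt_ins_ins C.hf, Bt_ins_ins C.hf, Bt_ins_ins C.hf, Bt_ins_ins C.hf, hd, hc, hcd,
    C.hf.comm' d c, hcd] at e
  linear_combination e

theorem cen_exists [Finite F] (i : J) {c : Fin k → F} (hc0 : c ≠ 0) (hc : f c c = 0) {K}
    (h : Has X (op i K (Cop C.hf c))) (hK : K ≠ 0) :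
    ∃ T : J → ((Fin k → F) →ₗ[F] Fin k → F),
      (∀ j, T j = LinearMap.id ∨ IsC C.hf (T j) ∨ IsA C.hf (T j)) ∧ IsC C.hf (T i) ∧
      (∃ a, IsA C.hf (T a)) ∧ Has X (Loc T) := by
  classical
  have hBR := Bt_sym (J := {j // j ≠ i}) C.hf
  have hns : ¬ ∃ s : F, K = s • LinearMap.id := by
    rintro ⟨s, rfl⟩
    refine hK ?_
    obtain ⟨w, hw⟩ : ∃ w : Rest i k → F, w ≠ 0 :=
      ⟨fun _ => 1, fun e => one_ne_zero (congrFun e fun _ => ⟨0, by have := C.hk; omega⟩)⟩
    obtain ⟨w', hw'⟩ : ∃ w', Bt σ₁ f w w' ≠ 0 := by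
      by_contra hh
      push Not at hh
      exact hw (hBR.nondeg w hh)
    have e := C.cen_skew i hc0 hc h w w'
    rw [LinearMap.smul_apply, LinearMap.smul_apply, LinearMap.id_apply, LinearMap.id_apply, hBR.smul_left,
      hBR.smul_right', ← two_mul] at e
    rw [((mul_eq_zero.1 ((mul_eq_zero.1 e).resolve_left C.two)).resolve_right hw'), zero_smul]
  obtain ⟨T, hT, -, hST⟩ := exists_loc C.toSl _ {j // j ≠ i} rfl _ (C.cen_inv i hc) K h hns
  refine ⟨fun j => if e : j = i then Cop C.hf c else T ⟨j, e⟩, fun j => ?_, ?_, ?_, ?_⟩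
  · by_cases e : j = i
    · simp only [dif_pos e]; exact Or.inr (Or.inl ⟨1, c, one_ne_zero, hc0, hc, (one_smul _ _).symm⟩)
    · simp only [dif_neg e]; exact hT _
  · simp only [dif_pos]; exact ⟨1, c, one_ne_zero, hc0, hc, (one_smul _ _).symm⟩
  · by_contra hA
    push Not at hA
    have hadj : ∀ j x y, f (T j x) y = f x (T j y) := by
      intro j x y
      rcases hT j with e | ⟨r, c', -, -, -, e⟩ | e
      · rw [e]; rfl
      · rw [e, LinearMap.smul_apply, LinearMap.smul_apply, C.hf.smul_left, C.hf.smul_right', Cop_adj C.hf c']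
      · exact absurd (by simp only [dif_neg j.2]; exact e) (hA j)
    have hsym : ∀ u v, Bt σ₁ f (Loc T u) v = Bt σ₁ f u (Loc T v) := by
      intro u v
      have e1 : ∀ y : {j // j ≠ i} → Fin k → F, (hBR.formL (pten y)) ∘ₗ Loc T = hBR.formL (Loc T (pten y)) :=
        fun y => eq_of_pten fun x => by
          rw [LinearMap.comp_apply, SF.formL_apply, SF.formL_apply, loc_pten, loc_pten, Bt_pten C.hf,
            Bt_pten C.hf]
          exact Finset.prod_congr rfl fun j _ => hadj j _ _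
      have e2 : hBR.formL (Loc T u) = hBR.formL u ∘ₗ Loc T := eq_of_pten fun y => by
        rw [LinearMap.comp_apply, SF.formL_apply, SF.formL_apply, hBR.comm' (pten y),
          hBR.comm' (Loc T (pten y))]
        exact LinearMap.congr_fun (e1 y) u
      have := LinearMap.congr_fun e2 v
      rw [LinearMap.comp_apply, SF.formL_apply, SF.formL_apply] at this
      rw [hBR.comm', this, hBR.comm']
    have hne : Loc T ≠ 0 := Grow.loc_ne_zero fun j => by
      rcases hT j with e | e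
      · rw [e]
        intro e0
        have := LinearMap.congr_fun e0 c
        simp only [LinearMap.id_apply, LinearMap.zero_apply] at this
        exact hc0 this
      · exact elem_ne_zero e
    refine hne (LinearMap.ext fun u => hBR.nondeg _ fun v => ?_)
    have e := C.cen_skew i hc0 hc hST u v
    rw [← hsym, ← two_mul] at e
    exact (mul_eq_zero.1 e).resolve_left C.two
  · rw [loc_eq_op i, dif_pos rfl]
    convert hST using 4 with j
    rw [dif_neg j.2]

/-- Move the skew slot to s, all the other slots of the support becoming symmetric. -/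
theorem pivot [Finite F] {T : J → ((Fin k → F) →ₗ[F] Fin k → F)}
    (hT : ∀ j, T j = LinearMap.id ∨ IsC C.hf (T j) ∨ IsA C.hf (T j)) {i a s : J} (hi : IsC C.hf (T i))
    (ha : IsA C.hf (T a)) (hs : T s ≠ LinearMap.id) (hsa : s ≠ a) (h : Has X (Loc T)) :
    ∃ T' : J → ((Fin k → F) →ₗ[F] Fin k → F), IsA C.hf (T' s) ∧ Has X (Loc T') ∧
      ∀ j, j ≠ s → (T j = LinearMap.id ∧ T' j = LinearMap.id) ∨ (T j ≠ LinearMap.id ∧ IsC C.hf (T' j)) := by
  classical
  have hf := C.hf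
  have hel : ∀ {j}, T j ≠ LinearMap.id → IsC hf (T j) ∨ IsA hf (T j) := fun {j} hj => (hT j).resolve_left hj
  have hdata : ∀ j, ∃ (g : GL (Fin k) F) (c x y : Fin k → F) (α γ : F), T j ≠ LinearMap.id →
      Mv f X g ∧ c ≠ 0 ∧ f c c = 0 ∧ f x c = 0 ∧ f x x ≠ 0 ∧ y ≠ 0 ∧ f y y = 0 ∧ α ≠ 0 ∧ γ ≠ 0 ∧
      f (T j (cj g (T j) y)) y = α ∧ f (cj g (T j) (T j y)) y = α ∧
      cj (eA hf c x) (T j ∘ₗ cj g (T j) - cj g (T j) ∘ₗ T j) - (T j ∘ₗ cj g (T j) - cj g (T j) ∘ₗ T j) =
        γ • Aop hf c x := by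
    intro j
    by_cases hj : T j = LinearMap.id
    · exact ⟨1, 0, 0, 0, 0, 0, fun h' => absurd hj h'⟩
    · obtain ⟨g, c, x, y, α, γ, hh⟩ := C.slot_pair (hel hj)
      exact ⟨g, c, x, y, α, γ, fun _ => hh⟩
  choose G cc xx y α γ hG using hdata
  obtain ⟨ca, xa, hca0, hca, hxca, hxa, hTa⟩ := id ha
  have haid : T a ≠ LinearMap.id := elem_ne_id (Or.inr ha)
  have hiid : T i ≠ LinearMap.id := elem_ne_id (Or.inl hi)
  have hia : i ≠ a := fun e => by
    obtain ⟨r, c, hr, hc0, hc, hC⟩ := hi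
    rw [e, hTa] at hC
    have e1 := LinearMap.congr_fun hC xa
    obtain ⟨d, hd, hcd⟩ := C.toSl.exists_pair hc0 hc
    have hsk := Aop_adj hf ca xa d d
    have e2 := LinearMap.congr_fun hC d
    rw [e2, LinearMap.smul_apply, Cop_apply, hf.comm' d c, hcd, one_smul, hf.smul_left, hf.smul_right',
      hf.comm' d c, hcd] at hsk
    exact mul_ne_zero C.two hr (by linear_combination hsk)
  let B : J → GL (Fin k) F := fun j => if j = a then 1 else if T j = LinearMap.id then 1 else G j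
  have hB : ∀ j, fac j (B j) ∈ X := fun j => by
    simp only [B]
    split_ifs with h1 h2
    · rw [fac_one]; exact X.one_mem
    · rw [fac_one]; exact X.one_mem
    · exact (hG j h2).1.2 j
  set T₁ : J → ((Fin k → F) →ₗ[F] Fin k → F) := fun j => cj (B j) (T j) with hT₁
  have hT₁a : T₁ a = T a := by simp [hT₁, B, cj_one']
  have hcomm := Grow.has_comm h (loc_move h B hB)
    (by rw [loc_comp]; exact UWreath.loc_eq_zero _ (j := i) hi.sq)
    (by rw [loc_comp]; exact UWreath.loc_eq_zero _ (j := i) (by rw [cj_comp', hi.sq, cj_zero]))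
    (by rw [loc_comp, loc_comp]; exact UWreath.loc_eq_zero _ (j := a) (by show T a ∘ₗ cj (B a) (T a) ∘ₗ T a = 0; rw [show cj (B a) (T a) = T a from hT₁a]; exact ha.cube))
    (by rw [loc_comp, loc_comp]; exact UWreath.loc_eq_zero _ (j := a) (by show cj (B a) (T a) ∘ₗ T a ∘ₗ cj (B a) (T a) = 0; rw [show cj (B a) (T a) = T a from hT₁a]; exact ha.cube))
  rw [← hT₁, loc_comp, loc_comp] at hcomm
  set U : J → ((Fin k → F) →ₗ[F] Fin k → F) := fun j => T j ∘ₗ T₁ j with hU
  set V : J → ((Fin k → F) →ₗ[F] Fin k → F) := fun j => T₁ j ∘ₗ T j with hV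
  have hAA : U a = (-f xa xa) • Cop hf ca ∧ V a = (-f xa xa) • Cop hf ca := by
    simp only [hU, hV, hT₁a, hTa, and_self]
    exact LinearMap.ext fun v => by
      rw [LinearMap.comp_apply, Aop_Aop hf hca hxca hxca, LinearMap.smul_apply]
  rw [loc_eq_op a U, loc_eq_op a V, hAA.1, hAA.2, op_smul_right, op_smul_right, ← op_smul_left,
    ← op_smul_left] at hcomm
  set S : (((({j // j ≠ a}) → Fin k) → F) →ₗ[F] ({j // j ≠ a} → Fin k) → F) → Prop :=
    fun K => Has X (op a K (Cop hf ca)) with hS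
  have hSI : Inv hf S := C.cen_inv a hca
  have hS0 : S ((-f xa xa) • (Loc fun j : {j // j ≠ a} => U j) + (f xa xa) • (Loc fun j : {j // j ≠ a} => V j)) := by
    show Has X _
    convert hcomm using 1
    rw [sub_eq_add_neg, ← op_neg_left, ← op_add_left]
    congr 1
    module
  set W := Finset.univ.filter fun j : {j // j ≠ a} => T j ≠ LinearMap.id ∧ (j : J) ≠ s with hW
  have hUj : ∀ {j : J}, j ≠ a → T j ≠ LinearMap.id → T₁ j = cj (G j) (T j) := fun {j} hja hj => by
    simp [hT₁, B, hja, hj]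
  have hid : ∀ {j : J}, T j = LinearMap.id → U j = LinearMap.id ∧ V j = LinearMap.id := fun {j} hj => by
    have : T₁ j = LinearMap.id := by simp [hT₁, hj, cj_id']
    simp [hU, hV, hj, this]
  obtain ⟨r, hr, hSr⟩ := contract C.toSl hSI _ _ _ _ hS0 W (fun j => y j)
    fun j hj => by
      obtain ⟨hj1, -⟩ := (Finset.mem_filter.1 hj).2
      obtain ⟨-, -, -, -, -, h6, h7, -⟩ := hG j hj1
      exact ⟨h6, h7⟩
  have hpU : ∏ j ∈ W, f (U j (y j)) (y j) = ∏ j ∈ W, α j := Finset.prod_congr rfl fun j hj => by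
    obtain ⟨hj1, -⟩ := (Finset.mem_filter.1 hj).2
    obtain ⟨-, -, -, -, -, -, -, -, -, h10, -⟩ := hG j hj1
    rw [← h10]; simp only [hU, hUj j.2 hj1, LinearMap.comp_apply]
  have hpV : ∏ j ∈ W, f (V j (y j)) (y j) = ∏ j ∈ W, α j := Finset.prod_congr rfl fun j hj => by
    obtain ⟨hj1, -⟩ := (Finset.mem_filter.1 hj).2
    obtain ⟨-, -, -, -, -, -, -, -, -, -, h11, -⟩ := hG j hj1
    rw [← h11]; simp only [hV, hUj j.2 hj1, LinearMap.comp_apply]
  rw [hpU, hpV] at hSr
  obtain ⟨-, hcs0, hcs, hxcs, hxs, -, -, -, hγ, -, -, heq⟩ := hG s hs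
  set s' : {j // j ≠ a} := ⟨s, hsa⟩ with hs'
  have hsW : s' ∉ W := by simp [hW, hs']
  set R : (Rest s' k → F) →ₗ[F] Rest s' k → F :=
    Loc fun j : {l // l ≠ s'} => if T (j : {j // j ≠ a}) ≠ LinearMap.id then Cop hf (y (j : {j // j ≠ a}))
      else LinearMap.id with hR
  have hrest : ∀ U₀ : J → ((Fin k → F) →ₗ[F] Fin k → F), (∀ j, T j = LinearMap.id → U₀ j = LinearMap.id) →
      (Loc fun j : {j // j ≠ a} => if j ∈ W then Cop hf (y j) else U₀ j) = op s' R (U₀ s) := by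
    intro U₀ hU₀
    rw [loc_eq_op s', if_neg hsW]
    refine congrArg (fun L => op s' (Loc L) _) (funext fun j => ?_)
    have hjs : ((j : {j // j ≠ a}) : J) ≠ s := fun e => j.2 (Subtype.ext e)
    by_cases hj : T (j : {j // j ≠ a}) = LinearMap.id
    · rw [if_neg (by simp [hW, hj]), if_neg (not_not.2 hj), hU₀ _ hj]
    · rw [if_pos (by simp [hW, hj, hjs]), if_pos hj]
  rw [hrest U fun j hj => (hid hj).1, hrest V fun j hj => (hid hj).2] at hSr
  set c₀ := r * -f xa xa * ∏ j ∈ W, α j with hc₀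
  have hc₀0 : c₀ ≠ 0 := by
    refine mul_ne_zero (mul_ne_zero hr (neg_ne_zero.2 hxa)) (Finset.prod_ne_zero_iff.2 fun j hj => ?_)
    obtain ⟨hj1, -⟩ := (Finset.mem_filter.1 hj).2
    obtain ⟨-, -, -, -, -, -, -, h8, -⟩ := hG j hj1
    exact h8
  have hSH : S (op s' R (c₀ • (U s - V s))) := by
    convert hSr using 1
    rw [op_smul_right, sub_eq_add_neg, ← neg_one_smul F (V s), op_add_right, op_smul_right, hc₀]
    module
  have hSA : S (op s' R (Aop hf (cc s) ((c₀ * γ s) • xx s))) := by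
    have hUs : U s = T s ∘ₗ cj (G s) (T s) := by simp only [hU, hUj hsa hs]
    have hVs : V s = cj (G s) (T s) ∘ₗ T s := by simp only [hV, hUj hsa hs]
    rw [← hUs, ← hVs] at heq
    have e1 := hSI.inv s' (Or.inl ⟨cc s, xx s, hcs, hxcs, rfl⟩) hSH
    have e2 := hSI.toAdditive.sub e1 hSH
    rw [cj_op_self, cj_smul, sub_eq_add_neg, ← op_neg_left] at e2
    have en : ∀ T₀ : (Fin k → F) →ₗ[F] Fin k → F, op s' R (-T₀) = -op s' R T₀ := fun T₀ => by
      rw [← neg_one_smul F T₀, op_smul_right]; module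
    convert e2 using 1
    rw [op_neg_left, Aop_smul, mul_smul, ← heq, ← sub_eq_add_neg]
    simp only [sub_eq_add_neg, smul_add, smul_neg, op_add_right, op_smul_right, en]
  refine ⟨fun j => if j = a then Cop hf ca else if j = s then Aop hf (cc s) ((c₀ * γ s) • xx s) else
    if T j ≠ LinearMap.id then Cop hf (y j) else LinearMap.id, ?_, ?_, fun j hj => ?_⟩
  · simp only [if_neg hsa, if_pos]
    exact ⟨_, _, hcs0, hcs, by rw [hf.smul_left, hxcs, mul_zero], by
      rw [hf.smul_left, hf.smul_right']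
      exact mul_ne_zero (mul_ne_zero hc₀0 hγ) (mul_ne_zero (mul_ne_zero hc₀0 hγ) hxs), rfl⟩
  · rw [loc_eq_op a, if_pos rfl, loc_eq_op s']
    simp only [hs', if_neg hsa, if_true]
    convert (show Has X _ from hSA) using 5 with j
    rw [if_neg (j : {j // j ≠ a}).2, if_neg fun e => j.2 (Subtype.ext e)]
  · by_cases hja : j = a
    · subst hja
      simp only [if_pos]
      exact Or.inr ⟨haid, 1, ca, one_ne_zero, hca0, hca, (one_smul _ _).symm⟩
    · simp only [if_neg hja, if_neg hj]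
      by_cases hjid : T j = LinearMap.id
      · rw [if_neg (not_not.2 hjid)]; exact Or.inl ⟨hjid, rfl⟩
      · rw [if_pos hjid]
        obtain ⟨-, -, -, -, -, h6, h7, -⟩ := hG j hjid
        exact Or.inr ⟨hjid, 1, y j, one_ne_zero, h6, h7, (one_smul _ _).symm⟩

/-! ### Enlarging the support -/

theorem cycle_mem [Finite F] {a b c : J} (hab : a ≠ b) (hbc : b ≠ c) (hac : a ≠ c) :
    pm (Equiv.swap a b * Equiv.swap b c) ∈ X := by
  haveI : Fintype F := Fintype.ofFinite F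
  haveI : Nonempty J := ⟨a⟩
  set π := Equiv.swap a b * Equiv.swap b c with hπ
  have h3 : π ^ 3 = 1 := by
    refine Equiv.ext fun x => ?_
    simp only [hπ, pow_succ, pow_zero, one_mul, Equiv.Perm.mul_apply, Equiv.Perm.one_apply]
    by_cases ha : x = a
    · subst ha; simp [Equiv.swap_apply_def, hab, hbc, hac, hab.symm, hbc.symm, hac.symm]
    by_cases hb : x = b
    · subst hb; simp [Equiv.swap_apply_def, hab, hbc, hac, hab.symm, hbc.symm, hac.symm]
    by_cases hc : x = c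
    · subst hc; simp [Equiv.swap_apply_def, hab, hbc, hac, hab.symm, hbc.symm, hac.symm]
    simp [Equiv.swap_apply_def, ha, hb, hc]
  refine C.mono _ (OrthTensor.omega_of_odd C.hQ C.two ?_ (C.mem_isometry fun x y => ?_) ?_) ⟨π⁻¹, fun _ => 1, fun x => ?_⟩
  · rw [Fintype.card_fun, Fintype.card_fin]
    calc 2 ≤ k := by have := C.hk; omega
      _ = k ^ 1 := (pow_one k).symm
      _ ≤ k ^ Fintype.card J := Nat.pow_le_pow_right (by have := C.hk; omega) Fintype.card_pos
  · refine pres_of_pten' C.hf (fun x y => ?_) x y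
    rw [UWreath.mv_pm_pten, UWreath.mv_pm_pten, Bt_pten C.hf, Bt_pten C.hf]
    exact Fintype.prod_equiv π⁻¹ _ _ fun j => rfl
  · have e : (pm π : GL (J → Fin k) F) ^ 3 = 1 := by
      rw [pow_succ, pow_succ, pow_one, pm_mul, pm_mul, ← pow_two, ← pow_succ, h3, pm_one]
    exact (show Odd 3 by decide).of_dvd_nat (orderOf_dvd_of_pow_eq_one e)
  · rw [UWreath.mv_pm_pten]
    exact congrArg pten (funext fun j => by rw [mv_one])

/-- One more slot. -/
theorem lift [Finite F] {T : J → ((Fin k → F) →ₗ[F] Fin k → F)} {s j l : J} (hs : IsA C.hf (T s))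
    (hT : ∀ u, u ≠ s → T u = LinearMap.id ∨ IsC C.hf (T u)) (hj : IsC C.hf (T j)) (hjs : j ≠ s)
    (hl : T l = LinearMap.id) (h : Has X (Loc T)) :
    ∃ T' : J → ((Fin k → F) →ₗ[F] Fin k → F), IsA C.hf (T' l) ∧ Has X (Loc T') ∧
      ∀ u, u ≠ l → (T u = LinearMap.id ∧ T' u = LinearMap.id) ∨ (T u ≠ LinearMap.id ∧ IsC C.hf (T' u)) := by
  classical
  have hf := C.hf
  have hls : l ≠ s := fun e => elem_ne_id (Or.inr hs) (e ▸ hl)
  have hlj : l ≠ j := fun e => elem_ne_id (Or.inl hj) (e ▸ hl)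
  obtain ⟨c, x, hc0, hc, hxc, hx, hTs⟩ := id hs
  obtain ⟨d, hd, hcd, hxd⟩ := C.exists_partner_perp hc0 hc hxc hx
  have hdc : f d c = 1 := by rw [hf.comm', hcd]
  have hd0 : d ≠ 0 := fun e => by rw [e, hf.zero_right] at hcd; exact zero_ne_one hcd
  obtain ⟨rj, cj₀, hrj, hcj0, hcj, hTj⟩ := id hj
  obtain ⟨gs, ρ, hgs, hρ, hgsc⟩ := C.exists_move hcj0 hcj hd0 hd
  have hdata : ∀ u, ∃ (g : GL (Fin k) F) (y : Fin k → F) (α : F), T u ≠ LinearMap.id → u ≠ s →
      Mv f X g ∧ y ≠ 0 ∧ f y y = 0 ∧ α ≠ 0 ∧ f (T u (cj g (T u) y)) y = α ∧ f (cj g (T u) (T u y)) y = α := by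
    intro u
    by_cases hu : T u ≠ LinearMap.id ∧ u ≠ s
    · obtain ⟨g, -, -, y, α, -, h1, -, -, -, -, h6, h7, h8, -, h10, h11, -⟩ :=
        C.slot_pair (Or.inl ((hT u hu.2).resolve_left hu.1))
      exact ⟨g, y, α, fun _ _ => ⟨h1, h6, h7, h8, h10, h11⟩⟩
    · exact ⟨1, 0, 0, fun h1 h2 => absurd ⟨h1, h2⟩ hu⟩
  choose G y α hG using hdata
  set π := Equiv.swap l j * Equiv.swap j s with hπ
  have hπ' : π⁻¹ = Equiv.swap j s * Equiv.swap l j := by rw [hπ, _root_.mul_inv_rev, Equiv.swap_inv, Equiv.swap_inv]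
  have hπl : π⁻¹ l = s := by simp [hπ', Equiv.swap_apply_def, hlj, hlj.symm, hjs, hjs.symm]
  have hπs : π⁻¹ s = j := by simp [hπ', Equiv.swap_apply_def, hls.symm, hjs.symm, hls, hjs]
  have hπj : π⁻¹ j = l := by simp [hπ', Equiv.swap_apply_def, hlj, hlj.symm, hjs, hjs.symm, hls]
  have hπu : ∀ u, u ≠ l → u ≠ s → u ≠ j → π⁻¹ u = u := fun u h1 h2 h3 => by
    simp [hπ', Equiv.swap_apply_def, h1, h2, h3]
  have hY := UWreath.Has.conj h (C.cycle_mem hlj hjs hls)
  rw [← hπ, loc_conj_pm] at hY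
  let B : J → GL (Fin k) F := fun u =>
    if u = s then gs else if u = l ∨ u = j then 1 else if T u = LinearMap.id then 1 else G u
  have hB : ∀ u, fac u (B u) ∈ X := fun u => by
    simp only [B]
    split_ifs with h1 h2 h3
    · exact hgs.2 u
    · rw [fac_one]; exact X.one_mem
    · rw [fac_one]; exact X.one_mem
    · exact (hG u h3 h1).1.2 u
  have hY' := loc_move hY B hB
  set T₁ : J → ((Fin k → F) →ₗ[F] Fin k → F) := fun u => cj (B u) (T (π⁻¹ u)) with hT₁
  have e_s : T₁ s = (rj * (ρ * ρ)) • Cop hf d := by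
    simp only [hT₁, B, hπs, if_pos]
    rw [hTj, cj_smul, cj_Cop hf hgs.1, hgsc, Cop_smul, smul_smul]
  have e_l : T₁ l = T s := by
    show cj (B l) (T (π⁻¹ l)) = T s
    rw [hπl]; simp [B, hls, cj_one']
  have e_j : T₁ j = LinearMap.id := by
    show cj (B j) (T (π⁻¹ j)) = LinearMap.id
    rw [hπj, hl, cj_id']
  have e_u : ∀ u, u ≠ l → u ≠ s → u ≠ j → T u ≠ LinearMap.id → T₁ u = cj (G u) (T u) := fun u h1 h2 h3 h4 => by
    show cj (B u) (T (π⁻¹ u)) = _
    rw [hπu u h1 h2 h3]; simp [B, h1, h2, h3, h4]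
  have e_id : ∀ u, u ≠ l → u ≠ s → u ≠ j → T u = LinearMap.id → T₁ u = LinearMap.id := fun u h1 h2 h3 h4 => by
    show cj (B u) (T (π⁻¹ u)) = _
    rw [hπu u h1 h2 h3, h4, cj_id']
  have hyT : Has X (Loc T₁) := hY'
  have hcomm := Grow.has_comm h hyT
    (by rw [loc_comp]; exact UWreath.loc_eq_zero _ (j := j) hj.sq)
    (by rw [loc_comp]; exact UWreath.loc_eq_zero _ (j := s) (by
      rw [e_s, LinearMap.smul_comp, LinearMap.comp_smul, Cop_sq hf hd, smul_zero, smul_zero]))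
    (by rw [loc_comp, loc_comp]; exact UWreath.loc_eq_zero _ (j := j) (by rw [e_j, LinearMap.id_comp, hj.sq]))
    (by rw [loc_comp, loc_comp]; exact UWreath.loc_eq_zero _ (j := s) (LinearMap.ext fun v => by
      rw [e_s, hTs]
      simp only [LinearMap.comp_apply, LinearMap.smul_apply, Cop_apply, Aop_apply, map_smul, hf.smul_left,
        hf.sub_left, hd, hdc, hcd, hxd, hf.comm' d x, LinearMap.zero_apply]
      module))
  rw [loc_comp, loc_comp] at hcomm
  set U : J → ((Fin k → F) →ₗ[F] Fin k → F) := fun u => T u ∘ₗ T₁ u with hU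
  set V : J → ((Fin k → F) →ₗ[F] Fin k → F) := fun u => T₁ u ∘ₗ T u with hV
  have hUj : U j = rj • Cop hf cj₀ ∧ V j = rj • Cop hf cj₀ := by
    simp only [hU, hV, e_j, LinearMap.comp_id, LinearMap.id_comp, hTj, and_self]
  rw [loc_eq_op j U, loc_eq_op j V, hUj.1, hUj.2, op_smul_right, op_smul_right, ← op_smul_left,
    ← op_smul_left] at hcomm
  have hSI := C.cen_inv j hcj
  have hS0 : Has X (op j (rj • (Loc fun u : {u // u ≠ j} => U u) + (-rj) • (Loc fun u : {u // u ≠ j} => V u))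
      (Cop hf cj₀)) := by
    convert hcomm using 1
    rw [sub_eq_add_neg, ← op_neg_left, ← op_add_left]
    congr 1
    module
  set W := Finset.univ.filter fun u : {u // u ≠ j} => T u ≠ LinearMap.id with hW
  set yy : J → Fin k → F := fun u => if u = s then c + x - (f x x / 2) • d else y u with hyy
  have hys : c + x - (f x x / 2) • d ≠ 0 ∧ f (c + x - (f x x / 2) • d) (c + x - (f x x / 2) • d) = 0 := by
    refine ⟨fun e => ?_, ?_⟩
    · have e2 : f (c + x - (f x x / 2) • d) d = 1 := by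
        simp [hf.add_left, hf.sub_left, hf.smul_left, hcd, hxd, hd]
      rw [e, hf.zero_left] at e2
      exact zero_ne_one e2
    · have h2 := C.two
      simp only [hf.add_left, hf.add_right, hf.sub_left, hf.sub_right, hf.smul_left, hf.smul_right', hc, hd, hcd,
        hdc, hxc, hxd, hf.comm' c x, hf.comm' d x]
      field_simp
      ring
  have hyv : ∀ u, T u ≠ LinearMap.id → yy u ≠ 0 ∧ f (yy u) (yy u) = 0 := fun u hu => by
    by_cases hus : u = s
    · simp only [hyy, if_pos hus]; exact hys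
    · simp only [hyy, if_neg hus]; exact ⟨(hG u hu hus).2.1, (hG u hu hus).2.2.1⟩
  obtain ⟨r, hr, hSr⟩ := contract C.toSl hSI (fun u : {u // u ≠ j} => U u) (fun u : {u // u ≠ j} => V u)
    rj (-rj) hS0 W (fun u => yy u) fun u hu => hyv u (Finset.mem_filter.1 hu).2
  set s' : {u // u ≠ j} := ⟨s, hjs.symm⟩ with hs'
  have hsW : s' ∈ W := by simp [hW, hs', elem_ne_id (Or.inr hs)]
  have hsv : f (U s (yy s)) (yy s) = rj * (ρ * ρ) * f x x ∧ f (V s (yy s)) (yy s) = -(rj * (ρ * ρ) * f x x) := by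
    have h2 := C.two
    simp only [hU, hV, hyy, if_pos, LinearMap.comp_apply, e_s, hTs, LinearMap.smul_apply, Cop_apply, Aop_apply,
      map_smul, map_sub, hf.smul_left, hf.sub_left, hf.add_left, hf.add_right, hf.sub_right, hf.smul_right', hc,
      hd, hcd, hdc, hxc, hxd, hf.comm' c x, hf.comm' d x]
    constructor <;> field_simp <;> ring
  have hothers : ∀ u ∈ W.erase s', f (U (u : J) (yy u)) (yy u) = α u ∧ f (V (u : J) (yy u)) (yy u) = α u := by
    intro u hu
    obtain ⟨hus, hu'⟩ := Finset.mem_erase.1 hu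
    have hus' : (u : J) ≠ s := fun e => hus (Subtype.ext e)
    have hu1 := (Finset.mem_filter.1 hu').2
    have hul : (u : J) ≠ l := fun e => hu1 (e ▸ hl)
    obtain ⟨-, -, -, -, h10, h11⟩ := hG u hu1 hus'
    constructor
    · show f (T u (T₁ u (yy u))) (yy u) = α u
      rw [e_u u hul hus' u.2 hu1]; simp only [hyy, if_neg hus']; exact h10
    · show f (T₁ u (T u (yy u))) (yy u) = α u
      rw [e_u u hul hus' u.2 hu1]; simp only [hyy, if_neg hus']; exact h11
  set P := rj * (ρ * ρ) * f x x * ∏ u ∈ W.erase s', α u with hP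
  have hP0 : P ≠ 0 := by
    refine mul_ne_zero (mul_ne_zero (mul_ne_zero hrj (mul_ne_zero hρ hρ)) hx)
      (Finset.prod_ne_zero_iff.2 fun u hu => ?_)
    obtain ⟨hus, hu'⟩ := Finset.mem_erase.1 hu
    exact (hG u (Finset.mem_filter.1 hu').2 fun e => hus (Subtype.ext e)).2.2.2.1
  have hpU : ∏ u ∈ W, f (U (u : J) (yy u)) (yy u) = P := by
    rw [← Finset.mul_prod_erase W _ hsW, hP]
    simp only [hs']
    rw [hsv.1, Finset.prod_congr rfl fun u hu => (hothers u hu).1]
  have hpV : ∏ u ∈ W, f (V (u : J) (yy u)) (yy u) = -P := by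
    rw [← Finset.mul_prod_erase W _ hsW, hP]
    simp only [hs']
    rw [hsv.2, Finset.prod_congr rfl fun u hu => (hothers u hu).2, neg_mul]
  rw [hpU, hpV] at hSr
  set T' : J → ((Fin k → F) →ₗ[F] Fin k → F) := fun u =>
    if u = j then Cop hf cj₀ else if T u ≠ LinearMap.id then Cop hf (yy u) else
      if u = l then T s else LinearMap.id with hT'
  have hmod : ∀ u : {u // u ≠ j}, T u = LinearMap.id →
      U u = (if (u : J) = l then T s else LinearMap.id) ∧ V u = (if (u : J) = l then T s else LinearMap.id) := by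
    intro u hu
    by_cases hul : (u : J) = l
    · rw [if_pos hul]; simp only [hU, hV, hul, hl, e_l, LinearMap.comp_id, LinearMap.id_comp, and_self]
    · have hus : (u : J) ≠ s := fun e => elem_ne_id (Or.inr hs) (e ▸ hu)
      simp only [if_neg hul, hU, hV, hu, e_id u hul hus u.2 hu, LinearMap.comp_id, and_self]
  have hmodL : ∀ Z : J → ((Fin k → F) →ₗ[F] Fin k → F),
      (∀ u : {u // u ≠ j}, T u = LinearMap.id → Z u = (if (u : J) = l then T s else LinearMap.id)) →
      (Loc fun u : {u // u ≠ j} => if u ∈ W then Cop hf (yy u) else Z u) = Loc fun u : {u // u ≠ j} => T' u := by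
    intro Z hZ
    refine loc_congr fun u => ?_
    simp only [hT', if_neg u.2]
    by_cases hu : T u = LinearMap.id
    · rw [if_neg (by simp [hW, hu]), if_neg (not_not.2 hu), hZ u hu]
    · rw [if_pos (by simp [hW, hu]), if_pos hu]
  rw [hmodL U fun u hu => (hmod u hu).1, hmodL V fun u hu => (hmod u hu).2, ← add_smul,
    show r * rj * P + r * -rj * -P = 2 * (r * rj * P) by ring, op_smul_left, ← op_smul_right] at hSr
  set μ := 2 * (r * rj * P) with hμ
  have hμ0 : μ ≠ 0 := mul_ne_zero C.two (mul_ne_zero (mul_ne_zero hr hrj) hP0)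
  refine ⟨Function.update T' j (μ • Cop hf cj₀), ?_, ?_, fun u hu => ?_⟩
  · rw [Function.update_of_ne hlj]
    simp only [hT', if_neg hlj, if_neg (not_not.2 hl), if_pos]
    exact hs
  · rw [loc_op_update]; exact hSr
  · by_cases huj : u = j
    · subst huj
      rw [Function.update_self]
      exact Or.inr ⟨elem_ne_id (Or.inl hj), μ, cj₀, hμ0, hcj0, hcj, rfl⟩
    · rw [Function.update_of_ne huj]
      simp only [hT', if_neg huj]
      by_cases hu' : T u = LinearMap.id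
      · rw [if_neg (not_not.2 hu'), if_neg hu]; exact Or.inl ⟨hu', rfl⟩
      · rw [if_pos hu']
        exact Or.inr ⟨hu', 1, yy u, one_ne_zero, (hyv u hu').1, (hyv u hu').2, (one_smul _ _).symm⟩

/-- A non-trivial centre gives a displacement on all the slots. -/
theorem exists_full [Finite F] (i : J) {c : Fin k → F} (hc0 : c ≠ 0) (hc : f c c = 0) {K}
    (h : Has X (op i K (Cop C.hf c))) (hK : K ≠ 0) :
    ∃ (s : J) (T : J → ((Fin k → F) →ₗ[F] Fin k → F)), IsA C.hf (T s) ∧ (∀ u, u ≠ s → IsC C.hf (T u)) ∧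
      Has X (Loc T) := by
  classical
  obtain ⟨T₀, hT₀, hi, ⟨a, ha⟩, hH₀⟩ := C.cen_exists i hc0 hc h hK
  have hia : i ≠ a := fun e => by
    obtain ⟨r, c', hr, hc0', hc', hC⟩ := hi
    obtain ⟨ca, xa, -, -, -, -, hA⟩ := ha
    rw [e, hA] at hC
    obtain ⟨d, hd, hcd⟩ := C.toSl.exists_pair hc0' hc'
    have hsk := Aop_adj C.hf ca xa d d
    rw [LinearMap.congr_fun hC d, LinearMap.smul_apply, Cop_apply, C.hf.comm' d c', hcd, one_smul,
      C.hf.smul_left, C.hf.smul_right', C.hf.comm' d c', hcd] at hsk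
    exact mul_ne_zero C.two hr (by linear_combination hsk)
  obtain ⟨T₁, h1s, h1H, h1o⟩ := C.pivot hT₀ hi ha (elem_ne_id (Or.inl hi)) hia hH₀
  suffices H : ∀ (n : ℕ) (s j : J) (T : J → ((Fin k → F) →ₗ[F] Fin k → F)),
      (Finset.univ.filter fun u => T u = LinearMap.id).card = n → IsA C.hf (T s) →
      (∀ u, u ≠ s → T u = LinearMap.id ∨ IsC C.hf (T u)) → j ≠ s → IsC C.hf (T j) → Has X (Loc T) →
      ∃ (s : J) (T : J → ((Fin k → F) →ₗ[F] Fin k → F)), IsA C.hf (T s) ∧ (∀ u, u ≠ s → IsC C.hf (T u)) ∧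
        Has X (Loc T) by
    have ha1 : IsC C.hf (T₁ a) :=
      ((h1o a hia.symm).resolve_left fun e => elem_ne_id (Or.inr ha) e.1).2
    exact H _ i a T₁ rfl h1s (fun u hu => (h1o u hu).imp (fun e => e.2) fun e => e.2) hia.symm ha1 h1H
  intro n
  induction n using Nat.strong_induction_on with
  | _ n ih =>
  intro s j T hn hs hT hjs hj hH
  by_cases hall : ∀ u, u ≠ s → IsC C.hf (T u)
  · exact ⟨s, T, hs, hall, hH⟩
  push Not at hall
  obtain ⟨l, hls, hl⟩ := hall
  have hlid : T l = LinearMap.id := (hT l hls).resolve_right hl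
  obtain ⟨T', hT'l, hT'H, hT'o⟩ := C.lift hs hT hj hjs hlid hH
  have hsC : IsC C.hf (T' s) := ((hT'o s hls.symm).resolve_left fun e => elem_ne_id (Or.inr hs) e.1).2
  refine ih _ ?_ l s T' rfl hT'l (fun u hu => (hT'o u hu).imp (fun e => e.2) fun e => e.2) hls.symm hsC hT'H
  rw [← hn]
  refine Finset.card_lt_card (Finset.ssubset_iff_of_subset (fun u hu => ?_) |>.2 ⟨l, by simp [hlid], by
    simp [elem_ne_id (Or.inr hT'l)]⟩)
  simp only [Finset.mem_filter, Finset.mem_univ, true_and] at hu ⊢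
  have hul : u ≠ l := fun e => elem_ne_id (Or.inr hT'l) (e ▸ hu)
  exact ((hT'o u hul).resolve_right fun e => elem_ne_id (Or.inl e.2) hu).1

end Ctx

end Cfsg.Agent.OrthEvenWreath
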