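/-
Tensor powers of a symmetric form of even dimension: generation.
-/
import Cfsg.Agent.Lib.OrthWreathEven.Growth
import Cfsg.Agent.Lib.FormWreath.GrowRoots
import Cfsg.Agent.Lib.OrthWreath.Gen

set_option autoImplicit false
set_option linter.unusedSectionVars false

namespace Cfsg.Agent.OrthEvenWreath

open scoped Matrix
open Matrix Cfsg.Agent.Transvec Cfsg.Agent.TensorMax Cfsg.Agent.WreathMax Cfsg.Agent.FormWreath
open Cfsg.Agent.OrthWreath hiding Sl Ctx Base Ind Inv Gd
open Cfsg.Agent.UWreath (top top_ten Loc loc_pten loc_comp loc_id pull Has Additive loc_congr loc_conj_fac loc_conj_pm)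

variable {F : Type*} [Field F] {k : ℕ} {J : Type} [Fintype J] [DecidableEq J]

local notation "σ₁" => RingEquiv.refl F

variable {f : (Fin k → F) → (Fin k → F) → F}

variable [Finite F]

open Cfsg.Agent.FormWreath.Grow (Sg sgSub mem_sgSub pten_update_add pten_zero_slot)

variable {κ : F}

theorem Sl.iso_span (S : Sl f κ) {c : Fin k → F} (hc0 : c ≠ 0) (hc : f c c = 0)
    (P : Submodule F (Fin k → F)) (h : ∀ u, f u u = 0 → f u c ≠ 0 → u ∈ P) : P = ⊤ := by
  obtain ⟨d, hd, hcd⟩ := S.exists_pair hc0 hc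
  have hdc : f d c = 1 := by rw [S.hf.comm', hcd]
  have h2 := S.two
  have hdP : d ∈ P := h d hd (by rw [hdc]; exact one_ne_zero)
  obtain ⟨x, hxc, hxd, hx⟩ := S.exists_W_aniso hc hd hcd
  have hval : ∀ v, f v c = 0 → f v d = 0 → f v v ≠ 0 → v ∈ P ∧ c ∈ P := by
    intro v hvc hvd hv
    have hm : ∀ t : F, t * t = 1 → c + t • v - (f v v / 2) • d ∈ P := by
      intro t ht
      refine h _ ?_ ?_
      · simp only [S.hf.add_left, S.hf.add_right, S.hf.sub_left, S.hf.sub_right, S.hf.smul_left, S.hf.smul_right',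
          hc, hd, hcd, hdc, hvc, hvd, S.hf.comm' c v, S.hf.comm' d v]
        linear_combination (norm := (field_simp; ring)) f v v * ht
      · simp [S.hf.add_left, S.hf.sub_left, S.hf.smul_left, hc, hvc, hdc, hv, h2]
    have h1 := hm 1 (one_mul 1)
    have h3 := hm (-1) (by ring)
    constructor
    · have := P.smul_mem (2⁻¹ : F) (P.sub_mem h1 h3)
      convert this using 1
      match_scalars <;> field_simp <;> ring
    · have := P.add_mem (P.smul_mem (2⁻¹ : F) (P.add_mem h1 h3)) (P.smul_mem (f v v / 2) hdP)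
      convert this using 1
      match_scalars <;> field_simp <;> ring
  have hcP := (hval x hxc hxd hx).2
  refine Submodule.eq_top_iff'.2 fun z => ?_
  obtain ⟨y, hyc, hyd, hz⟩ : ∃ y, f y c = 0 ∧ f y d = 0 ∧ z = y + f z d • c + f z c • d :=
    ⟨z - f z d • c - f z c • d, by simp [S.hf.sub_left, S.hf.smul_left, hc, hdc],
      by simp [S.hf.sub_left, S.hf.smul_left, hd, hcd], by abel⟩
  rw [hz]
  refine P.add_mem (P.add_mem ?_ (P.smul_mem _ hcP)) (P.smul_mem _ hdP)
  by_cases hy : f y y = 0
  swap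
  · exact (hval y hyc hyd hy).1
  obtain ⟨s, hs⟩ : ∃ s : F, f (y + s • x) (y + s • x) ≠ 0 := by
    by_contra hh
    push Not at hh
    have a := hh 1
    have b := hh (-1)
    simp only [S.hf.add_left, S.hf.add_right, S.hf.smul_left, S.hf.smul_right', hy, S.hf.comm' x y] at a b
    exact mul_ne_zero h2 hx (by linear_combination a + b)
  have h1 := (hval _ (by rw [S.hf.add_left, S.hf.smul_left, hyc, hxc, mul_zero, add_zero])
    (by rw [S.hf.add_left, S.hf.smul_left, hyd, hxd, mul_zero, add_zero]) hs).1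
  have := P.sub_mem h1 (P.smul_mem s (hval x hxc hxd hx).1)
  rwa [add_sub_cancel_right] at this

variable {Q : ((J → Fin k) → F) → F} {X : Subgroup (GL (J → Fin k) F)}

namespace Ctx

variable (C : Ctx f Q κ X)
include C

theorem pol_pten (x y : J → Fin k → F) : Transvec.Orth.pol Q (pten x) (pten y) = ∏ j, f (x j) (y j) := by
  rw [C.hpol, Bt_pten C.hf]

theorem sg_conj {g : GL (J → Fin k) F} (hg : g ∈ X) {u y : (J → Fin k) → F} (h : Sg Q X u y) :
    Sg Q X (mv g u) (mv g y) := by
  refine ⟨by rw [Transvec.Orth.pol_mv C.hQ (C.iso hg), h.1], fun t => ?_⟩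
  obtain ⟨e, he, hes⟩ := h.2 t
  refine ⟨g * e * g⁻¹, X.mul_mem (X.mul_mem hg he) (X.inv_mem hg), ?_⟩
  have := Transvec.Orth.isSiegel_conj C.hQ (C.iso hg) hes
  rwa [mv_smul] at this

theorem sg_smul_left {u y : (J → Fin k) → F} {a : F} (ha : a ≠ 0) (h : Sg Q X (a • u) y) : Sg Q X u y := by
  refine ⟨?_, fun t => ?_⟩
  · have := h.1
    rw [Transvec.Orth.pol_smul_left C.hQ, mul_eq_zero] at this
    exact this.resolve_left ha
  · obtain ⟨g, hg, hgs⟩ := h.2 (t * a⁻¹)
    refine ⟨g, hg, fun z => ?_⟩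
    rw [hgs]
    simp only [Transvec.Orth.pol_smul_right C.hQ, Transvec.Orth.q_smul C.hQ]
    match_scalars <;> field_simp

theorem mv_facs_pten (g : J → GL (Fin k) F) (hg : ∀ j, fac j (g j) ∈ X) (U : Finset J) :
    ∃ h ∈ X, ∀ y, mv h (pten y) = pten fun j => if j ∈ U then mv (g j) (y j) else y j := by
  induction U using Finset.induction with
  | empty => exact ⟨1, X.one_mem, fun y => by simp [mv_one]⟩
  | insert a U ha ih =>
    obtain ⟨h, hh, hy⟩ := ih
    refine ⟨fac a (g a) * h, X.mul_mem (hg a) hh, fun y => ?_⟩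
    rw [mv_mul, hy, mv_fac]
    refine congrArg pten (funext fun j => ?_)
    by_cases hj : j = a
    · subst hj; simp [ha]
    · simp [hj]

/-- The squares scale an isotropic vector inside X. -/
theorem exists_torus {c x : Fin k → F} (hc0 : c ≠ 0) (hc : f c c = 0) (hxc : f x c = 0) (hx : f x x ≠ 0)
    {l : F} (hl : l ≠ 0) : ∃ g, Mv f X g ∧ mv g c = (l * l) • c ∧ mv g x = x := by
  have hf := C.hf
  have h2 := C.two
  obtain ⟨d, hd, hcd, hxd⟩ := C.exists_partner_perp hc0 hc hxc hx
  have hκ := C.hκ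
  set a := κ / (2 * l) with ha
  have ha0 : a ≠ 0 := div_ne_zero hκ (mul_ne_zero h2 hl)
  obtain ⟨hp, h1c, -, h1w⟩ := mr_swap hf h2 hc hd hcd hκ
  obtain ⟨hq, h2d, -, h2w⟩ := mr_swap hf h2 (c := a • d) (d := a⁻¹ • c)
    (by rw [hf.smul_left, hf.smul_right', hd, mul_zero, mul_zero])
    (by rw [hf.smul_left, hf.smul_right', hc, mul_zero, mul_zero])
    (by rw [hf.smul_left, hf.smul_right', hf.comm' d c, hcd, mul_one, mul_inv_cancel₀ ha0]) hκ
  refine ⟨mr hf (a • d + (κ / 2) • (a⁻¹ • c)) * mr hf (c + (κ / 2) • d), C.mv_mm (by rw [hq]; exact hκ) (by rw [hp]; exact hκ), ?_, ?_⟩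
  · rw [mv_mul, h1c, show (κ / 2) • d = (κ / 2 * a⁻¹) • (a • d) by
      rw [smul_smul, mul_assoc, inv_mul_cancel₀ ha0, mul_one], mv_smul, h2d, smul_smul, smul_smul, ha]
    congr 1
    field_simp
  · rw [mv_mul, h1w x hxc hxd, mv_neg, h2w x (by rw [hf.smul_right', hxd, mul_zero])
      (by rw [hf.smul_right', hxc, mul_zero]), neg_neg]

/-- A full displacement gives a root element at a pure tensor, with all multiples. -/
theorem root_of_full (hJ : 2 ≤ Fintype.card J) {s : J} {T : J → ((Fin k → F) →ₗ[F] Fin k → F)}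
    (hs : IsA C.hf (T s)) (hT : ∀ u, u ≠ s → IsC C.hf (T u)) (h : Has X (Loc T)) :
    ∃ (c : J → Fin k → F) (x : Fin k → F), (∀ j, c j ≠ 0 ∧ f (c j) (c j) = 0) ∧ f x (c s) = 0 ∧ f x x ≠ 0 ∧
      Sg Q X (pten c) (pten (Function.update c s x)) := by
  classical
  have hf := C.hf
  obtain ⟨cs, x, hcs0, hcs, hxc, hx, hTs⟩ := hs
  choose r cc hr hcc0 hcc hTu using hT
  set c : J → Fin k → F := fun j => if e : j = s then cs else cc j e with hc
  have hcp : ∀ j, c j ≠ 0 ∧ f (c j) (c j) = 0 := fun j => by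
    by_cases e : j = s
    · simp only [hc, dif_pos e]; exact ⟨hcs0, hcs⟩
    · simp only [hc, dif_neg e]; exact ⟨hcc0 j e, hcc j e⟩
  have hcs' : c s = cs := by simp [hc]
  refine ⟨c, x, hcp, by rw [hcs']; exact hxc, hx, ?_⟩
  set u := pten c
  set y := pten (Function.update c s x)
  obtain ⟨o, ho⟩ := Fintype.exists_ne_of_one_lt_card hJ s
  have huy : Transvec.Orth.pol Q u y = 0 := by
    rw [C.pol_pten]
    refine Finset.prod_eq_zero (Finset.mem_univ s) ?_
    rw [Function.update_self, hf.comm', hcs', hxc]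
  have hu : Q u = 0 := C.q_pten (hcp s).2
  have hy : Q y = 0 := C.q_pten (j := o) (by rw [Function.update_of_ne ho]; exact (hcp o).2)
  set R : J → F := fun j => if e : j = s then 1 else r j e with hR
  set ρ := ∏ j, R j with hρ
  have hρ0 : ρ ≠ 0 := Finset.prod_ne_zero_iff.2 fun j _ => by
    by_cases e : j = s
    · simp [hR, e]
    · simp only [hR, dif_neg e]; exact hr j e
  have hL : Loc T = ρ • ((C.hB.formL u).smulRight y - (C.hB.formL y).smulRight u) := eq_of_pten fun v => by
    simp only [LinearMap.smul_apply, LinearMap.sub_apply, LinearMap.smulRight_apply, SF.formL_apply, loc_pten]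
    rw [Bt_pten C.hf, Bt_pten C.hf, hρ]
    funext p
    simp only [pten, u, y, Pi.sub_apply, Pi.smul_apply, smul_eq_mul,
      ← Finset.mul_prod_erase Finset.univ _ (Finset.mem_univ s), Function.update_self, hTs, Aop_apply, hcs']
    rw [Finset.prod_congr rfl fun j hj => show T j (v j) (p j) = R j * (f (v j) (c j) * c j (p j)) by
        have e := Finset.ne_of_mem_erase hj
        rw [hTu j e]
        simp only [hR, hc, dif_neg e, LinearMap.smul_apply, Cop_apply, Pi.smul_apply, smul_eq_mul],
      Finset.prod_congr rfl fun j hj => show Function.update c s x j (p j) = c j (p j) by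
        rw [Function.update_of_ne (Finset.ne_of_mem_erase hj)],
      Finset.prod_congr rfl fun j hj => show f (v j) (Function.update c s x j) = f (v j) (c j) by
        rw [Function.update_of_ne (Finset.ne_of_mem_erase hj)],
      Finset.prod_mul_distrib, Finset.prod_mul_distrib, show R s = 1 by simp [hR]]
    ring
  have base : ∃ g ∈ X, Transvec.Orth.IsSiegel Q g u (ρ • y) := by
    obtain ⟨g, hg, hgx⟩ := h
    refine ⟨g, hg, fun z => ?_⟩
    rw [hgx, hL, Transvec.Orth.q_smul C.hQ, hy, Transvec.Orth.pol_smul_right C.hQ, C.hpol, C.hpol]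
    simp only [LinearMap.smul_apply, LinearMap.sub_apply, LinearMap.smulRight_apply, SF.formL_apply]
    module
  have hsq : ∀ l : F, l ≠ 0 → ∃ g ∈ X, Transvec.Orth.IsSiegel Q g u ((ρ * (l * l)) • y) := by
    intro l hl
    obtain ⟨T₀, hT₀, hT₀c, hT₀x⟩ := C.exists_torus hcs0 hcs hxc hx hl
    obtain ⟨g, hg, hgs⟩ := base
    refine ⟨fac s T₀ * g * (fac s T₀)⁻¹, X.mul_mem (X.mul_mem (hT₀.2 s) hg) (X.inv_mem (hT₀.2 s)), fun z => ?_⟩
    have e := Transvec.Orth.isSiegel_conj C.hQ (C.iso (hT₀.2 s)) hgs z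
    rw [mv_smul] at e
    rw [e, show mv (fac s T₀) u = (l * l) • u by
      simp only [u, mv_fac, hcs', hT₀c, pten_update_smul]; rw [← hcs', Function.update_eq_self],
      show mv (fac s T₀) y = y by
        simp only [y, mv_fac, Function.update_self, hT₀x, Function.update_idem]]
    simp only [Transvec.Orth.pol_smul_right C.hQ, Transvec.Orth.q_smul C.hQ, hy]
    module
  refine ⟨huy, fun t => ?_⟩
  have hsq' : ∀ l : F, ∃ g ∈ X, Transvec.Orth.IsSiegel Q g u ((ρ * (l * l)) • y) := fun l => by
    by_cases hl : l = 0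
    · exact ⟨1, X.one_mem, by rw [hl, mul_zero, mul_zero, zero_smul]; exact Transvec.Orth.isSiegel_zero C.hQ u⟩
    · exact hsq l hl
  obtain ⟨a, ha, has⟩ := hsq' ((t / ρ + 1) / 2)
  obtain ⟨b, hb, hbs⟩ := hsq' ((t / ρ - 1) / 2)
  have hbi : Transvec.Orth.IsSiegel Q b⁻¹ u (-((ρ * ((t / ρ - 1) / 2 * ((t / ρ - 1) / 2))) • y)) := fun z => by
    rw [mv_eq_iff, inv_inv, hbs]
    simp only [Transvec.Orth.pol_add_left C.hQ, Transvec.Orth.pol_sub_left C.hQ, Transvec.Orth.pol_smul_left C.hQ, Transvec.Orth.pol_smul_right C.hQ,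
      ← neg_smul, Transvec.Orth.q_smul C.hQ, hy, Transvec.Orth.pol_self C.hQ, hu, huy, Transvec.Orth.pol_comm y u]
    module
  refine ⟨a * b⁻¹, X.mul_mem ha (X.inv_mem hb), ?_⟩
  have := Transvec.Orth.isSiegel_mul C.hQ hu (by rw [Transvec.Orth.pol_smul_right C.hQ, huy, mul_zero])
    (by rw [← neg_smul, Transvec.Orth.pol_smul_right C.hQ, huy, mul_zero]) has hbi
  convert this using 1
  have h2 := C.two
  match_scalars
  field_simp
  ring

/-- Roots at pure tensors of isotropic vectors, with some anisotropic second vector in any slot. -/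
theorem roots_some (hJ : 2 ≤ Fintype.card J) {s : J} {T : J → ((Fin k → F) →ₗ[F] Fin k → F)}
    (hs : IsA C.hf (T s)) (hT : ∀ u, u ≠ s → IsC C.hf (T u)) (h : Has X (Loc T)) {e : J → Fin k → F}
    (he : ∀ j, e j ≠ 0 ∧ f (e j) (e j) = 0) (a : J) :
    ∃ v, f v (e a) = 0 ∧ f v v ≠ 0 ∧ Sg Q X (pten e) (pten (Function.update e a v)) := by
  classical
  obtain ⟨Ta, hTa, hTa', hHa⟩ : ∃ T' : J → ((Fin k → F) →ₗ[F] Fin k → F), IsA C.hf (T' a) ∧
      (∀ u, u ≠ a → IsC C.hf (T' u)) ∧ Has X (Loc T') := by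
    by_cases hsa : a = s
    · subst hsa; exact ⟨T, hs, hT, h⟩
    have hT' : ∀ j, T j = LinearMap.id ∨ IsC C.hf (T j) ∨ IsA C.hf (T j) := fun j => by
      by_cases e : j = s
      · exact Or.inr (Or.inr (e ▸ hs))
      · exact Or.inr (Or.inl (hT j e))
    obtain ⟨T', h1, h2, h3⟩ := C.pivot hT' (hT a hsa) hs (elem_ne_id (Or.inl (hT a hsa))) hsa h
    refine ⟨T', h1, fun u hu => ((h3 u hu).resolve_left fun e => ?_).2, h2⟩
    by_cases e' : u = s
    · exact elem_ne_id (Or.inr hs) (e' ▸ e.1)
    · exact elem_ne_id (Or.inl (hT u e')) e.1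
  obtain ⟨c, x, hc, hxc, hx, hSg⟩ := C.root_of_full hJ hTa hTa' hHa
  choose g r hg hr hgc using fun j => C.exists_move (hc j).1 (hc j).2 (he j).1 (he j).2
  obtain ⟨g', hg', hy⟩ := C.mv_facs_pten g (fun j => (hg j).2 j) Finset.univ
  have h1 := C.sg_conj hg' hSg
  have hv : f (mv (g a) x) (e a) = 0 := by
    have := (hg a).1 x (c a)
    rw [hgc, C.hf.smul_right', hxc, mul_eq_zero] at this
    exact this.resolve_left (hr a)
  refine ⟨mv (g a) x, hv, by rw [(hg a).1]; exact hx, ?_⟩
  rw [hy, hy] at h1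
  simp only [Finset.mem_univ, if_true] at h1
  set P := ∏ j, r j with hP
  have hP0 : P ≠ 0 := Finset.prod_ne_zero_iff.2 fun j _ => hr j
  have e1 : (pten fun j => mv (g j) (c j)) = P • pten e := by
    funext p; simp only [pten, Pi.smul_apply, smul_eq_mul, hgc, Finset.prod_mul_distrib, hP]
  have e2 : (pten fun j => mv (g j) (Function.update c a x j)) =
      (∏ j ∈ Finset.univ.erase a, r j) • pten (Function.update e a (mv (g a) x)) := by
    funext p
    simp only [pten, Pi.smul_apply, smul_eq_mul, ← Finset.mul_prod_erase Finset.univ _ (Finset.mem_univ a),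
      Function.update_self]
    rw [Finset.prod_congr rfl fun j hj => show mv (g j) (Function.update c a x j) (p j) =
        r j * Function.update e a (mv (g a) x) j (p j) by
      rw [Function.update_of_ne (Finset.ne_of_mem_erase hj), Function.update_of_ne (Finset.ne_of_mem_erase hj),
        hgc]; rfl, Finset.prod_mul_distrib]
    ring
  rw [e1, e2] at h1
  have h2 := (mem_sgSub (hQ := C.hQ) (hu := C.q_pten (j := a) (he a).2)).2 (C.sg_smul_left hP0 h1)
  have hne : (∏ j ∈ Finset.univ.erase a, r j) ≠ 0 := Finset.prod_ne_zero_iff.2 fun j _ => hr j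
  have h3 := Submodule.smul_mem _ (∏ j ∈ Finset.univ.erase a, r j)⁻¹ h2
  rw [smul_smul, inv_mul_cancel₀ hne, one_smul] at h3
  exact mem_sgSub.1 h3

/-- The root elements differing in one slot. -/
def Roots1 (_ : Ctx f Q κ X) : Prop :=
  ∀ (c : J → Fin k → F) (a : J) (v : Fin k → F), (∀ j, c j ≠ 0 ∧ f (c j) (c j) = 0) → f v (c a) = 0 →
    Sg Q X (pten c) (pten (Function.update c a v))

theorem roots1 (hJ : 2 ≤ Fintype.card J) {s : J} {T : J → ((Fin k → F) →ₗ[F] Fin k → F)}
    (hs : IsA C.hf (T s)) (hT : ∀ u, u ≠ s → IsC C.hf (T u)) (h : Has X (Loc T)) : C.Roots1 := by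
  classical
  intro c a z hc hz
  have hf := C.hf
  obtain ⟨v, hvc, hv, hSv⟩ := C.roots_some hJ hs hT h hc a
  have hq : Q (pten c) = 0 := C.q_pten (hc a).2
  set W : Submodule F (Fin k → F) := (sgSub C.hQ hq X).comap (updL c a) with hW
  have memW : ∀ u, u ∈ W ↔ Sg Q X (pten c) (pten (Function.update c a u)) := fun u => Iff.rfl
  suffices z ∈ W from this
  have hvW : v ∈ W := hSv
  have hcW : c a ∈ W := by
    rw [memW, Function.update_eq_self]
    refine ⟨by rw [Transvec.Orth.pol_self C.hQ, hq, mul_zero], fun t => ⟨1, X.one_mem, ?_⟩⟩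
    have h0 := Transvec.Orth.isSiegel_add_self C.hQ hq (Transvec.Orth.pol_zero_right C.hQ _) t (Transvec.Orth.isSiegel_zero C.hQ (pten c))
    rwa [zero_add] at h0
  obtain ⟨d, hd, hcd, hvd⟩ := C.exists_partner_perp (hc a).1 (hc a).2 hvc hv
  obtain ⟨b, hba⟩ := Fintype.exists_ne_of_one_lt_card hJ a
  have step : ∀ {u r}, u ∈ W → f r (c a) = 0 → f r r ≠ 0 → f u r ≠ 0 → r ∈ W := by
    intro u r hu hrc hr hur
    obtain ⟨d', hd', hcd'⟩ := C.toSl.exists_pair (hc b).1 (hc b).2
    obtain ⟨r', hr'c, -, hr'0⟩ := C.toSl.exists_W_aniso (hc b).2 hd' hcd'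
    have hmem := C.pair a b r r' hba.symm hr hr'0
    have h1 := C.sg_conj hmem ((memW u).1 hu)
    simp only [mv_mul, mv_fac, Function.update_of_ne hba, Function.update_of_ne hba.symm,
      Function.update_self, mr_perp hf hr (show f (c a) r = 0 by rw [hf.comm', hrc]),
      mr_perp hf hr'0 (show f (c b) r' = 0 by rw [hf.comm', hr'c])] at h1
    have e1 : Function.update (Function.update c b (-c b)) a (-c a) =
        Function.update (Function.update c b ((-1 : F) • c b)) a ((-1 : F) • c a) := by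
      simp only [neg_one_smul]
    have e2 : Function.update (Function.update (Function.update c a u) b (-c b)) a (mv (mr hf r) u) =
        Function.update (Function.update c a (mv (mr hf r) u)) b ((-1 : F) • c b) := by
      rw [neg_one_smul, Function.update_comm hba, Function.update_idem]
    rw [e1, e2] at h1
    have w1 : pten (Function.update (Function.update c b ((-1 : F) • c b)) a ((-1 : F) • c a)) = pten c := by
      have ea : Function.update c b ((-1 : F) • c b) a = c a := Function.update_of_ne hba.symm _ _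
      rw [pten_update_smul, ← ea, Function.update_eq_self, pten_update_smul, Function.update_eq_self, smul_smul,
        show (-1 : F) * -1 = 1 by ring, one_smul]
    have w2 : pten (Function.update (Function.update c a (mv (mr hf r) u)) b ((-1 : F) • c b)) =
        (-1 : F) • pten (Function.update c a (mv (mr hf r) u)) := by
      rw [pten_update_smul]
      conv_lhs => rw [← show Function.update c a (mv (mr hf r) u) b = c b from Function.update_of_ne hba _ _,
        Function.update_eq_self]
    rw [w1, w2] at h1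
    have h2 : mv (mr hf r) u ∈ W := by
      rw [memW]
      have := Submodule.smul_mem (sgSub C.hQ hq X) (-1 : F) ((mem_sgSub (hQ := C.hQ) (hu := hq)).2 h1)
      rw [smul_smul, show (-1 : F) * -1 = 1 by ring, one_smul] at this
      exact this
    have h4 := W.smul_mem (2 * f u r / f r r)⁻¹ (W.add_mem h2 hu)
    rw [mv_mr hf hr, sub_add_cancel, smul_smul, inv_mul_cancel₀ (div_ne_zero (mul_ne_zero C.two hur) hr),
      one_smul] at h4
    exact h4
  have one : ∀ u, f u (c a) = 0 → f u v = 0 → f u u ≠ -f v v → u ∈ W := by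
    intro u huc huv hu
    have h1 : u + v ∈ W := step hvW (by rw [hf.add_left, huc, hvc, add_zero]) (by
      rw [hf.add_left, hf.add_right, hf.add_right, huv, hf.comm' v u, huv, add_zero, zero_add]
      exact fun e => hu (by linear_combination e)) (by rw [hf.add_right, hf.comm' v u, huv, zero_add]; exact hv)
    have := W.sub_mem h1 hvW
    rwa [add_sub_cancel_right] at this
  have allperp : ∀ u, f u (c a) = 0 → f u v = 0 → u ∈ W := by
    intro u huc huv
    by_cases hu : f u u = -f v v
    swap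
    · exact one u huc huv hu
    set u' := u - f u d • c a with hu'
    have hu'c : f u' (c a) = 0 := by simp [hu', hf.sub_left, hf.smul_left, huc, (hc a).2]
    have hu'd : f u' d = 0 := by simp [hu', hf.sub_left, hf.smul_left, hcd]
    have hu'v : f u' v = 0 := by simp [hu', hf.sub_left, hf.smul_left, huv, hf.comm' (c a) v, hvc]
    have hu'u : f u' u' = -f v v := by
      simp [hu', hf.sub_left, hf.sub_right, hf.smul_left, hf.smul_right', hu, huc, (hc a).2, hf.comm' (c a) u]
    suffices u' ∈ W by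
      have := W.add_mem this (W.smul_mem (f u d) hcW)
      rwa [hu', sub_add_cancel] at this
    by_cases h4 : k = 4
    · exfalso
      have e := C.mnus h4 (c a) d (u' + v) (hc a).2 hd hcd (by rw [hf.add_left, hu'c, hvc, add_zero])
        (by rw [hf.add_left, hu'd, hvd, add_zero]) (by
          rw [hf.add_left, hf.add_right, hf.add_right, hu'u, hu'v, hf.comm' v u', hu'v]; ring)
      have e2 := congrArg (fun w => f w v) e
      simp only [hf.add_left, hu'v, zero_add, hf.zero_left] at e2
      exact hv e2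
    have hk6 : 6 ≤ k := by
      obtain ⟨m, hm⟩ := C.even
      have := C.hk
      omega
    have hn := C.toSl.W_nondeg (hc a).2 hd hcd
    have hvm : v ∈ Wsub hf (c a) d := (mem_Wsub hf).2 ⟨hvc, hvd⟩
    have hu'm : u' ∈ Wsub hf (c a) d ⊓ LinearMap.ker (hf.formL v) :=
      Submodule.mem_inf.2 ⟨(mem_Wsub hf).2 ⟨hu'c, hu'd⟩, hu'v⟩
    have hn1 := perp_nondeg hf hn hvm hv
    have hu'0 : f u' u' ≠ 0 := by rw [hu'u]; exact neg_ne_zero.2 hv
    have hn2 := perp_nondeg hf hn1 hu'm hu'0
    have hd1 := finrank_perp_ge hf (Wsub hf (c a) d) v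
    have hd2 := finrank_perp_ge hf (Wsub hf (c a) d ⊓ LinearMap.ker (hf.formL v)) u'
    have hd0 := C.toSl.finrank_W (hc a).2 hd hcd
    obtain ⟨y, hy, hyq⟩ := Transvec.Orth.exists_anisotropic (qf_nondeg hf C.two)
      (X := Wsub hf (c a) d ⊓ LinearMap.ker (hf.formL v) ⊓ LinearMap.ker (hf.formL u'))
      (fun w hw hh => hn2 w hw fun z hz' => by rw [← pol_qf hf C.two]; exact hh z hz')
      (fun e => by rw [e, finrank_bot] at hd2; omega)
    obtain ⟨hy1, hyu⟩ := Submodule.mem_inf.1 hy
    obtain ⟨hyW, hyv⟩ := Submodule.mem_inf.1 hy1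
    rw [LinearMap.mem_ker, SF.formL_apply] at hyu hyv
    obtain ⟨hyc, -⟩ := (mem_Wsub hf).1 hyW
    have hyy : f y y ≠ 0 := fun e => hyq (by rw [qf, e, zero_div])
    have h1 := one (u' + y) (by rw [hf.add_left, hu'c, hyc, add_zero])
      (by rw [hf.add_left, hu'v, hyv, add_zero]) (by
        rw [hf.add_left, hf.add_right, hf.add_right, hyu, hf.comm' u' y, hyu, hu'u, add_zero, zero_add]
        simpa using hyy)
    exact step h1 hu'c hu'0 (by rw [hf.add_left, hyu, add_zero]; exact hu'0)
  have h1 := allperp (z - (f z v / f v v) • v) (by rw [hf.sub_left, hf.smul_left, hz, hvc, mul_zero, sub_zero])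
    (by rw [hf.sub_left, hf.smul_left, div_mul_cancel₀ _ hv, sub_self])
  have := W.add_mem h1 (W.smul_mem (f z v / f v v) hvW)
  rwa [sub_add_cancel] at this

theorem sg_move (hR : C.Roots1) {c u : J → Fin k → F} (hu : ∀ j, u j ≠ 0 ∧ f (u j) (u j) = 0) {a : J}
    (hua : u a = c a) {v : Fin k → F} (hv : f v (c a) = 0) {hq : Q (pten c) = 0} {w : (J → Fin k) → F}
    (hw : w ∈ sgSub C.hQ hq X) (hQy : Q (pten (Function.update u a v)) = 0) :
    Transvec.Orth.pol Q w (pten u) • pten (Function.update u a v) -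
      Transvec.Orth.pol Q w (pten (Function.update u a v)) • pten u ∈ sgSub C.hQ hq X := by
  obtain ⟨g, hg, hgs⟩ := (hR u a v hu (by rw [hua]; exact hv)).2 1
  rw [one_smul] at hgs
  have hcc : f (c a) (c a) = 0 := hua ▸ (hu a).2
  have hfix : mv g (pten c) = pten c := Transvec.Orth.isSiegel_fix C.hQ hgs
    (by rw [C.pol_pten]; exact Finset.prod_eq_zero (Finset.mem_univ a) (by rw [hua]; exact hcc))
    (by rw [C.pol_pten]; exact Finset.prod_eq_zero (Finset.mem_univ a) (by
      rw [Function.update_self, C.hf.comm', hv]))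
  have h1 : mv g w ∈ sgSub C.hQ hq X := by
    have := C.sg_conj hg (mem_sgSub.1 hw)
    rw [hfix] at this
    exact this
  have h2 := Submodule.sub_mem _ h1 hw
  convert h2 using 1
  rw [hgs, hQy, zero_mul, add_zero]
  abel

theorem sg_orth (hJ : 2 ≤ Fintype.card J) (hR : C.Roots1) {c : J → Fin k → F}
    (hc : ∀ j, c j ≠ 0 ∧ f (c j) (c j) = 0) {a : J} {z : J → Fin k → F} (hza : f (z a) (c a) = 0) :
    Sg Q X (pten c) (pten z) := by
  classical
  have hf := C.hf
  have hq : Q (pten c) = 0 := C.q_pten (hc a).2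
  set W := sgSub C.hQ hq X
  set good : J → (Fin k → F) → Prop := fun l u => f u u = 0 ∧ f u (c l) ≠ 0
  have hspan : ∀ l, ∀ P : Submodule F (Fin k → F), (∀ v, good l v → v ∈ P) → P = ⊤ := fun l P hP =>
    C.toSl.iso_span (hc l).1 (hc l).2 P fun u h1 h2 => hP u ⟨h1, h2⟩
  have hu' : ∀ {b : J} {u : J → Fin k → F}, u b = c b → (∀ l ∈ Finset.univ.erase b, good l (u l)) →
      (∀ j, u j ≠ 0 ∧ f (u j) (u j) = 0) := by
    intro b u hb hu j
    by_cases hj : j = b
    · subst hj; rw [hb]; exact hc j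
    · obtain ⟨h1, h2⟩ := hu j (Finset.mem_erase.2 ⟨hj, Finset.mem_univ j⟩)
      exact ⟨fun e => h2 (by rw [e, hf.zero_left]), h1⟩
  have step1 : ∀ (b : J) (z : J → Fin k → F), z b = c b → pten z ∈ W := by
    intro b z hzb
    refine slot_span W good (Finset.univ.erase b) (fun l _ => hspan l) z fun u hu hg => ?_
    have hub : u b = c b := by rw [hu b (Finset.notMem_erase b _), hzb]
    have huall := hu' hub hg
    obtain ⟨d, hd, hcd⟩ := C.toSl.exists_pair (hc b).1 (hc b).2
    obtain ⟨v, hvc, -, hv⟩ := C.toSl.exists_W_aniso (hc b).2 hd hcd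
    obtain ⟨o, ho⟩ := Fintype.exists_ne_of_one_lt_card hJ b
    have h1 := C.sg_move hR huall hub hvc (hq := hq) (w := pten (Function.update c b v)) (hR c b v hc hvc)
      (C.q_pten (j := o) (by rw [Function.update_of_ne ho]; exact (huall o).2))
    have e0 : Transvec.Orth.pol Q (pten (Function.update c b v)) (pten u) = 0 := by
      rw [C.pol_pten]
      exact Finset.prod_eq_zero (Finset.mem_univ b) (by rw [Function.update_self, hub, hvc])
    have e1 : Transvec.Orth.pol Q (pten (Function.update c b v)) (pten (Function.update u b v)) ≠ 0 := by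
      rw [C.pol_pten, Finset.prod_ne_zero_iff]
      intro j _
      by_cases hj : j = b
      · subst hj; rwa [Function.update_self, Function.update_self]
      · rw [Function.update_of_ne hj, Function.update_of_ne hj, hf.comm']
        exact (hg j (Finset.mem_erase.2 ⟨hj, Finset.mem_univ j⟩)).2
    rw [e0, zero_smul, zero_sub] at h1
    have h2 := W.smul_mem (-(Transvec.Orth.pol Q (pten (Function.update c b v)) (pten (Function.update u b v)))⁻¹) h1
    rw [neg_smul, smul_neg, neg_neg, smul_smul, inv_mul_cancel₀ e1, one_smul] at h2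
    exact h2
  refine slot_span W good (Finset.univ.erase a) (fun l _ => hspan l) z fun y hy hg => ?_
  have hya : y a = z a := hy a (Finset.notMem_erase a _)
  set u := Function.update y a (c a) with hu
  have hua : u a = c a := Function.update_self _ _ _
  have huall := hu' hua fun l hl => by
    rw [hu, Function.update_of_ne (Finset.ne_of_mem_erase hl)]; exact hg l hl
  obtain ⟨d, hd, hcd⟩ := C.toSl.exists_pair (hc a).1 (hc a).2
  obtain ⟨b, hba⟩ := Fintype.exists_ne_of_one_lt_card hJ a
  have hw : pten (Function.update c a d) ∈ W := step1 b _ (Function.update_of_ne hba _ _)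
  have h1 := C.sg_move hR huall hua hza (hq := hq) hw
    (C.q_pten (j := b) (by rw [Function.update_of_ne hba]; exact (huall b).2))
  have eY : Function.update u a (z a) = y := by rw [hu, Function.update_idem, ← hya, Function.update_eq_self]
  have e1 : Transvec.Orth.pol Q (pten (Function.update c a d)) (pten u) ≠ 0 := by
    rw [C.pol_pten, Finset.prod_ne_zero_iff]
    intro j _
    by_cases hj : j = a
    · subst hj
      rw [Function.update_self, hua, hf.comm', hcd]
      exact one_ne_zero
    · rw [Function.update_of_ne hj, hu, Function.update_of_ne hj, hf.comm']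
      exact (hg j (Finset.mem_erase.2 ⟨hj, Finset.mem_univ j⟩)).2
  rw [eY] at h1
  have h2 := W.add_mem h1 (W.smul_mem (Transvec.Orth.pol Q (pten (Function.update c a d)) (pten y)) (step1 a u hua))
  rw [sub_add_cancel] at h2
  have h3 := W.smul_mem (Transvec.Orth.pol Q (pten (Function.update c a d)) (pten u))⁻¹ h2
  rwa [smul_smul, inv_mul_cancel₀ e1, one_smul] at h3

theorem sg_pure (hJ : 2 ≤ Fintype.card J) (hR : C.Roots1) {c : J → Fin k → F}
    (hc : ∀ j, c j ≠ 0 ∧ f (c j) (c j) = 0) {y : (J → Fin k) → F} (hy : Transvec.Orth.pol Q y (pten c) = 0) :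
    Sg Q X (pten c) y := by
  classical
  have hf := C.hf
  haveI : Nonempty J := Fintype.card_pos_iff.1 (by omega)
  have hq : Q (pten c) = 0 := C.q_pten (hc (Classical.arbitrary J)).2
  set W := sgSub C.hQ hq X
  choose e he hce using fun j => C.toSl.exists_pair (hc j).1 (hc j).2
  have hec : ∀ j, f (e j) (c j) = 1 := fun j => by rw [hf.comm', hce]
  have hstep : ∀ (U : Finset J) (z : J → Fin k → F),
      pten z - (∏ i ∈ U, f (z i) (c i)) • pten (fun i => if i ∈ U then e i else z i) ∈ W := by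
    intro U
    induction U using Finset.induction with
    | empty => intro z; simp
    | insert i U hi ih =>
      intro z
      set z' : J → Fin k → F := fun l => if l ∈ U then e l else z l with hz'
      have h1 : pten (Function.update z' i (z i - f (z i) (c i) • e i)) ∈ W := C.sg_orth hJ hR hc (a := i) (by
        rw [Function.update_self, hf.sub_left, hf.smul_left, hec, mul_one, sub_self])
      rw [sub_eq_add_neg, ← neg_smul, pten_update_add, pten_update_smul] at h1
      rw [show Function.update z' i (z i) = z' from by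
          rw [show z i = z' i by simp [hz', hi]]; exact Function.update_eq_self i z',
        show Function.update z' i (e i) = fun l => if l ∈ insert i U then e l else z l from funext fun l => by
          by_cases hl : l = i
          · subst hl; simp
          · simp [hz', hl]] at h1
      have h2 := W.add_mem (ih z) (W.smul_mem (∏ l ∈ U, f (z l) (c l)) h1)
      convert h2 using 1
      rw [Finset.prod_insert hi]
      simp only [← hz']
      module
  let L : ((J → Fin k) → F) →ₗ[F] (J → Fin k) → F := LinearMap.id - (C.hB.formL (pten c)).smulRight (pten e)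
  have htop : W.comap L = ⊤ := by
    refine Submodule.eq_top_iff'.2 fun v => ?_
    rw [← Finset.univ_sum_single v]
    refine Submodule.sum_mem _ fun a _ => ?_
    have e1 : pten (fun j => (Pi.single (a j) (1 : F) : Fin k → F)) = Pi.single a 1 := by
      funext b
      unfold pten
      by_cases hb : b = a
      · subst hb; simp
      · obtain ⟨j, hj⟩ := Function.ne_iff.1 hb
        rw [Pi.single_eq_of_ne hb]
        exact Finset.prod_eq_zero (Finset.mem_univ j) (Pi.single_eq_of_ne hj _)
    rw [show (Pi.single a (v a) : (J → Fin k) → F) = v a • Pi.single a 1 by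
      rw [← Pi.single_smul, smul_eq_mul, mul_one], ← e1]
    refine Submodule.smul_mem _ _ ?_
    show L _ ∈ W
    have h := hstep Finset.univ fun j => Pi.single (a j) (1 : F)
    simp only [Finset.mem_univ, if_true] at h
    rw [← Bt_pten C.hf] at h
    exact h
  have hmem : y ∈ W.comap L := htop ▸ Submodule.mem_top
  have hLy : L y = y := by
    show y - Bt σ₁ f y (pten c) • pten e = y
    rw [← C.hpol, hy, zero_smul, sub_zero]
  rw [Submodule.mem_comap, hLy] at hmem
  exact hmem

theorem omega_le (hJ : 2 ≤ Fintype.card J) (hn : 7 ≤ Fintype.card (J → Fin k)) (hR : C.Roots1) :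
    Geo.omegaGL Q ≤ X := by
  classical
  refine le_of_eq (Transvec.Orth.eq_omega C.hQ hn C.le fun u y hu huy => ?_).symm
  by_cases hu0 : u = 0
  · refine ⟨1, X.one_mem, fun z => ?_⟩
    rw [mv_one, hu0, Transvec.Orth.pol_zero_right C.hQ]
    simp
  haveI : Nonempty J := Fintype.card_pos_iff.1 (by omega)
  have hf := C.hf
  obtain ⟨c₀, -, hc00, hc0⟩ := Transvec.Orth.exists_singular (qf_nondeg hf C.two) (X := (⊤ : Submodule F (Fin k → F))) (by
    rw [finrank_top, Module.finrank_fintype_fun_eq_card, Fintype.card_fin]; exact le_trans (by norm_num) C.hk)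
  have hc0' : f c₀ c₀ = 0 := by
    rw [qf, div_eq_zero_iff] at hc0; exact hc0.resolve_right C.two
  have hspan : ∀ P : Submodule F (Fin k → F), (∀ v, f v v = 0 → v ∈ P) → P = ⊤ := fun P hP =>
    C.toSl.iso_span hc00 hc0' P fun u hu _ => hP u hu
  obtain ⟨x, hxi, hp⟩ : ∃ x : J → Fin k → F, (∀ j, f (x j) (x j) = 0) ∧ Transvec.Orth.pol Q u (pten x) ≠ 0 := by
    by_contra hcon
    push Not at hcon
    refine hu0 (C.hB.nondeg u fun y => ?_)
    have : C.hB.formL u = 0 := eq_of_pten fun z => by
      have hz := slot_span (LinearMap.ker (C.hB.formL u)) (fun _ v => f v v = 0) Finset.univ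
        (fun _ _ => hspan) z fun w _ hw => by
          rw [LinearMap.mem_ker, SF.formL_apply, ← C.hpol, Transvec.Orth.pol_comm]
          exact hcon w fun j => hw j (Finset.mem_univ j)
      rw [LinearMap.zero_apply]
      exact hz
    have := LinearMap.congr_fun this y
    rw [SF.formL_apply, LinearMap.zero_apply] at this
    rw [C.hB.comm', this]
  have hx : ∀ j, x j ≠ 0 ∧ f (x j) (x j) = 0 := fun j =>
    ⟨fun h => hp (by rw [pten_zero_slot h, Transvec.Orth.pol_zero_right C.hQ]), hxi j⟩
  choose p hp0 hxp using fun j => C.toSl.exists_pair (hx j).1 (hx j).2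
  have hd' : Transvec.Orth.pol Q (pten p) (pten x) = 1 := by
    rw [C.pol_pten]; exact Finset.prod_eq_one fun j _ => by rw [hf.comm', hxp]
  have hp' : ∀ j, p j ≠ 0 ∧ f (p j) (p j) = 0 := fun j =>
    ⟨fun h => by have := hxp j; rw [h, hf.zero_right] at this; exact zero_ne_one this, hp0 j⟩
  have j₀ : J := Classical.arbitrary J
  obtain ⟨l, hl⟩ : ∃ l, l = (Transvec.Orth.pol Q u (pten x))⁻¹ := ⟨_, rfl⟩
  have hl0 : l ≠ 0 := hl ▸ inv_ne_zero hp
  have hu1 : Transvec.Orth.pol Q (l • u) (pten x) = 1 := by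
    rw [Transvec.Orth.pol_smul_left C.hQ, hl, inv_mul_cancel₀ hp]
  obtain ⟨yy, hyy, -, hmove⟩ := Transvec.Orth.exists_move_along C.hQ (v := pten x) (u := l • u) (w := pten p)
    (C.q_pten (hxi j₀)) (by rw [Transvec.Orth.q_smul C.hQ, hu, C.q_pten (hp0 j₀), mul_zero]) hu1 hd'
  obtain ⟨g, hg, hgs⟩ := (C.sg_pure hJ hR hx (by rw [Transvec.Orth.pol_comm, hyy])).2 1
  rw [one_smul] at hgs
  have hgu : mv g (l • u) = pten p := hmove g hgs
  obtain ⟨e, he, hes⟩ := (C.sg_pure hJ hR hp' (y := mv g y) (by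
    rw [← hgu, Transvec.Orth.pol_mv C.hQ (C.iso hg), Transvec.Orth.pol_smul_right C.hQ, Transvec.Orth.pol_comm, huy, mul_zero])).2 l⁻¹
  refine ⟨g⁻¹ * e * g, X.mul_mem (X.mul_mem (X.inv_mem hg) he) hg, ?_⟩
  have h2 := Transvec.Orth.isSiegel_conj C.hQ (C.iso (X.inv_mem hg)) hes
  rw [inv_inv, ← hgu, mv_inv_mv, mv_smul, mv_inv_mv] at h2
  intro w
  rw [h2, Transvec.Orth.q_smul C.hQ]
  simp only [Transvec.Orth.pol_smul_right C.hQ, smul_smul]
  field_simp

theorem card_ge (hJ : 2 ≤ Fintype.card J) : 7 ≤ Fintype.card (J → Fin k) := by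
  rw [Fintype.card_fun, Fintype.card_fin]
  calc 7 ≤ 4 ^ 2 := by norm_num
    _ ≤ k ^ 2 := Nat.pow_le_pow_left C.hk 2
    _ ≤ k ^ Fintype.card J := Nat.pow_le_pow_right (by have := C.hk; omega) hJ

/-- No centre: a displacement with an elementary symmetric factor on a proper overgroup vanishes. -/
theorem nr0 (hJ : 2 ≤ Fintype.card J) (hX : ¬ Geo.omegaGL Q ≤ X) (i : J) {c : Fin k → F} (hc0 : c ≠ 0)
    (hc : f c c = 0) {K} (h : Has X (op i K (Cop C.hf c))) : K = 0 := by
  by_contra hK
  obtain ⟨s, T, hs, hT, hH⟩ := C.exists_full i hc0 hc h hK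
  exact hX (C.omega_le hJ (C.card_ge hJ) (C.roots1 hJ hs hT hH))

end Ctx

end Cfsg.Agent.OrthEvenWreath
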