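/-
Tensor powers of a symmetric form of even dimension: the unipotent radical.
-/
import Cfsg.Agent.Lib.OrthWreathEven.Gen
import Cfsg.Agent.Lib.OrthWreath.Qrad

set_option autoImplicit false
set_option linter.unusedSectionVars false

namespace Cfsg.Agent.OrthEvenWreath

open scoped Matrix
open Matrix Cfsg.Agent.Transvec Cfsg.Agent.TensorMax Cfsg.Agent.WreathMax Cfsg.Agent.FormWreath
open Cfsg.Agent.OrthWreath hiding Sl Ctx Base Ind Inv Gd
open Cfsg.Agent.UWreath (top top_ten Loc loc_pten loc_comp loc_id pull Has Additive loc_congr loc_conj_fac loc_conj_pm)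

variable {F : Type*} [Field F] {k : ℕ} {J : Type} [Fintype J] [DecidableEq J]

local notation "σ₁" => RingEquiv.refl F

variable {f : (Fin k → F) → (Fin k → F) → F}

variable [Finite F]

open Cfsg.Agent.FormWreath.Grow (pten_zero_slot)

theorem Aop_neg_left (hf : Sym f) (c w : Fin k → F) : Aop hf (-c) w = -Aop hf c w :=
  LinearMap.ext fun x => by
    simp only [Aop_apply, LinearMap.neg_apply, hf.neg_right, neg_smul, smul_neg]
    abel

theorem Cop_neg (hf : Sym f) (c : Fin k → F) : Cop hf (-c) = Cop hf c :=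
  LinearMap.ext fun x => by simp only [Cop_apply, hf.neg_right, neg_smul, smul_neg, neg_neg]

theorem cj_add' {ι : Type} [Fintype ι] [DecidableEq ι] (g : GL ι F) (X Y : (ι → F) →ₗ[F] ι → F) :
    cj g (X + Y) = cj g X + cj g Y := by
  simp only [cj, LinearMap.add_comp, LinearMap.comp_add]

variable {Q : ((J → Fin k) → F) → F} {κ : F} {X : Subgroup (GL (J → Fin k) F)}

namespace Ctx

variable (C : Ctx f Q κ X)
include C

/-- An elementary operator and a conjugate not commuting on a common vector. -/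
theorem slot_swap {T : (Fin k → F) →ₗ[F] Fin k → F} (hT : IsC C.hf T ∨ IsA C.hf T) :
    ∃ (g : GL (Fin k) F) (c : Fin k → F), Mv f X g ∧ T c = 0 ∧ T (cj g T c) ≠ 0 := by
  have hf := C.hf
  have h2 := C.two
  rcases hT with ⟨r, c, hr, hc0, hc, rfl⟩ | ⟨c, x, hc0, hc, hxc, hx, rfl⟩
  · obtain ⟨d, hd, hcd⟩ := C.toSl.exists_pair hc0 hc
    obtain ⟨x, hxc, hxd, hx⟩ := C.toSl.exists_W_aniso hc hd hcd
    obtain ⟨g, hg, hgc, -⟩ := C.exists_swap hc hd hcd hxc hxd hx
    refine ⟨g, c, hg, by simp [hc], ?_⟩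
    rw [cj_smul, cj_Cop hf hg.1, hgc, Cop_smul, neg_mul_neg]
    simp only [LinearMap.smul_apply, Cop_apply, map_smul, hcd, hf.comm' d c, smul_smul, one_smul, mul_one]
    exact smul_ne_zero (mul_ne_zero (mul_ne_zero hr (mul_ne_zero (div_ne_zero C.hκ h2) (div_ne_zero C.hκ h2))) hr) hc0
  · obtain ⟨d, hd, hcd, hxd⟩ := C.exists_partner_perp hc0 hc hxc hx
    obtain ⟨g, hg, hgc, hgx⟩ := C.exists_swap hc hd hcd hxc hxd hx
    refine ⟨g, c, hg, by simp [hc, hf.comm' c x, hxc], ?_⟩
    rw [cj_Aop hf hg.1, hgc, hgx, Aop_smul_left]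
    simp only [LinearMap.smul_apply, LinearMap.neg_apply, Aop_apply, map_smul, map_neg, map_sub, hcd,
      hf.comm' c x, hxc, hf.smul_left, hf.sub_left, hf.neg_left, hf.neg_right, smul_smul]
    simp only [one_smul, zero_smul, mul_zero, sub_zero, map_zero, smul_zero, zero_smul, zero_sub, neg_neg,
      neg_zero, neg_ne_zero, zero_mul, one_mul, mul_one]
    exact smul_ne_zero (neg_ne_zero.2 (div_ne_zero C.hκ h2)) (neg_ne_zero.2 (smul_ne_zero hx hc0))

theorem two_part {c x : Fin k → F} (hc : f c c = 0) (hxc : f x c = 0) (i : J)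
    (N K N' K' : (Rest i k → F) →ₗ[F] Rest i k → F) (u : (J → Fin k) → F) :
    op i N (Aop C.hf c x) (op i N' (Aop C.hf c x) u + op i K' (Cop C.hf c) u) +
      op i K (Cop C.hf c) (op i N' (Aop C.hf c x) u + op i K' (Cop C.hf c) u) =
      (-f x x) • op i (N ∘ₗ N') (Cop C.hf c) u := by
  have e1 : Aop C.hf c x ∘ₗ Aop C.hf c x = (-f x x) • Cop C.hf c := LinearMap.ext fun v => by
    rw [LinearMap.comp_apply, Aop_Aop C.hf hc hxc hxc, LinearMap.smul_apply]
  have e2 : Aop C.hf c x ∘ₗ Cop C.hf c = 0 := LinearMap.ext fun v => by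
    rw [LinearMap.comp_apply, Aop_Cop C.hf hc hxc, LinearMap.zero_apply]
  have e3 : Cop C.hf c ∘ₗ Aop C.hf c x = 0 := LinearMap.ext fun v => by
    rw [LinearMap.comp_apply, Cop_Aop C.hf hc hxc, LinearMap.zero_apply]
  have h1 := LinearMap.congr_fun (op_comp i N N' (Aop C.hf c x) (Aop C.hf c x)) u
  have h2 := LinearMap.congr_fun (op_comp i N K' (Aop C.hf c x) (Cop C.hf c)) u
  have h3 := LinearMap.congr_fun (op_comp i K N' (Cop C.hf c) (Aop C.hf c x)) u
  have h4 := LinearMap.congr_fun (op_comp i K K' (Cop C.hf c) (Cop C.hf c)) u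
  rw [e1, op_smul_right, LinearMap.smul_apply] at h1
  rw [e2, op_zero_right] at h2
  rw [e3, op_zero_right] at h3
  rw [Cop_sq C.hf hc, op_zero_right] at h4
  simp only [LinearMap.comp_apply, LinearMap.zero_apply] at h1 h2 h3 h4
  rw [map_add, map_add, h1, h2, h3, h4]
  abel

section

variable (hJ : 2 ≤ Fintype.card J) (hX : ¬ Geo.omegaGL Q ≤ X)
include hJ hX

/-- Two skew parts along c and x commute, so each is a scalar. -/
theorem skew_scalar (i : J) {c x : Fin k → F} (hc0 : c ≠ 0) (hc : f c c = 0) (hxc : f x c = 0)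
    (hx : f x x ≠ 0) {N K : (Rest i k → F) →ₗ[F] Rest i k → F}
    (h : Has X (op i N (Aop C.hf c x) + op i K (Cop C.hf c))) : ∃ s : F, N = s • LinearMap.id := by
  set A := Aop C.hf c x with hA
  set Co := Cop C.hf c with hCo
  set S : ((Rest i k → F) →ₗ[F] Rest i k → F) → Prop := fun N => ∃ K, Has X (op i N A + op i K Co)
  have mul : ∀ {g g' : GL (J → Fin k) F} {N K N' K' : (Rest i k → F) →ₗ[F] Rest i k → F},
      (∀ u, mv g u = u + (op i N A + op i K Co) u) → (∀ u, mv g' u = u + (op i N' A + op i K' Co) u) →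
      ∀ u, mv (g * g') u = u + (op i (N + N') A + op i (K + K' + (-f x x) • (N ∘ₗ N')) Co) u := by
    intro g g' N K N' K' hg hg' u
    have e := C.two_part hc hxc i N K N' K' u
    rw [mv_mul, hg', hg]
    simp only [LinearMap.add_apply, map_add, op_add_left, op_smul_left, LinearMap.smul_apply] at e ⊢
    linear_combination (norm := module) e
  have sNeg : ∀ {N}, S N → S (-N) := by
    rintro N ⟨K, g, hg, hgx⟩
    refine ⟨-K + (-f x x) • (N ∘ₗ N), g⁻¹, X.inv_mem hg, fun u => ?_⟩
    obtain ⟨v, rfl⟩ : ∃ v, u = mv g v := ⟨mv g⁻¹ u, (mv_mv_inv g u).symm⟩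
    rw [mv_inv_mv, hgx]
    have e1 := C.two_part hc hxc i (-N) (-K) N K v
    rw [← hA, ← hCo] at e1
    have e2 := LinearMap.congr_fun (op_comp i ((-f x x) • (N ∘ₗ N)) N Co A) v
    have e3 := LinearMap.congr_fun (op_comp i ((-f x x) • (N ∘ₗ N)) K Co Co) v
    rw [show Co ∘ₗ A = 0 from LinearMap.ext fun w => Cop_Aop C.hf hc hxc w, op_zero_right] at e2
    rw [show Co ∘ₗ Co = 0 from Cop_sq C.hf hc, op_zero_right] at e3
    simp only [LinearMap.neg_comp, op_neg_left, op_add_left, op_smul_left, LinearMap.comp_apply, LinearMap.zero_apply,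
      LinearMap.add_apply, LinearMap.smul_apply, LinearMap.neg_apply, map_add] at e1 e2 e3 ⊢
    linear_combination (norm := module) -e1 - e2 - e3
  have hS : Inv C.hf S :=
    { add := fun {N N'} hN hN' => by
        obtain ⟨K, g, hg, hgx⟩ := hN
        obtain ⟨K', g', hg', hgx'⟩ := hN'
        exact ⟨_, g * g', X.mul_mem hg hg', mul hgx hgx'⟩
      neg := sNeg
      inv := fun l {B} hB {N} hN => by
        obtain ⟨K, hH⟩ := hN
        rcases hB with ⟨c', w, h1, h2, rfl⟩ | ⟨z, hz, rfl⟩
        · refine ⟨cj (fac l (eA C.hf c' w)) K, ?_⟩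
          have e := UWreath.Has.conj hH (C.root (l : J) c' w h1 h2)
          rw [← cj_op_other l.2, ← cj_op_other l.2]
          simpa only [cj, LinearMap.add_comp, LinearMap.comp_add] using e
        obtain ⟨d, hd, hcd, hxd⟩ := C.exists_partner_perp hc0 hc hxc hx
        obtain ⟨y, hyc, -, hyx, hy⟩ := C.toSl.exists_W_perp hc hd hcd hxc hxd hx
        refine ⟨cj (fac l (mr C.hf z)) K, ?_⟩
        have e := UWreath.Has.conj hH (C.pair i (l : J) y z (Ne.symm l.2) hy hz)
        rw [show ∀ (a b : GL (J → Fin k) F) Z, mvLin (a * b) ∘ₗ Z ∘ₗ mvLin (a * b)⁻¹ = cj a (cj b Z) from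
            fun a b Z => LinearMap.ext fun u => by
              simp only [LinearMap.comp_apply, cj_apply, _root_.mul_inv_rev]
              show mv (a * b) (Z (mv (b⁻¹ * a⁻¹) u)) = _
              rw [mv_mul, mv_mul]; rfl,
          cj_add', cj_add', hA, hCo, cj_op_other l.2, cj_op_other l.2, cj_op_self, cj_op_self,
          cj_Cop C.hf (mr_isom C.hf hy), cj_Aop C.hf (mr_isom C.hf hy),
          mr_perp C.hf hy (show f c y = 0 by rw [C.hf.comm', hyc]),
          mr_perp C.hf hy (show f x y = 0 by rw [C.hf.comm', hyx]),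
          Aop_neg, Aop_neg_left, neg_neg, Cop_neg] at e
        exact e }
  have comm : ∀ {N N'}, S N → S N' → N ∘ₗ N' = N' ∘ₗ N := by
    rintro N N' ⟨K, g, hg, hgx⟩ ⟨K', g', hg', hgx'⟩
    have h1 := mul hgx hgx'
    have h2 := mul hgx' hgx
    set Z := (-f x x) • (N ∘ₗ N' - N' ∘ₗ N) with hZ
    have hH : Has X (op i Z Co) := by
      refine ⟨(g' * g)⁻¹ * (g * g'), X.mul_mem (X.inv_mem (X.mul_mem hg' hg)) (X.mul_mem hg hg'), fun u => ?_⟩
      rw [mv_mul, mv_eq_iff, inv_inv, h1, mv_add, h2, h2]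
      have e2 := LinearMap.congr_fun (op_comp i (N' + N) Z A Co) u
      have e3 := LinearMap.congr_fun (op_comp i (K' + K + (-f x x) • (N' ∘ₗ N)) Z Co Co) u
      rw [show A ∘ₗ Co = 0 from LinearMap.ext fun w => Aop_Cop C.hf hc hxc w, op_zero_right] at e2
      rw [show Co ∘ₗ Co = 0 from Cop_sq C.hf hc, op_zero_right] at e3
      simp only [hZ, op_add_left, op_smul_left, sub_eq_add_neg, op_neg_left, LinearMap.comp_apply,
        LinearMap.zero_apply, LinearMap.add_apply, LinearMap.smul_apply, LinearMap.neg_apply] at e2 e3 ⊢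
      linear_combination (norm := module) -e2 - e3
    have h0 := C.nr0 hJ hX i hc0 hc hH
    rw [hZ, smul_eq_zero, sub_eq_zero] at h0
    exact h0.resolve_left (neg_ne_zero.2 hx)
  by_contra hns
  obtain ⟨T, hT, ⟨j, hj⟩, K₁, hH₁⟩ := exists_loc C.toSl _ {j // j ≠ i} rfl S hS N ⟨K, h⟩ hns
  have hT₁ : S (Loc T) := ⟨K₁, hH₁⟩
  have hdata : ∀ l, ∃ (g : GL (Fin k) F) (y : Fin k → F), Mv f X g ∧
      (T l ≠ LinearMap.id → T l y = 0 ∧ T l (cj g (T l) y) ≠ 0) ∧
      (T l = LinearMap.id → g = 1 ∧ y ≠ 0) := by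
    intro l
    by_cases hl : T l = LinearMap.id
    · exact ⟨1, c, Mv.one, fun e => absurd hl e, fun _ => ⟨rfl, hc0⟩⟩
    · obtain ⟨g, y, hg, h1, h2⟩ := C.slot_swap ((hT l).resolve_left hl)
      exact ⟨g, y, hg, fun _ => ⟨h1, h2⟩, fun e => absurd e hl⟩
  choose G y hG hy1 hy2 using hdata
  have hT₂ : S (Loc fun l => cj (G l) (T l)) := by
    suffices H : ∀ U : Finset {j // j ≠ i}, S (Loc fun l => if l ∈ U then cj (G l) (T l) else T l) by
      simpa using H Finset.univ
    intro U
    induction U using Finset.induction with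
    | empty => simpa using hT₁
    | insert a U ha ih =>
      obtain ⟨K₂, hK₂⟩ := ih
      have e := UWreath.Has.conj hK₂ ((hG a).2 (a : J))
      refine ⟨cj (fac a (G a)) K₂, ?_⟩
      rw [show (Loc fun l => if l ∈ insert a U then cj (G l) (T l) else T l) =
          cj (fac a (G a)) (Loc fun l => if l ∈ U then cj (G l) (T l) else T l) from by
        rw [cj, UWreath.loc_conj_fac]
        exact UWreath.loc_congr fun l => by
          by_cases hl : l = a
          · subst hl; simp [ha]
          · simp [hl], ← cj_op_other a.2, ← cj_op_other a.2]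
      simpa only [cj, LinearMap.add_comp, LinearMap.comp_add] using e
  have e := LinearMap.congr_fun (comm hT₁ hT₂) (pten y)
  rw [loc_comp, loc_comp, loc_pten, loc_pten] at e
  rw [pten_zero_slot (x := fun l => (cj (G l) (T l) ∘ₗ T l) (y l)) (i := j) (by
    simp only [LinearMap.comp_apply, (hy1 j hj).1, map_zero])] at e
  refine pten_ne_zero (fun l => ?_) e
  by_cases hl : T l = LinearMap.id
  · simp only [LinearMap.comp_apply, (hy2 l hl).1, cj_one', hl, LinearMap.id_apply]
    exact (hy2 l hl).2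
  · exact (hy1 l hl).2

end

/-- Two elements with skew parts along x and y. -/
theorem two_part2 {c x y : Fin k → F} (hc : f c c = 0) (hxc : f x c = 0) (hyc : f y c = 0) (hxy : f x y = 0) (i : J)
    (N L K N' L' K' : (Rest i k → F) →ₗ[F] Rest i k → F) :
    (op i N (Aop C.hf c x) + op i L (Aop C.hf c y) + op i K (Cop C.hf c)) ∘ₗ
      (op i N' (Aop C.hf c x) + op i L' (Aop C.hf c y) + op i K' (Cop C.hf c)) =
      op i ((-f x x) • (N ∘ₗ N') + (-f y y) • (L ∘ₗ L')) (Cop C.hf c) := by
  have hf := C.hf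
  have hAA : ∀ {u v : Fin k → F}, f u c = 0 → f v c = 0 →
      Aop hf c u ∘ₗ Aop hf c v = (-f u v) • Cop hf c := fun hu hv =>
    LinearMap.ext fun w => by rw [LinearMap.comp_apply, Aop_Aop hf hc hu hv, LinearMap.smul_apply]
  have hAC : ∀ {u : Fin k → F}, f u c = 0 → Aop hf c u ∘ₗ Cop hf c = 0 ∧ Cop hf c ∘ₗ Aop hf c u = 0 := fun hu =>
    ⟨LinearMap.ext fun w => Aop_Cop hf hc hu w, LinearMap.ext fun w => Cop_Aop hf hc hu w⟩
  simp only [LinearMap.add_comp, LinearMap.comp_add, op_comp, hAA hxc hxc, hAA hxc hyc, hAA hyc hxc, hAA hyc hyc,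
    hxy, hf.comm' y x, neg_zero, zero_smul, hAC hxc, hAC hyc, Cop_sq hf hc, op_zero_right, add_zero, zero_add,
    op_smul_right, op_add_left, op_smul_left]

variable (hJ : 2 ≤ Fintype.card J) (hX : ¬ Geo.omegaGL Q ≤ X)
include hJ hX

set_option maxHeartbeats 1000000 in
/-- Two slots: the middle part of a member moving two anisotropic directions is a scalar. -/
theorem mid_two (h2J : Fintype.card J = 2) (i : J) {c d x y : Fin k → F} (hc0 : c ≠ 0) (hc : f c c = 0)
    (hd : f d d = 0) (hcd : f c d = 1) (hxc : f x c = 0) (hxd : f x d = 0) (hx : f x x ≠ 0) (hyc : f y c = 0)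
    (hyd : f y d = 0) (hy : f y y ≠ 0) (hxy : f x y = 0) {h : GL (J → Fin k) F} (hh : h ∈ X)
    (hfix : ∀ v, f v c = 0 → f v x = 0 → f v y = 0 → ∀ u, mv h (ins i v u) = ins i v u)
    {Mx My : (Rest i k → F) →ₗ[F] Rest i k → F} (hMx : ∀ u, mv h (ins i x u) = ins i x u + ins i c (Mx u))
    (hMy : ∀ u, mv h (ins i y u) = ins i y u + ins i c (My u)) : ∃ s : F, Mx = s • LinearMap.id := by
  classical
  have hf := C.hf
  have h2 := C.two
  have hdc : f d c = 1 := by rw [hf.comm', hcd]
  have hcx : f c x = 0 := by rw [hf.comm', hxc]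
  have hcy : f c y = 0 := by rw [hf.comm', hyc]
  have hdx : f d x = 0 := by rw [hf.comm', hxd]
  have hdy : f d y = 0 := by rw [hf.comm', hyd]
  have hyx : f y x = 0 := by rw [hf.comm', hxy]
  set Nx := (f x x)⁻¹ • bet hf i (dev h) d x
  set Ny := (f y y)⁻¹ • bet hf i (dev h) d y
  set K := bet hf i (dev h) d d
  have hd1 : ∀ u, mv h (ins i d u) = ins i d u + ins i x (Nx u) + ins i y (Ny u) + ins i c (K u) := by
    intro u
    set z := dev h (ins i d u) with hz
    have hzm : z - ins i x (Nx u) - ins i y (Ny u) ∈ Ln i c := mem_Ln_of_cr hc0 fun φ hφ => by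
      obtain ⟨v, rfl⟩ := hf.frow_surj (fun _ => rfl) φ
      rw [hf.frow_dot, hf.comm'] at hφ
      set v' := v - (f v x / f x x) • x - (f v y / f y y) • y with hv'
      have h0 : cr i (frow f v') z = 0 := by
        refine (Bt_sym hf).nondeg _ fun w => ?_
        have e := C.pres (C.iso hh) (ins i d u) (ins i v' w)
        rw [hfix v' (by simp [hv', hf.sub_left, hf.smul_left, hφ, hxc, hyc])
          (by simp [hv', hf.sub_left, hf.smul_left, hyx, hx])
          (by simp [hv', hf.sub_left, hf.smul_left, hxy, hy]), Bt_ins C.hf, Bt_ins C.hf] at e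
        rw [hz, dev_apply, map_sub, (Bt_sym C.hf).sub_left, e, sub_self]
      rw [hv', sub_eq_add_neg, sub_eq_add_neg, ← neg_smul, ← neg_smul, hf.frow_add, hf.frow_add, hf.frow_smul,
        hf.frow_smul, RingEquiv.refl_apply, RingEquiv.refl_apply] at h0
      simp only [LinearMap.comp_apply, LinearEquiv.coe_coe, ctr_add_vec, ctr_smul_vec, LinearMap.add_apply,
        LinearMap.smul_apply] at h0
      rw [map_sub, map_sub, cr_ins' hf, cr_ins' hf]
      show cr i (frow f v) z - f x v • ((f x x)⁻¹ • cr i (frow f x) z) - f y v • ((f y y)⁻¹ • cr i (frow f y) z) = 0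
      simp only [LinearMap.comp_apply, LinearEquiv.coe_coe]
      rw [hf.comm' x v, hf.comm' y v]
      linear_combination (norm := (match_scalars <;> field_simp <;> ring)) h0
    obtain ⟨m, hm⟩ := mem_Ln_ins hzm
    have hK : K u = m := by
      show cr i (frow f d) z = m
      rw [show z = ins i c m + ins i x (Nx u) + ins i y (Ny u) by rw [hm]; abel, map_add, map_add, cr_ins' hf,
        cr_ins' hf, cr_ins' hf, hcd, hxd, hyd, one_smul, zero_smul, zero_smul, add_zero, add_zero]
    rw [hK, hm, show mv h (ins i d u) = ins i d u + z by rw [hz, dev_apply, add_sub_cancel]]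
    abel
  set Ax := Aop hf c x
  set Ay := Aop hf c y
  set Co := Cop hf c
  set Px := av hf c x
  set Py := av hf c y
  set Zx := (f x x)⁻¹ • Mx + Nx with hZx
  set Zy := (f y y)⁻¹ • My + Ny with hZy
  have hdec : ∀ v, ∃ v', f v' c = 0 ∧ f v' x = 0 ∧ f v' y = 0 ∧
      v = v' + (f v x / f x x) • x + (f v y / f y y) • y + f v c • d := fun v =>
    ⟨v - (f v x / f x x) • x - (f v y / f y y) • y - f v c • d,
      by simp [hf.sub_left, hf.smul_left, hxc, hyc, hdc], by simp [hf.sub_left, hf.smul_left, hdx, hx, hyx],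
      by simp [hf.sub_left, hf.smul_left, hdy, hy, hxy], by abel⟩
  have hh' : mvLin h = LinearMap.id + op i Nx Ax + op i Ny Ay + op i Zx Px + op i Zy Py + op i K Co :=
    ext_ins i fun v u => by
    obtain ⟨v', h1, h3, h4, hv⟩ := hdec v
    show mv h _ = _
    conv_lhs => rw [hv]
    simp only [ins_add_vec, ins_smul_vec, mv_add, mv_smul, hfix v' h1 h3 h4, hMx, hMy, hd1, LinearMap.add_apply,
      LinearMap.id_apply, op_ins, Ax, Ay, Px, Py, Co, Aop_apply, av_apply, Cop_apply]
    conv_rhs => enter [1, 1, 1, 1, 1]; rw [hv]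
    simp only [ins_add_vec, ins_smul_vec, ins_sub_vec, hZx, hZy, LinearMap.add_apply, LinearMap.smul_apply, map_add,
      map_smul]
    match_scalars <;> field_simp <;> ring
  have AA : ∀ {u v : Fin k → F}, f u c = 0 → f v c = 0 →
      Aop hf c u ∘ₗ Aop hf c v = (-f u v) • Co := fun hu hv =>
    LinearMap.ext fun w => by rw [LinearMap.comp_apply, Aop_Aop hf hc hu hv, LinearMap.smul_apply]
  have pA : ∀ {u v : Fin k → F}, f u c = 0 → f v c = 0 →
      av hf c u ∘ₗ Aop hf c v = f u v • Co := fun {u v} hu hv => LinearMap.ext fun w => by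
    simp [Co, hf.sub_left, hf.smul_left, hf.comm' c, hu, hf.comm' v, smul_smul, mul_comm]
  have Ap : ∀ {u v : Fin k → F}, f v c = 0 → Aop hf c v ∘ₗ av hf c u = 0 := fun hv =>
    LinearMap.ext fun w => by simp [hc, hf.comm' c, hv, smul_smul]
  have CP : ∀ u, Co ∘ₗ av hf c u = 0 := fun u => LinearMap.ext fun v => by simp [Co, hc, hf.smul_left]
  have PC : ∀ {u : Fin k → F}, f u c = 0 → av hf c u ∘ₗ Co = 0 := fun hu =>
    LinearMap.ext fun v => by simp [Co, hf.comm' c, hu, hf.smul_left]
  have AC : ∀ {u : Fin k → F}, f u c = 0 → Aop hf c u ∘ₗ Co = 0 := fun hu =>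
    LinearMap.ext fun w => Aop_Cop hf hc hu w
  have CA : ∀ {u : Fin k → F}, f u c = 0 → Co ∘ₗ Aop hf c u = 0 := fun hu =>
    LinearMap.ext fun w => Cop_Aop hf hc hu w
  have CC : Co ∘ₗ Co = 0 := Cop_sq hf hc
  have kill : ∀ (w : Fin k → F) (Z : (Rest i k → F) →ₗ[F] Rest i k → F), f w c = 0 → f w w ≠ 0 →
      mvLin h ∘ₗ mvLin (fac i (eA hf c w)) = mvLin (fac i (eA hf c w)) ∘ₗ mvLin h + f w w • op i Z Co →
      Z = 0 := by
    intro w Z hwc hw hcomm
    set e := fac i (eA hf c w) with he'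
    have hex : e ∈ X := C.root i c w hc hwc
    have he : mvLin e = LinearMap.id + op i LinearMap.id (Aop hf c w) +
        (-f w w / 2) • op i (LinearMap.id : (Rest i k → F) →ₗ[F] Rest i k → F) Co := ext_ins i fun v u => by
      show mv (fac i (eA hf c w)) _ = _
      rw [mv_fac_ins, mv_eA hf C.two hc hwc, Elin_apply, Aop_Aop hf hc hwc hwc]
      simp only [ins_add_vec, ins_smul_vec, LinearMap.add_apply, LinearMap.smul_apply, LinearMap.id_apply, op_ins,
        Co, smul_smul]
      match_scalars <;> ring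
    have hZH : Has X (op i (f w w • Z) Co) := by
      refine ⟨(e * h)⁻¹ * (h * e), X.mul_mem (X.inv_mem (X.mul_mem hex hh)) (X.mul_mem hh hex), fun z => ?_⟩
      rw [mv_mul, mv_eq_iff, inv_inv, mv_mul, mv_mul, mv_add, mv_add, op_smul_left]
      have h1 := LinearMap.congr_fun hcomm z
      simp only [LinearMap.comp_apply, LinearMap.add_apply] at h1
      rw [show mvLin h (mvLin e z) = mv h (mv e z) from rfl, show mvLin e (mvLin h z) = mv e (mv h z) from rfl] at h1
      rw [h1]
      congr 1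
      have h3 : ∀ z, mv h (op i Z Co z) = op i Z Co z := fun z => by
        have := LinearMap.congr_fun (show mvLin h ∘ₗ op i Z Co = op i Z Co by
          rw [hh']
          simp only [LinearMap.add_comp, op_comp, Ax, Ay, Px, Py, AC hxc, AC hyc, PC hxc, PC hyc, CC, op_zero_right,
            LinearMap.id_comp, add_zero]) z
        exact this
      have h4 : ∀ z, mv e (op i Z Co z) = op i Z Co z := fun z => by
        have := LinearMap.congr_fun (show mvLin e ∘ₗ op i Z Co = op i Z Co by
          rw [he]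
          simp only [LinearMap.add_comp, LinearMap.smul_comp, op_comp, AC hwc, CC, op_zero_right, smul_zero,
            LinearMap.id_comp, add_zero]) z
        exact this
      rw [LinearMap.smul_apply, mv_smul, mv_smul, h3, h4]
    exact (smul_eq_zero.1 (C.nr0 hJ hX i hc0 hc hZH)).resolve_left hw
  have heL : ∀ w, f w c = 0 → mvLin (fac i (eA hf c w)) = LinearMap.id + op i LinearMap.id (Aop hf c w) +
      (-f w w / 2) • op i (LinearMap.id : (Rest i k → F) →ₗ[F] Rest i k → F) Co := fun w hwc => ext_ins i fun v u => by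
    show mv (fac i (eA hf c w)) _ = _
    rw [mv_fac_ins, mv_eA hf C.two hc hwc, Elin_apply, Aop_Aop hf hc hwc hwc]
    simp only [ins_add_vec, ins_smul_vec, LinearMap.add_apply, LinearMap.smul_apply, LinearMap.id_apply, op_ins,
      Co, smul_smul]
    match_scalars <;> ring
  have hZx0 : Zx = 0 := kill x Zx hxc hx (by
    rw [hh', heL x hxc]
    simp only [LinearMap.add_comp, LinearMap.comp_add, LinearMap.smul_comp, LinearMap.comp_smul, op_comp, Ax, Ay, Px,
      Py, AA hxc hxc, AA hxc hyc, AA hyc hxc, pA hxc hxc, pA hyc hxc, Ap hxc, hxy, hyx, neg_zero, zero_smul,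
      CP, PC hxc, PC hyc, AC hxc, AC hyc, CA hxc, CA hyc, CC, op_zero_right, op_smul_right, smul_zero, add_zero,
      LinearMap.id_comp, LinearMap.comp_id]
    module)
  have hZy0 : Zy = 0 := kill y Zy hyc hy (by
    rw [hh', heL y hyc]
    simp only [LinearMap.add_comp, LinearMap.comp_add, LinearMap.smul_comp, LinearMap.comp_smul, op_comp, Ax, Ay, Px,
      Py, AA hyc hyc, AA hxc hyc, AA hyc hxc, pA hxc hyc, pA hyc hyc, Ap hyc, hxy, hyx, neg_zero, zero_smul,
      CP, PC hxc, PC hyc, AC hxc, AC hyc, CA hxc, CA hyc, CC, op_zero_right, op_smul_right, smul_zero, add_zero,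
      LinearMap.id_comp, LinearMap.comp_id]
    module)
  -- the family of pairs of skew parts
  set S : ((Rest i k → F) →ₗ[F] Rest i k → F) → ((Rest i k → F) →ₗ[F] Rest i k → F) → Prop :=
    fun N L => ∃ K, Has X (op i N Ax + op i L Ay + op i K Co)
  have sAdd : ∀ {N L N' L'}, S N L → S N' L' → S (N + N') (L + L') := by
    rintro N L N' L' ⟨K, g, hg, hgx⟩ ⟨K', g', hg', hgx'⟩
    refine ⟨K + K' + ((-f x x) • (N ∘ₗ N') + (-f y y) • (L ∘ₗ L')), g * g', X.mul_mem hg hg', fun u => ?_⟩
    have e := LinearMap.congr_fun (C.two_part2 hc hxc hyc hxy i N L K N' L' K') u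
    rw [mv_mul, hgx', hgx]
    simp only [LinearMap.comp_apply, LinearMap.add_apply, map_add, op_add_left, op_smul_left, LinearMap.smul_apply, Ax,
      Ay, Co] at e ⊢
    linear_combination (norm := module) e
  have sNeg : ∀ {N L}, S N L → S (-N) (-L) := by
    rintro N L ⟨K, g, hg, hgx⟩
    set R := (-f x x) • (N ∘ₗ N) + (-f y y) • (L ∘ₗ L) with hR
    refine ⟨-K + R, g⁻¹, X.inv_mem hg, fun u => ?_⟩
    rw [mv_eq_iff, inv_inv, hgx]
    have e := LinearMap.congr_fun (C.two_part2 hc hxc hyc hxy i N L K (-N) (-L) (-K + R)) u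
    simp only [LinearMap.comp_neg, smul_neg, LinearMap.comp_apply, LinearMap.add_apply, LinearMap.neg_apply, map_add,
      map_neg, op_add_left, op_neg_left, op_smul_left, LinearMap.smul_apply, Ax, Ay, Co, hR] at e ⊢
    linear_combination (norm := module) -e
  have sRoot : ∀ (l : {j // j ≠ i}) (c' w : Fin k → F), f c' c' = 0 → f w c' = 0 → ∀ {N L}, S N L →
      S (cj (fac l (eA hf c' w)) N) (cj (fac l (eA hf c' w)) L) := by
    rintro l c' w h1 h3 N L ⟨K, hH⟩
    refine ⟨cj (fac l (eA hf c' w)) K, ?_⟩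
    have e := UWreath.Has.conj hH (C.root (l : J) c' w h1 h3)
    rw [← cj_op_other l.2, ← cj_op_other l.2, ← cj_op_other l.2]
    simpa only [cj, LinearMap.add_comp, LinearMap.comp_add] using e
  have sDD : ∀ (l : {j // j ≠ i}) (c' w : Fin k → F), f c' c' = 0 → f w c' = 0 → ∀ {N L}, S N L →
      S (dd hf l c' w N) (dd hf l c' w L) := by
    intro l c' w h1 h3 N L hS
    have e := sAdd (sAdd (sAdd (sRoot l c' w h1 h3 hS) (sRoot l c' (-w) h1 (by rw [hf.neg_left, h3, neg_zero]) hS))
      (sNeg hS)) (sNeg hS)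
    simpa only [dd, sub_eq_add_neg] using e
  have hS₀ : S Nx Ny := ⟨K, h, hh, fun u => by
    have := LinearMap.congr_fun hh' u
    rw [hZx0, hZy0, op_zero_left, op_zero_left, add_zero, add_zero] at this
    simp only [LinearMap.add_apply, LinearMap.id_apply] at this ⊢
    show mv h u = _
    rw [show mvLin h u = mv h u from rfl] at this
    rw [this]; abel⟩
  obtain ⟨l⟩ : Nonempty {j // j ≠ i} := Fintype.card_pos_iff.1 (by
    rw [Fintype.card_subtype_compl, Fintype.card_subtype_eq]; omega)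
  have hcc : ∀ c', f c' c' = 0 → bet hf l Nx c' c' = 0 := by
    intro c' hc'
    by_cases hc'0 : c' = 0
    · simp [hc'0]
    obtain ⟨d', hd', hcd'⟩ := C.toSl.exists_pair hc'0 hc'
    obtain ⟨x', hx'c, hx'd, hx'⟩ := C.toSl.exists_W_aniso hc' hd' hcd'
    obtain ⟨y', hy'c, -, hy'x, hy'⟩ := C.toSl.exists_W_perp hc' hd' hcd' hx'c hx'd hx'
    have e1 := sDD l c' y' hc' hy'c (sDD l c' x' hc' hx'c hS₀)
    rw [dd_dd hf h2 l hc' hx'c hy'c (by rw [hf.comm', hy'x]), dd_dd hf h2 l hc' hx'c hy'c (by rw [hf.comm', hy'x])] at e1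
    set α := (2 * (f x' x' * f y' y')) • bet hf l Nx c' c'
    set β := (2 * (f x' x' * f y' y')) • bet hf l Ny c' c'
    have hm := C.pair i (l : J) y x' (Ne.symm l.2) hy hx'
    have hmC : ∀ R : (Rest l k → F) →ₗ[F] Rest l k → F,
        cj (fac l (mr hf x')) (op l R (Cop hf c')) = op l R (Cop hf c') := fun R => by
      rw [cj_op_self, cj_Cop hf (mr_isom hf hx'), mr_perp hf hx' (by rw [hf.comm', hx'c]),
        Cop_neg]
    have e2 : S (op l α (Cop hf c')) (-op l β (Cop hf c')) := by
      obtain ⟨K₁, hH⟩ := e1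
      refine ⟨cj (fac l (mr hf x')) K₁, ?_⟩
      have e := UWreath.Has.conj hH hm
      have hab : ∀ Z, mvLin (fac i (mr hf y) * fac (l : J) (mr hf x')) ∘ₗ Z ∘ₗ
          mvLin (fac i (mr hf y) * fac (l : J) (mr hf x'))⁻¹ =
          cj (fac i (mr hf y)) (cj (fac (l : J) (mr hf x')) Z) := fun Z => LinearMap.ext fun u => by
        simp only [LinearMap.comp_apply, cj_apply, _root_.mul_inv_rev]
        show mv (_ * _) (Z (mv (_ * _) u)) = _
        rw [mv_mul, mv_mul]
        rfl
      rw [hab] at e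
      simp only [cj_add', cj_op_other l.2, cj_op_self, hmC, cj_Cop hf (mr_isom hf hy), cj_Aop hf (mr_isom hf hy),
        Ax, Ay, Co, mr_perp hf hy hcy, mr_perp hf hy hxy, mr_self hf hy] at e
      have eA1 : Aop hf (-c) (-x) = Aop hf c x := by rw [Aop_neg, Aop_neg_left, neg_neg]
      have eA2 : Aop hf (-c) y = -Aop hf c y := Aop_neg_left hf c y
      have eC : Cop hf (-c) = Cop hf c := Cop_neg hf c
      rw [eA1, eA2, eC, show op i (op l β (Cop hf c')) (-Aop hf c y) = op i (-op l β (Cop hf c')) (Aop hf c y) by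
        rw [← neg_one_smul F (Aop hf c y), op_smul_right, op_neg_left]; exact neg_one_smul F (op i (op l β (Cop hf c')) (Aop hf c y))] at e
      exact e
    obtain ⟨K₂, h3⟩ := sAdd e1 e2
    rw [← op_add_left, add_neg_cancel, op_zero_left, add_zero] at h3
    obtain ⟨s, hs⟩ := C.skew_scalar hJ hX i hc0 hc hxc hx (N := op l (α + α) (Cop hf c')) (K := K₂) h3
    have hαα : α + α = 0 := by
      have hs0 : s = 0 := by
        obtain ⟨p⟩ : Nonempty (Rest (J := {j // j ≠ i}) l k) := ⟨fun _ => ⟨0, by have := C.hk; omega⟩⟩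
        have := LinearMap.congr_fun hs (ins l c' (Pi.single p 1))
        rw [op_ins, Cop_apply, hc', zero_smul, ins_zero_vec, LinearMap.smul_apply, LinearMap.id_apply] at this
        refine (smul_eq_zero.1 this.symm).resolve_right fun e0 => ?_
        exact Pi.single_ne_zero_iff.2 (one_ne_zero (α := F)) (ins_injective l hc'0 (e0.trans (map_zero _).symm))
      rw [hs0, zero_smul] at hs
      refine op_zero_iff (T := Cop hf c') (fun e0 => ?_) hs
      have := LinearMap.congr_fun e0 d'
      rw [Cop_apply, hf.comm', hcd', one_smul] at this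
      exact hc'0 this
    rw [← two_smul F, smul_eq_zero, smul_eq_zero] at hαα
    exact (hαα.resolve_left h2).resolve_left (mul_ne_zero h2 (mul_ne_zero hx' hy'))
  obtain ⟨c₁, hc₁0, hc₁⟩ : ∃ c₁ : Fin k → F, c₁ ≠ 0 ∧ f c₁ c₁ = 0 := ⟨c, hc0, hc⟩
  obtain ⟨L, hL⟩ := C.toSl.scalar_sym (bet hf l Nx) hcc ⟨c₁, hc₁0, hc₁⟩
  -- one slot is left
  haveI hE : IsEmpty {a : {j // j ≠ i} // a ≠ l} := Fintype.card_eq_zero_iff.1 (by
    rw [Fintype.card_subtype_compl, Fintype.card_subtype_eq, Fintype.card_subtype_compl, Fintype.card_subtype_eq]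
    omega)
  have hone : ∀ T : (Rest (J := {j // j ≠ i}) l k → F) →ₗ[F] Rest (J := {j // j ≠ i}) l k → F,
      ∃ r : F, T = r • LinearMap.id := fun T => ⟨T (fun _ => 1) isEmptyElim, LinearMap.ext fun u => by
    have e : u = u isEmptyElim • fun _ => (1 : F) := funext fun a => by
      rw [Subsingleton.elim a isEmptyElim]; simp
    conv_lhs => rw [e, map_smul]
    funext a
    rw [Subsingleton.elim a isEmptyElim]
    simp [mul_comm]⟩
  have hadj : ∀ u v, Bt σ₁ f (Nx u) v = Bt σ₁ f u (Nx v) := by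
    intro u v
    have e := C.pres (C.iso hh) (ins i x u) (ins i d v)
    rw [hMx, hd1] at e
    simp only [C.hB.add_left, C.hB.add_right, Bt_ins_ins hf, hxd, hxy, hcd, hcx, hcy, hc, hxc, mul_zero, zero_mul,
      add_zero, zero_add, one_mul] at e
    have hM : Mx u = -(f x x • Nx u) := by
      have e0 := LinearMap.congr_fun (hZx.symm.trans hZx0) u
      simp only [LinearMap.add_apply, LinearMap.smul_apply, LinearMap.zero_apply] at e0
      rw [add_eq_zero_iff_eq_neg, inv_smul_eq_iff₀ hx, smul_neg] at e0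
      exact e0
    rw [hM, (Bt_sym hf).neg_left, (Bt_sym hf).smul_left] at e
    refine mul_left_cancel₀ hx ?_
    linear_combination -e
  have hsymb : ∀ a b, bet hf l Nx a b = bet hf l Nx b a := by
    intro a b
    obtain ⟨r, hr⟩ := hone (bet hf l Nx a b)
    obtain ⟨r', hr'⟩ := hone (bet hf l Nx b a)
    set u₀ : Rest (J := {j // j ≠ i}) l k → F := fun _ => 1
    obtain ⟨w, hw⟩ : ∃ w, Bt σ₁ f u₀ w ≠ 0 := by
      by_contra hcon; push Not at hcon
      exact one_ne_zero (congrFun ((Bt_sym hf).nondeg u₀ hcon) isEmptyElim)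
    have e := hadj (ins l a u₀) (ins l b w)
    rw [Bt_ins hf l (Nx (ins l a u₀)), (Bt_sym hf).comm' (ins l a u₀), Bt_ins hf l (Nx (ins l b w))] at e
    have e1 : Bt σ₁ f (bet hf l Nx a b u₀) w = Bt σ₁ f (bet hf l Nx b a w) u₀ := e
    rw [hr, hr'] at e1
    simp only [LinearMap.smul_apply, LinearMap.id_apply, (Bt_sym hf).smul_left] at e1
    rw [(Bt_sym hf).comm' w u₀] at e1
    rw [hr, hr', mul_right_cancel₀ hw e1]
  obtain ⟨r, hr⟩ := hone L
  have hN : Nx = r • LinearMap.id := by
    rw [← op_id l r, ← hr]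
    refine bet_inj hf l fun a b => ?_
    rw [bet_op, LinearMap.id_apply]
    have e := hL a b
    rw [hsymb b a, ← two_smul F, mul_smul] at e
    exact smul_right_injective _ h2 e
  refine ⟨-(f x x * r), ?_⟩
  rw [hZx, add_eq_zero_iff_eq_neg, inv_smul_eq_iff₀ hx, hN] at hZx0
  rw [hZx0]
  module


/-- A member fixing a line and all its orthogonal vectors is trivial. -/
theorem fix_perp (i : J) {c : Fin k → F} (hc0 : c ≠ 0) (hc : f c c = 0) {g : GL (J → Fin k) F} (hg : g ∈ X)
    (h : ∀ v, f v c = 0 → ∀ u, mv g (ins i v u) = ins i v u) : g = 1 := by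
  obtain ⟨d, hd, hcd⟩ := C.toSl.exists_pair hc0 hc
  set K := bet C.hf i (dev g) d d
  have hd1 : ∀ u, mv g (ins i d u) = ins i d u + ins i c (K u) := by
    intro u
    have hz : dev g (ins i d u) ∈ Ln i c := mem_Ln_of_cr hc0 fun φ hφ => by
      obtain ⟨v, rfl⟩ := C.hf.frow_surj (fun _ => rfl) φ
      rw [C.hf.frow_dot, C.hf.comm'] at hφ
      refine (Bt_sym C.hf).nondeg _ fun w => ?_
      have e := C.pres (C.iso hg) (ins i d u) (ins i v w)
      rw [h v hφ, Bt_ins C.hf, Bt_ins C.hf] at e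
      rw [dev_apply, map_sub, (Bt_sym C.hf).sub_left, e, sub_self]
    obtain ⟨m, hm⟩ := mem_Ln_ins hz
    have hK : K u = m := by
      show cr i (frow f d) (dev g (ins i d u)) = m
      rw [← hm, cr_ins' C.hf, hcd, one_smul]
    rw [hK, hm, dev_apply, add_sub_cancel]
  have hH : Has X (op i K (Cop C.hf c)) := ⟨g, hg, fun y => by
    have e : mvLin g = LinearMap.id + op i K (Cop C.hf c) := ext_ins i fun v u => by
      obtain ⟨v', r, hv', rfl⟩ : ∃ v' r, f v' c = 0 ∧ v = v' + r • d :=
        ⟨v - f v c • d, f v c, by simp [C.hf.sub_left, C.hf.smul_left, C.hf.comm' d c, hcd], by abel⟩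
      show mv g _ = _
      simp only [ins_add_vec, ins_smul_vec, mv_add, mv_smul, h v' hv', hd1, LinearMap.add_apply,
        LinearMap.id_apply, map_add, map_smul, op_ins, Cop_apply, C.hf.comm' d c, hcd, hv', zero_smul, one_smul]
      rw [show ins i (0 : Fin k → F) (K u) = 0 by simp [ins_apply, ten_zero_right]]
      module
    exact LinearMap.congr_fun e y⟩
  have hK0 := C.nr0 hJ hX i hc0 hc hH
  exact ext_ins_mv i fun v u => by
    obtain ⟨v', r, hv', rfl⟩ : ∃ v' r, f v' c = 0 ∧ v = v' + r • d :=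
      ⟨v - f v c • d, f v c, by simp [C.hf.sub_left, C.hf.smul_left, C.hf.comm' d c, hcd], by abel⟩
    rw [mv_one]
    simp only [ins_add_vec, ins_smul_vec, mv_add, mv_smul, h v' hv', hd1, hK0, LinearMap.zero_apply, map_zero,
      add_zero]

/-- The middle part of a member moving one anisotropic direction is a scalar. -/
theorem mid_scalar (i : J) {c x : Fin k → F} (hc0 : c ≠ 0) (hc : f c c = 0) (hxc : f x c = 0)
    (hx : f x x ≠ 0) {h : GL (J → Fin k) F} (hh : h ∈ X) (hfix : ∀ v, f v c = 0 → f v x = 0 → ∀ u,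
      mv h (ins i v u) = ins i v u)
    {M : (Rest i k → F) →ₗ[F] Rest i k → F} (hM : ∀ u, mv h (ins i x u) = ins i x u + ins i c (M u)) :
    ∃ s : F, M = s • LinearMap.id := by
  have hf := C.hf
  obtain ⟨d, hd, hcd, hxd⟩ := C.exists_partner_perp hc0 hc hxc hx
  have hdc : f d c = 1 := by rw [hf.comm', hcd]
  have hcx : f c x = 0 := by rw [hf.comm', hxc]
  have hdx : f d x = 0 := by rw [hf.comm', hxd]
  set N := (f x x)⁻¹ • bet hf i (dev h) d x
  set K := bet hf i (dev h) d d
  have hd1 : ∀ u, mv h (ins i d u) = ins i d u + ins i x (N u) + ins i c (K u) := by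
    intro u
    set z := dev h (ins i d u) with hz
    have hzm : z - ins i x (N u) ∈ Ln i c := mem_Ln_of_cr hc0 fun φ hφ => by
      obtain ⟨v, rfl⟩ := hf.frow_surj (fun _ => rfl) φ
      rw [hf.frow_dot, hf.comm'] at hφ
      have hv' : cr i (frow f (v - (f v x / f x x) • x)) z = 0 := by
        refine (Bt_sym hf).nondeg _ fun w => ?_
        have h1 : f (v - (f v x / f x x) • x) c = 0 := by rw [hf.sub_left, hf.smul_left, hφ, hxc]; ring
        have h2 : f (v - (f v x / f x x) • x) x = 0 := by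
          rw [hf.sub_left, hf.smul_left, div_mul_cancel₀ _ hx, sub_self]
        have e := C.pres (C.iso hh) (ins i d u) (ins i (v - (f v x / f x x) • x) w)
        rw [hfix _ h1 h2, Bt_ins C.hf, Bt_ins C.hf] at e
        rw [hz, dev_apply, map_sub, (Bt_sym C.hf).sub_left, e, sub_self]
      rw [sub_eq_add_neg, ← neg_smul, hf.frow_add, hf.frow_smul, RingEquiv.refl_apply] at hv'
      simp only [LinearMap.comp_apply, LinearEquiv.coe_coe, ctr_add_vec, ctr_smul_vec, LinearMap.add_apply,
        LinearMap.smul_apply] at hv'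
      rw [map_sub, cr_ins' hf]
      show cr i (frow f v) z - f x v • ((f x x)⁻¹ • cr i (frow f x) z) = 0
      simp only [LinearMap.comp_apply, LinearEquiv.coe_coe]
      rw [hf.comm' x v]
      linear_combination (norm := (match_scalars <;> field_simp <;> ring)) hv'
    obtain ⟨m, hm⟩ := mem_Ln_ins hzm
    have hK : K u = m := by
      show cr i (frow f d) z = m
      rw [show z = ins i c m + ins i x (N u) by rw [hm]; abel, map_add, cr_ins' hf, cr_ins' hf, hcd, hxd,
        one_smul, zero_smul, add_zero]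
    rw [hK, hm, show mv h (ins i d u) = ins i d u + z by rw [hz, dev_apply, add_sub_cancel]]
    abel
  set A := Aop hf c x
  set Co := Cop hf c
  set P := av hf c x
  set Z := (f x x)⁻¹ • M + N with hZ
  have hins0 : ∀ w, ins i (0 : Fin k → F) w = (0 : (J → Fin k) → F) := fun w => by simp [ins_apply, ten_zero_right]
  have hdec : ∀ v, ∃ v', f v' c = 0 ∧ f v' x = 0 ∧ v = v' + (f v x / f x x) • x + f v c • d := fun v =>
    ⟨v - (f v x / f x x) • x - f v c • d, by simp [hf.sub_left, hf.smul_left, hxc, hdc],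
      by simp [hf.sub_left, hf.smul_left, hdx, hx], by abel⟩
  have hh' : mvLin h = LinearMap.id + op i N A + op i Z P + op i K Co := ext_ins i fun v u => by
    obtain ⟨v', h1, h2, hv⟩ := hdec v
    show mv h _ = _
    conv_lhs => rw [hv]
    simp only [ins_add_vec, ins_smul_vec, mv_add, mv_smul, hfix v' h1 h2, hM, hd1, LinearMap.add_apply,
      LinearMap.id_apply, op_ins, A, P, Co, Aop_apply, av_apply, Cop_apply]
    conv_rhs => enter [1, 1, 1]; rw [hv]
    simp only [ins_add_vec, ins_smul_vec, ins_sub_vec, hZ, LinearMap.add_apply, LinearMap.smul_apply, map_add,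
      map_smul]
    match_scalars <;> field_simp <;> ring
  set e := fac i (eA hf c x)
  have hex : e ∈ X := C.root i c x hc hxc
  have he : mvLin e = LinearMap.id + op i LinearMap.id A +
      (-f x x / 2) • op i (LinearMap.id : (Rest i k → F) →ₗ[F] Rest i k → F) Co := ext_ins i fun v u => by
    show mv (fac i (eA hf c x)) _ = _
    rw [mv_fac_ins, mv_eA hf C.two hc hxc, Elin_apply, Aop_Aop hf hc hxc hxc]
    simp only [ins_add_vec, ins_smul_vec, LinearMap.add_apply, LinearMap.smul_apply, LinearMap.id_apply, op_ins,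
      A, Co, smul_smul]
    match_scalars <;> ring
  have pA : P ∘ₗ A = f x x • Co := LinearMap.ext fun v => by
    simp [P, A, Co, hf.sub_left, hf.smul_left, hcx, smul_smul, mul_comm]
  have Ap : A ∘ₗ P = 0 := LinearMap.ext fun v => by simp [P, A, hc, hcx, smul_smul]
  have CP : Co ∘ₗ P = 0 := LinearMap.ext fun v => by simp [P, Co, hc, hf.smul_left]
  have PC : P ∘ₗ Co = 0 := LinearMap.ext fun v => by simp [P, Co, hcx, hf.smul_left]
  have AC : A ∘ₗ Co = 0 := LinearMap.ext fun w => Aop_Cop hf hc hxc w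
  have CA : Co ∘ₗ A = 0 := LinearMap.ext fun w => Cop_Aop hf hc hxc w
  have CC : Co ∘ₗ Co = 0 := Cop_sq hf hc
  have hcomm : mvLin h ∘ₗ mvLin e = mvLin e ∘ₗ mvLin h + f x x • op i Z Co := by
    rw [hh', he]
    simp only [LinearMap.add_comp, LinearMap.comp_add, LinearMap.smul_comp, LinearMap.comp_smul, op_comp, pA, Ap,
      CP, PC, AC, CA, CC, op_zero_right, op_smul_right, smul_zero, add_zero, LinearMap.id_comp, LinearMap.comp_id]
    module
  have hZH : Has X (op i (f x x • Z) Co) := by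
    refine ⟨(e * h)⁻¹ * (h * e), X.mul_mem (X.inv_mem (X.mul_mem hex hh)) (X.mul_mem hh hex), fun y => ?_⟩
    rw [mv_mul, mv_eq_iff, inv_inv, mv_mul, mv_mul, mv_add, mv_add, op_smul_left]
    have h1 := LinearMap.congr_fun hcomm y
    simp only [LinearMap.comp_apply, LinearMap.add_apply] at h1
    rw [show mvLin h (mvLin e y) = mv h (mv e y) from rfl, show mvLin e (mvLin h y) = mv e (mv h y) from rfl] at h1
    rw [h1]
    congr 1
    have h2 : ∀ z, mv h (op i Z Co z) = op i Z Co z := fun z => by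
      have := LinearMap.congr_fun (show mvLin h ∘ₗ op i Z Co = op i Z Co by
        rw [hh']
        simp only [LinearMap.add_comp, op_comp, AC, PC, CC, op_zero_right, LinearMap.id_comp, add_zero]) z
      exact this
    have h3 : ∀ z, mv e (op i Z Co z) = op i Z Co z := fun z => by
      have := LinearMap.congr_fun (show mvLin e ∘ₗ op i Z Co = op i Z Co by
        rw [he]
        simp only [LinearMap.add_comp, LinearMap.smul_comp, op_comp, AC, CC, op_zero_right, smul_zero,
          LinearMap.id_comp, add_zero]) z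
      exact this
    rw [LinearMap.smul_apply, mv_smul, mv_smul, h2, h3]
  have hZ0 : Z = 0 := (smul_eq_zero.1 (C.nr0 hJ hX i hc0 hc hZH)).resolve_left hx
  obtain ⟨s, hs⟩ := C.skew_scalar hJ hX i hc0 hc hxc hx (N := N) (K := K) ⟨h, hh, fun y => by
    have := LinearMap.congr_fun hh' y
    rw [hZ0, op_zero_left, add_zero] at this
    simp only [LinearMap.add_apply, LinearMap.id_apply] at this ⊢
    rw [add_assoc] at this
    exact this⟩
  refine ⟨-(f x x * s), ?_⟩
  rw [hZ, add_eq_zero_iff_eq_neg, inv_smul_eq_iff₀ hx] at hZ0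
  rw [hZ0, hs]
  module

/-- A member trivial on a line and on its orthogonal modulo the line is a root element of that slot. -/
theorem qrad (i : J) {c : Fin k → F} (hc0 : c ≠ 0) (hc : f c c = 0) {g : GL (J → Fin k) F} (hg : g ∈ X)
    (hfix : ∀ u, mv g (ins i c u) = ins i c u)
    (hmid : ∀ v, f v c = 0 → ∀ u, mv g (ins i v u) - ins i v u ∈ Ln i c) :
    ∃ w, f w c = 0 ∧ g = fac i (eA C.hf c w) := by
  classical
  have hf := C.hf
  have h2 := C.two
  obtain ⟨d, hd, hcd⟩ := C.toSl.exists_pair hc0 hc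
  set M := fun v : Fin k → F => bet hf i (dev g) v d with hMdef
  have hM : ∀ v, f v c = 0 → ∀ u, mv g (ins i v u) = ins i v u + ins i c (M v u) := by
    intro v hv u
    obtain ⟨m, hm⟩ := mem_Ln_ins (hmid v hv u)
    have : M v u = m := by
      show cr i (frow f d) (dev g (ins i v u)) = m
      rw [dev_apply, ← hm, cr_ins' hf, hcd, one_smul]
    rw [this, hm, add_sub_cancel]
  have hMc : M c = 0 := LinearMap.ext fun u => by
    show cr i (frow f d) (dev g (ins i c u)) = 0
    rw [dev_apply, hfix, sub_self, map_zero]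
  set Sc : Submodule F ((Rest i k → F) →ₗ[F] Rest i k → F) := Submodule.span F {LinearMap.id}
  have hsc : ∀ x, f x c = 0 → f x x ≠ 0 → M x ∈ Sc := by
    intro x hxc hx
    by_cases h3 : 3 ≤ Fintype.card J
    · have hm : fac i (mr hf x) ∈ X := C.mir h3 i x hx
      have hmm : (fac i (mr hf x))⁻¹ = fac i (mr hf x) := by rw [fac_inv, mr_inv hf hx]
      set g' := fac i (mr hf x) * g * (fac i (mr hf x))⁻¹ with hg'
      have hg'x : ∀ u, mv g' (ins i x u) = ins i x u - ins i c (M x u) := fun u => by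
        rw [hg', mv_mul, mv_mul, hmm, mv_fac_ins, mr_self hf hx, hM x hxc, mv_add, mv_fac_ins, mr_self hf hx,
          mv_fac_ins, mr_perp hf hx (show f c x = 0 by rw [hf.comm', hxc]), ← neg_one_smul F c, ins_smul_vec,
          neg_one_smul, sub_eq_add_neg]
      have hg'c : ∀ u, mv g' (ins i c u) = ins i c u := fun u => by
        rw [hg', mv_mul, mv_mul, hmm, mv_fac_ins, mr_perp hf hx (show f c x = 0 by rw [hf.comm', hxc]),
          ← neg_one_smul F c, ins_smul_vec, mv_smul, hfix, mv_smul, mv_fac_ins,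
          mr_perp hf hx (show f c x = 0 by rw [hf.comm', hxc]), ← neg_one_smul F c, ins_smul_vec, smul_smul]
        norm_num
      have hg'w : ∀ v, f v c = 0 → f v x = 0 → ∀ u, mv g' (ins i v u) = mv g (ins i v u) := fun v hvc hvx u => by
        rw [hg', mv_mul, mv_mul, hmm, mv_fac_ins, mr_perp hf hx hvx, ← neg_one_smul F v, ins_smul_vec, mv_smul,
          hM v hvc, mv_smul, mv_add, mv_fac_ins, mv_fac_ins, mr_perp hf hx hvx,
          mr_perp hf hx (show f c x = 0 by rw [hf.comm', hxc]), ← neg_one_smul F v, ← neg_one_smul F c,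
          ins_smul_vec, ins_smul_vec]
        module
      have hh : g * g'⁻¹ ∈ X := X.mul_mem hg (X.inv_mem (X.mul_mem (X.mul_mem hm hg) (X.inv_mem hm)))
      obtain ⟨s, hs⟩ := C.mid_scalar hJ hX i hc0 hc hxc hx hh (M := (2 : F) • M x) (fun v hvc hvx u => by
        rw [mv_mul]
        have e : mv g'⁻¹ (ins i v u) = ins i v u - ins i c (M v u) := by
          rw [mv_eq_iff, inv_inv, mv_sub, hg'w v hvc hvx, hg'c, hM v hvc, add_sub_cancel_right]
        rw [e, mv_sub, hM v hvc, hfix, add_sub_cancel_right]) (fun u => by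
        rw [mv_mul]
        have e : mv g'⁻¹ (ins i x u) = ins i x u + ins i c (M x u) := by
          rw [mv_eq_iff, inv_inv, mv_add, hg'x, hg'c, sub_add_cancel]
        rw [e, mv_add, hM x hxc, hfix, LinearMap.smul_apply, map_smul]
        module)
      refine Submodule.mem_span_singleton.2 ⟨s / 2, ?_⟩
      rw [div_eq_inv_mul, mul_smul, ← hs, smul_smul, inv_mul_cancel₀ h2, one_smul]
    · obtain ⟨d', hd', hcd', hxd'⟩ := C.exists_partner_perp hc0 hc hxc hx
      obtain ⟨y, hyc, hyd', hyx, hy⟩ := C.toSl.exists_W_perp hc hd' hcd' hxc hxd' hx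
      have hxy : f x y = 0 := by rw [hf.comm', hyx]
      have hcx : f c x = 0 := by rw [hf.comm', hxc]
      have hcy : f c y = 0 := by rw [hf.comm', hyc]
      set T := mr hf x * mr hf y with hT
      have hTX : fac i T ∈ X := C.mm i x y hx hy
      have hTi : T⁻¹ = mr hf y * mr hf x := by rw [hT, _root_.mul_inv_rev, mr_inv hf hy, mr_inv hf hx]
      have hTc : mv T c = c ∧ mv T⁻¹ c = c := by
        constructor
        · rw [hT, mv_mul, mr_perp hf hy hcy, mv_neg, mr_perp hf hx hcx, neg_neg]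
        · rw [hTi, mv_mul, mr_perp hf hx hcx, mv_neg, mr_perp hf hy hcy, neg_neg]
      have hTx : mv T x = -x ∧ mv T⁻¹ x = -x := by
        constructor
        · rw [hT, mv_mul, mr_perp hf hy hxy, mv_neg, mr_self hf hx]
        · rw [hTi, mv_mul, mr_self hf hx, mr_perp hf hy hxy]
      have hTy : mv T y = -y ∧ mv T⁻¹ y = -y := by
        constructor
        · rw [hT, mv_mul, mr_self hf hy, mr_perp hf hx hyx]
        · rw [hTi, mv_mul, mr_perp hf hx hyx, mv_neg, mr_self hf hy]
      have hTv : ∀ v, f v x = 0 → f v y = 0 → mv T v = v ∧ mv T⁻¹ v = v := fun v h1 h2 => by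
        constructor
        · rw [hT, mv_mul, mr_perp hf hy h2, mv_neg, mr_perp hf hx h1, neg_neg]
        · rw [hTi, mv_mul, mr_perp hf hx h1, mv_neg, mr_perp hf hy h2, neg_neg]
      set g' := fac i T * g * (fac i T)⁻¹ with hg'
      have hg'c : ∀ u, mv g' (ins i c u) = ins i c u := fun u => by
        rw [hg', mv_mul, mv_mul, fac_inv, mv_fac_ins, hTc.2, hfix, mv_fac_ins, hTc.1]
      have hgn : ∀ z, f z c = 0 → mv T⁻¹ z = -z → mv T z = -z → ∀ u,
          mv g' (ins i z u) = ins i z u - ins i c (M z u) := fun z hz h1 h2 u => by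
        rw [hg', mv_mul, mv_mul, fac_inv, mv_fac_ins, h1, ← neg_one_smul F z, ins_smul_vec, mv_smul, hM z hz,
          mv_smul, mv_add, mv_fac_ins, mv_fac_ins, h2, hTc.1, ← neg_one_smul F z, ins_smul_vec]
        module
      have hg'w : ∀ v, f v c = 0 → f v x = 0 → f v y = 0 → ∀ u, mv g' (ins i v u) = mv g (ins i v u) :=
        fun v hvc hvx hvy u => by
          rw [hg', mv_mul, mv_mul, fac_inv, mv_fac_ins, (hTv v hvx hvy).2, hM v hvc, mv_add, mv_fac_ins, mv_fac_ins,
            (hTv v hvx hvy).1, hTc.1]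
      have hh : g * g'⁻¹ ∈ X := X.mul_mem hg (X.inv_mem (X.mul_mem (X.mul_mem hTX hg) (X.inv_mem hTX)))
      have hMh : ∀ z, f z c = 0 → mv T⁻¹ z = -z → mv T z = -z → ∀ u,
          mv (g * g'⁻¹) (ins i z u) = ins i z u + ins i c (((2 : F) • M z) u) := fun z hz h1 h2 u => by
        rw [mv_mul]
        have e : mv g'⁻¹ (ins i z u) = ins i z u + ins i c (M z u) := by
          rw [mv_eq_iff, inv_inv, mv_add, hgn z hz h1 h2, hg'c, sub_add_cancel]
        rw [e, mv_add, hM z hz, hfix, LinearMap.smul_apply, map_smul]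
        module
      obtain ⟨s, hs⟩ := C.mid_two hJ hX (by omega) i hc0 hc hd' hcd' hxc hxd' hx hyc hyd' hy hxy hh
        (fun v hvc hvx hvy u => by
          rw [mv_mul]
          have e : mv g'⁻¹ (ins i v u) = ins i v u - ins i c (M v u) := by
            rw [mv_eq_iff, inv_inv, mv_sub, hg'w v hvc hvx hvy, hg'c, hM v hvc, add_sub_cancel_right]
          rw [e, mv_sub, hM v hvc, hfix, add_sub_cancel_right])
        (hMh x hxc hTx.2 hTx.1) (hMh y hyc hTy.2 hTy.1)
      refine Submodule.mem_span_singleton.2 ⟨s / 2, ?_⟩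
      rw [div_eq_inv_mul, mul_smul, ← hs, smul_smul, inv_mul_cancel₀ h2, one_smul]
  have hall : ∀ v, f v c = 0 → M v ∈ Sc := by
    intro v hv
    have := C.toSl.aniso_span hc0 hc (Sc.mkQ ∘ₗ ((bet hf i (dev g)).flip d)) (fun x hxc hx => by
      simp only [LinearMap.comp_apply, LinearMap.flip_apply, Submodule.mkQ_apply, Submodule.Quotient.mk_eq_zero]
      exact hsc x hxc hx) hv
    simpa only [LinearMap.comp_apply, LinearMap.flip_apply, Submodule.mkQ_apply,
      Submodule.Quotient.mk_eq_zero] using this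
  obtain ⟨w₁, hw₁⟩ : ∃ w₁ : Rest i k → F, ∃ l : (Rest i k → F) →ₗ[F] F, l w₁ = 1 := by
    obtain ⟨r⟩ : Nonempty (Rest (J := J) i k) := ⟨fun _ => ⟨0, by have := C.hk; omega⟩⟩
    exact ⟨Pi.single r 1, LinearMap.proj r, by simp⟩
  obtain ⟨l, hl⟩ := hw₁
  -- the scalar of the middle part, as a linear form
  set φ : (Fin k → F) →ₗ[F] F :=
    { toFun := fun v => l (M (v - f v c • d) w₁)
      map_add' := fun a b => by
        simp only [hMdef, hf.add_left, add_smul, map_add, map_sub, LinearMap.add_apply, LinearMap.sub_apply]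
        ring
      map_smul' := fun r a => by
        simp only [hMdef, hf.smul_left, mul_smul, map_sub, map_smul, LinearMap.smul_apply, LinearMap.sub_apply,
          smul_eq_mul, RingHom.id_apply]
        ring }
  have hMφ : ∀ v, f v c = 0 → M v = φ v • LinearMap.id := fun v hv => by
    obtain ⟨s, hs⟩ := Submodule.mem_span_singleton.1 (hall v hv)
    have : φ v = s := by
      show l (M (v - f v c • d) w₁) = s
      rw [hv, zero_smul, sub_zero, ← hs, LinearMap.smul_apply, LinearMap.id_apply, map_smul, hl, smul_eq_mul,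
        mul_one]
    rw [this, hs]
  obtain ⟨w₀, hw₀⟩ : ∃ w₀, ∀ v, f v w₀ = φ v := by
    obtain ⟨w₀, hw⟩ := hf.frow_surj (fun _ => rfl) fun a => φ (Pi.single a 1)
    refine ⟨w₀, fun v => ?_⟩
    rw [← hf.frow_dot, hw, dotProduct]
    conv_rhs => rw [← Finset.univ_sum_single v, map_sum]
    refine Finset.sum_congr rfl fun a _ => ?_
    rw [show (Pi.single a (v a) : Fin k → F) = v a • Pi.single a 1 by
      rw [← Pi.single_smul, smul_eq_mul, mul_one], map_smul, smul_eq_mul, mul_comm]
  have hw₀c : f w₀ c = 0 := by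
    rw [hf.comm', hw₀]
    show l (M (c - f c c • d) w₁) = 0
    rw [hc, zero_smul, sub_zero, hMc, LinearMap.zero_apply, map_zero]
  refine ⟨-w₀, by rw [hf.neg_left, hw₀c, neg_zero], ?_⟩
  have hw₀c' : f (-w₀) c = 0 := by rw [hf.neg_left, hw₀c, neg_zero]
  have h1 := C.fix_perp hJ hX i hc0 hc (g := (fac i (eA hf c (-w₀)))⁻¹ * g)
    (X.mul_mem (X.inv_mem (C.root i c _ hc hw₀c')) hg) (fun v hv u => by
      rw [mv_mul, mv_eq_iff, inv_inv, mv_fac_ins, eA_fix_perp hf h2 hc hw₀c' hv, hf.neg_right, hw₀,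
        hM v hv, hMφ v hv, LinearMap.smul_apply, LinearMap.id_apply, map_smul, ins_sub_vec, ins_smul_vec]
      module)
  rw [inv_mul_eq_one] at h1
  exact h1.symm

end Ctx

end Cfsg.Agent.OrthEvenWreath
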