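/-
Tensor powers of a symmetric form of even dimension: members inside the commutator subgroup.
-/
import Cfsg.Agent.Lib.OrthWreathEven.Qrad
import Cfsg.Agent.Lib.OrthWreath.Omega

set_option autoImplicit false
set_option linter.unusedSectionVars false

namespace Cfsg.Agent.OrthEvenWreath

open scoped Matrix
open Matrix Cfsg.Agent.Transvec Cfsg.Agent.TensorMax Cfsg.Agent.WreathMax Cfsg.Agent.FormWreath
open Cfsg.Agent.OrthWreath hiding Sl Ctx Base Ind Inv Gd
open Cfsg.Agent.UWreath (top top_ten Loc loc_pten loc_comp loc_id pull Has Additive loc_congr loc_conj_fac loc_conj_pm)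

variable {F : Type*} [Field F] {k : ℕ} {J : Type} [Fintype J] [DecidableEq J]

local notation "σ₁" => RingEquiv.refl F

variable {f : (Fin k → F) → (Fin k → F) → F}

variable [Finite F]

/-- The orthogonal projection on the line of x. -/
def pr (hf : Sym f) (x : Fin k → F) : (Fin k → F) →ₗ[F] Fin k → F := (f x x)⁻¹ • av hf x x

theorem pr_apply (hf : Sym f) (x v : Fin k → F) : pr hf x v = ((f x x)⁻¹ * f v x) • x := by
  rw [pr, LinearMap.smul_apply, av_apply, smul_smul]

theorem pr_self (hf : Sym f) {x : Fin k → F} (hx : f x x ≠ 0) : pr hf x x = x := by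
  rw [pr_apply, inv_mul_cancel₀ hx, one_smul]

theorem pr_perp (hf : Sym f) {x v : Fin k → F} (h : f v x = 0) : pr hf x v = 0 := by
  rw [pr_apply, h, mul_zero, zero_smul]

theorem op_comm {i b : J} (h : i ≠ b) (S T : (Fin k → F) →ₗ[F] Fin k → F) :
    op i LinearMap.id S ∘ₗ op b LinearMap.id T = op b LinearMap.id T ∘ₗ op i LinearMap.id S :=
  eq_of_pten fun y => by
    simp only [LinearMap.comp_apply, op_pten, Function.update_of_ne h, Function.update_of_ne h.symm]
    rw [Function.update_comm h]

namespace Sl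

variable {κ : F} (S : Sl f κ)
include S

/-- Induction along a decomposition into orthogonal planes. -/
theorem plane_induction (M : ((Fin k → F) →ₗ[F] Fin k → F) → Prop) (h0 : M 0)
    (hstep : ∀ (π : (Fin k → F) →ₗ[F] Fin k → F) (x y : Fin k → F), f x x ≠ 0 → f y y ≠ 0 → f x y = 0 → π x = 0 →
      π y = 0 → (∀ v, f (π v) x = 0) → (∀ v, f (π v) y = 0) → M π → M (π + pr S.hf x + pr S.hf y)) :
    M LinearMap.id := by
  have hf := S.hf
  suffices H : ∀ (n : ℕ) (P : Submodule F (Fin k → F)), (∀ u ∈ P, (∀ w ∈ P, f w u = 0) → u = 0) →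
      Module.finrank F P = n + n → ∃ π, M π ∧ ∀ v, π v ∈ P ∧ ∀ p ∈ P, f (v - π v) p = 0 by
    obtain ⟨m, hm⟩ := S.even
    obtain ⟨π, hπ, hp⟩ := H m ⊤ (fun u _ h => hf.nondeg u fun z => by rw [hf.comm']; exact h z Submodule.mem_top)
      (by rw [finrank_top, Module.finrank_fintype_fun_eq_card, Fintype.card_fin, hm])
    rwa [show π = LinearMap.id from LinearMap.ext fun v =>
      (sub_eq_zero.1 (hf.nondeg _ fun z => (hp v).2 z Submodule.mem_top)).symm] at hπ
  intro n
  induction n with
  | zero =>
    intro P _ hd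
    exact ⟨0, h0, fun v => ⟨P.zero_mem, fun p hp => by
      rw [show P = ⊥ from Submodule.finrank_eq_zero.1 hd, Submodule.mem_bot] at hp
      rw [hp, hf.zero_right]⟩⟩
  | succ n ih =>
    intro P hP hd
    obtain ⟨x, hx, hx1⟩ := S.exists_value hP (by omega) 1
    have hx0 : f x x ≠ 0 := by rw [hx1]; exact one_ne_zero
    set P₁ := P ⊓ LinearMap.ker (hf.formL x) with hP₁
    have hn₁ := perp_nondeg hf hP hx hx0
    have hd₁ := finrank_perp_ge hf P x
    have hmem : ∀ {Q : Submodule F (Fin k → F)} {z v}, v ∈ Q ⊓ LinearMap.ker (hf.formL z) ↔ v ∈ Q ∧ f v z = 0 :=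
      fun {Q z v} => by rw [Submodule.mem_inf, LinearMap.mem_ker]; rfl
    have hlt₁ : P₁ < P := lt_of_le_of_ne inf_le_left fun e => hx0 (hmem.1 (e.symm ▸ hx : x ∈ P₁)).2
    have := Submodule.finrank_lt_finrank_of_lt hlt₁
    rw [← hP₁] at hd₁ hn₁
    obtain ⟨y, hy, hyq⟩ := Transvec.Orth.exists_anisotropic (qf_nondeg hf S.two) (X := P₁)
      (fun u hu h => hn₁ u hu fun w hw => by rw [← pol_qf hf S.two]; exact h w hw)
      (fun e => by rw [e, finrank_bot] at hd₁; omega)
    have hy0 : f y y ≠ 0 := fun e => hyq (by rw [qf, e, zero_div])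
    set P₂ := P₁ ⊓ LinearMap.ker (hf.formL y) with hP₂
    have hn₂ := perp_nondeg hf hn₁ hy hy0
    have hd₂ := finrank_perp_ge hf P₁ y
    have hlt₂ : P₂ < P₁ := lt_of_le_of_ne inf_le_left fun e => hy0 (hmem.1 (e.symm ▸ hy : y ∈ P₂)).2
    have := Submodule.finrank_lt_finrank_of_lt hlt₂
    rw [← hP₂] at hd₂ hn₂
    obtain ⟨π, hπ, hp⟩ := ih P₂ hn₂ (by omega)
    obtain ⟨hyP, hyx⟩ := hmem.1 hy
    have hxy : f x y = 0 := by rw [hf.comm', hyx]
    have h2x : ∀ p ∈ P₂, f p x = 0 ∧ f p y = 0 := fun p hp => ⟨(hmem.1 (hmem.1 hp).1).2, (hmem.1 hp).2⟩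
    have hker : ∀ z, (∀ p ∈ P₂, f p z = 0) → π z = 0 := fun z hz => hn₂ _ (hp z).1 fun w hw => by
      have := (hp z).2 w hw
      rw [hf.sub_left, hf.comm' z w, hz w hw, zero_sub, neg_eq_zero, hf.comm'] at this
      exact this
    refine ⟨π + pr hf x + pr hf y, hstep π x y hx0 hy0 hxy (hker x fun p hp => (h2x p hp).1)
      (hker y fun p hp => (h2x p hp).2) (fun v => (h2x _ (hp v).1).1) (fun v => (h2x _ (hp v).1).2) hπ, fun v => ?_⟩
    simp only [LinearMap.add_apply, pr_apply]
    refine ⟨P.add_mem (P.add_mem ((hmem.1 (hmem.1 (hp v).1).1).1) (P.smul_mem _ hx)) (P.smul_mem _ hyP),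
      fun p hpP => ?_⟩
    obtain ⟨q, hq, he⟩ : ∃ q ∈ P₂, p = q + ((f x x)⁻¹ * f p x) • x + ((f y y)⁻¹ * f p y) • y := by
      refine ⟨p - ((f x x)⁻¹ * f p x) • x - ((f y y)⁻¹ * f p y) • y, hmem.2 ⟨hmem.2 ⟨P.sub_mem (P.sub_mem hpP
        (P.smul_mem _ hx)) (P.smul_mem _ hyP), ?_⟩, ?_⟩, by abel⟩
      · simp only [hf.sub_left, hf.smul_left, hyx]; field_simp; ring
      · simp only [hf.sub_left, hf.smul_left, hxy]; field_simp; ring
    obtain ⟨hqx, hqy⟩ := h2x q hq
    obtain ⟨hπx, hπy⟩ := h2x _ (hp v).1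
    have h0' := (hp v).2 q hq
    rw [hf.sub_left] at h0'
    rw [he]
    simp only [hf.sub_left, hf.add_left, hf.add_right, hf.smul_left, hf.smul_right', hπx, hπy, hf.comm' x q,
      hf.comm' y q, hqx, hqy, hxy, hyx]
    field_simp
    linear_combination (f x x * f y y) * h0'

/-- A similitude carrying one anisotropic line to another. -/
theorem exists_sim {e e' : Fin k → F} (he : f e e ≠ 0) (he' : f e' e' ≠ 0) :
    ∃ A : GL (Fin k) F, (∀ u v, f (mv A u) (mv A v) = f e' e' / f e e * f u v) ∧
      ∃ ε : F, ε * ε = 1 ∧ mv A e = ε • e' := by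
  haveI : Fintype F := Fintype.ofFinite F
  have hf := S.hf
  have h2 := S.two
  set lm := f e' e' / f e e with hlm
  have hlm0 : lm ≠ 0 := div_ne_zero he' he
  obtain ⟨L, -, hL⟩ := S.plane_induction
    (fun π => ∃ L : (Fin k → F) →ₗ[F] Fin k → F, (∀ u, π (L u) = L u) ∧ ∀ u v, f (L u) (L v) = lm * f (π u) v)
    ⟨0, fun u => rfl, fun u v => by simp [hf.zero_left]⟩ (by
      rintro π x y hx hy hxy hπx hπy hpx hpy ⟨L, hπL, hL⟩
      obtain ⟨α, β, hαβ⟩ := S.exists_comb hx hy hxy (lm * f x x)
      have hyx : f y x = 0 := by rw [hf.comm', hxy]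
      simp only [hf.add_left, hf.add_right, hf.smul_left, hf.smul_right', hxy, hyx] at hαβ
      set a₁ := α • x + β • y with ha₁
      set a₂ := (-(f y y * β / f x x)) • x + α • y with ha₂
      have e11 : f a₁ a₁ = lm * f x x := by
        simp only [ha₁, hf.add_left, hf.add_right, hf.smul_left, hf.smul_right', hxy, hyx]
        linear_combination hαβ
      have e22 : f a₂ a₂ = lm * f y y := by
        simp only [ha₂, hf.add_left, hf.add_right, hf.smul_left, hf.smul_right', hxy, hyx]
        field_simp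
        linear_combination hαβ
      have e12 : f a₁ a₂ = 0 := by
        simp only [ha₁, ha₂, hf.add_left, hf.add_right, hf.smul_left, hf.smul_right', hxy, hyx]
        field_simp
        ring
      have eL : ∀ u, f (L u) a₁ = 0 ∧ f (L u) a₂ = 0 := fun u => by
        have h1 := hpx (L u)
        have h3 := hpy (L u)
        rw [hπL] at h1 h3
        simp [ha₁, ha₂, hf.add_right, hf.smul_right', hf.neg_right, h1, h3]
      refine ⟨L + (f x x)⁻¹ • av hf a₁ x + (f y y)⁻¹ • av hf a₂ y, fun u => ?_, fun u v => ?_⟩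
      · have h1 := hpx (L u)
        have h3 := hpy (L u)
        rw [hπL] at h1 h3
        simp only [LinearMap.add_apply, LinearMap.smul_apply, av_apply, map_add, map_smul, hπL, pr_perp hf h1,
          pr_perp hf h3, ha₁, ha₂, hπx, hπy, pr_self hf hx, pr_self hf hy, pr_perp hf hxy, pr_perp hf hyx]
        module
      · obtain ⟨l1, l2⟩ := eL u
        obtain ⟨l3, l4⟩ := eL v
        simp only [LinearMap.add_apply, LinearMap.smul_apply, av_apply, hf.add_left, hf.add_right, hf.smul_left,
          hf.smul_right', pr_apply, hL, l1, l2, e11, e22, e12, hf.comm' a₂ a₁, hf.comm' a₁ (L v), hf.comm' a₂ (L v),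
          l3, l4, hf.comm' x v, hf.comm' y v]
        field_simp
        ring)
  simp only [LinearMap.id_apply] at hL
  have hinj : Function.Injective L := fun a b h => sub_eq_zero.1 (hf.nondeg _ fun z => by
    have e0 := hL (a - b) z
    rw [map_sub, h, sub_self, hf.zero_left] at e0
    exact (mul_eq_zero.1 e0.symm).resolve_left hlm0)
  obtain ⟨A₀, hA₀⟩ := exists_gl_of_injective L hinj
  have hA : ∀ u v, f (mv A₀ u) (mv A₀ v) = lm * f u v := fun u v => by rw [hA₀, hA₀, hL]
  set w := mv A₀ e with hw
  have hww : f w w = f e' e' := by rw [hw, hA, hlm, div_mul_cancel₀ _ he]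
  by_cases hs : f (w + e') (w + e') = 0
  · have hd : f (w - e') (w - e') ≠ 0 := fun e1 => by
      simp only [hf.add_left, hf.add_right, hf.sub_left, hf.sub_right, hf.comm' e' w, hww] at hs e1
      exact mul_ne_zero (mul_ne_zero h2 h2) he' (by linear_combination hs + e1)
    refine ⟨mr hf (w - e') * A₀, fun u v => by rw [mv_mul, mv_mul, mr_isom hf hd, hA], -1, by ring, ?_⟩
    rw [mv_mul, ← hw, mv_mr hf hd]
    simp only [hf.sub_left, hf.sub_right, hf.comm' e' w, hww] at hd ⊢
    match_scalars <;> field_simp <;> ring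
  · refine ⟨mr hf (w + e') * A₀, fun u v => by rw [mv_mul, mv_mul, mr_isom hf hs, hA], 1, by ring, ?_⟩
    rw [mv_mul, ← hw, mv_mr hf hs]
    simp only [hf.add_left, hf.add_right, hf.comm' e' w, hww] at hs ⊢
    match_scalars <;> field_simp <;> ring

end Sl

theorem mr_conj_sim (hf : Sym f) {A : GL (Fin k) F} {lm : F} (hl : lm ≠ 0)
    (hA : ∀ u v, f (mv A u) (mv A v) = lm * f u v) {x : Fin k → F} (hx : f x x ≠ 0) :
    A * mr hf x * A⁻¹ = mr hf (mv A x) :=
  ext_mv fun v => by
    have hx' : f (mv A x) (mv A x) ≠ 0 := by rw [hA]; exact mul_ne_zero hl hx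
    rw [mv_mul, mv_mul, mv_mr hf hx, mv_mr hf hx', mv_sub, mv_smul, mv_mv_inv]
    congr 2
    have e : f v (mv A x) = lm * f (mv A⁻¹ v) x := by rw [← hA, mv_mv_inv]
    rw [e, hA]
    field_simp

/-- The hypotheses on the form alone. -/
structure Base (f : (Fin k → F) → (Fin k → F) → F) (Q : ((J → Fin k) → F) → F) (κ : F) : Prop extends Sl f κ where
  hQ : Geo.IsNondegenerateQuadraticForm Q
  hpol : ∀ x y, Transvec.Orth.pol Q x y = Bt σ₁ f x y
  hJ : 2 ≤ Fintype.card J

variable {Q : ((J → Fin k) → F) → F} {κ : F}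

namespace Base

variable (B : Base f Q κ)
include B

theorem card_ge : 16 ≤ Fintype.card (J → Fin k) := by
  rw [Fintype.card_fun, Fintype.card_fin]
  calc 16 = 4 ^ 2 := by norm_num
    _ ≤ k ^ 2 := Nat.pow_le_pow_left B.hk 2
    _ ≤ k ^ Fintype.card J := Nat.pow_le_pow_right (by have := B.hk; omega) B.hJ

theorem mem_iso {g : GL (J → Fin k) F} (h : ∀ x y, Bt σ₁ f (mv g x) (mv g y) = Bt σ₁ f x y) :
    g ∈ isometryGroup F Q :=
  Transvec.Orth.mem_isometry.2 fun z => mul_left_cancel₀ B.two (by
    rw [← Transvec.Orth.pol_self B.hQ, ← Transvec.Orth.pol_self B.hQ, B.hpol, B.hpol, h])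

theorem fac_iso (i : J) {T : GL (Fin k) F} (hT : ∀ x y, f (mv T x) (mv T y) = f x y) :
    fac i T ∈ isometryGroup F Q :=
  B.mem_iso (fac_pres' B.hf i hT)

theorem eA_omega (i : J) {c w : Fin k → F} (hc : f c c = 0) (hw : f w c = 0) :
    fac i (eA B.hf c w) ∈ Geo.omegaGL Q := by
  haveI : Fintype F := Fintype.ofFinite F
  obtain ⟨p, hp⟩ := CharP.exists F
  haveI := hp
  have hpp : p.Prime := CharP.char_is_prime F p
  refine OrthTensor.omega_of_odd B.hQ B.two (by have := B.card_ge; omega) (B.fac_iso i (eA_isom B.hf B.two hc hw))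
    (((hpp.odd_of_ne_two fun e => B.two (by subst e; exact CharP.cast_eq_zero F 2))).of_dvd_nat
      (orderOf_dvd_of_pow_eq_one ?_))
  have e : ∀ n : ℕ, fac i (eA B.hf c w) ^ n = fac i (eA B.hf c w ^ n) := fun n => by
    induction n with
    | zero => rw [pow_zero, pow_zero, fac_one]
    | succ n ih => rw [pow_succ, pow_succ, ih, fac_mul]
  rw [e, eA_pow_char B.hf B.two p hc hw, fac_one]

/-- A similitude of one slot, undone in another, is an isometry. -/
theorem sim_iso {a b : J} (hab : a ≠ b) {A : GL (Fin k) F} {lm : F} (hl : lm ≠ 0)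
    (hA : ∀ u v, f (mv A u) (mv A v) = lm * f u v) : fac a A * fac b A⁻¹ ∈ isometryGroup F Q := by
  have hf := B.hf
  refine B.mem_iso fun x y => pres_of_pten' hf (fun x y => ?_) x y
  have hA' : ∀ u v, f (mv A⁻¹ u) (mv A⁻¹ v) = lm⁻¹ * f u v := fun u v => by
    rw [← mul_right_inj' hl, ← hA, mv_mv_inv, mv_mv_inv, mul_inv_cancel_left₀ hl]
  rw [mv_mul, mv_mul, mv_fac, mv_fac, mv_fac, mv_fac, Bt_pten hf, Bt_pten hf,
    ← Finset.mul_prod_erase Finset.univ _ (Finset.mem_univ a),
    ← Finset.mul_prod_erase Finset.univ _ (Finset.mem_univ a),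
    ← Finset.mul_prod_erase (Finset.univ.erase a) _ (Finset.mem_erase.2 ⟨hab.symm, Finset.mem_univ b⟩),
    ← Finset.mul_prod_erase (Finset.univ.erase a) _ (Finset.mem_erase.2 ⟨hab.symm, Finset.mem_univ b⟩),
    Finset.prod_congr rfl fun j hj => show
      f (Function.update (Function.update x b (mv A⁻¹ (x b))) a (mv A (Function.update x b (mv A⁻¹ (x b)) a)) j)
        (Function.update (Function.update y b (mv A⁻¹ (y b))) a (mv A (Function.update y b (mv A⁻¹ (y b)) a)) j) =
        f (x j) (y j) by
      obtain ⟨hjb, hj⟩ := Finset.mem_erase.1 hj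
      have hja := Finset.ne_of_mem_erase hj
      simp [Function.update_of_ne hja, Function.update_of_ne hjb]]
  simp only [Function.update_self, Function.update_of_ne hab, Function.update_of_ne hab.symm, hA, hA']
  field_simp

/-- Two mirrors of one slot. -/
theorem mm_omega (i : J) {x y : Fin k → F} (hx : f x x ≠ 0) (hy : f y y ≠ 0) :
    fac i (mr B.hf x * mr B.hf y) ∈ Geo.omegaGL Q := by
  have hf := B.hf
  obtain ⟨b, hb⟩ := Fintype.exists_ne_of_one_lt_card B.hJ i
  obtain ⟨A, hA, ε, hε, hAy⟩ := B.toSl.exists_sim hy hx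
  have hl : f x x / f y y ≠ 0 := div_ne_zero hx hy
  have h := comm_mem_omega (B.sim_iso hb.symm hl hA) (B.fac_iso i (mr_isom hf hy))
  have e : fac i A * fac b A⁻¹ * fac i (mr hf y) * (fac i A * fac b A⁻¹)⁻¹ =
      fac i (mr hf x) := by
    have hc : fac b A⁻¹ * fac i (mr hf y) = fac i (mr hf y) * fac b A⁻¹ := fac_comm hb _ _
    rw [show fac i A * fac b A⁻¹ * fac i (mr hf y) * (fac i A * fac b A⁻¹)⁻¹ =
        fac i A * (fac b A⁻¹ * fac i (mr hf y)) * (fac b A⁻¹)⁻¹ * (fac i A)⁻¹ by group, hc,
      show fac i A * (fac i (mr hf y) * fac b A⁻¹) * (fac b A⁻¹)⁻¹ * (fac i A)⁻¹ =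
        fac i A * fac i (mr hf y) * (fac i A)⁻¹ by group, fac_inv, ← fac_mul, ← fac_mul, mr_conj_sim hf hl hA hy,
      hAy, mr_smul hf hx (fun e0 => by rw [e0, mul_zero] at hε; exact zero_ne_one hε)]
  rwa [e, fac_inv, mr_inv hf hy, ← fac_mul] at h

/-- Two mirrors in different slots. -/
theorem pair_omega {a b : J} (hab : a ≠ b) {x y : Fin k → F} (hx : f x x ≠ 0) (hy : f y y ≠ 0) :
    fac a (mr B.hf x) * fac b (mr B.hf y) ∈ Geo.omegaGL Q := by
  have hf := B.hf
  have hπ : (pm (Equiv.swap a b) : GL (J → Fin k) F) ∈ isometryGroup F Q := B.mem_iso fun u v => by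
    refine pres_of_pten' hf (fun x y => ?_) u v
    rw [UWreath.mv_pm_pten, UWreath.mv_pm_pten, Bt_pten hf, Bt_pten hf]
    exact Fintype.prod_equiv (Equiv.swap a b)⁻¹ _ _ fun j => rfl
  have h1 := comm_mem_omega (B.fac_iso a (mr_isom hf hx)) hπ
  have e1 : fac a (mr hf x) * pm (Equiv.swap a b) * (fac a (mr hf x))⁻¹ * (pm (Equiv.swap a b))⁻¹ =
      fac a (mr hf x) * fac b (mr hf x) := by
    rw [mul_assoc, mul_assoc, fac_inv, mr_inv hf hx]
    congr 1
    rw [← mul_assoc, UWreath.fac_conj_pm, Equiv.swap_apply_left]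
  rw [e1] at h1
  have := Subgroup.mul_mem _ h1 (B.mm_omega b hx hy)
  rwa [mul_assoc, ← fac_mul, ← mul_assoc (mr hf x), mr_sq hf hx, one_mul] at this

/-- The sign change on the tensor of a line and a line, as a member. -/
theorem exists_two_refl {i b : J} (hib : i ≠ b) {x e : Fin k → F} (hx : f x x ≠ 0) (he : f e e ≠ 0) :
    ∃ g : GL (J → Fin k) F, g ∈ isometryGroup F Q ∧ g * g = 1 ∧
      mvLin g = LinearMap.id - (2 : F) • (op i LinearMap.id (pr B.hf x) ∘ₗ op b LinearMap.id (pr B.hf e)) := by
  have hf := B.hf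
  set L := op i LinearMap.id (pr hf x) ∘ₗ op b LinearMap.id (pr hf e) with hLdef
  have hsq : ∀ v, L (L v) = L v := by
    have e1 : L ∘ₗ L = L := eq_of_pten fun y => by
      simp only [hLdef, LinearMap.comp_apply, op_pten, Function.update_self, Function.update_of_ne hib,
        Function.update_of_ne hib.symm, pr_apply, hf.smul_left, inv_mul_cancel₀ hx, inv_mul_cancel₀ he]
      refine congrArg pten (funext fun j => ?_)
      by_cases hji : j = i
      · subst hji
        simp only [Function.update_self]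
        congr 1
        field_simp
      · rw [Function.update_of_ne hji, Function.update_of_ne hji]
        by_cases hjb : j = b
        · subst hjb
          simp only [Function.update_self]
          congr 1
          field_simp
        · simp [Function.update_of_ne hjb, Function.update_of_ne hji]
    exact fun v => LinearMap.congr_fun e1 v
  have hinv : ∀ v, (LinearMap.id - (2 : F) • L : ((J → Fin k) → F) →ₗ[F] _) ((LinearMap.id - (2 : F) • L :
      ((J → Fin k) → F) →ₗ[F] _) v) = v := fun v => by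
    simp only [LinearMap.sub_apply, LinearMap.smul_apply, LinearMap.id_apply, map_sub, map_smul, hsq]
    module
  obtain ⟨g, hg⟩ := exists_gl_of_injective (LinearMap.id - (2 : F) • L : ((J → Fin k) → F) →ₗ[F] _)
    (fun a c h => by rw [← hinv a, h, hinv c])
  have hBt := Bt_sym (J := J) hf
  have hadj : ∀ u v, Bt σ₁ f (L u) v = Bt σ₁ f u (L v) := by
    have hp : ∀ u v, Bt σ₁ f (L (pten u)) (pten v) = Bt σ₁ f (pten u) (L (pten v)) := fun u v => by
      simp only [hLdef, LinearMap.comp_apply, op_pten, Function.update_of_ne hib]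
      rw [Bt_pten hf, Bt_pten hf]
      refine Finset.prod_congr rfl fun j _ => ?_
      by_cases hji : j = i
      · subst hji
        simp only [Function.update_self, pr_apply, hf.smul_left, hf.smul_right', hf.comm' x (v j)]
        ring
      · rw [Function.update_of_ne hji, Function.update_of_ne hji]
        by_cases hjb : j = b
        · subst hjb
          simp only [Function.update_self, pr_apply, hf.smul_left, hf.smul_right', hf.comm' e (v j)]
          ring
        · rw [Function.update_of_ne hjb, Function.update_of_ne hjb]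
    intro u v
    have h1 : ∀ y, (hBt.formL (pten y)).comp L = hBt.formL (L (pten y)) := fun y => eq_of_pten fun z => hp z y
    have h2 : hBt.formL (L u) = (hBt.formL u).comp L := eq_of_pten fun y => by
      show Bt σ₁ f (pten y) (L u) = Bt σ₁ f (L (pten y)) u
      rw [hBt.comm', hBt.comm' (L (pten y))]
      exact LinearMap.congr_fun (h1 y) u
    have := LinearMap.congr_fun h2 v
    exact (hBt.comm' _ _).trans (this.trans (hBt.comm' _ _))
  refine ⟨g, B.mem_iso fun u v => ?_, ext_mv fun v => by rw [mv_mul, hg, hg, hinv, mv_one],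
    LinearMap.ext fun v => hg v⟩
  rw [hg, hg]
  simp only [LinearMap.sub_apply, LinearMap.smul_apply, LinearMap.id_apply, hBt.sub_left, hBt.sub_right,
    hBt.smul_left, hBt.smul_right', hadj u v, hadj u (L v), hsq]
  ring

/-- With three slots a mirror of one slot lies in the commutator subgroup. -/
theorem mir_omega (h3 : 3 ≤ Fintype.card J) (i : J) {x : Fin k → F} (hx : f x x ≠ 0) :
    fac i (mr B.hf x) ∈ Geo.omegaGL Q := by
  classical
  have hf := B.hf
  obtain ⟨b, hb⟩ := Fintype.exists_ne_of_one_lt_card B.hJ i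
  obtain ⟨c, hc⟩ : ∃ c, c ∉ ({i, b} : Finset J) := by
    by_contra hcon
    push Not at hcon
    have h1 : (Finset.univ : Finset J) ⊆ {i, b} := fun c _ => hcon c
    have := (Finset.card_le_card h1).trans Finset.card_le_two
    rw [Finset.card_univ] at this
    omega
  simp only [Finset.mem_insert, Finset.mem_singleton, not_or] at hc
  obtain ⟨hci, hcb⟩ := hc
  obtain ⟨G, hG, hGL⟩ := B.toSl.plane_induction (fun π => ∃ G ∈ Geo.omegaGL Q,
      mvLin G = LinearMap.id - (2 : F) • (op i LinearMap.id (pr hf x) ∘ₗ op b LinearMap.id π))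
    ⟨1, Subgroup.one_mem _, by rw [op_zero_right, LinearMap.comp_zero, smul_zero, sub_zero]; exact LinearMap.ext fun v => mv_one v⟩ (by
      rintro π u w hu hw huw hπu hπw - - ⟨G, hG, hGL⟩
      obtain ⟨A, hA, ε, hε, hAu⟩ := B.toSl.exists_sim hu hw
      have hl : f w w / f u u ≠ 0 := div_ne_zero hw hu
      obtain ⟨Eu, hEu, hEu2, hEuL⟩ := B.exists_two_refl hb.symm hx hu
      obtain ⟨Ew, hEw, -, hEwL⟩ := B.exists_two_refl hb.symm hx hw
      set C := fac b A * fac c A⁻¹ with hCdef
      have hC := B.sim_iso (Ne.symm hcb) hl hA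
      have hconj : C * Eu * C⁻¹ = Ew := by
        rw [mul_inv_eq_iff_eq_mul]
        refine ext_pten fun y => ?_
        rw [mv_mul C Eu, mv_mul Ew C]
        show mv C (mvLin Eu (pten y)) = mvLin Ew (mv C (pten y))
        have e0 : mv C (pten y) = pten (Function.update (Function.update y c (mv A⁻¹ (y c))) b (mv A (y b))) := by
          rw [hCdef, mv_mul, mv_fac, mv_fac, Function.update_of_ne (Ne.symm hcb)]
        rw [e0, hEuL, hEwL]
        simp only [LinearMap.sub_apply, LinearMap.smul_apply, LinearMap.id_apply, LinearMap.comp_apply, op_pten,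
          mv_sub, mv_smul, hCdef, mv_mul, mv_fac, Function.update_self, Function.update_of_ne hb.symm,
          Function.update_of_ne hb, Function.update_of_ne hcb, Function.update_of_ne hci,
          Function.update_of_ne (Ne.symm hcb), Function.update_of_ne (Ne.symm hci)]
        congr 3
        funext j
        by_cases hji : j = i
        · subst hji
          simp [Function.update_of_ne hb.symm, Function.update_of_ne (Ne.symm hci)]
        by_cases hjb : j = b
        · subst hjb
          simp only [Function.update_self, Function.update_of_ne hji, pr_apply, mv_smul, hAu, smul_smul]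
          congr 1
          have e : f (mv A (y j)) w = f w w / f u u * f (y j) u * ε := by
            have := hA (y j) u
            rw [hAu, hf.smul_right'] at this
            linear_combination ε * this - f (mv A (y j)) w * hε
          rw [e]
          field_simp
        · by_cases hjc : j = c
          · subst hjc; simp [Function.update_of_ne hji, Function.update_of_ne hjb]
          · simp [Function.update_of_ne hji, Function.update_of_ne hjb, Function.update_of_ne hjc]
      refine ⟨G * (Eu * Ew), Subgroup.mul_mem _ hG ?_, ?_⟩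
      · have := comm_mem_omega hEu hC
        rwa [show Eu * C * Eu⁻¹ * C⁻¹ = Eu * (C * Eu⁻¹ * C⁻¹) by group, inv_eq_of_mul_eq_one_right hEu2, hconj]
          at this
      · have hz : ∀ s t : (Fin k → F) →ₗ[F] Fin k → F, s ∘ₗ t = 0 → ∀ v,
            op i LinearMap.id (pr hf x) (op b LinearMap.id s (op i LinearMap.id (pr hf x) (op b LinearMap.id t v))) =
              0 := fun s t hst v => by
          have e1 := LinearMap.congr_fun (op_comm hb.symm (pr hf x) s) (op b LinearMap.id t v)
          simp only [LinearMap.comp_apply] at e1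
          rw [← e1]
          have e2 := LinearMap.congr_fun (op_comp b LinearMap.id LinearMap.id s t) v
          rw [hst, op_zero_right, LinearMap.comp_apply, LinearMap.zero_apply] at e2
          rw [e2, map_zero, map_zero]
        have z1 : π ∘ₗ pr hf u = 0 := LinearMap.ext fun v => by
          rw [LinearMap.comp_apply, pr_apply, map_smul, hπu, smul_zero, LinearMap.zero_apply]
        have z2 : π ∘ₗ pr hf w = 0 := LinearMap.ext fun v => by
          rw [LinearMap.comp_apply, pr_apply, map_smul, hπw, smul_zero, LinearMap.zero_apply]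
        have z3 : pr hf u ∘ₗ pr hf w = 0 := LinearMap.ext fun v => pr_perp hf (by
          rw [pr_apply, hf.smul_left, hf.comm' w u, huw, mul_zero])
        refine LinearMap.ext fun y => ?_
        show mv (G * (Eu * Ew)) y = _
        rw [mv_mul, mv_mul]
        show mvLin G (mvLin Eu (mvLin Ew y)) = _
        rw [hEwL, hEuL, hGL]
        simp only [LinearMap.sub_apply, LinearMap.smul_apply, LinearMap.id_apply, LinearMap.comp_apply,
          map_sub, map_smul, op_add_right, LinearMap.add_apply, map_add, hz _ _ z1, hz _ _ z2, hz _ _ z3, map_zero,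
          smul_zero, sub_zero]
        module)
  obtain ⟨N, hN, hNv⟩ := B.toSl.plane_induction (fun π => ∃ T : GL (Fin k) F, fac c T ∈ Geo.omegaGL Q ∧
      ∀ v, mv T v = v - (2 : F) • π v)
    ⟨1, by rw [fac_one]; exact Subgroup.one_mem _, fun v => by simp [mv_one]⟩ (by
      rintro π u w hu hw huw hπu hπw - - ⟨T, hT, hTv⟩
      refine ⟨T * (mr hf u * mr hf w), by rw [fac_mul]; exact Subgroup.mul_mem _ hT (B.mm_omega c hu hw), fun v => ?_⟩
      rw [mv_mul, mv_mul, mv_mr hf hw, mv_sub, mv_smul, mr_perp hf hu (show f w u = 0 by rw [hf.comm', huw]),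
        mv_mr hf hu, hTv]
      simp only [map_sub, map_add, map_smul, map_neg, hπu, hπw, LinearMap.add_apply, pr_apply, smul_zero, smul_sub,
        sub_zero, neg_zero, zero_sub, zero_add, add_zero]
      match_scalars <;> field_simp <;> ring)
  suffices fac i (mr hf x) = G * fac c N by rw [this]; exact Subgroup.mul_mem _ hG hN
  refine ext_pten fun y => ?_
  rw [mv_mul, mv_fac, mv_fac]
  show _ = mvLin G (pten _)
  rw [hGL, hNv]
  simp only [LinearMap.id_apply, LinearMap.sub_apply, LinearMap.smul_apply, LinearMap.comp_apply, op_pten,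
    Function.update_of_ne hb.symm, Function.update_of_ne (Ne.symm hcb), Function.update_of_ne (Ne.symm hci)]
  rw [show y c - (2 : F) • y c = (-1 : F) • y c by module, mv_mr hf hx, pr_apply]
  have e1 : Function.update (Function.update y c ((-1 : F) • y c)) b (y b) = Function.update y c ((-1 : F) • y c) := by
    conv_lhs => rw [← show Function.update y c ((-1 : F) • y c) b = y b from Function.update_of_ne (Ne.symm hcb) _ _,
      Function.update_eq_self]
  rw [e1, pten_update_smul, Function.update_eq_self,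
    Function.update_comm hci, pten_update_smul]
  rw [show Function.update (Function.update y i (((f x x)⁻¹ * f (y i) x) • x)) c (y c) =
      Function.update y i (((f x x)⁻¹ * f (y i) x) • x) by
    conv_lhs => rw [← show Function.update y i (((f x x)⁻¹ * f (y i) x) • x) c = y c from
      Function.update_of_ne hci _ _, Function.update_eq_self]]
  rw [← updL_apply (l := i), ← updL_apply (l := i), map_sub, map_smul, map_smul, updL_apply, updL_apply,
    Function.update_eq_self]
  match_scalars <;> field_simp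

/-- The hypotheses hold for every group between the monomial part and the commutator subgroup. -/
theorem ctx {X : Subgroup (GL (J → Fin k) F)} (le : X ≤ Geo.omegaGL Q)
    (hmono : ∀ g ∈ Geo.omegaGL Q, Mono g → g ∈ X) : Ctx f Q κ X where
  toSl := B.toSl
  hQ := B.hQ
  hpol := B.hpol
  le := le
  root i c w hc hw := hmono _ (B.eA_omega i hc hw) ⟨1, monoOf_fac i _⟩
  mm i x y hx hy := hmono _ (B.mm_omega i hx hy) ⟨1, monoOf_fac i _⟩
  mir h3 i x hx := hmono _ (B.mir_omega h3 i hx) ⟨1, monoOf_fac i _⟩
  pair a b x y hab hx hy := hmono _ (B.pair_omega hab hx hy) ⟨1 * 1, (monoOf_fac a _).mul (monoOf_fac b _)⟩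
  mono := hmono

end Base

end Cfsg.Agent.OrthEvenWreath
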