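/-
Tensor powers of a symmetric form of even dimension: small monomial involutions and maps carrying mirrors to mirrors.
-/
import Cfsg.Agent.Lib.OrthWreathEven.Omega
import Cfsg.Agent.Lib.OrthWreath.Norm
import Cfsg.Agent.Lib.OrthWreath.TrcSwap

set_option autoImplicit false
set_option linter.unusedSectionVars false

namespace Cfsg.Agent.OrthEvenWreath

open scoped Matrix
open Matrix Cfsg.Agent.Transvec Cfsg.Agent.TensorMax Cfsg.Agent.WreathMax Cfsg.Agent.FormWreath
open Cfsg.Agent.OrthWreath hiding Sl Ctx Base Ind Inv Gd fixsp_mir small_mir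

variable {F : Type*} [Field F] [Finite F] {k : ℕ} {J : Type} [Fintype J] [DecidableEq J]
variable {f : (Fin k → F) → (Fin k → F) → F} {κ : F}

local notation "σ₁" => RingEquiv.refl F

theorem fixsp_mir (S : Sl f κ) (i : J) {x : Fin k → F} (hx : f x x ≠ 0) :
    fixsp (fac i (mr S.hf x)) = Ln i x := by
  have hx0 : x ≠ 0 := fun e => hx (by rw [e, S.hf.zero_left])
  refine le_antisymm (fun z hz => ?_) fun z hz => ?_
  · have e : mvLin (fac i (mr S.hf x)) = op i LinearMap.id (Mlin S.hf x) := ext_ins i fun v w => by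
      show mv (fac i (mr S.hf x)) (ins i v w) = _
      rw [mv_fac_ins, mv_mr S.hf hx, op_ins, Mlin_apply, LinearMap.id_apply]
    refine mem_Ln_of_cr hx0 fun φ hφ => ?_
    obtain ⟨v, rfl⟩ := S.hf.frow_surj (fun _ => rfl) φ
    rw [S.hf.frow_dot] at hφ
    have hc : cr i (frow f v) (mv (fac i (mr S.hf x)) z) = -cr i (frow f v) z := by
      rw [cr_fac i (mr S.hf x) (φ := frow f v) (φ' := -frow f v) (fun u => by
        rw [neg_dotProduct, S.hf.frow_dot, S.hf.frow_dot, mv_mr S.hf hx, S.hf.sub_left, S.hf.smul_left, hφ,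
          mul_zero, zero_sub])]
      show ctr (-frow f v) _ = -ctr (frow f v) _
      rw [← neg_one_smul F (frow f v), ctr_smul_vec, LinearMap.smul_apply, neg_one_smul]
    rw [mem_fixsp.1 hz] at hc
    refine smul_right_injective _ S.two (?_ : (2 : F) • _ = (2 : F) • (0 : Rest i k → F))
    linear_combination (norm := module) hc
  · obtain ⟨w, rfl⟩ := mem_Ln_ins hz
    rw [mem_fixsp, mv_fac_ins, mr_self S.hf hx]

theorem small_mir (S : Sl f κ) (i : J) {x : Fin k → F} (hx : f x x ≠ 0) : OrthWreath.Small (fac i (mr S.hf x)) := by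
  have hx0 : x ≠ 0 := fun e => hx (by rw [e, S.hf.zero_left])
  rw [OrthWreath.Small, fixsp_mir S i hx, finrank_Ln i hx0, card_rest]

namespace Sl

variable (S : Sl f κ)
include S

theorem exists_aniso : ∃ e : Fin k → F, f e e = κ := by
  obtain ⟨x, -, hx⟩ := S.exists_value (P := ⊤)
    (fun u _ h => S.hf.nondeg u fun y => by rw [S.hf.comm']; exact h y Submodule.mem_top)
    (by rw [finrank_top, Module.finrank_fintype_fun_eq_card, Fintype.card_fin]; have := S.hk; omega) κ
  exact ⟨x, hx⟩

/-- The slot maps of a monomial isometry are similitudes. -/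
theorem slot_sim {g : GL (J → Fin k) F} (hg : ∀ x y, Bt σ₁ f (mv g x) (mv g y) = Bt σ₁ f x y)
    {π : Equiv.Perm J} {A : J → GL (Fin k) F} (hA : ∀ x, mv g (pten x) = pten fun j => mv (A j) (x (π j)))
    (j : J) : ∃ l : F, l ≠ 0 ∧ ∀ u v, f (mv (A j) u) (mv (A j) v) = l * f u v := by
  obtain ⟨e, he⟩ := S.exists_aniso
  set P := ∏ l ∈ Finset.univ.erase (π j), f e e
  set C := ∏ l ∈ Finset.univ.erase j, f (mv (A l) e) (mv (A l) e)
  have hP : P ≠ 0 := Finset.prod_ne_zero_iff.2 fun _ _ => he ▸ S.hκ
  have key : ∀ u v, f (mv (A j) u) (mv (A j) v) * C = f u v * P := by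
    intro u v
    have h := hg (pten (Function.update (fun _ => e) (π j) u)) (pten (Function.update (fun _ => e) (π j) v))
    rw [hA, hA, Bt_pten S.hf, Bt_pten S.hf, ← Finset.mul_prod_erase Finset.univ _ (Finset.mem_univ j),
      ← Finset.mul_prod_erase Finset.univ _ (Finset.mem_univ (π j))] at h
    simp only [Function.update_self] at h
    rw [Finset.prod_congr rfl fun l hl => show f (mv (A l) (Function.update (fun _ => e) (π j) u (π l)))
        (mv (A l) (Function.update (fun _ => e) (π j) v (π l))) = f (mv (A l) e) (mv (A l) e) by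
          rw [Function.update_of_ne (π.injective.ne (Finset.ne_of_mem_erase hl)),
            Function.update_of_ne (π.injective.ne (Finset.ne_of_mem_erase hl))],
      Finset.prod_congr (s₁ := Finset.univ.erase (π j)) rfl fun l hl => show
        f (Function.update (fun _ => e) (π j) u l) (Function.update (fun _ => e) (π j) v l) = f e e by
          rw [Function.update_of_ne (Finset.ne_of_mem_erase hl), Function.update_of_ne (Finset.ne_of_mem_erase hl)]] at h
    exact h
  have hC : C ≠ 0 := fun h0 => by
    have := key e e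
    rw [h0, mul_zero] at this
    exact mul_ne_zero (he ▸ S.hκ : f e e ≠ 0) hP this.symm
  exact ⟨P / C, div_ne_zero hP hC, fun u v => by
    rw [div_mul_eq_mul_div, eq_div_iff hC, key, mul_comm]⟩

theorem eigen_basis (B : GL (Fin k) F) (hB : ∀ v, mv B (mv B v) = v) :
    ∃ (b : Fin k → Fin k → F) (ε : Fin k → Bool), LinearIndependent F b ∧
      ∀ p, mv B (b p) = (if ε p then (1 : F) else -1) • b p := by
  classical
  set Ep := fixsp B
  set Em : Submodule F (Fin k → F) := LinearMap.ker (mvLin B + LinearMap.id)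
  have h2 := S.two
  have hm : ∀ v, v ∈ Em ↔ mv B v = -v := fun v => by
    rw [LinearMap.mem_ker, LinearMap.add_apply, LinearMap.id_apply, add_eq_zero_iff_eq_neg]
    rfl
  have hc : IsCompl Ep Em := by
    refine ⟨disjoint_iff.2 (Submodule.eq_bot_iff _ |>.2 fun v hv => ?_), codisjoint_iff.2 (Submodule.eq_top_iff'.2 fun v => ?_)⟩
    · obtain ⟨h1, h3⟩ := Submodule.mem_inf.1 hv
      rw [mem_fixsp] at h1
      rw [hm, h1] at h3
      refine (smul_eq_zero.1 (?_ : (2 : F) • v = 0)).resolve_left h2
      linear_combination (norm := module) h3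
    · refine Submodule.mem_sup.2 ⟨(2⁻¹ : F) • (v + mv B v), mem_fixsp.2 (by rw [mv_smul, mv_add, hB, add_comm]),
        (2⁻¹ : F) • (v - mv B v), (hm _).2 (by rw [mv_smul, mv_sub, hB, ← smul_neg, neg_sub]), ?_⟩
      match_scalars <;> field_simp <;> ring
  set bas := ((Module.finBasis F Ep).prod (Module.finBasis F Em)).map (Submodule.prodEquivOfIsCompl Ep Em hc)
  have hcard : Fintype.card (Fin (Module.finrank F Ep) ⊕ Fin (Module.finrank F Em)) = Fintype.card (Fin k) := by
    rw [← Module.finrank_eq_card_basis bas, Module.finrank_fintype_fun_eq_card]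
  set e := Fintype.equivOfCardEq hcard
  refine ⟨fun p => bas (e.symm p), fun p => (e.symm p).isLeft, bas.linearIndependent.comp _ e.symm.injective,
    fun p => ?_⟩
  rcases h : e.symm p with q | q
  · have : bas (Sum.inl q) ∈ Ep := by
      simp [bas, Submodule.coe_prodEquivOfIsCompl']
    rw [mem_fixsp] at this
    simp [h, this]
  · have : bas (Sum.inr q) ∈ Em := by
      simp [bas, Submodule.coe_prodEquivOfIsCompl']
    rw [hm] at this
    simp [h, this]

theorem diag_fix (hJ : Nonempty J) {h : GL (J → Fin k) F} (hs : OrthWreath.Small h) {B : J → GL (Fin k) F}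
    (hB : ∀ j v, mv (B j) (mv (B j) v) = v) {c : Bool}
    (hh : ∀ y, mv h (pten y) = (if c then (1 : F) else -1) • pten fun j => mv (B j) (y j)) :
    ∃ (b : J → Fin k → Fin k → F) (ε : J → Fin k → Bool), (∀ j, LinearIndependent F (b j)) ∧
      (∀ j p, mv (B j) (b j p) = (if ε j p then (1 : F) else -1) • b j p) ∧
      (if c then (1 : ℤ) else -1) * ∏ j, ∑ p, (if ε j p then (1 : ℤ) else -1) =
        (2 - k) * ((k : ℤ) ^ (Fintype.card J - 1)) := by
  classical
  choose b ε hb hBb using fun j => S.eigen_basis (B j) (hB j)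
  refine ⟨b, ε, hb, hBb, ?_⟩
  haveI : Nonempty (Fin k) := ⟨⟨0, by have := S.hk; omega⟩⟩
  set Φ := Module.Basis.map (Pi.basisFun F (J → Fin k)) (LinearEquiv.refl F _)
  have hBi : ∀ j, Function.Injective ((Fintype.linearCombination F (b j))) := fun j =>
    (hb j).fintypeLinearCombination_injective
  have hdet : ∀ j, (LinearMap.toMatrix' (Fintype.linearCombination F (b j))).det ≠ 0 := fun j h0 => by
    obtain ⟨v, hv, hv0⟩ := Matrix.exists_mulVec_eq_zero_iff.2 h0
    rw [LinearMap.toMatrix'_mulVec] at hv0
    exact hv (hBi j (hv0.trans (map_zero _).symm))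
  set P : J → GL (Fin k) F := fun j => Matrix.GeneralLinearGroup.mkOfDetNeZero _ (hdet j) with hP
  have hPs : ∀ j p, mv (P j) (Pi.single p 1) = b j p := fun j p => by
    show ((P j : GL (Fin k) F) : Matrix (Fin k) (Fin k) F) *ᵥ _ = _
    rw [hP, Matrix.GeneralLinearGroup.val_mkOfDetNeZero, LinearMap.toMatrix'_mulVec]
    simp [Fintype.linearCombination_apply, Pi.single_apply]
  obtain ⟨G, -, hG⟩ : ∃ G ∈ (⊤ : Subgroup (GL (J → Fin k) F)), ∀ y : J → Fin k → F,
      mv G (pten y) = pten fun j => mv (P j) (y j) := by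
    suffices H : ∀ U : Finset J, ∃ G : GL (J → Fin k) F, ∀ y : J → Fin k → F,
        mv G (pten y) = pten fun j => if j ∈ U then mv (P j) (y j) else y j by
      obtain ⟨G, hG⟩ := H Finset.univ
      exact ⟨G, Subgroup.mem_top _, fun y => by simpa using hG y⟩
    intro U
    induction U using Finset.induction with
    | empty => exact ⟨1, fun y => by simp [mv_one]⟩
    | insert a U ha ih =>
      obtain ⟨G, hG⟩ := ih
      refine ⟨fac a (P a) * G, fun y => ?_⟩
      rw [mv_mul, hG, mv_fac]
      refine congrArg pten (funext fun j => ?_)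
      by_cases hj : j = a
      · subst hj; simp [ha]
      · simp [hj]
  set sg : (J → Fin k) → ℤ := fun a =>
    (if c then (1 : ℤ) else -1) * ∏ j, (if ε j (a j) then (1 : ℤ) else -1) with hsg
  set h' := G⁻¹ * h * G⁻¹⁻¹ with hh'
  have hdiag : ∀ a, mv h' (Pi.single a 1) = ((sg a : ℤ) : F) • Pi.single a 1 := fun a => by
    refine mv_inj G ?_
    rw [hh', inv_inv, mv_mul, mv_mul, mv_mv_inv, mv_smul, ← pten_single a, hG, hh]
    funext d
    simp only [pten, Pi.smul_apply, smul_eq_mul, hPs, hBb, Finset.prod_mul_distrib, hsg, Int.cast_mul,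
      Int.cast_prod, apply_ite (Int.cast : ℤ → F), Int.cast_one, Int.cast_neg]
    ring
  have hsgv : ∀ a, sg a = 1 ∨ sg a = -1 := fun a => by
    have : sg a * sg a = 1 := by
      rw [hsg, mul_mul_mul_comm, ← Finset.prod_mul_distrib, Finset.prod_eq_one fun j _ => by split <;> rfl]
      split <;> rfl
    exact mul_self_eq_one_iff.1 this
  have hne : (-1 : F) ≠ 1 := fun e => S.two (by linear_combination -e)
  have hcoord : ∀ x a, mv h' x a = ((sg a : ℤ) : F) * x a := fun x a => by
    have e : (LinearMap.proj a).comp (mvLin h') =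
        ((sg a : ℤ) : F) • (LinearMap.proj a : ((J → Fin k) → F) →ₗ[F] F) := eq_of_single fun d => by
      show mv h' (Pi.single d 1) a = ((sg a : ℤ) : F) * (Pi.single d (1 : F) : (J → Fin k) → F) a
      rw [hdiag, Pi.smul_apply, smul_eq_mul]
      by_cases hd : a = d
      · subst hd; rfl
      · rw [Pi.single_eq_of_ne hd, mul_zero, mul_zero]
    exact LinearMap.congr_fun e x
  set A := Finset.univ.filter fun a => sg a = 1
  have hdim : Module.finrank F (fixsp h') = A.card := by
    let e : fixsp h' ≃ₗ[F] ({a // a ∈ A} → F) :=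
      { toFun := fun x a => (x : (J → Fin k) → F) a
        map_add' := fun x y => rfl
        map_smul' := fun r x => rfl
        invFun := fun c => ⟨fun a => if ha : a ∈ A then c ⟨a, ha⟩ else 0, mem_fixsp.2 (funext fun a => by
          rw [hcoord]
          by_cases ha : a ∈ A
          · rw [(Finset.mem_filter.1 ha).2, Int.cast_one, one_mul]
          · rw [dif_neg ha, mul_zero])⟩
        left_inv := fun x => Subtype.ext (funext fun a => by
          show (if ha : a ∈ A then (x : (J → Fin k) → F) a else 0) = _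
          by_cases ha : a ∈ A
          · rw [dif_pos ha]
          · rw [dif_neg ha]
            have h1 : sg a = -1 := (hsgv a).resolve_left fun e => ha (Finset.mem_filter.2 ⟨Finset.mem_univ a, e⟩)
            have h3 := congrFun (mem_fixsp.1 x.2) a
            rw [hcoord, h1] at h3
            have h4 : ((-1 : F) - 1) * (x : (J → Fin k) → F) a = 0 := by
              push_cast at h3
              linear_combination h3
            exact ((mul_eq_zero.1 h4).resolve_left (sub_ne_zero.2 hne)).symm)
        right_inv := fun c => funext fun a => by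
          show (if ha : (a : J → Fin k) ∈ A then c ⟨a, ha⟩ else 0) = c a
          rw [dif_pos a.2] }
    rw [e.finrank_eq, Module.finrank_fintype_fun_eq_card, Fintype.card_coe]
  have hA : (A.card : ℤ) * k = (k : ℤ) ^ Fintype.card J := by
    have := hs
    rw [OrthWreath.Small, ← finrank_fixsp_conj G⁻¹ h, ← hh', hdim] at this
    exact_mod_cast this
  have hsum : ∑ a, sg a = 2 * (A.card : ℤ) - (k : ℤ) ^ Fintype.card J := by
    have h3 : ∀ a, sg a = 2 * (if sg a = 1 then (1 : ℤ) else 0) - 1 := fun a => by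
      rcases hsgv a with e | e <;> simp [e]
    rw [Finset.sum_congr rfl fun a _ => h3 a, Finset.sum_sub_distrib, ← Finset.mul_sum, Finset.sum_boole,
      Finset.sum_const, Finset.card_univ, Fintype.card_fun, Fintype.card_fin]
    simp [A]
  have hprod : ∑ a, sg a = (if c then (1 : ℤ) else -1) * ∏ j, ∑ p, (if ε j p then (1 : ℤ) else -1) := by
    rw [hsg, ← Finset.mul_sum, Fintype.prod_sum]
  rw [← hprod, hsum]
  obtain ⟨n, hn⟩ : ∃ n, Fintype.card J = n + 1 := ⟨Fintype.card J - 1, by have := Fintype.card_pos (α := J); omega⟩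
  rw [hn, pow_succ] at hA ⊢
  have hA' : (A.card : ℤ) = (k : ℤ) ^ n :=
    mul_right_cancel₀ (by have := S.hk; exact_mod_cast (by omega : k ≠ 0)) hA
  rw [hA', Nat.add_sub_cancel]
  ring


/-- A map whose square is a non-square scalar anticommutes with an involution. -/
theorem exists_anti (A : GL (Fin k) F) {μ : F} (hA : ∀ v, mv A (mv A v) = μ • v)
    (hns : ∀ ν : F, μ ≠ ν * ν) :
    ∃ T : GL (Fin k) F, ∀ v, mv T (mv A v) = -mv A (mv T v) := by
  classical
  set a := mvLin A
  have haa : ∀ v, a (a v) = μ • v := hA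
  obtain ⟨U, hU, hmax⟩ := (wellFounded_gt (α := Submodule F (Fin k → F))).has_min
    {U | Disjoint U (U.map a)} ⟨⊥, disjoint_bot_left⟩
  have hc : IsCompl U (U.map a) := by
    refine ⟨hU, codisjoint_iff.2 (Submodule.eq_top_iff'.2 fun v => ?_)⟩
    by_contra hv
    have hW : ∀ z ∈ U ⊔ U.map a, a z ∈ U ⊔ U.map a := fun z hz => by
      obtain ⟨p, hp, q, hq, rfl⟩ := Submodule.mem_sup.1 hz
      obtain ⟨q', hq', rfl⟩ := Submodule.mem_map.1 hq
      rw [map_add, haa]
      exact Submodule.add_mem _ (Submodule.mem_sup_right (Submodule.mem_map_of_mem hp))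
        (Submodule.mem_sup_left (U.smul_mem _ hq'))
    have hd : Disjoint (U ⊔ Submodule.span F {v}) ((U ⊔ Submodule.span F {v}).map a) := by
      rw [Submodule.disjoint_def]
      intro z hz hz'
      obtain ⟨p, hp, q, hq, rfl⟩ := Submodule.mem_sup.1 hz
      obtain ⟨r, rfl⟩ := Submodule.mem_span_singleton.1 hq
      obtain ⟨y, hy, hye⟩ := Submodule.mem_map.1 hz'
      obtain ⟨p', hp', q', hq', rfl⟩ := Submodule.mem_sup.1 hy
      obtain ⟨s, rfl⟩ := Submodule.mem_span_singleton.1 hq'
      by_cases hrs : r = 0 ∧ s = 0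
      · obtain ⟨rfl, rfl⟩ := hrs
        simp only [zero_smul, add_zero] at hye ⊢
        exact Submodule.disjoint_def.1 hU p hp (hye ▸ Submodule.mem_map_of_mem hp')
      exfalso
      have hu : r • v - s • a v ∈ U ⊔ U.map a := by
        have e : r • v - s • a v = a p' - p := by
          rw [map_add, map_smul] at hye
          linear_combination (norm := module) -hye
        rw [e]
        exact Submodule.sub_mem _ (Submodule.mem_sup_right (Submodule.mem_map_of_mem hp')) (Submodule.mem_sup_left hp)
      have hD : r * r - s * s * μ ≠ 0 := fun e => by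
        by_cases hs : s = 0
        · subst hs
          exact hrs ⟨mul_self_eq_zero.1 (by linear_combination e), rfl⟩
        · exact hns (r / s) (by field_simp; linear_combination -e)
      refine hv ((Submodule.smul_mem_iff _ hD).1 ?_)
      have e : (r * r - s * s * μ) • v = r • (r • v - s • a v) + s • a (r • v - s • a v) := by
        rw [map_sub, map_smul, map_smul, haa]
        module
      rw [e]
      exact Submodule.add_mem _ (Submodule.smul_mem _ _ hu) (Submodule.smul_mem _ _ (hW _ hu))
    refine hmax _ hd (lt_of_le_of_ne le_sup_left fun e => hv (Submodule.mem_sup_left ?_))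
    rw [e]
    exact Submodule.mem_sup_right (Submodule.mem_span_singleton_self v)
  let e := Submodule.prodEquivOfIsCompl U (U.map a) hc
  let L : (Fin k → F) →ₗ[F] Fin k → F :=
    (U.subtype.coprod (-(U.map a).subtype)) ∘ₗ e.symm.toLinearMap
  have hL : ∀ p ∈ U, ∀ q ∈ U.map a, L (p + q) = p - q := fun p hp q hq => by
    have : e.symm (p + q) = (⟨p, hp⟩, ⟨q, hq⟩) := e.symm_apply_eq.2 (by
      simp [e, Submodule.coe_prodEquivOfIsCompl'])
    simp [L, this, sub_eq_add_neg]
  have hdec : ∀ v, ∃ p ∈ U, ∃ q ∈ U.map a, v = p + q := fun v => by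
    obtain ⟨p, hp, q, hq, e⟩ := Submodule.mem_sup.1 (show v ∈ U ⊔ U.map a by
      rw [codisjoint_iff.1 hc.codisjoint]; exact Submodule.mem_top)
    exact ⟨p, hp, q, hq, e.symm⟩
  have hLL : ∀ v, L (L v) = v := fun v => by
    obtain ⟨p, hp, q, hq, rfl⟩ := hdec v
    rw [hL p hp q hq, sub_eq_add_neg, hL p hp (-q) ((U.map a).neg_mem hq), sub_neg_eq_add]
  obtain ⟨T, hT⟩ := exists_gl_of_injective L fun x y h => by rw [← hLL x, h, hLL y]
  refine ⟨T, fun v => ?_⟩
  obtain ⟨p, hp, q, hq, rfl⟩ := hdec v
  obtain ⟨q', hq', rfl⟩ := Submodule.mem_map.1 hq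
  rw [hT, hT, hL p hp _ hq]
  show L (a (p + a q')) = -a (p - a q')
  rw [map_add, map_sub, haa, add_comm, hL _ (U.smul_mem _ hq') _ (Submodule.mem_map_of_mem hp), neg_sub]

/-- OrthWreath.Small monomial involutions move no slot. -/
theorem trc_noswap {h : GL (J → Fin k) F} (h1 : h * h = 1) {π : Equiv.Perm J} (hπ : MonoOf π h) (hs : OrthWreath.Small h) :
    π = 1 := by
  by_contra hne
  classical
  have hk := S.hk
  haveI : NeZero k := ⟨by omega⟩
  obtain ⟨a, ha⟩ : ∃ a, π a ≠ a := by
    by_contra hcon
    push Not at hcon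
    exact hne (Equiv.ext hcon)
  haveI : Nonempty J := ⟨a⟩
  set b := π a with hb
  have hπ2 : π * π = 1 := perm_of_monoOf (by omega) (h1 ▸ hπ.mul hπ) monoOf_one
  have hπb : π b = a := by rw [hb]; exact Equiv.congr_fun hπ2 a
  obtain ⟨A, hA⟩ := hπ
  obtain ⟨μ, hμ, hμA⟩ : ∃ μ : F, μ ≠ 0 ∧ ∀ v, mv (A b) (mv (A a) v) = μ • v := by
    refine slot_scalar (z := fun _ => Pi.single 0 1) (z' := fun j => mv (A j) (mv (A (π j)) (Pi.single 0 1)))
      (i := b) (by omega) (fun j _ => Pi.single_ne_zero_iff.2 one_ne_zero) fun v => ?_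
    have h0 : mv (h * h) (pten (Function.update (fun _ => Pi.single 0 1) b v)) =
        pten (Function.update (fun _ => Pi.single 0 1) b v) := by rw [h1, mv_one]
    rw [mv_mul, hA, hA] at h0
    rw [← h0]
    refine congrArg pten (funext fun j => ?_)
    have hjj : π (π j) = j := Equiv.congr_fun hπ2 j
    by_cases hj : j = b
    · subst hj
      rw [Function.update_self, hjj, Function.update_self, hπb]
    · rw [Function.update_of_ne hj, hjj, Function.update_of_ne hj]
  set G := fac (J := J) a (A a)⁻¹ with hG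
  set h' := G * h * G⁻¹ with hh'
  set Y : (J → Fin k → F) → J → Fin k → F := fun y j =>
    if j = a then y b else if j = b then μ • y a else mv (A j) (y (π j)) with hY
  have hh : ∀ y, mv h' (pten y) = pten (Y y) := fun y => by
    rw [hh', mv_mul, mv_mul, hG, fac_inv, inv_inv, mv_fac, hA, mv_fac]
    refine congrArg pten (funext fun j => ?_)
    by_cases hja : j = a
    · subst hja
      rw [Function.update_self, ← hb, Function.update_of_ne ha, mv_inv_mv]
      simp [hY]
    · rw [Function.update_of_ne hja]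
      by_cases hjb : j = b
      · subst hjb
        rw [hπb, Function.update_self, hμA]
        simp [hY, ha]
      · have : π j ≠ a := fun e => hjb (by
          have h2 := Equiv.congr_fun hπ2 j
          rw [Equiv.Perm.mul_apply, e, ← hb] at h2
          exact h2.symm)
        rw [Function.update_of_ne this]
        simp [hY, hja, hjb]
  have h1' : h' * h' = 1 := by
    rw [hh', show G * h * G⁻¹ * (G * h * G⁻¹) = G * (h * h) * G⁻¹ by group, h1, mul_one, mul_inv_cancel]
  set H := (h' : Matrix (J → Fin k) (J → Fin k) F) with hH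
  have hcol : ∀ d m, H m d = pten (Y fun j => Pi.single (d j) 1) m := fun d m => by
    exact (congrFun (Matrix.mulVec_single_one H d) m).symm.trans
      ((congrFun (congrArg (mv h') (pten_single d)).symm m).trans (congrFun (hh _) m))
  have hsupp : ∀ d m, H m d ≠ 0 → m a = d b ∧ m b = d a := by
    intro d m hne0
    rw [hcol, pten] at hne0
    have h2 := Finset.prod_ne_zero_iff.1 hne0
    constructor
    · have := h2 a (Finset.mem_univ a)
      simp only [hY, if_pos] at this
      by_contra e
      exact this (Pi.single_eq_of_ne e _)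
    · have := h2 b (Finset.mem_univ b)
      simp only [hY, if_neg ha, if_pos, Pi.smul_apply, smul_eq_mul] at this
      by_contra e
      exact this (by rw [Pi.single_eq_of_ne e, mul_zero])
  set P := Finset.univ.filter fun d : J → Fin k => d a < d b with hP
  let ext : (P → F) →ₗ[F] (J → Fin k) → F :=
    { toFun := fun c m => if hm : m ∈ P then c ⟨m, hm⟩ else 0
      map_add' := fun c c' => funext fun m => by
        simp only [Pi.add_apply]
        split <;> simp
      map_smul' := fun r c => funext fun m => by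
        simp only [Pi.smul_apply, RingHom.id_apply]
        split <;> simp }
  let Φ : (P → F) →ₗ[F] fixsp h' :=
    LinearMap.codRestrict (fixsp h') (ext + (mvLin h').comp ext) fun c => mem_fixsp.2 (by
      show mv h' (ext c + mv h' (ext c)) = ext c + mv h' (ext c)
      rw [mv_add, ← mv_mul, h1', mv_one, add_comm])
  have hΦ : ∀ c (m : J → Fin k) (hm : m ∈ P), ((Φ c : fixsp h') : (J → Fin k) → F) m = c ⟨m, hm⟩ := by
    intro c m hm
    show ext c m + (H *ᵥ ext c) m = _
    rw [Matrix.mulVec, dotProduct, Finset.sum_eq_zero fun d _ => ?_, add_zero]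
    · exact dif_pos hm
    · by_cases hd : d ∈ P
      · rw [mul_eq_zero]
        left
        by_contra e
        obtain ⟨e1, e2⟩ := hsupp d m e
        have hm' := (Finset.mem_filter.1 hm).2
        have hd' := (Finset.mem_filter.1 hd).2
        rw [e1, e2] at hm'
        exact lt_asymm hm' hd'
      · rw [show ext c d = 0 from dif_neg hd, mul_zero]
  have hinj : Function.Injective Φ := fun c c' e => funext fun ⟨m, hm⟩ => by
    rw [← hΦ c m hm, e, hΦ c' m hm]
  set E := Finset.univ.filter fun d : J → Fin k => d a = d b with hE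
  have hcE : E.card * k = k ^ Fintype.card J := by
    have e : {d : J → Fin k // d ∈ E} × Fin k ≃ (J → Fin k) :=
      { toFun := fun q => Function.update q.1.1 a q.2
        invFun := fun d => (⟨Function.update d a (d b), Finset.mem_filter.2
          ⟨Finset.mem_univ _, by rw [Function.update_self, Function.update_of_ne ha]⟩⟩, d a)
        left_inv := fun q => by
          obtain ⟨⟨d, hd⟩, p⟩ := q
          refine Prod.ext (Subtype.ext ?_) (by simp)
          simp only [Function.update_idem, Function.update_of_ne ha]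
          rw [← (Finset.mem_filter.1 hd).2, Function.update_eq_self]
        right_inv := fun d => by simp }
    simpa using Fintype.card_congr e
  have hcP : 2 * P.card + E.card = k ^ Fintype.card J := by
    have hgt : (Finset.univ.filter fun d : J → Fin k => d b < d a).card = P.card := by
      refine Finset.card_nbij' (fun d => d ∘ Equiv.swap a b) (fun d => d ∘ Equiv.swap a b) ?_ ?_ ?_ ?_ <;>
        intro d hd
      · rw [Finset.mem_coe, Finset.mem_filter] at hd ⊢
        exact ⟨Finset.mem_univ _, by simpa using hd.2⟩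
      · rw [Finset.mem_coe, Finset.mem_filter] at hd ⊢
        exact ⟨Finset.mem_univ _, by simpa using hd.2⟩
      · funext j; simp
      · funext j; simp
    have e0 : (J → Fin k) → ℕ := fun d =>
      (if d a < d b then 1 else 0) + (if d a = d b then 1 else 0) + (if d b < d a then 1 else 0)
    have e1 : ∑ d : J → Fin k, ((if d a < d b then 1 else 0) + (if d a = d b then 1 else 0) +
        (if d b < d a then 1 else 0)) = ∑ _d : J → Fin k, (1 : ℕ) := Finset.sum_congr rfl fun d _ => by
      rcases lt_trichotomy (d a) (d b) with e | e | e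
      · simp [e, e.ne, lt_asymm e]
      · simp [e]
      · simp [e, e.ne', lt_asymm e]
    rw [Finset.sum_add_distrib, Finset.sum_add_distrib, Finset.sum_boole, Finset.sum_boole, Finset.sum_boole,
      Finset.sum_const, Finset.card_univ, Fintype.card_fun, Fintype.card_fin, smul_eq_mul, mul_one] at e1
    simp only [Nat.cast_id] at e1
    rw [hgt, ← hP, ← hE] at e1
    omega
  have hfix : Module.finrank F (fixsp h') * k = k ^ Fintype.card J := by
    rw [hh', finrank_fixsp_conj]; exact hs
  have hle : P.card ≤ Module.finrank F (fixsp h') := by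
    have := LinearMap.finrank_le_finrank_of_injective hinj
    rwa [Module.finrank_fintype_fun_eq_card, Fintype.card_coe] at this
  have hN : 0 < k ^ Fintype.card J := pow_pos (by omega) _
  have h4 : 4 * k ^ Fintype.card J ≤ k * k ^ Fintype.card J := Nat.mul_le_mul_right _ hk
  have h5 : 2 * (P.card * k) + E.card * k = k * k ^ Fintype.card J := by rw [← hcP]; ring
  nlinarith [Nat.mul_le_mul_right k hle]

/-- Without moved slots: a mirror of one slot. -/
theorem trc_fix (hJ : Nonempty J) {h : GL (J → Fin k) F}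
    (hiso : ∀ x y, Bt σ₁ f (mv h x) (mv h y) = Bt σ₁ f x y) (h1 : h * h = 1) (hm : MonoOf 1 h) (hs : OrthWreath.Small h) :
    ∃ (j : J) (y : Fin k → F), f y y ≠ 0 ∧ h = fac j (mr S.hf y) := by
  classical
  obtain ⟨A, hA⟩ := hm
  simp only [Equiv.Perm.one_apply] at hA
  have hf := S.hf
  choose l hl hlA using fun j => S.slot_sim hiso (π := 1) (A := A) (by simpa using hA) j
  obtain ⟨e, he⟩ := S.exists_aniso
  have he0 : f e e ≠ 0 := he ▸ S.hκ
  have hsq : ∀ j, ∃ μ : F, μ ≠ 0 ∧ ∀ v, mv (A j) (mv (A j) v) = μ • v := by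
    intro j
    set P := ∏ i ∈ Finset.univ.erase j, f (mv (A i) (mv (A i) e)) e
    set R := ∏ i ∈ Finset.univ.erase j, f e e
    have hR : R ≠ 0 := Finset.prod_ne_zero_iff.2 fun _ _ => he0
    have key : ∀ u v, f (mv (A j) (mv (A j) u)) v * P = f u v * R := fun u v => by
      have h0 : Bt σ₁ f (mv (h * h) (pten (Function.update (fun _ => e) j u))) (pten (Function.update (fun _ => e) j v)) =
          Bt σ₁ f (pten (Function.update (fun _ => e) j u)) (pten (Function.update (fun _ => e) j v)) := by
        rw [h1, mv_one]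
      rw [mv_mul, hA, hA, Bt_pten hf, Bt_pten hf, ← Finset.mul_prod_erase Finset.univ _ (Finset.mem_univ j),
        ← Finset.mul_prod_erase Finset.univ _ (Finset.mem_univ j)] at h0
      simp only [Function.update_self] at h0
      rw [Finset.prod_congr rfl fun i hi => show f (mv (A i) (mv (A i) (Function.update (fun _ => e) j u i)))
          (Function.update (fun _ => e) j v i) = f (mv (A i) (mv (A i) e)) e by
            rw [Function.update_of_ne (Finset.ne_of_mem_erase hi), Function.update_of_ne (Finset.ne_of_mem_erase hi)],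
        Finset.prod_congr (s₁ := Finset.univ.erase j) rfl fun i hi => show
          f (Function.update (fun _ => e) j u i) (Function.update (fun _ => e) j v i) = f e e by
            rw [Function.update_of_ne (Finset.ne_of_mem_erase hi), Function.update_of_ne (Finset.ne_of_mem_erase hi)]] at h0
      exact h0
    have hP : P ≠ 0 := fun h0 => by
      have := key e e
      rw [h0, mul_zero] at this
      exact mul_ne_zero he0 hR this.symm
    refine ⟨R / P, div_ne_zero hR hP, fun u => sub_eq_zero.1 (hf.nondeg _ fun v => ?_)⟩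
    rw [hf.sub_left, hf.smul_left, sub_eq_zero, div_mul_eq_mul_div, eq_div_iff hP, key, mul_comm]
  choose μ hμ hμA using hsq
  have hν : ∀ j, ∃ ν : F, ν ≠ 0 ∧ μ j = ν * ν := by
    intro j
    by_contra hcon
    push Not at hcon
    obtain ⟨T, hT⟩ := S.exists_anti (A j) (hμA j) fun ν e => hcon ν (fun e0 => hμ j (by rw [e, e0, zero_mul])) e
    have hanti : ∀ v, mv h (mv (fac j T) v) = -mv (fac j T) (mv h v) := fun v => by
      refine LinearMap.congr_fun (f := mvLin h ∘ₗ mvLin (fac j T)) (g := -(mvLin (fac j T) ∘ₗ mvLin h))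
        (eq_of_pten fun y => ?_) v
      show mv h (mv (fac j T) (pten y)) = -mv (fac j T) (mv h (pten y))
      rw [mv_fac, hA, hA, mv_fac, ← neg_one_smul F, ← updL_apply, ← map_smul, updL_apply, neg_one_smul,
        hT, neg_neg]
      refine congrArg pten (funext fun i => ?_)
      by_cases hi : i = j
      · subst hi; simp
      · simp [Function.update_of_ne hi]
    set Ep := fixsp h
    set Em : Submodule F ((J → Fin k) → F) := LinearMap.ker (mvLin h + LinearMap.id)
    have hm' : ∀ v, v ∈ Em ↔ mv h v = -v := fun v => by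
      rw [LinearMap.mem_ker, LinearMap.add_apply, LinearMap.id_apply, add_eq_zero_iff_eq_neg]
      rfl
    have hinv : ∀ v, mv h (mv h v) = v := fun v => by rw [← mv_mul, h1, mv_one]
    have hsup : Ep ⊔ Em = ⊤ := Submodule.eq_top_iff'.2 fun v => Submodule.mem_sup.2
      ⟨(2⁻¹ : F) • (v + mv h v), mem_fixsp.2 (by rw [mv_smul, mv_add, hinv, add_comm]),
        (2⁻¹ : F) • (v - mv h v), (hm' _).2 (by rw [mv_smul, mv_sub, hinv, ← smul_neg, neg_sub]),
        by have := S.two; match_scalars <;> field_simp <;> ring⟩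
    have h1' : Em.map (mvLin (fac j T)) ≤ Ep := fun z hz => by
      obtain ⟨y, hy, rfl⟩ := mem_map_gl.1 hz
      rw [mem_fixsp, hanti, (hm' y).1 hy, mv_neg, neg_neg]
    have h2' := Submodule.finrank_add_le_finrank_add_finrank Ep Em
    rw [hsup, finrank_top, Module.finrank_fintype_fun_eq_card, Fintype.card_fun, Fintype.card_fin] at h2'
    have h3' := Submodule.finrank_mono h1'
    rw [finrank_map_gl] at h3'
    have hk := S.hk
    have hN : 0 < k ^ Fintype.card J := pow_pos (by omega) _
    have h4' := hs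
    unfold OrthWreath.Small at h4'
    nlinarith
  choose ν hν0 hν2 using hν
  have hdet : ∀ j, ((ν j)⁻¹ • (A j : Matrix (Fin k) (Fin k) F)).det ≠ 0 := fun j => by
    rw [Matrix.det_smul]
    exact mul_ne_zero (pow_ne_zero _ (inv_ne_zero (hν0 j)))
      (isUnit_iff_ne_zero.1 ((Matrix.isUnit_iff_isUnit_det _).1 (A j).isUnit))
  set B : J → GL (Fin k) F := fun j => Matrix.GeneralLinearGroup.mkOfDetNeZero _ (hdet j) with hBdef
  have hBv : ∀ j v, mv (B j) v = (ν j)⁻¹ • mv (A j) v := fun j v => by
    show ((B j : GL (Fin k) F) : Matrix (Fin k) (Fin k) F) *ᵥ v = _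
    rw [hBdef, Matrix.GeneralLinearGroup.val_mkOfDetNeZero, Matrix.smul_mulVec]
  have hBB : ∀ j v, mv (B j) (mv (B j) v) = v := fun j v => by
    rw [hBv, hBv, mv_smul, hμA, smul_smul, smul_smul, hν2 j]
    have := hν0 j
    field_simp
    rw [one_smul]
  have hBl : ∀ j, ∃ l' : F, l' * l' = 1 ∧ ∀ u v, f (mv (B j) u) (mv (B j) v) = l' * f u v := by
    intro j
    set l' := l j / (ν j * ν j) with hl'
    have hB1 : ∀ u v, f (mv (B j) u) (mv (B j) v) = l' * f u v := fun u v => by
      rw [hBv, hBv, hf.smul_left, hf.smul_right', hlA, hl']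
      have := hν0 j
      field_simp
    refine ⟨l', mul_right_cancel₀ he0 ?_, hB1⟩
    have := hB1 (mv (B j) e) (mv (B j) e)
    rw [hBB, hB1] at this
    linear_combination -this
  have hh : ∀ y, mv h (pten y) = (∏ j, ν j) • pten fun j => mv (B j) (y j) := fun y => by
    rw [hA]
    funext a
    simp only [pten, Pi.smul_apply, smul_eq_mul, hBv, ← Finset.prod_mul_distrib]
    exact Finset.prod_congr rfl fun j _ => by rw [← mul_assoc, mul_inv_cancel₀ (hν0 j), one_mul]
  obtain ⟨c, hc⟩ : ∃ c : Bool, ∏ j, ν j = if c then (1 : F) else -1 := by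
    have h0 : mv (h * h) (pten fun _ => e) = (pten fun _ => e : (J → Fin k) → F) := by rw [h1, mv_one]
    rw [mv_mul, hh, mv_smul, hh, smul_smul] at h0
    simp only [hBB] at h0
    have hpe : (pten fun _ => e : (J → Fin k) → F) ≠ 0 := pten_ne_zero fun _ e0 => he0 (by rw [e0, hf.zero_left])
    have := smul_left_injective F hpe (h0.trans (one_smul F _).symm)
    rcases mul_self_eq_one_iff.1 this with e' | e'
    · exact ⟨true, by rw [e']; rfl⟩
    · exact ⟨false, by rw [e']; rfl⟩
  rw [hc] at hh
  obtain ⟨b, ε, hb, hBb, hsum⟩ := S.diag_fix hJ hs hBB hh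
  set s : J → ℤ := fun j => ∑ p, (if ε j p then (1 : ℤ) else -1) with hs'
  set np : J → ℕ := fun j => (Finset.univ.filter fun p => ε j p = true).card with hnp
  have hsj : ∀ j, s j = 2 * (np j : ℤ) - k := fun j => by
    have h3 : ∀ p, (if ε j p then (1 : ℤ) else -1) = 2 * (if ε j p then (1 : ℤ) else 0) - 1 := fun p => by
      split <;> ring
    simp only [hs', hnp]
    rw [Finset.sum_congr rfl fun p _ => h3 p, Finset.sum_sub_distrib, ← Finset.mul_sum, Finset.sum_boole,
      Finset.sum_const, Finset.card_univ, Fintype.card_fin]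
    simp
  have hnk : ∀ j, np j ≤ k := fun j => (Finset.card_le_univ _).trans (Fintype.card_fin k).le
  have habs : ∀ j, (s j).natAbs = k ∨ (s j).natAbs + 2 ≤ k := fun j => by
    have := hsj j
    have := hnk j
    omega
  have hkn : ((2 - (k : ℤ)) * (k : ℤ) ^ (Fintype.card J - 1)).natAbs = (k - 2) * k ^ (Fintype.card J - 1) := by
    rw [Int.natAbs_mul, Int.natAbs_pow, Int.natAbs_natCast]
    congr 1
    have := S.hk
    omega
  have hprod : ∏ j, (s j).natAbs = (k - 2) * k ^ (Fintype.card J - 1) := by
    rw [← hkn, ← hsum, Int.natAbs_mul, show (if c then (1 : ℤ) else -1).natAbs = 1 by split <;> rfl, one_mul]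
    exact (map_prod Int.natAbsHom s Finset.univ).symm
  set U := Finset.univ.filter fun j => (s j).natAbs ≠ k with hU
  obtain ⟨j₀, hj₀⟩ : ∃ j₀, U = {j₀} := by
    rw [← Finset.card_eq_one]
    have hk := S.hk
    obtain ⟨n, hn⟩ : ∃ n, Fintype.card J = n + 1 := ⟨Fintype.card J - 1, by have := Fintype.card_pos (α := J); omega⟩
    rw [hn, Nat.add_sub_cancel] at hprod
    have hout : ∀ W : Finset J, (∀ j, j ∉ W → (s j).natAbs = k) →
        ∏ j, (s j).natAbs = (∏ j ∈ W, (s j).natAbs) * k ^ (n + 1 - W.card) := fun W hW => by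
      rw [← Finset.prod_mul_prod_compl W, Finset.prod_congr (s₁ := Wᶜ) rfl fun j hj => hW j (Finset.mem_compl.1 hj),
        Finset.prod_const, Finset.card_compl, hn]
    have hUk : ∀ j, j ∉ U → (s j).natAbs = k := fun j hj => by
      by_contra e0; exact hj (Finset.mem_filter.2 ⟨Finset.mem_univ j, e0⟩)
    rcases Nat.lt_trichotomy U.card 1 with hlt | heq | hgt
    · exfalso
      have hU0 : U = ∅ := Finset.card_eq_zero.1 (by omega)
      rw [hout U hUk, hU0, Finset.prod_empty, one_mul, Finset.card_empty, Nat.sub_zero, pow_succ] at hprod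
      have : 0 < k ^ n := pow_pos (by omega) n
      nlinarith [Nat.sub_add_cancel (show 2 ≤ k by omega)]
    · exact heq
    · exfalso
      have hle : ∏ j ∈ U, (s j).natAbs ≤ (k - 2) ^ U.card := by
        refine Finset.prod_le_pow_card U _ _ fun j hj => ?_
        have := (habs j).resolve_left (Finset.mem_filter.1 hj).2
        omega
      have hUn : U.card ≤ n + 1 := hn ▸ Finset.card_le_univ U
      obtain ⟨a, ha⟩ : ∃ a, n = a + (U.card - 1) := ⟨n - (U.card - 1), by omega⟩
      rw [hout U hUk, show n + 1 - U.card = a by omega, ha, pow_add, mul_comm (k ^ a)] at hprod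
      rw [← mul_assoc] at hprod
      have hka : 0 < k ^ a := pow_pos (by omega) a
      have h5 := Nat.eq_of_mul_eq_mul_right hka hprod
      have h6 : (k - 2) ^ U.card < (k - 2) * k ^ (U.card - 1) := by
        obtain ⟨r, hr⟩ : ∃ r, U.card = r + 2 := ⟨U.card - 2, by omega⟩
        rw [hr, show r + 2 - 1 = r + 1 by omega, pow_succ', pow_succ']
        refine Nat.mul_lt_mul_of_pos_left ?_ (by omega)
        rw [← pow_succ']
        exact Nat.pow_lt_pow_left (show k - 2 < k by omega) (Nat.succ_ne_zero r)
      omega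
  have hother : ∀ j, j ≠ j₀ → ∃ t : Bool, ∀ v, mv (B j) v = (if t then (1 : F) else -1) • v := by
    intro j hj
    have hjk : (s j).natAbs = k := by
      by_contra e0
      exact hj (Finset.mem_singleton.1 (hj₀ ▸ Finset.mem_filter.2 ⟨Finset.mem_univ j, e0⟩))
    haveI : Nonempty (Fin k) := ⟨⟨0, by have := S.hk; omega⟩⟩
    have hspan := (hb j).span_eq_top_of_card_eq_finrank (by rw [Module.finrank_fintype_fun_eq_card])
    obtain ⟨t, ht⟩ : ∃ t : Bool, ∀ p, ε j p = t := by
      have h5 := hsj j
      have h6 := hnk j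
      rcases (by omega : np j = k ∨ np j = 0) with hn' | hn'
      · refine ⟨true, fun p => ?_⟩
        have : (Finset.univ.filter fun p => ε j p = true) = Finset.univ :=
          Finset.eq_univ_of_card _ (hn'.trans (Fintype.card_fin k).symm)
        have h7 : p ∈ Finset.univ.filter fun p => ε j p = true := by rw [this]; exact Finset.mem_univ p
        exact (Finset.mem_filter.1 h7).2
      · refine ⟨false, fun p => ?_⟩
        cases hp : ε j p
        · rfl
        · exact absurd (Finset.card_pos.2 ⟨p, Finset.mem_filter.2 ⟨Finset.mem_univ p, hp⟩⟩) (by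
            show ¬ 0 < np j; omega)
    refine ⟨t, fun v => ?_⟩
    have hv : v ∈ Submodule.span F (Set.range (b j)) := by rw [hspan]; exact Submodule.mem_top
    induction hv using Submodule.span_induction with
    | mem v hv => obtain ⟨p, rfl⟩ := hv; rw [hBb, ht]
    | zero => rw [mv_zero, smul_zero]
    | add u w _ _ hu hw => rw [mv_add, hu, hw, smul_add]
    | smul r u _ hu => rw [mv_smul, hu, smul_comm]
  obtain ⟨t₀, p₀, hp₀⟩ : ∃ (t₀ : Bool) (p₀ : Fin k), ∀ p, ε j₀ p = if p = p₀ then t₀ else !t₀ := by
    have hlt := (Finset.mem_filter.1 (hj₀ ▸ Finset.mem_singleton_self j₀ : j₀ ∈ U)).2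
    have hge : (s j₀).natAbs = k - 2 := by
      have h7 : ∏ j, (s j).natAbs = (s j₀).natAbs * k ^ (Fintype.card J - 1) := by
        rw [← Finset.mul_prod_erase Finset.univ _ (Finset.mem_univ j₀),
          Finset.prod_congr rfl fun j hj => show (s j).natAbs = k by
            by_contra e0
            exact Finset.ne_of_mem_erase hj
              (Finset.mem_singleton.1 (hj₀ ▸ Finset.mem_filter.2 ⟨Finset.mem_univ j, e0⟩)),
          Finset.prod_const, Finset.card_erase_of_mem (Finset.mem_univ j₀), Finset.card_univ]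
      rw [h7] at hprod
      exact Nat.eq_of_mul_eq_mul_right (pow_pos (by have := S.hk; omega) _) hprod
    have h5 := hsj j₀
    have h6 := hnk j₀
    rcases (by omega : np j₀ = 1 ∨ np j₀ + 1 = k) with hn' | hn'
    · obtain ⟨p₀, hp₀⟩ := Finset.card_eq_one.1 hn'
      refine ⟨true, p₀, fun p => ?_⟩
      by_cases hp : p = p₀
      · subst hp
        rw [if_pos rfl]
        have h7 : p ∈ Finset.univ.filter fun p => ε j₀ p = true := by rw [hp₀]; exact Finset.mem_singleton_self p
        exact (Finset.mem_filter.1 h7).2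
      · rw [if_neg hp]
        cases hpe : ε j₀ p
        · rfl
        · exact absurd (Finset.mem_singleton.1 (hp₀ ▸ Finset.mem_filter.2 ⟨Finset.mem_univ p, hpe⟩)) hp
    · have hneg : (Finset.univ.filter fun p => ε j₀ p = false).card = 1 := by
        have := Finset.card_filter_add_card_filter_not (s := Finset.univ) (fun p => ε j₀ p = true)
        simp only [Finset.card_univ, Fintype.card_fin, Bool.not_eq_true] at this
        simp only [hnp] at hn'
        omega
      obtain ⟨p₀, hp₀⟩ := Finset.card_eq_one.1 hneg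
      refine ⟨false, p₀, fun p => ?_⟩
      by_cases hp : p = p₀
      · subst hp
        rw [if_pos rfl]
        have h7 : p ∈ Finset.univ.filter fun p => ε j₀ p = false := by rw [hp₀]; exact Finset.mem_singleton_self p
        exact (Finset.mem_filter.1 h7).2
      · rw [if_neg hp]
        cases hpe : ε j₀ p
        · exact absurd (Finset.mem_singleton.1 (hp₀ ▸ Finset.mem_filter.2 ⟨Finset.mem_univ p, hpe⟩)) hp
        · rfl
  set y := b j₀ p₀
  obtain ⟨l', hl'2, hBl'⟩ := hBl j₀
  have hl1 : l' = 1 := by
    rcases mul_self_eq_one_iff.1 hl'2 with e1 | e1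
    · exact e1
    exfalso
    haveI : Nonempty (Fin k) := ⟨p₀⟩
    have hsp := (hb j₀).span_eq_top_of_card_eq_finrank (by rw [Module.finrank_fintype_fun_eq_card])
    have hiso' : ∀ p q, p ≠ p₀ → q ≠ p₀ → f (b j₀ p) (b j₀ q) = 0 := fun p q hp hq => by
      have := hBl' (b j₀ p) (b j₀ q)
      rw [hBb, hBb, hp₀, hp₀, if_neg hp, if_neg hq, hf.smul_left, hf.smul_right', e1] at this
      refine (mul_eq_zero.1 (?_ : (2 : F) * f (b j₀ p) (b j₀ q) = 0)).resolve_left S.two
      cases t₀ <;> simp at this <;> linear_combination this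
    have hzero : ∀ v, (∀ p, p ≠ p₀ → f v (b j₀ p) = 0) → f v (b j₀ p₀) = 0 → v = 0 := fun v h1 h2 => by
      refine hf.nondeg v fun z => ?_
      have hz : z ∈ Submodule.span F (Set.range (b j₀)) := by rw [hsp]; exact Submodule.mem_top
      induction hz using Submodule.span_induction with
      | mem z hz =>
        obtain ⟨p, rfl⟩ := hz
        by_cases hp : p = p₀
        · subst hp; exact h2
        · exact h1 p hp
      | zero => exact hf.zero_right _
      | add u w _ _ hu hw => rw [hf.add_right, hu, hw, add_zero]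
      | smul r u _ hu => rw [hf.smul_right', hu, mul_zero]
    obtain ⟨p, q, hp, hq, hpq⟩ : ∃ p q, p ≠ p₀ ∧ q ≠ p₀ ∧ p ≠ q := by
      have hk := S.hk
      obtain ⟨p, hp, q, hq, hpq⟩ := Finset.one_lt_card.1 (by
        rw [Finset.card_erase_of_mem (Finset.mem_univ p₀), Finset.card_univ, Fintype.card_fin]; omega :
          1 < (Finset.univ.erase p₀).card)
      exact ⟨p, q, Finset.ne_of_mem_erase hp, Finset.ne_of_mem_erase hq, hpq⟩
    have hv := hzero (f (b j₀ q) (b j₀ p₀) • b j₀ p - f (b j₀ p) (b j₀ p₀) • b j₀ q)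
      (fun r hr => by rw [hf.sub_left, hf.smul_left, hf.smul_left, hiso' p r hp hr, hiso' q r hq hr]; ring)
      (by rw [hf.sub_left, hf.smul_left, hf.smul_left]; ring)
    have hli : LinearIndependent F ![b j₀ p, b j₀ q] := by
      have := (hb j₀).comp ![p, q] (by intro u v; fin_cases u <;> fin_cases v <;> simp [hpq, hpq.symm])
      convert this using 1
      funext u; fin_cases u <;> rfl
    rw [sub_eq_add_neg, ← neg_smul] at hv
    have hq0 := LinearIndependent.pair_iff.1 hli _ _ hv
    exact (hb j₀).ne_zero q (hzero _ (fun r hr => hiso' q r hq hr) hq0.1)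
  have hBi : ∀ u v, f (mv (B j₀) u) (mv (B j₀) v) = f u v := fun u v => by rw [hBl', hl1, one_mul]
  have horth : ∀ p, p ≠ p₀ → f (b j₀ p) y = 0 := fun p hp => by
    have := hBi (b j₀ p) y
    rw [hBb, hBb, hp₀, hp₀, if_neg hp, if_pos rfl, hf.smul_left, hf.smul_right'] at this
    have h4 : ((if (!t₀) then (1 : F) else -1) * (if t₀ then (1 : F) else -1) - 1) * f (b j₀ p) y = 0 := by
      linear_combination this
    refine (mul_eq_zero.1 h4).resolve_left ?_
    cases t₀ <;> simp <;> exact fun e0 => S.two (by linear_combination -e0)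
  haveI : Nonempty (Fin k) := ⟨p₀⟩
  have hspan := (hb j₀).span_eq_top_of_card_eq_finrank (by rw [Module.finrank_fintype_fun_eq_card])
  have hyy : f y y ≠ 0 := fun e0 => by
    refine (hb j₀).ne_zero p₀ (hf.nondeg y fun v => ?_)
    have hv : v ∈ Submodule.span F (Set.range (b j₀)) := by rw [hspan]; exact Submodule.mem_top
    induction hv using Submodule.span_induction with
    | mem v hv =>
      obtain ⟨p, rfl⟩ := hv
      by_cases hp : p = p₀
      · subst hp; exact e0
      · rw [hf.comm', horth p hp]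
    | zero => exact hf.zero_right _
    | add u w _ _ hu hw => rw [hf.add_right, hu, hw, add_zero]
    | smul r u _ hu => rw [hf.smul_right', hu, mul_zero]
  have hBj₀ : ∀ v, mv (B j₀) v = (if t₀ then (1 : F) else -1) • mv (mr hf y) v := fun v => by
    have hv : v ∈ Submodule.span F (Set.range (b j₀)) := by rw [hspan]; exact Submodule.mem_top
    induction hv using Submodule.span_induction with
    | mem v hv =>
      obtain ⟨p, rfl⟩ := hv
      rw [hBb, hp₀]
      by_cases hp : p = p₀
      · subst hp; rw [if_pos rfl, mr_self hf hyy]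
      · rw [if_neg hp, mr_perp hf hyy (horth p hp), smul_neg, ← neg_smul]
        cases t₀ <;> simp
    | zero => rw [mv_zero, mv_zero, smul_zero]
    | add u w _ _ hu hw => rw [mv_add, mv_add, hu, hw, smul_add]
    | smul r u _ hu => rw [mv_smul, mv_smul, hu, smul_comm]
  choose! t ht using hother
  set T : J → Bool := fun j => if j = j₀ then t₀ else t j
  have hBT : ∀ j v, mv (B j) v = (if T j then (1 : F) else -1) • (if j = j₀ then mv (mr hf y) v else v) :=
    fun j v => by
      by_cases hj : j = j₀
      · subst hj; simp only [T, if_pos]; exact hBj₀ v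
      · simp only [T, if_neg hj]; exact ht j hj v
  have hsT : ∀ j, s j = (if T j then (1 : ℤ) else -1) * (if j = j₀ then 2 - (k : ℤ) else k) := by
    intro j
    by_cases hj : j = j₀
    · subst hj
      simp only [T, if_pos, hs']
      rw [← Finset.add_sum_erase Finset.univ _ (Finset.mem_univ p₀), hp₀, if_pos rfl,
        Finset.sum_congr rfl fun p hp => show (if ε j p then (1 : ℤ) else -1) = -(if t₀ then (1 : ℤ) else -1) by
          rw [hp₀, if_neg (Finset.ne_of_mem_erase hp)]; cases t₀ <;> simp,
        Finset.sum_const, Finset.card_erase_of_mem (Finset.mem_univ p₀), Finset.card_univ, Fintype.card_fin,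
        nsmul_eq_mul, Nat.cast_sub (by have := S.hk; omega : 1 ≤ k)]
      push_cast
      ring
    · simp only [T, if_neg hj, hs']
      rw [Finset.sum_congr rfl fun p _ => show (if ε j p then (1 : ℤ) else -1) = if t j then (1 : ℤ) else -1 by
        have h5 := hBb j p
        rw [ht j hj] at h5
        have := smul_left_injective F ((hb j).ne_zero p) h5
        cases hε : ε j p <;> cases htj : t j <;> simp [hε, htj] at this ⊢
        · exact S.two (by linear_combination this)
        · exact S.two (by linear_combination -this),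
        Finset.sum_const, Finset.card_univ, Fintype.card_fin, nsmul_eq_mul, mul_comm]
  have hp2 : ∏ j, (if j = j₀ then (2 : ℤ) - k else k) = (2 - k) * (k : ℤ) ^ (Fintype.card J - 1) := by
    rw [← Finset.mul_prod_erase Finset.univ _ (Finset.mem_univ j₀), if_pos rfl,
      Finset.prod_congr rfl fun j hj => if_neg (Finset.ne_of_mem_erase hj), Finset.prod_const,
      Finset.card_erase_of_mem (Finset.mem_univ j₀), Finset.card_univ]
  have hsign : (if c then (1 : ℤ) else -1) * ∏ j, (if T j then (1 : ℤ) else -1) = 1 := by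
    have := hsum
    rw [show (∏ j, ∑ p, (if ε j p then (1 : ℤ) else -1)) = ∏ j, s j from rfl, Finset.prod_congr rfl fun j _ => hsT j,
      Finset.prod_mul_distrib, ← mul_assoc, hp2] at this
    have hk := S.hk
    refine mul_right_cancel₀ (mul_ne_zero (sub_ne_zero.2 (?_ : (2 : ℤ) ≠ k))
      (pow_ne_zero _ (?_ : (k : ℤ) ≠ 0))) (this.trans (one_mul _).symm)
    · exact_mod_cast (by omega : 2 ≠ k)
    · exact_mod_cast (by omega : k ≠ 0)
  refine ⟨j₀, y, hyy, ext_pten fun z => ?_⟩
  rw [hh, mv_fac]
  have hsF := congrArg (Int.cast : ℤ → F) hsign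
  simp only [Int.cast_mul, Int.cast_prod, apply_ite (Int.cast : ℤ → F), Int.cast_one, Int.cast_neg] at hsF
  funext a
  simp only [pten, Pi.smul_apply, smul_eq_mul, hBT, Finset.prod_mul_distrib, ← mul_assoc, hsF, one_mul]
  exact Finset.prod_congr rfl fun j _ => by
    by_cases hj : j = j₀
    · subst hj; rw [if_pos rfl, Function.update_self]
    · rw [if_neg hj, Function.update_of_ne hj]


/-- A small monomial involution is a mirror of one slot. -/
theorem trc_even [Nonempty J] {h : GL (J → Fin k) F}
    (hiso : ∀ x y, Bt σ₁ f (mv h x) (mv h y) = Bt σ₁ f x y) (h1 : h * h = 1) (hm : Mono h) (hs : OrthWreath.Small h) :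
    ∃ (j : J) (y : Fin k → F), f y y ≠ 0 ∧ h = fac j (mr S.hf y) := by
  obtain ⟨π, hπ⟩ := mono_iff.1 hm
  exact S.trc_fix ‹_› hiso h1 (S.trc_noswap h1 hπ hs ▸ hπ) hs

/-- Mirrors of one slot commute only along equal or orthogonal vectors. -/
theorem mr_not_comm {x z : Fin k → F} (hx : f x x = κ) (hz : f z z = κ) (hxz : f x z ≠ 0)
    (hc : mr S.hf x * mr S.hf z = mr S.hf z * mr S.hf x) : mr S.hf x = mr S.hf z := by
  have hf := S.hf
  have hx0 : f x x ≠ 0 := hx ▸ S.hκ
  have hz0 : f z z ≠ 0 := hz ▸ S.hκ
  have h1 : mv (mr hf x) (mv (mr hf z) x) = mv (mr hf z) x := by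
    rw [← mv_mul, hc, mv_mul, mr_self hf hx0]
  set u := mv (mr hf z) x with hu
  have h2 : u = (f u x / f x x) • x := by
    rw [mv_mr hf hx0] at h1
    refine smul_right_injective _ S.two ?_
    show (2 : F) • u = (2 : F) • ((f u x / f x x) • x)
    rw [smul_smul, ← mul_div_assoc]
    linear_combination (norm := module) -h1
  have h2' : (2 * f x z / f z z) • z - x = (f u x / f x x) • x := by
    rw [← mv_mr hf hz0, ← hu]
    exact h2
  have h3 : z = ((f u x / f x x + 1) / (2 * f x z / f z z)) • x := by
    have hs : (2 * f x z / f z z) ≠ 0 := div_ne_zero (mul_ne_zero S.two hxz) hz0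
    refine smul_right_injective _ hs ?_
    show (2 * f x z / f z z) • z = (2 * f x z / f z z) • (_ • x)
    rw [smul_smul, mul_div_cancel₀ _ hs]
    linear_combination (norm := module) h2'
  rw [h3, mr_smul hf hx0 (fun e => by rw [e, zero_smul] at h3; exact hz0 (by rw [h3, hf.zero_left]))]


/-- Two orthogonal vectors of value κ meet a third one of that value, orthogonal to neither. -/
theorem exists_link {x y : Fin k → F} (hx : f x x = κ) (hy : f y y = κ) (hxy : f x y = 0) :
    ∃ z, f z z = κ ∧ f x z ≠ 0 ∧ f z y ≠ 0 := by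
  have hf := S.hf
  have h2 := S.two
  have hκ := S.hκ
  have hyx : f y x = 0 := by rw [hf.comm', hxy]
  set P := (hf.formL x).ker ⊓ (hf.formL y).ker with hP
  have hmem : ∀ w, w ∈ P ↔ f w x = 0 ∧ f w y = 0 := fun w => by
    rw [hP, Submodule.mem_inf, LinearMap.mem_ker, LinearMap.mem_ker]; rfl
  have hnd : ∀ u ∈ P, (∀ w ∈ P, f w u = 0) → u = 0 := fun u hu h => hf.nondeg u fun v => by
    obtain ⟨hux, huy⟩ := (hmem u).1 hu
    have hw : v - (f v x / κ) • x - (f v y / κ) • y ∈ P := (hmem _).2 ⟨by
      simp only [hf.sub_left, hf.smul_left, hx, hyx]; field_simp; ring, by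
      simp only [hf.sub_left, hf.smul_left, hy, hxy]; field_simp; ring⟩
    have := h _ hw
    simp only [hf.sub_left, hf.smul_left, hf.comm' x u, hf.comm' y u, hux, huy, mul_zero, sub_zero] at this
    rw [hf.comm', this]
  have hdim : k ≤ Module.finrank F P + 2 := by
    have h1 := (hf.formL x).finrank_range_add_finrank_ker
    have h1' := Submodule.finrank_sup_add_finrank_inf_eq (hf.formL x).ker (hf.formL y).ker
    have h3 := (hf.formL y).finrank_range_add_finrank_ker
    have h4 := Submodule.finrank_le ((hf.formL x).ker ⊔ (hf.formL y).ker)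
    have h5 := Submodule.finrank_le (hf.formL x).range
    have h6 := Submodule.finrank_le (hf.formL y).range
    simp only [Module.finrank_fintype_fun_eq_card, Fintype.card_fin, Module.finrank_self] at h1 h1' h3 h4 h5 h6
    rw [hP]
    omega
  have hk := S.hk
  obtain ⟨w, hw, hww⟩ := S.exists_value hnd (by omega) (-κ)
  obtain ⟨hwx, hwy⟩ := (hmem w).1 hw
  refine ⟨x + y + w, ?_, ?_, ?_⟩ <;>
    simp only [hf.add_left, hf.add_right, hx, hy, hxy, hyx, hww, hwx, hwy, hf.comm' x w, hf.comm' y w]
  · ring
  · simpa using hκ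
  · simpa using hκ

/-- The vectors of value κ span. -/
theorem good_top : Submodule.span F {x : Fin k → F | f x x = κ} = ⊤ := by
  have hf := S.hf
  have h2 := S.two
  set P := Submodule.span F {x : Fin k → F | f x x = κ}
  suffices hperp : ∀ v, (∀ z, f z z = κ → f z v = 0) → v = 0 by
    let L : (Fin k → F) →ₗ[F] (P →ₗ[F] F) :=
      { toFun := fun v => (hf.formL v).comp P.subtype
        map_add' := fun a b => LinearMap.ext fun z => hf.add_right _ a b
        map_smul' := fun r a => LinearMap.ext fun z => hf.smul_right' r _ a }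
    have hinj : Function.Injective L := by
      rw [← LinearMap.ker_eq_bot, LinearMap.ker_eq_bot']
      exact fun v hv => hperp v fun z hz => LinearMap.congr_fun hv ⟨z, Submodule.subset_span hz⟩
    have := LinearMap.finrank_le_finrank_of_injective hinj
    rw [Subspace.dual_finrank_eq] at this
    exact Submodule.eq_top_of_finrank_eq (le_antisymm (Submodule.finrank_le _) this)
  intro v hv
  by_contra hv0
  obtain ⟨x₀, hx₀⟩ := S.exists_aniso
  have hvx : f x₀ v = 0 := hv x₀ hx₀
  have hvx' : f v x₀ = 0 := by rw [hf.comm', hvx]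
  have key : ∀ y, f y y ≠ 0 → f y v ≠ 0 → f y x₀ = 0 := by
    intro y hy hyv
    have h1 : f (mv (mr hf y) x₀) v = 0 := hv _ (by rw [mr_isom hf hy, hx₀])
    rw [mv_mr hf hy, hf.sub_left, hf.smul_left, hvx, sub_zero] at h1
    have h3 := ((mul_eq_zero.1 h1).resolve_right hyv)
    rw [div_eq_zero_iff] at h3
    rw [hf.comm']
    exact (mul_eq_zero.1 (h3.resolve_right hy)).resolve_left h2
  by_cases hvv : f v v = 0
  · obtain ⟨u, hu⟩ : ∃ u, f u v ≠ 0 := by
      by_contra h; push Not at h; exact hv0 (hf.nondeg v fun y => by rw [hf.comm', h])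
    set u' := u - (f u x₀ / κ) • x₀ with hu'
    have hu'x : f u' x₀ = 0 := by rw [hu', hf.sub_left, hf.smul_left, hx₀, div_mul_cancel₀ _ S.hκ, sub_self]
    have hu'v : f u' v = f u v := by rw [hu', hf.sub_left, hf.smul_left, hvx, mul_zero, sub_zero]
    by_cases hy : f (u' + x₀) (u' + x₀) = 0
    · refine S.hκ ?_
      rw [← hx₀]
      have := key (u' + x₀ + v) (by
        rw [hf.add_left (u' + x₀), hf.add_right (u' + x₀) (u' + x₀), hy, hf.add_right v, hvv,
          hf.comm' v (u' + x₀), hf.add_left u', hu'v, hvx, add_zero, zero_add, add_zero, ← two_mul]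
        exact mul_ne_zero h2 hu) (by rw [hf.add_left, hf.add_left, hu'v, hvx, hvv, add_zero, add_zero]; exact hu)
      rwa [hf.add_left, hf.add_left, hu'x, hvx', zero_add, add_zero] at this
    · refine S.hκ ?_
      rw [← hx₀]
      have := key (u' + x₀) hy (by rw [hf.add_left, hu'v, hvx, add_zero]; exact hu)
      rwa [hf.add_left, hu'x, zero_add] at this
  · by_cases hy : f (v + x₀) (v + x₀) = 0
    · set P' := (hf.formL x₀).ker ⊓ (hf.formL v).ker with hP'
      have hmem : ∀ w, w ∈ P' ↔ f w x₀ = 0 ∧ f w v = 0 := fun w => by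
        rw [hP', Submodule.mem_inf, LinearMap.mem_ker, LinearMap.mem_ker]; rfl
      obtain ⟨w, hwx, hwv, hww⟩ : ∃ w, f w x₀ = 0 ∧ f w v = 0 ∧ f w w ≠ 0 := by
        have hk := S.hk
        have h1 := (hf.formL x₀).finrank_range_add_finrank_ker
        have h1' := Submodule.finrank_sup_add_finrank_inf_eq (hf.formL x₀).ker (hf.formL v).ker
        have h3 := (hf.formL v).finrank_range_add_finrank_ker
        have h4 := Submodule.finrank_le ((hf.formL x₀).ker ⊔ (hf.formL v).ker)
        have h5 := Submodule.finrank_le (hf.formL x₀).range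
        have h6 := Submodule.finrank_le (hf.formL v).range
        simp only [Module.finrank_fintype_fun_eq_card, Fintype.card_fin, Module.finrank_self] at h1 h1' h3 h4 h5 h6
        obtain ⟨e, he, he0⟩ : ∃ e ∈ P', e ≠ 0 := Submodule.exists_mem_ne_zero_of_ne_bot fun h => by
          rw [hP'] at h; rw [h, finrank_bot] at h1'; omega
        obtain ⟨hex, hev⟩ := (hmem e).1 he
        have hnd : ∀ u ∈ P', (∀ w ∈ P', f w u = 0) → u = 0 := fun u hu h => hf.nondeg u fun z => by
          obtain ⟨hux, huv⟩ := (hmem u).1 hu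
          have hw : z - (f z x₀ / κ) • x₀ - (f z v / f v v) • v ∈ P' := (hmem _).2 ⟨by
            simp only [hf.sub_left, hf.smul_left, hx₀, hvx']; have := S.hκ; field_simp; ring, by
            simp only [hf.sub_left, hf.smul_left, hvx]; field_simp; ring⟩
          have := h _ hw
          simp only [hf.sub_left, hf.smul_left, hf.comm' x₀ u, hf.comm' v u, hux, huv, mul_zero, sub_zero] at this
          rw [hf.comm', this]
        by_contra hno
        push Not at hno
        refine he0 (hnd e he fun w hw => ?_)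
        obtain ⟨hwx, hwv⟩ := (hmem w).1 hw
        have := hno (w + e) (by rw [hf.add_left, hwx, hex, add_zero]) (by rw [hf.add_left, hwv, hev, add_zero])
        rw [hf.add_left, hf.add_right, hf.add_right, hno w hwx hwv, hno e hex hev, hf.comm' e w, zero_add, add_zero,
          ← two_mul] at this
        exact (mul_eq_zero.1 this).resolve_left h2
      refine S.hκ ?_
      rw [← hx₀]
      have := key (v + x₀ + w) (by
        rw [hf.add_left (v + x₀), hf.add_right (v + x₀) (v + x₀), hy, hf.add_right w, hf.comm' (v + x₀) w,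
          hf.add_right w, hwv, hwx, add_zero, zero_add, zero_add, zero_add]
        exact hww) (by rw [hf.add_left, hf.add_left, hvx, hwv, add_zero, add_zero]; exact hvv)
      rwa [hf.add_left, hf.add_left, hvx', hwx, zero_add, add_zero] at this
    · refine S.hκ ?_
      rw [← hx₀]
      have := key (v + x₀) hy (by rw [hf.add_left, hvx, add_zero]; exact hvv)
      rwa [hf.add_left, hvx', zero_add] at this

/-- A map carrying mirrors of value κ to mirrors is monomial. -/
theorem norm_mono [Nonempty J] {g : GL (J → Fin k) F}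
    (H : ∀ (i : J) (x : Fin k → F), f x x = κ →
      ∃ (j : J) (y : Fin k → F), f y y ≠ 0 ∧ g * fac i (mr S.hf x) * g⁻¹ = fac j (mr S.hf y)) : Mono g := by
  classical
  have hf := S.hf
  have hκ := S.hκ
  haveI : NeZero k := ⟨by have := S.hk; omega⟩
  refine mono_of_lines (by have := S.hk; omega) fun i v hv => ?_
  obtain ⟨x, hx⟩ := S.exists_aniso
  have hgd : ∀ {z}, f z z = κ → f z z ≠ 0 := fun h => h ▸ hκ
  obtain ⟨j, x', hx', hjx⟩ := H i x hx
  have hslot1 : ∀ y z, f y y = κ → f z z = κ → f y z ≠ 0 → ∀ l y' l' z', f y' y' ≠ 0 → f z' z' ≠ 0 →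
      g * fac i (mr hf y) * g⁻¹ = fac l (mr hf y') → g * fac i (mr hf z) * g⁻¹ = fac l' (mr hf z') → l = l' := by
    intro y z hy hz hyz l y' l' z' hy' hz' e e'
    by_contra hne
    have hc : mr hf y * mr hf z = mr hf z * mr hf y := by
      have h1 := fac_comm hne (mr hf y') (mr hf z')
      rw [← e, ← e'] at h1
      have h2 : fac (J := J) i (mr hf y * mr hf z) = fac i (mr hf z * mr hf y) := by
        rw [fac_mul, fac_mul]
        exact mul_left_cancel (mul_right_cancel (b := g⁻¹) (by
          calc g * (fac i (mr hf y) * fac i (mr hf z)) * g⁻¹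
              = g * fac i (mr hf y) * g⁻¹ * (g * fac i (mr hf z) * g⁻¹) := by group
            _ = g * fac i (mr hf z) * g⁻¹ * (g * fac i (mr hf y) * g⁻¹) := h1
            _ = g * (fac i (mr hf z) * fac i (mr hf y)) * g⁻¹ := by group))
      refine ext_mv fun u => ?_
      have h3 := congrArg (fun G => mv G (ins i u (pten fun _ : {j // j ≠ i} => Pi.single 0 (1 : F)))) h2
      simp only [mv_fac_ins] at h3
      have hw0 := pten_ne_zero (fun _ : {j // j ≠ i} => Pi.single_ne_zero_iff.2 (one_ne_zero (α := F)))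
        (x := fun _ : {j // j ≠ i} => Pi.single (0 : Fin k) (1 : F))
      obtain ⟨φ, hφ⟩ : ∃ φ : Fin k → F, True := ⟨0, trivial⟩
      funext p
      have h4 := congrArg (cr i (Pi.single p 1)) h3
      simp only [cr_ins, single_one_dotProduct] at h4
      exact smul_left_injective F hw0 h4
    rw [S.mr_not_comm hy hz hyz hc] at e
    rw [e] at e'
    have h5 := congrArg fixsp e'
    rw [fixsp_mir S l hy', fixsp_mir S l' hz'] at h5
    exact hne (Ln_type_unique (by have := S.hk; omega) (fun h0 => hy' (by rw [h0, hf.zero_left]))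
      (fun h0 => hz' (by rw [h0, hf.zero_left])) h5)
  have hconn : ∀ z, f z z = κ → f x z ≠ 0 ∨ ∃ w, f w w = κ ∧ f x w ≠ 0 ∧ f w z ≠ 0 := fun z hz => by
    by_cases h : f x z = 0
    · exact Or.inr (S.exists_link hx hz h)
    · exact Or.inl h
  have hslot : ∀ z, f z z = κ → ∃ z', f z' z' ≠ 0 ∧ g * fac i (mr hf z) * g⁻¹ = fac j (mr hf z') := by
    intro z hz
    obtain ⟨l, z', hz', e⟩ := H i z hz
    suffices j = l by subst this; exact ⟨z', hz', e⟩
    rcases hconn z hz with h | ⟨w, hw, h1, h2⟩
    · exact hslot1 x z hx hz h _ _ _ _ hx' hz' hjx e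
    · obtain ⟨l'', w', hw', e'⟩ := H i w hw
      exact (hslot1 x w hx hw h1 _ _ _ _ hx' hw' hjx e').trans (hslot1 w z hw hz h2 _ _ _ _ hw' hz' e' e)
  let 𝒜 : Submodule F ((Fin k → F) →ₗ[F] Fin k → F) :=
    { carrier := {T | ∃ T', mvLin g ∘ₗ op i LinearMap.id T = op j LinearMap.id T' ∘ₗ mvLin g}
      add_mem' := fun {a b} ⟨a', ha⟩ ⟨b', hb⟩ => ⟨a' + b', by
        rw [op_add_right, op_add_right, LinearMap.comp_add, LinearMap.add_comp, ha, hb]⟩
      zero_mem' := ⟨0, by rw [op_zero_right, op_zero_right, LinearMap.comp_zero, LinearMap.zero_comp]⟩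
      smul_mem' := fun r a ⟨a', ha⟩ => ⟨r • a', by
        rw [op_smul_right, op_smul_right, LinearMap.comp_smul, LinearMap.smul_comp, ha]⟩ }
  have hcomp : ∀ T T', T ∈ 𝒜 → T' ∈ 𝒜 → T ∘ₗ T' ∈ 𝒜 := by
    rintro T T' ⟨U, hU⟩ ⟨U', hU'⟩
    refine ⟨U ∘ₗ U', ?_⟩
    rw [← LinearMap.id_comp (LinearMap.id : (Rest i k → F) →ₗ[F] _), ← op_comp, ← LinearMap.comp_assoc, hU,
      LinearMap.comp_assoc, hU', ← LinearMap.comp_assoc, op_comp, LinearMap.id_comp]
  have havz : ∀ z, f z z = κ → av hf z z ∈ 𝒜 := by
    intro z hz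
    obtain ⟨z', hz', e⟩ := hslot z hz
    have e1 : mvLin g ∘ₗ mvLin (fac i (mr hf z)) = mvLin (fac j (mr hf z')) ∘ₗ mvLin g :=
      LinearMap.ext fun u => by
        show mv g (mv _ u) = mv _ (mv g u)
        rw [← mv_mul, ← mv_mul, ← e, inv_mul_cancel_right]
    rw [mvLin_fac_mr hf i (hgd hz), mvLin_fac_mr hf j hz'] at e1
    have hM : Mlin hf z ∈ 𝒜 := ⟨_, e1⟩
    have hid : (LinearMap.id : (Fin k → F) →ₗ[F] Fin k → F) ∈ 𝒜 :=
      ⟨LinearMap.id, by rw [op_one, op_one, LinearMap.comp_id, LinearMap.id_comp]⟩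
    have e2 : av hf z z = (κ / 2) • (Mlin hf z + LinearMap.id) := by
      rw [Mlin, sub_add_cancel, smul_smul, hz]
      have := S.two
      field_simp
      rw [one_smul]
    rw [e2]
    exact 𝒜.smul_mem _ (𝒜.add_mem hM hid)
  have havc : ∀ a b c d : Fin k → F, av hf a b ∘ₗ av hf c d = f c b • av hf a d := fun a b c d =>
    LinearMap.ext fun u => by
      simp only [LinearMap.comp_apply, LinearMap.smul_apply, av_apply, hf.smul_left, smul_smul]
      congr 1
      ring
  have hz1 : ∀ z, f z z = κ → av hf z x ∈ 𝒜 := by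
    intro z hz
    rcases hconn z hz with h | ⟨w, hw, h1, h2⟩
    · have := hcomp _ _ (havz z hz) (havz x hx)
      rw [havc] at this
      simpa [smul_smul, inv_mul_cancel₀ h] using 𝒜.smul_mem (f x z)⁻¹ this
    · have := hcomp _ _ (hcomp _ _ (havz z hz) (havz w hw)) (havz x hx)
      rw [havc, LinearMap.smul_comp, havc, smul_smul] at this
      have h7 := 𝒜.smul_mem (f w z * f x w)⁻¹ this
      rwa [smul_smul, inv_mul_cancel₀ (mul_ne_zero h2 h1), one_smul] at h7
  have hall : ∀ u, av hf u x ∈ 𝒜 := fun u => by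
    have : u ∈ Submodule.span F {x : Fin k → F | f x x = κ} := by rw [S.good_top]; exact Submodule.mem_top
    induction this using Submodule.span_induction with
    | mem z hz => exact hz1 z hz
    | zero => convert 𝒜.zero_mem using 1; exact LinearMap.ext fun u => by simp
    | add a b _ _ ha hb => convert 𝒜.add_mem ha hb using 1; exact LinearMap.ext fun u => by simp [smul_add]
    | smul r a _ ha => convert 𝒜.smul_mem r ha using 1; exact LinearMap.ext fun u => by simp [smul_smul, mul_comm]
  obtain ⟨T, hT⟩ := hall v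
  have hmapx : (Ln i x).map (mvLin g) = Ln j x' := by
    rw [← fixsp_mir S i (hgd hx), ← fixsp_conj, hjx, fixsp_mir S j hx']
  have hsub : ∀ u ∈ (Ln i v).map (mvLin g), u ∈ Ln j (mv 1 (T x')) := by
    intro u hu
    obtain ⟨y, hy, rfl⟩ := mem_map_gl.1 hu
    obtain ⟨w, rfl⟩ := mem_Ln_ins hy
    obtain ⟨R, hR⟩ := mem_Ln_ins (hmapx ▸ mem_map_gl.2 ⟨_, ins_mem i x w, rfl⟩ : mv g (ins i x w) ∈ Ln j x')
    have h1 : mv g (ins i (f x x • v) w) = op j LinearMap.id T (mv g (ins i x w)) := by
      have := LinearMap.congr_fun hT (ins i x w)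
      rw [LinearMap.comp_apply, LinearMap.comp_apply, op_ins, LinearMap.id_apply, av_apply] at this
      exact this
    rw [← hR, op_ins, LinearMap.id_apply, ins_smul_vec, mv_smul] at h1
    rw [mv_one, ← smul_inv_smul₀ (hgd hx) (mv g (ins i v w))]
    rw [smul_comm, h1]
    exact Submodule.smul_mem _ _ (ins_mem j _ _)
  have hTx : mv 1 (T x') ≠ 0 := fun h0 => by
    obtain ⟨y, hy, hy0⟩ := Submodule.exists_mem_ne_zero_of_ne_bot
      (fun hbot : Ln i v = ⊥ => by
        have := finrank_Ln i hv
        rw [hbot, finrank_bot] at this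
        exact absurd this.symm (Fintype.card_ne_zero))
    have := hsub _ (mem_map_gl.2 ⟨y, hy, rfl⟩)
    rw [h0] at this
    obtain ⟨w, hw⟩ := mem_Ln_ins this
    refine hy0 (mv_inj g ?_)
    rw [← hw, mv_zero, ins_apply, ten_zero_right, map_zero]
  exact ⟨j, _, hTx, Submodule.eq_of_le_of_finrank_le hsub (by
    rw [finrank_map_gl, finrank_Ln _ hv, finrank_Ln _ hTx, card_rest_same j i (by have := S.hk; omega)])⟩


end Sl

end Cfsg.Agent.OrthEvenWreath
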