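/-
Tensor powers of a symmetric form of even dimension: signatures of monomial involutions.
-/
import Cfsg.Agent.Lib.OrthWreathEven.Norm
import Cfsg.Agent.Lib.OrthWreath.Cent

set_option autoImplicit false
set_option linter.unusedSectionVars false

namespace Cfsg.Agent.OrthEvenWreath

open scoped Matrix
open Matrix Cfsg.Agent.Transvec Cfsg.Agent.TensorMax Cfsg.Agent.WreathMax
open Cfsg.Agent.FormWreath hiding up mv_up_ins
open Cfsg.Agent.OrthWreath hiding Sl Ctx Base Ind Inv Gd fixsp_mir small_mir split_sim rho_omega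

variable {F : Type*} [Field F] [Finite F] {k : ℕ} {J : Type} [Fintype J] [DecidableEq J]
variable {f : (Fin k → F) → (Fin k → F) → F} {κ : F}

local notation "σ₁" => RingEquiv.refl F

/-- Twice the dimension of the fixed space less the dimension. -/
noncomputable def sgd {ι : Type} [Fintype ι] [DecidableEq ι] (g : GL ι F) : ℤ :=
  2 * (Module.finrank F (fixsp g) : ℤ) - Fintype.card ι

theorem sgd_conj {ι : Type} [Fintype ι] [DecidableEq ι] (g h : GL ι F) : sgd (g * h * g⁻¹) = sgd h := by
  rw [sgd, sgd, finrank_fixsp_conj]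

theorem sgd_one {ι : Type} [Fintype ι] [DecidableEq ι] : sgd (1 : GL ι F) = Fintype.card ι := by
  have : fixsp (1 : GL ι F) = ⊤ := eq_top_iff.2 fun x _ => mem_fixsp.2 (mv_one x)
  rw [sgd, this, finrank_top, Module.finrank_fintype_fun_eq_card]
  ring

/-- The negated space of an involution complements the fixed one. -/
theorem finrank_neg {ι : Type} [Fintype ι] [DecidableEq ι] (h2 : (2 : F) ≠ 0) {h : GL ι F} (h1 : h * h = 1) :
    Module.finrank F (fixsp h) + Module.finrank F (LinearMap.ker (mvLin h + LinearMap.id)) = Fintype.card ι := by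
  set Em : Submodule F (ι → F) := LinearMap.ker (mvLin h + LinearMap.id)
  have hm : ∀ v, v ∈ Em ↔ mv h v = -v := fun v => by
    rw [LinearMap.mem_ker, LinearMap.add_apply, LinearMap.id_apply, add_eq_zero_iff_eq_neg]
    rfl
  have hinv : ∀ v, mv h (mv h v) = v := fun v => by rw [← mv_mul, h1, mv_one]
  have hc : IsCompl (fixsp h) Em := by
    refine ⟨disjoint_iff.2 (Submodule.eq_bot_iff _ |>.2 fun v hv => ?_),
      codisjoint_iff.2 (Submodule.eq_top_iff'.2 fun v => ?_)⟩
    · obtain ⟨h3, h4⟩ := Submodule.mem_inf.1 hv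
      rw [mem_fixsp] at h3
      rw [hm, h3] at h4
      refine (smul_eq_zero.1 (?_ : (2 : F) • v = 0)).resolve_left h2
      linear_combination (norm := module) h4
    · refine Submodule.mem_sup.2 ⟨(2⁻¹ : F) • (v + mv h v), mem_fixsp.2 (by rw [mv_smul, mv_add, hinv, add_comm]),
        (2⁻¹ : F) • (v - mv h v), (hm _).2 (by rw [mv_smul, mv_sub, hinv, ← smul_neg, neg_sub]), ?_⟩
      match_scalars <;> field_simp <;> ring
  rw [← Module.finrank_fintype_fun_eq_card F]
  exact Submodule.finrank_add_eq_of_isCompl hc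

/-- An involution with an anticommuting map has signature zero. -/
theorem sgd_eq_zero {ι : Type} [Fintype ι] [DecidableEq ι] (h2 : (2 : F) ≠ 0) {h T : GL ι F} (h1 : h * h = 1)
    (ha : ∀ v, mv h (mv T v) = -mv T (mv h v)) : sgd h = 0 := by
  set Em : Submodule F (ι → F) := LinearMap.ker (mvLin h + LinearMap.id)
  have hm : ∀ v, v ∈ Em ↔ mv h v = -v := fun v => by
    rw [LinearMap.mem_ker, LinearMap.add_apply, LinearMap.id_apply, add_eq_zero_iff_eq_neg]
    rfl
  have e1 : Em.map (mvLin T) ≤ fixsp h := fun z hz => by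
    obtain ⟨y, hy, rfl⟩ := mem_map_gl.1 hz
    rw [mem_fixsp, ha, (hm y).1 hy, mv_neg, neg_neg]
  have e2 : (fixsp h).map (mvLin T) ≤ Em := fun z hz => by
    obtain ⟨y, hy, rfl⟩ := mem_map_gl.1 hz
    rw [hm, ha, mem_fixsp.1 hy]
  have h3 := Submodule.finrank_mono e1
  have h4 := Submodule.finrank_mono e2
  rw [finrank_map_gl] at h3 h4
  have h5 := finrank_neg h2 h1
  have h6 : Module.finrank F (fixsp h) = Module.finrank F Em := le_antisymm h4 h3
  rw [← h6] at h5
  unfold sgd
  omega

/-- The signature of a map with an eigenbasis of signs. -/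
theorem sgd_signs {ι : Type} [Fintype ι] [DecidableEq ι] (h2 : (2 : F) ≠ 0) (G h : GL ι F) (σ : ι → Bool)
    (hd : ∀ a, mv h (mv G (Pi.single a 1)) = (if σ a then (1 : F) else -1) • mv G (Pi.single a 1)) :
    sgd h = ∑ a, (if σ a then (1 : ℤ) else -1) := by
  classical
  set h' := G⁻¹ * h * G⁻¹⁻¹ with hh'
  have hdiag : ∀ a, mv h' (Pi.single a 1) = (if σ a then (1 : F) else -1) • Pi.single a 1 := fun a => by
    rw [hh', inv_inv, mv_mul, mv_mul, hd, mv_smul, mv_inv_mv]
  have hcoord : ∀ x a, mv h' x a = (if σ a then (1 : F) else -1) * x a := fun x a => by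
    have e : (LinearMap.proj a).comp (mvLin h') =
        (if σ a then (1 : F) else -1) • (LinearMap.proj a : (ι → F) →ₗ[F] F) :=
      LinearMap.pi_ext' fun d => LinearMap.ext_ring (by
        show mv h' (Pi.single d 1) a = (if σ a then (1 : F) else -1) * (Pi.single d (1 : F) : ι → F) a
        rw [hdiag, Pi.smul_apply, smul_eq_mul]
        by_cases hd : a = d
        · subst hd; rfl
        · rw [Pi.single_eq_of_ne hd, mul_zero, mul_zero])
    exact LinearMap.congr_fun e x
  set A := Finset.univ.filter fun a => σ a = true with hA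
  let e : fixsp h' ≃ₗ[F] ({a // a ∈ A} → F) :=
    { toFun := fun x a => (x : ι → F) a
      map_add' := fun x y => rfl
      map_smul' := fun r x => rfl
      invFun := fun c => ⟨fun a => if ha : a ∈ A then c ⟨a, ha⟩ else 0, mem_fixsp.2 (funext fun a => by
        rw [hcoord]
        by_cases ha : a ∈ A
        · rw [if_pos (Finset.mem_filter.1 ha).2, one_mul]
        · rw [dif_neg ha, mul_zero])⟩
      left_inv := fun x => Subtype.ext (funext fun a => by
        show (if ha : a ∈ A then (x : ι → F) a else 0) = _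
        by_cases ha : a ∈ A
        · rw [dif_pos ha]
        · rw [dif_neg ha]
          have h3 := congrFun (mem_fixsp.1 x.2) a
          rw [hcoord, if_neg (fun e => ha (Finset.mem_filter.2 ⟨Finset.mem_univ a, e⟩))] at h3
          have h4 : (2 : F) * (x : ι → F) a = 0 := by linear_combination -h3
          exact ((mul_eq_zero.1 h4).resolve_left h2).symm)
      right_inv := fun c => funext fun a => by
        show (if ha : (a : ι) ∈ A then c ⟨a, ha⟩ else 0) = c a
        rw [dif_pos a.2] }
  rw [← sgd_conj G⁻¹ h, ← hh', sgd, e.finrank_eq, Module.finrank_fintype_fun_eq_card, Fintype.card_coe,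
    Finset.sum_congr rfl fun a _ => show (if σ a then (1 : ℤ) else -1) = 2 * (if σ a then (1 : ℤ) else 0) - 1 by
      cases σ a <;> rfl, Finset.sum_sub_distrib, ← Finset.mul_sum, Finset.sum_boole, Finset.sum_const,
    Finset.card_univ]
  simp [hA]

/-- An involutory isometry of two fixed dimensions less. -/
def IsPl (f : (Fin k → F) → (Fin k → F) → F) (T : GL (Fin k) F) : Prop :=
  (∀ u v, f (mv T u) (mv T v) = f u v) ∧ T * T = 1 ∧ Module.finrank F (fixsp T) + 2 = k

namespace Sl

variable (S : Sl f κ)
include S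

/-- The signature of a diagonal monomial involution. -/
theorem sgd_diag {h : GL (J → Fin k) F} {B : J → GL (Fin k) F}
    (hB : ∀ j v, mv (B j) (mv (B j) v) = v) {c : Bool}
    (hh : ∀ y, mv h (pten y) = (if c then (1 : F) else -1) • pten fun j => mv (B j) (y j)) :
    sgd h = (if c then (1 : ℤ) else -1) * ∏ j, sgd (B j) := by
  classical
  choose b ε hb hBb using fun j => S.eigen_basis (B j) (hB j)
  haveI : Nonempty (Fin k) := ⟨⟨0, by have := S.hk; omega⟩⟩
  set Φ := Module.Basis.map (Pi.basisFun F (J → Fin k)) (LinearEquiv.refl F _)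
  have hBi : ∀ j, Function.Injective ((Fintype.linearCombination F (b j))) := fun j =>
    (hb j).fintypeLinearCombination_injective
  have hdet : ∀ j, (LinearMap.toMatrix' (Fintype.linearCombination F (b j))).det ≠ 0 := fun j h0 => by
    obtain ⟨v, hv, hv0⟩ := Matrix.exists_mulVec_eq_zero_iff.2 h0
    rw [LinearMap.toMatrix'_mulVec] at hv0
    exact hv (hBi j (hv0.trans (map_zero _).symm))
  set P : J → GL (Fin k) F := fun j => Matrix.GeneralLinearGroup.mkOfDetNeZero _ (hdet j) with hP
  have hPs : ∀ j p, mv (P j) (Pi.single p 1) = b j p := fun j p => by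
    show ((P j : GL (Fin k) F) : Matrix (Fin k) (Fin k) F) *ᵥ _ = _
    rw [hP, Matrix.GeneralLinearGroup.val_mkOfDetNeZero, LinearMap.toMatrix'_mulVec]
    simp [Fintype.linearCombination_apply, Pi.single_apply]
  obtain ⟨G, -, hG⟩ : ∃ G ∈ (⊤ : Subgroup (GL (J → Fin k) F)), ∀ y : J → Fin k → F,
      mv G (pten y) = pten fun j => mv (P j) (y j) := by
    suffices H : ∀ U : Finset J, ∃ G : GL (J → Fin k) F, ∀ y : J → Fin k → F,
        mv G (pten y) = pten fun j => if j ∈ U then mv (P j) (y j) else y j by
      obtain ⟨G, hG⟩ := H Finset.univ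
      exact ⟨G, Subgroup.mem_top _, fun y => by simpa using hG y⟩
    intro U
    induction U using Finset.induction with
    | empty => exact ⟨1, fun y => by simp [mv_one]⟩
    | insert a U ha ih =>
      obtain ⟨G, hG⟩ := ih
      refine ⟨fac a (P a) * G, fun y => ?_⟩
      rw [mv_mul, hG, mv_fac]
      refine congrArg pten (funext fun j => ?_)
      by_cases hj : j = a
      · subst hj; simp [ha]
      · simp [hj]
  set σ : (J → Fin k) → Bool := fun a =>
    decide ((if c then (1 : ℤ) else -1) * ∏ j, (if ε j (a j) then (1 : ℤ) else -1) = 1) with hσ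
  have hσv : ∀ a, (if σ a then (1 : ℤ) else -1) =
      (if c then (1 : ℤ) else -1) * ∏ j, (if ε j (a j) then (1 : ℤ) else -1) := fun a => by
    set z := (if c then (1 : ℤ) else -1) * ∏ j, (if ε j (a j) then (1 : ℤ) else -1) with hz
    have : z * z = 1 := by
      rw [hz, mul_mul_mul_comm, ← Finset.prod_mul_distrib, Finset.prod_eq_one fun j _ => by split <;> rfl]
      split <;> rfl
    rcases mul_self_eq_one_iff.1 this with e | e
    · rw [e, show σ a = true from decide_eq_true e]; rfl
    · rw [e, show σ a = false from decide_eq_false (fun e' => by rw [hz] at e; omega)]; rfl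
  have hσF : ∀ a, (if σ a then (1 : F) else -1) =
      (if c then (1 : F) else -1) * ∏ j, (if ε j (a j) then (1 : F) else -1) := fun a => by
    have := congrArg (Int.cast : ℤ → F) (hσv a)
    simpa [apply_ite (Int.cast : ℤ → F)] using this
  rw [sgd_signs S.two G h σ fun a => by
    rw [← pten_single a, hG, hh]
    funext d
    simp only [pten, Pi.smul_apply, smul_eq_mul, hPs, hBb, Finset.prod_mul_distrib, hσF]
    ring]
  rw [Finset.sum_congr rfl fun a _ => hσv a, ← Finset.mul_sum,
    ← Fintype.prod_sum fun j p => if ε j p then (1 : ℤ) else -1]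
  congr 1
  refine Finset.prod_congr rfl fun j _ => ?_
  rw [sgd_signs S.two (P j) (B j) (ε j) fun p => by rw [hPs, hBb]]

/-- Monomial involutions of signature not zero, moving no slot, are diagonal. -/
theorem exists_diag [Nonempty J] {h : GL (J → Fin k) F}
    (hiso : ∀ x y, Bt σ₁ f (mv h x) (mv h y) = Bt σ₁ f x y) (h1 : h * h = 1) (hm : MonoOf 1 h) (hs : sgd h ≠ 0) :
    ∃ (B : J → GL (Fin k) F) (c : Bool), (∀ j v, mv (B j) (mv (B j) v) = v) ∧
      (∀ j, ∃ l' : F, l' * l' = 1 ∧ ∀ u v, f (mv (B j) u) (mv (B j) v) = l' * f u v) ∧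
      ∀ y, mv h (pten y) = (if c then (1 : F) else -1) • pten fun j => mv (B j) (y j) := by
  classical
  obtain ⟨A, hA⟩ := hm
  simp only [Equiv.Perm.one_apply] at hA
  have hf := S.hf
  choose l hl hlA using fun j => S.slot_sim hiso (π := 1) (A := A) (by simpa using hA) j
  obtain ⟨e, he⟩ := S.exists_aniso
  have he0 : f e e ≠ 0 := he ▸ S.hκ
  have hsq : ∀ j, ∃ μ : F, μ ≠ 0 ∧ ∀ v, mv (A j) (mv (A j) v) = μ • v := by
    intro j
    set P := ∏ i ∈ Finset.univ.erase j, f (mv (A i) (mv (A i) e)) e
    set R := ∏ i ∈ Finset.univ.erase j, f e e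
    have hR : R ≠ 0 := Finset.prod_ne_zero_iff.2 fun _ _ => he0
    have key : ∀ u v, f (mv (A j) (mv (A j) u)) v * P = f u v * R := fun u v => by
      have h0 : Bt σ₁ f (mv (h * h) (pten (Function.update (fun _ => e) j u))) (pten (Function.update (fun _ => e) j v)) =
          Bt σ₁ f (pten (Function.update (fun _ => e) j u)) (pten (Function.update (fun _ => e) j v)) := by
        rw [h1, mv_one]
      rw [mv_mul, hA, hA, Bt_pten hf, Bt_pten hf, ← Finset.mul_prod_erase Finset.univ _ (Finset.mem_univ j),
        ← Finset.mul_prod_erase Finset.univ _ (Finset.mem_univ j)] at h0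
      simp only [Function.update_self] at h0
      rw [Finset.prod_congr rfl fun i hi => show f (mv (A i) (mv (A i) (Function.update (fun _ => e) j u i)))
          (Function.update (fun _ => e) j v i) = f (mv (A i) (mv (A i) e)) e by
            rw [Function.update_of_ne (Finset.ne_of_mem_erase hi), Function.update_of_ne (Finset.ne_of_mem_erase hi)],
        Finset.prod_congr (s₁ := Finset.univ.erase j) rfl fun i hi => show
          f (Function.update (fun _ => e) j u i) (Function.update (fun _ => e) j v i) = f e e by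
            rw [Function.update_of_ne (Finset.ne_of_mem_erase hi), Function.update_of_ne (Finset.ne_of_mem_erase hi)]] at h0
      exact h0
    have hP : P ≠ 0 := fun h0 => by
      have := key e e
      rw [h0, mul_zero] at this
      exact mul_ne_zero he0 hR this.symm
    refine ⟨R / P, div_ne_zero hR hP, fun u => sub_eq_zero.1 (hf.nondeg _ fun v => ?_)⟩
    rw [hf.sub_left, hf.smul_left, sub_eq_zero, div_mul_eq_mul_div, eq_div_iff hP, key, mul_comm]
  choose μ hμ hμA using hsq
  have hν : ∀ j, ∃ ν : F, ν ≠ 0 ∧ μ j = ν * ν := by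
    intro j
    by_contra hcon
    push Not at hcon
    obtain ⟨T, hT⟩ := S.exists_anti (A j) (hμA j) fun ν e => hcon ν (fun e0 => hμ j (by rw [e, e0, zero_mul])) e
    have hanti : ∀ v, mv h (mv (fac j T) v) = -mv (fac j T) (mv h v) := fun v => by
      refine LinearMap.congr_fun (f := mvLin h ∘ₗ mvLin (fac j T)) (g := -(mvLin (fac j T) ∘ₗ mvLin h))
        (eq_of_pten fun y => ?_) v
      show mv h (mv (fac j T) (pten y)) = -mv (fac j T) (mv h (pten y))
      rw [mv_fac, hA, hA, mv_fac, ← neg_one_smul F, ← updL_apply, ← map_smul, updL_apply, neg_one_smul,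
        hT, neg_neg]
      refine congrArg pten (funext fun i => ?_)
      by_cases hi : i = j
      · subst hi; simp
      · simp [Function.update_of_ne hi]
    exact hs (sgd_eq_zero S.two h1 fun v => hanti v)
  choose ν hν0 hν2 using hν
  have hdet : ∀ j, ((ν j)⁻¹ • (A j : Matrix (Fin k) (Fin k) F)).det ≠ 0 := fun j => by
    rw [Matrix.det_smul]
    exact mul_ne_zero (pow_ne_zero _ (inv_ne_zero (hν0 j)))
      (isUnit_iff_ne_zero.1 ((Matrix.isUnit_iff_isUnit_det _).1 (A j).isUnit))
  set B : J → GL (Fin k) F := fun j => Matrix.GeneralLinearGroup.mkOfDetNeZero _ (hdet j) with hBdef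
  have hBv : ∀ j v, mv (B j) v = (ν j)⁻¹ • mv (A j) v := fun j v => by
    show ((B j : GL (Fin k) F) : Matrix (Fin k) (Fin k) F) *ᵥ v = _
    rw [hBdef, Matrix.GeneralLinearGroup.val_mkOfDetNeZero, Matrix.smul_mulVec]
  have hBB : ∀ j v, mv (B j) (mv (B j) v) = v := fun j v => by
    rw [hBv, hBv, mv_smul, hμA, smul_smul, smul_smul, hν2 j]
    have := hν0 j
    field_simp
    rw [one_smul]
  have hBl : ∀ j, ∃ l' : F, l' * l' = 1 ∧ ∀ u v, f (mv (B j) u) (mv (B j) v) = l' * f u v := by
    intro j
    set l' := l j / (ν j * ν j) with hl'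
    have hB1 : ∀ u v, f (mv (B j) u) (mv (B j) v) = l' * f u v := fun u v => by
      rw [hBv, hBv, hf.smul_left, hf.smul_right', hlA, hl']
      have := hν0 j
      field_simp
    refine ⟨l', mul_right_cancel₀ he0 ?_, hB1⟩
    have := hB1 (mv (B j) e) (mv (B j) e)
    rw [hBB, hB1] at this
    linear_combination -this
  have hh : ∀ y, mv h (pten y) = (∏ j, ν j) • pten fun j => mv (B j) (y j) := fun y => by
    rw [hA]
    funext a
    simp only [pten, Pi.smul_apply, smul_eq_mul, hBv, ← Finset.prod_mul_distrib]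
    exact Finset.prod_congr rfl fun j _ => by rw [← mul_assoc, mul_inv_cancel₀ (hν0 j), one_mul]
  obtain ⟨c, hc⟩ : ∃ c : Bool, ∏ j, ν j = if c then (1 : F) else -1 := by
    have h0 : mv (h * h) (pten fun _ => e) = (pten fun _ => e : (J → Fin k) → F) := by rw [h1, mv_one]
    rw [mv_mul, hh, mv_smul, hh, smul_smul] at h0
    simp only [hBB] at h0
    have hpe : (pten fun _ => e : (J → Fin k) → F) ≠ 0 := pten_ne_zero fun _ e0 => he0 (by rw [e0, hf.zero_left])
    have := smul_left_injective F hpe (h0.trans (one_smul F _).symm)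
    rcases mul_self_eq_one_iff.1 this with e' | e'
    · exact ⟨true, by rw [e']; rfl⟩
    · exact ⟨false, by rw [e']; rfl⟩
  rw [hc] at hh
  exact ⟨B, c, hBB, hBl, hh⟩

omit S in
/-- A moved slot bounds the signature. -/
theorem sgd_swap_le (h2 : (2 : F) ≠ 0) (hk : 2 ≤ k) {h : GL (J → Fin k) F} (h1 : h * h = 1) {π : Equiv.Perm J}
    (hπ : MonoOf π h) (hne : π ≠ 1) : (sgd h).natAbs * k ≤ k ^ Fintype.card J := by
  classical
  haveI : NeZero k := ⟨by omega⟩
  obtain ⟨a, ha⟩ : ∃ a, π a ≠ a := by
    by_contra hcon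
    push Not at hcon
    exact hne (Equiv.ext hcon)
  haveI : Nonempty J := ⟨a⟩
  set b := π a with hb
  have hπ2 : π * π = 1 := perm_of_monoOf (by omega) (h1 ▸ hπ.mul hπ) monoOf_one
  have hπb : π b = a := by rw [hb]; exact Equiv.congr_fun hπ2 a
  obtain ⟨A, hA⟩ := hπ
  obtain ⟨μ, hμ, hμA⟩ : ∃ μ : F, μ ≠ 0 ∧ ∀ v, mv (A b) (mv (A a) v) = μ • v := by
    refine slot_scalar (z := fun _ => Pi.single 0 1) (z' := fun j => mv (A j) (mv (A (π j)) (Pi.single 0 1)))
      (i := b) (by omega) (fun j _ => Pi.single_ne_zero_iff.2 one_ne_zero) fun v => ?_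
    have h0 : mv (h * h) (pten (Function.update (fun _ => Pi.single 0 1) b v)) =
        pten (Function.update (fun _ => Pi.single 0 1) b v) := by rw [h1, mv_one]
    rw [mv_mul, hA, hA] at h0
    rw [← h0]
    refine congrArg pten (funext fun j => ?_)
    have hjj : π (π j) = j := Equiv.congr_fun hπ2 j
    by_cases hj : j = b
    · subst hj
      rw [Function.update_self, hjj, Function.update_self, hπb]
    · rw [Function.update_of_ne hj, hjj, Function.update_of_ne hj]
  set G := fac (J := J) a (A a)⁻¹ with hG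
  set h' := G * h * G⁻¹ with hh'
  set Y : (J → Fin k → F) → J → Fin k → F := fun y j =>
    if j = a then y b else if j = b then μ • y a else mv (A j) (y (π j)) with hY
  have hh : ∀ y, mv h' (pten y) = pten (Y y) := fun y => by
    rw [hh', mv_mul, mv_mul, hG, fac_inv, inv_inv, mv_fac, hA, mv_fac]
    refine congrArg pten (funext fun j => ?_)
    by_cases hja : j = a
    · subst hja
      rw [Function.update_self, ← hb, Function.update_of_ne ha, mv_inv_mv]
      simp [hY]
    · rw [Function.update_of_ne hja]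
      by_cases hjb : j = b
      · subst hjb
        rw [hπb, Function.update_self, hμA]
        simp [hY, ha]
      · have : π j ≠ a := fun e => hjb (by
          have h2 := Equiv.congr_fun hπ2 j
          rw [Equiv.Perm.mul_apply, e, ← hb] at h2
          exact h2.symm)
        rw [Function.update_of_ne this]
        simp [hY, hja, hjb]
  have h1' : h' * h' = 1 := by
    rw [hh', show G * h * G⁻¹ * (G * h * G⁻¹) = G * (h * h) * G⁻¹ by group, h1, mul_one, mul_inv_cancel]
  set H := (h' : Matrix (J → Fin k) (J → Fin k) F) with hH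
  have hcol : ∀ d m, H m d = pten (Y fun j => Pi.single (d j) 1) m := fun d m => by
    exact (congrFun (Matrix.mulVec_single_one H d) m).symm.trans
      ((congrFun (congrArg (mv h') (pten_single d)).symm m).trans (congrFun (hh _) m))
  have hsupp : ∀ d m, H m d ≠ 0 → m a = d b ∧ m b = d a := by
    intro d m hne0
    rw [hcol, pten] at hne0
    have h2 := Finset.prod_ne_zero_iff.1 hne0
    constructor
    · have := h2 a (Finset.mem_univ a)
      simp only [hY, if_pos] at this
      by_contra e
      exact this (Pi.single_eq_of_ne e _)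
    · have := h2 b (Finset.mem_univ b)
      simp only [hY, if_neg ha, if_pos, Pi.smul_apply, smul_eq_mul] at this
      by_contra e
      exact this (by rw [Pi.single_eq_of_ne e, mul_zero])
  set P := Finset.univ.filter fun d : J → Fin k => d a < d b with hP
  let ext : (P → F) →ₗ[F] (J → Fin k) → F :=
    { toFun := fun c m => if hm : m ∈ P then c ⟨m, hm⟩ else 0
      map_add' := fun c c' => funext fun m => by
        simp only [Pi.add_apply]
        split <;> simp
      map_smul' := fun r c => funext fun m => by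
        simp only [Pi.smul_apply, RingHom.id_apply]
        split <;> simp }
  let Φ : (P → F) →ₗ[F] fixsp h' :=
    LinearMap.codRestrict (fixsp h') (ext + (mvLin h').comp ext) fun c => mem_fixsp.2 (by
      show mv h' (ext c + mv h' (ext c)) = ext c + mv h' (ext c)
      rw [mv_add, ← mv_mul, h1', mv_one, add_comm])
  have hΦ : ∀ c (m : J → Fin k) (hm : m ∈ P), ((Φ c : fixsp h') : (J → Fin k) → F) m = c ⟨m, hm⟩ := by
    intro c m hm
    show ext c m + (H *ᵥ ext c) m = _
    rw [Matrix.mulVec, dotProduct, Finset.sum_eq_zero fun d _ => ?_, add_zero]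
    · exact dif_pos hm
    · by_cases hd : d ∈ P
      · rw [mul_eq_zero]
        left
        by_contra e
        obtain ⟨e1, e2⟩ := hsupp d m e
        have hm' := (Finset.mem_filter.1 hm).2
        have hd' := (Finset.mem_filter.1 hd).2
        rw [e1, e2] at hm'
        exact lt_asymm hm' hd'
      · rw [show ext c d = 0 from dif_neg hd, mul_zero]
  have hinj : Function.Injective Φ := fun c c' e => funext fun ⟨m, hm⟩ => by
    rw [← hΦ c m hm, e, hΦ c' m hm]
  set E := Finset.univ.filter fun d : J → Fin k => d a = d b with hE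
  have hcE : E.card * k = k ^ Fintype.card J := by
    have e : {d : J → Fin k // d ∈ E} × Fin k ≃ (J → Fin k) :=
      { toFun := fun q => Function.update q.1.1 a q.2
        invFun := fun d => (⟨Function.update d a (d b), Finset.mem_filter.2
          ⟨Finset.mem_univ _, by rw [Function.update_self, Function.update_of_ne ha]⟩⟩, d a)
        left_inv := fun q => by
          obtain ⟨⟨d, hd⟩, p⟩ := q
          refine Prod.ext (Subtype.ext ?_) (by simp)
          simp only [Function.update_idem, Function.update_of_ne ha]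
          rw [← (Finset.mem_filter.1 hd).2, Function.update_eq_self]
        right_inv := fun d => by simp }
    simpa using Fintype.card_congr e
  have hcP : 2 * P.card + E.card = k ^ Fintype.card J := by
    have hgt : (Finset.univ.filter fun d : J → Fin k => d b < d a).card = P.card := by
      refine Finset.card_nbij' (fun d => d ∘ Equiv.swap a b) (fun d => d ∘ Equiv.swap a b) ?_ ?_ ?_ ?_ <;>
        intro d hd
      · rw [Finset.mem_coe, Finset.mem_filter] at hd ⊢
        exact ⟨Finset.mem_univ _, by simpa using hd.2⟩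
      · rw [Finset.mem_coe, Finset.mem_filter] at hd ⊢
        exact ⟨Finset.mem_univ _, by simpa using hd.2⟩
      · funext j; simp
      · funext j; simp
    have e0 : (J → Fin k) → ℕ := fun d =>
      (if d a < d b then 1 else 0) + (if d a = d b then 1 else 0) + (if d b < d a then 1 else 0)
    have e1 : ∑ d : J → Fin k, ((if d a < d b then 1 else 0) + (if d a = d b then 1 else 0) +
        (if d b < d a then 1 else 0)) = ∑ _d : J → Fin k, (1 : ℕ) := Finset.sum_congr rfl fun d _ => by
      rcases lt_trichotomy (d a) (d b) with e | e | e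
      · simp [e, e.ne, lt_asymm e]
      · simp [e]
      · simp [e, e.ne', lt_asymm e]
    rw [Finset.sum_add_distrib, Finset.sum_add_distrib, Finset.sum_boole, Finset.sum_boole, Finset.sum_boole,
      Finset.sum_const, Finset.card_univ, Fintype.card_fun, Fintype.card_fin, smul_eq_mul, mul_one] at e1
    simp only [Nat.cast_id] at e1
    rw [hgt, ← hP, ← hE] at e1
    omega
  rw [show h = G⁻¹ * h' * G⁻¹⁻¹ by rw [hh']; group, sgd_conj]
  let Em : Submodule F ((J → Fin k) → F) := LinearMap.ker (mvLin h' + LinearMap.id)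
  let Ψ : (P → F) →ₗ[F] Em :=
    LinearMap.codRestrict Em (ext - (mvLin h').comp ext) fun c => LinearMap.mem_ker.2 (by
      show mv h' (ext c - mv h' (ext c)) + (ext c - mv h' (ext c)) = 0
      rw [mv_sub, ← mv_mul, h1', mv_one]
      abel)
  have hinj' : Function.Injective Ψ := fun c c' e => funext fun ⟨m, hm⟩ => by
    have h0 : ∀ c, ((Ψ c : Em) : (J → Fin k) → F) m = c ⟨m, hm⟩ := fun c => by
      show ext c m - (H *ᵥ ext c) m = _
      rw [Matrix.mulVec, dotProduct, Finset.sum_eq_zero fun d _ => ?_, sub_zero]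
      · exact dif_pos hm
      · by_cases hd : d ∈ P
        · rw [mul_eq_zero]
          left
          by_contra e
          obtain ⟨e1, e2⟩ := hsupp d m e
          have hm' := (Finset.mem_filter.1 hm).2
          have hd' := (Finset.mem_filter.1 hd).2
          rw [e1, e2] at hm'
          exact lt_asymm hm' hd'
        · rw [show ext c d = 0 from dif_neg hd, mul_zero]
    rw [← h0 c, e, h0 c']
  have hle : P.card ≤ Module.finrank F (fixsp h') := by
    have := LinearMap.finrank_le_finrank_of_injective hinj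
    rwa [Module.finrank_fintype_fun_eq_card, Fintype.card_coe] at this
  have hle' : P.card ≤ Module.finrank F Em := by
    have := LinearMap.finrank_le_finrank_of_injective hinj'
    rwa [Module.finrank_fintype_fun_eq_card, Fintype.card_coe] at this
  have hcN : Fintype.card (J → Fin k) = k ^ Fintype.card J := by rw [Fintype.card_fun, Fintype.card_fin]
  have h5 : Module.finrank F (fixsp h') + Module.finrank F Em = Fintype.card (J → Fin k) := finrank_neg h2 h1'
  have h6 : (sgd h').natAbs ≤ E.card := by
    unfold sgd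
    omega
  calc (sgd h').natAbs * k ≤ E.card * k := Nat.mul_le_mul_right k h6
    _ = _ := hcE

/-- The signature of a member of one slot. -/
theorem sgd_fac (i : J) {T : GL (Fin k) F} : sgd (fac i T) * k = (k : ℤ) ^ Fintype.card J * sgd T := by
  have e : (k : ℤ) * Fintype.card (Rest i k) = (k : ℤ) ^ Fintype.card J := by
    rw [mul_comm]
    exact_mod_cast card_rest (m := k) i
  rw [sgd, sgd, finrank_fixsp_fac, show (Fintype.card (J → Fin k) : ℤ) = (k : ℤ) * Fintype.card (Rest i k) by
    rw [e, Fintype.card_fun, Fintype.card_fin, Nat.cast_pow], Fintype.card_fin, ← e]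
  push_cast
  ring

/-- The signature of two commuting involutions in two slots. -/
theorem sgd_fac2 {a b : J} (hab : a ≠ b) {A B : GL (Fin k) F} (hA : A * A = 1) (hB : B * B = 1) :
    sgd (fac a A * fac b B) * (k * k) = (k : ℤ) ^ Fintype.card J * (sgd A * sgd B) := by
  classical
  set T : J → GL (Fin k) F := Function.update (Function.update (fun _ => 1) b B) a A with hT
  have hTa : T a = A := by rw [hT, Function.update_self]
  have hTb : T b = B := by rw [hT, Function.update_of_ne hab.symm, Function.update_self]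
  have hTj : ∀ j, j ≠ a → j ≠ b → T j = 1 := fun j h1 h2 => by
    rw [hT, Function.update_of_ne h1, Function.update_of_ne h2]
  rw [S.sgd_diag (B := T) (c := true) (fun j v => by
    by_cases hja : j = a
    · subst hja; rw [hTa, ← mv_mul, hA, mv_one]
    by_cases hjb : j = b
    · subst hjb; rw [hTb, ← mv_mul, hB, mv_one]
    · rw [hTj j hja hjb, mv_one, mv_one]) (fun y => by
    rw [if_pos rfl, one_smul, mv_mul, mv_fac, mv_fac, Function.update_of_ne hab]
    refine congrArg pten (funext fun j => ?_)
    by_cases hja : j = a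
    · subst hja; rw [Function.update_self, hTa]
    rw [Function.update_of_ne hja]
    by_cases hjb : j = b
    · subst hjb; rw [Function.update_self, hTb]
    · rw [Function.update_of_ne hjb, hTj j hja hjb, mv_one])]
  have hb' : b ∈ Finset.univ.erase a := Finset.mem_erase.2 ⟨hab.symm, Finset.mem_univ b⟩
  rw [if_pos rfl, one_mul, ← Finset.mul_prod_erase Finset.univ _ (Finset.mem_univ a),
    ← Finset.mul_prod_erase _ _ hb', hTa, hTb, Finset.prod_congr rfl fun j hj => show sgd (T j) = (k : ℤ) by
      obtain ⟨h1, h2⟩ := Finset.mem_erase.1 hj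
      rw [hTj j (Finset.ne_of_mem_erase h2) h1, sgd_one, Fintype.card_fin],
    Finset.prod_const, Finset.card_erase_of_mem hb', Finset.card_erase_of_mem (Finset.mem_univ a), Finset.card_univ]
  obtain ⟨n, hn⟩ : ∃ n, Fintype.card J = n + 2 := ⟨Fintype.card J - 2, by
    have := Fintype.one_lt_card_iff.2 ⟨a, b, hab⟩; omega⟩
  rw [hn, show n + 2 - 1 - 1 = n by omega]
  ring

theorem sgd_pl {T : GL (Fin k) F} (hT : IsPl f T) : sgd T = (k : ℤ) - 4 := by
  rw [sgd, Fintype.card_fin]
  have := hT.2.2
  omega

/-- A monomial involution of the signature of a plane involution is one, in dimensions at least six. -/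
theorem plane_shape [Nonempty J] (h6 : 6 ≤ k) {h : GL (J → Fin k) F}
    (hiso : ∀ x y, Bt σ₁ f (mv h x) (mv h y) = Bt σ₁ f x y) (h1 : h * h = 1) (hm : Mono h)
    (hs : sgd h * k = (k : ℤ) ^ Fintype.card J * ((k : ℤ) - 4)) :
    ∃ (j : J) (T : GL (Fin k) F), IsPl f T ∧ h = fac j T := by
  classical
  obtain ⟨n, hn⟩ : ∃ n, Fintype.card J = n + 1 := ⟨Fintype.card J - 1, by have := Fintype.card_pos (α := J); omega⟩
  have hN : 0 < k ^ Fintype.card J := pow_pos (by omega) _
  have hab : (sgd h).natAbs * k = k ^ Fintype.card J * (k - 4) := by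
    have := congrArg Int.natAbs hs
    simp only [Int.natAbs_mul, Int.natAbs_natCast, Int.natAbs_pow] at this
    rw [this]
    congr 1
    omega
  have hs0 : sgd h ≠ 0 := fun e => by
    rw [e, Int.natAbs_zero, zero_mul] at hab
    exact (Nat.mul_ne_zero hN.ne' (by omega)) hab.symm
  obtain ⟨π, hπ⟩ := mono_iff.1 hm
  have hπ1 : π = 1 := by
    by_contra hne
    have := sgd_swap_le S.two (by omega) h1 hπ hne
    rw [hab] at this
    have : k ^ Fintype.card J * 2 ≤ k ^ Fintype.card J * (k - 4) := Nat.mul_le_mul_left _ (by omega)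
    omega
  obtain ⟨B, c, hBB, -, hh⟩ := S.exists_diag hiso h1 (hπ1 ▸ hπ) hs0
  set s : J → ℤ := fun j => sgd (B j) with hsd
  have hle : ∀ j, Module.finrank F (fixsp (B j)) ≤ k := fun j =>
    (Submodule.finrank_le _).trans (by rw [Module.finrank_fintype_fun_eq_card, Fintype.card_fin])
  have hsj : ∀ j, s j = 2 * (Module.finrank F (fixsp (B j)) : ℤ) - k := fun j => by
    rw [hsd]
    show sgd (B j) = _
    rw [sgd, Fintype.card_fin]
  have habs : ∀ j, (s j).natAbs = k ∨ (s j).natAbs = k - 2 ∨ (s j).natAbs + 4 ≤ k := fun j => by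
    have := hsj j
    have := hle j
    omega
  have hprod : ∏ j, (s j).natAbs = (k - 4) * k ^ n := by
    rw [show sgd h = (if c then (1 : ℤ) else -1) * ∏ j, s j from S.sgd_diag hBB hh, Int.natAbs_mul,
      show (if c then (1 : ℤ) else -1).natAbs = 1 by split <;> rfl, one_mul,
      show (∏ j, s j).natAbs = ∏ j, (s j).natAbs from map_prod Int.natAbsHom s Finset.univ, hn, pow_succ] at hab
    exact Nat.eq_of_mul_eq_mul_right (by omega : 0 < k) (by rw [hab]; ring)
  set U := Finset.univ.filter fun j => (s j).natAbs ≠ k with hU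
  have hUk : ∀ j, j ∉ U → (s j).natAbs = k := fun j hj => by
    by_contra e0; exact hj (Finset.mem_filter.2 ⟨Finset.mem_univ j, e0⟩)
  have hout : ∏ j, (s j).natAbs = (∏ j ∈ U, (s j).natAbs) * k ^ (n + 1 - U.card) := by
    rw [← Finset.prod_mul_prod_compl U, Finset.prod_congr (s₁ := Uᶜ) rfl fun j hj => hUk j (Finset.mem_compl.1 hj),
      Finset.prod_const, Finset.card_compl, hn]
  have hle2 : ∀ j ∈ U, (s j).natAbs ≤ k - 2 := fun j hj => by
    have := (habs j).resolve_left (Finset.mem_filter.1 hj).2
    omega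
  have hUn : U.card ≤ n + 1 := hn ▸ Finset.card_le_univ U
  obtain ⟨j₀, hj₀⟩ : ∃ j₀, U = {j₀} := by
    rw [← Finset.card_eq_one]
    rcases Nat.lt_trichotomy U.card 1 with hlt | heq | hgt
    · exfalso
      have hU0 : U = ∅ := Finset.card_eq_zero.1 (by omega)
      rw [hout, hU0, Finset.prod_empty, one_mul, Finset.card_empty, Nat.sub_zero, pow_succ] at hprod
      have : 0 < k ^ n := pow_pos (by omega) n
      nlinarith [Nat.sub_add_cancel (show 4 ≤ k by omega)]
    · exact heq
    exfalso
    obtain ⟨a, ha⟩ : ∃ a, n + 1 = a + U.card := ⟨n + 1 - U.card, by omega⟩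
    have hP : ∏ j ∈ U, (s j).natAbs = (k - 4) * k ^ (U.card - 1) := by
      rw [hout, show n + 1 - U.card = a by omega, show n = (U.card - 1) + a by omega, pow_add, ← mul_assoc] at hprod
      exact Nat.eq_of_mul_eq_mul_right (pow_pos (by omega) a) hprod
    by_cases hall : ∀ j ∈ U, (s j).natAbs = k - 2
    · rw [Finset.prod_congr rfl hall, Finset.prod_const] at hP
      obtain ⟨r, hr⟩ : ∃ r, U.card = r + 2 := ⟨U.card - 2, by omega⟩
      obtain ⟨q, rfl⟩ : ∃ q, k = q + 4 := ⟨k - 4, by omega⟩
      rw [hr, show r + 2 - 1 = r + 1 by omega, show q + 4 - 2 = q + 2 by omega, show q + 4 - 4 = q by omega] at hP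
      rcases Nat.eq_zero_or_pos r with rfl | hr0
      · norm_num at hP
        nlinarith
      · have h3 : (q + 2) ^ r < (q + 4) ^ r := Nat.pow_lt_pow_left (by omega) (by omega)
        have e1 : (q + 2) ^ (r + 2) = (q + 2) * (q + 2) * (q + 2) ^ r := by ring
        have e2 : q * (q + 4) ^ (r + 1) = q * (q + 4) * (q + 4) ^ r := by ring
        obtain ⟨r', rfl⟩ : ∃ r', r = r' + 1 := ⟨r - 1, by omega⟩
        have h4 : (q + 2) ^ r' ≤ (q + 4) ^ r' := Nat.pow_le_pow_left (by omega) _
        have h7 : (q + 2) * (q + 2) * (q + 2) < q * (q + 4) * (q + 4) := by nlinarith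
        have h8 : (q + 2) ^ (r' + 1 + 2) < q * (q + 4) ^ (r' + 1 + 1) := by
          calc (q + 2) ^ (r' + 1 + 2) = (q + 2) * (q + 2) * (q + 2) * (q + 2) ^ r' := by ring
            _ ≤ (q + 2) * (q + 2) * (q + 2) * (q + 4) ^ r' := Nat.mul_le_mul_left _ h4
            _ < q * (q + 4) * (q + 4) * (q + 4) ^ r' := Nat.mul_lt_mul_of_pos_right h7 (pow_pos (by omega) _)
            _ = _ := by ring
        omega
    push Not at hall
    obtain ⟨j, hj, hjne⟩ := hall
    have hj4 : (s j).natAbs ≤ k - 4 := by
      have := ((habs j).resolve_left (Finset.mem_filter.1 hj).2).resolve_left hjne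
      omega
    have h3 : ∏ i ∈ U.erase j, (s i).natAbs ≤ (k - 2) ^ (U.card - 1) := by
      rw [← Finset.card_erase_of_mem hj]
      exact Finset.prod_le_pow_card _ _ _ fun i hi => hle2 i (Finset.mem_of_mem_erase hi)
    rw [← Finset.mul_prod_erase U _ hj] at hP
    have h4 : (k - 2) ^ (U.card - 1) < k ^ (U.card - 1) := Nat.pow_lt_pow_left (by omega) (by omega)
    have h5 := Nat.mul_le_mul hj4 h3
    have h7 : (k - 4) * (k - 2) ^ (U.card - 1) < (k - 4) * k ^ (U.card - 1) :=
      Nat.mul_lt_mul_of_pos_left h4 (by omega)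
    omega
  have hsc : ∀ j, j ≠ j₀ → ∃ t : F, ∀ v, mv (B j) v = t • v := fun j hj => by
    have hjk : (s j).natAbs = k := hUk j (by rw [hj₀, Finset.mem_singleton]; exact hj)
    have := hsj j
    have := hle j
    rcases (by omega : Module.finrank F (fixsp (B j)) = k ∨ Module.finrank F (fixsp (B j)) = 0) with e | e
    · have htop : fixsp (B j) = ⊤ :=
        Submodule.eq_top_of_finrank_eq (by rw [Module.finrank_fintype_fun_eq_card, Fintype.card_fin, e])
      exact ⟨1, fun v => by rw [one_smul]; exact mem_fixsp.1 (htop ▸ Submodule.mem_top)⟩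
    · refine ⟨-1, fun v => ?_⟩
      have h3 : v + mv (B j) v ∈ fixsp (B j) := mem_fixsp.2 (by rw [mv_add, hBB, add_comm])
      rw [Submodule.finrank_eq_zero.1 e, Submodule.mem_bot] at h3
      rw [neg_one_smul]
      exact eq_neg_of_add_eq_zero_right h3
  choose! t ht using hsc
  set C₀ := (if c then (1 : F) else -1) * ∏ j ∈ Finset.univ.erase j₀, t j
  have hC : ∀ y, mv h (pten y) = pten (Function.update y j₀ (C₀ • mv (B j₀) (y j₀))) := fun y => by
    rw [hh]
    funext a
    simp only [pten, Pi.smul_apply, smul_eq_mul]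
    rw [← Finset.mul_prod_erase Finset.univ _ (Finset.mem_univ j₀),
      ← Finset.mul_prod_erase (f := fun i => Function.update y j₀ (C₀ • mv (B j₀) (y j₀)) i (a i)) Finset.univ
        (Finset.mem_univ j₀),
      Finset.prod_congr rfl fun i hi => show mv (B i) (y i) (a i) = t i * y i (a i) by
        rw [ht i (Finset.ne_of_mem_erase hi)]; rfl,
      Finset.prod_congr (g := fun i => y i (a i)) rfl fun i hi => show
        Function.update y j₀ (C₀ • mv (B j₀) (y j₀)) i (a i) = y i (a i) by
        rw [Function.update_of_ne (Finset.ne_of_mem_erase hi)],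
      Finset.prod_mul_distrib, Function.update_self, Pi.smul_apply, smul_eq_mul]
    ring
  have hC0 : C₀ ≠ 0 := by
    refine mul_ne_zero (by split <;> simp) (Finset.prod_ne_zero_iff.2 fun j hj e0 => ?_)
    obtain ⟨e, he⟩ := S.exists_aniso
    have := ht j (Finset.ne_of_mem_erase hj) e
    rw [e0, zero_smul] at this
    exact S.hκ (by rw [← he, mv_inj (B j) (this.trans (mv_zero (B j)).symm), S.hf.zero_left])
  obtain ⟨T₁, hT₁⟩ := exists_smul_gl (k := k) C₀ hC0
  set T := T₁ * B j₀
  have hT : h = fac j₀ T := ext_pten fun y => by rw [hC, mv_fac, mv_mul, hT₁]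
  have hTT : T * T = 1 := (fac_one_iff (by omega) j₀).1 (by rw [fac_mul, ← hT, h1])
  have hsT : sgd T = (k : ℤ) - 4 := by
    have e := S.sgd_fac (T := T) j₀
    rw [← hT, hs] at e
    exact (mul_left_cancel₀ (pow_ne_zero _ (by exact_mod_cast (by omega : k ≠ 0))) e).symm
  refine ⟨j₀, T, ⟨fun u v => ?_, hTT, ?_⟩, hT⟩
  · obtain ⟨e, he⟩ := S.exists_aniso
    have hw : Bt σ₁ f (pten fun _ => e : Rest j₀ k → F) (pten fun _ => e) ≠ 0 := by
      rw [Bt_pten S.hf]; exact Finset.prod_ne_zero_iff.2 fun _ _ => he ▸ S.hκ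
    have := hiso (ins j₀ u (pten fun _ => e)) (ins j₀ v (pten fun _ => e))
    rw [hT, mv_fac_ins, mv_fac_ins, Bt_ins_ins S.hf, Bt_ins_ins S.hf] at this
    exact mul_right_cancel₀ hw this
  · rw [sgd, Fintype.card_fin] at hsT
    omega

end Sl

end Cfsg.Agent.OrthEvenWreath
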