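/-
Tensor powers of a symmetric form of even dimension: commutants of root members.
-/
import Cfsg.Agent.Lib.OrthWreathEven.Omega
import Cfsg.Agent.Lib.OrthWreath.Slots

set_option autoImplicit false
set_option linter.unusedSectionVars false

namespace Cfsg.Agent.OrthEvenWreath

open scoped Matrix
open Matrix Cfsg.Agent.Transvec Cfsg.Agent.TensorMax Cfsg.Agent.WreathMax Cfsg.Agent.FormWreath
open Cfsg.Agent.OrthWreath hiding Sl Ctx Base Ind Inv Gd
open Cfsg.Agent.UWreath (top top_ten Loc loc_pten loc_comp loc_id pull Has Additive loc_congr loc_conj_fac loc_conj_pm)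

variable {F : Type*} [Field F] {k : ℕ} {J : Type} [Fintype J] [DecidableEq J]

local notation "σ₁" => RingEquiv.refl F

variable {f : (Fin k → F) → (Fin k → F) → F}

variable [Finite F] {κ : F}

namespace Sl

variable (S : Sl f κ)
include S

theorem exists_isotropic : ∃ c : Fin k → F, c ≠ 0 ∧ f c c = 0 := by
  obtain ⟨x, -, hx0, hx⟩ := Transvec.Orth.exists_singular (qf_nondeg S.hf S.two)
    (X := (⊤ : Submodule F (Fin k → F))) (by
    rw [finrank_top, Module.finrank_fintype_fun_eq_card, Fintype.card_fin]; exact le_trans (by norm_num) S.hk)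
  refine ⟨x, hx0, ?_⟩
  rw [qf, div_eq_zero_iff] at hx
  exact hx.resolve_right S.two

theorem av_comp (a b c d : Fin k → F) : av S.hf a b ∘ₗ av S.hf c d = f c b • av S.hf a d :=
  LinearMap.ext fun u => by
    simp only [LinearMap.comp_apply, LinearMap.smul_apply, av_apply, S.hf.smul_left, smul_smul]
    congr 1
    ring

theorem av_all {A : Submodule F ((Fin k → F) →ₗ[F] Fin k → F)} (h : ∀ a b, av S.hf a b ∈ A)
    (T : (Fin k → F) →ₗ[F] Fin k → F) : T ∈ A := by
  classical
  choose c hc using fun p : Fin k => S.hf.frow_surj (fun _ => rfl) (Pi.single p 1)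
  have e : T = ∑ p, av S.hf (T (Pi.single p 1)) (c p) := LinearMap.ext fun v => by
    rw [LinearMap.sum_apply]
    conv_lhs => rw [← Finset.univ_sum_single v, map_sum]
    refine Finset.sum_congr rfl fun p _ => ?_
    rw [av_apply, ← S.hf.frow_dot, hc, single_one_dotProduct, ← map_smul, ← Pi.single_smul, smul_eq_mul, mul_one]
  rw [e]
  exact A.sum_mem fun p _ => h _ _

/-- The squares of singular vectors generate every map. -/
theorem all_of_iso {A : Submodule F ((Fin k → F) →ₗ[F] Fin k → F)} (hcomp : ∀ T T', T ∈ A → T' ∈ A → T ∘ₗ T' ∈ A)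
    (hC : ∀ c, f c c = 0 → Cop S.hf c ∈ A) (T : (Fin k → F) →ₗ[F] Fin k → F) : T ∈ A := by
  have hf := S.hf
  obtain ⟨c, hc0, hc⟩ := S.exists_isotropic
  obtain ⟨d, hd, hcd⟩ := S.exists_pair hc0 hc
  have hd0 : d ≠ 0 := fun e => by rw [e, hf.zero_right] at hcd; exact zero_ne_one hcd
  have hL : ∀ {c}, c ≠ 0 → f c c = 0 → ∀ v, av hf v c ∈ A := by
    intro c hc0 hc v
    let P : Submodule F (Fin k → F) :=
      { carrier := {v | av hf v c ∈ A}
        add_mem' := fun {a b} ha hb => by
          show av hf (a + b) c ∈ A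
          convert A.add_mem ha hb using 1; exact LinearMap.ext fun u => by simp
        zero_mem' := by
          show av hf 0 c ∈ A
          convert A.zero_mem using 1; exact LinearMap.ext fun u => by simp
        smul_mem' := fun r a ha => by
          show av hf (r • a) c ∈ A
          convert A.smul_mem r ha using 1; exact LinearMap.ext fun u => by simp [smul_smul, mul_comm] }
    have : P = ⊤ := S.iso_span hc0 hc P fun u hu huc => by
      have := hcomp _ _ (hC u hu) (hC c hc)
      rw [Cop, Cop, S.av_comp, hf.comm'] at this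
      show av hf u c ∈ A
      simpa [smul_smul, inv_mul_cancel₀ huc] using A.smul_mem (f u c)⁻¹ this
    have h5 : v ∈ P := by rw [this]; exact Submodule.mem_top
    exact h5
  have hR : ∀ v, av hf d v ∈ A := by
    intro v
    let P : Submodule F (Fin k → F) :=
      { carrier := {v | av hf d v ∈ A}
        add_mem' := fun {a b} ha hb => by
          show av hf d (a + b) ∈ A
          convert A.add_mem ha hb using 1; exact LinearMap.ext fun u => by simp [hf.add_right, add_smul]
        zero_mem' := by
          show av hf d 0 ∈ A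
          convert A.zero_mem using 1; exact LinearMap.ext fun u => by simp [hf.zero_right]
        smul_mem' := fun r a ha => by
          show av hf d (r • a) ∈ A
          convert A.smul_mem r ha using 1; exact LinearMap.ext fun u => by simp [hf.smul_right', smul_smul] }
    have : P = ⊤ := S.iso_span hd0 hd P fun u hu hud => by
      have := hcomp _ _ (hC d hd) (hC u hu)
      rw [Cop, Cop, S.av_comp] at this
      show av hf d u ∈ A
      simpa [smul_smul, inv_mul_cancel₀ hud] using A.smul_mem (f u d)⁻¹ this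
    have h5 : v ∈ P := by rw [this]; exact Submodule.mem_top
    exact h5
  refine S.av_all (fun a b => ?_) T
  have := hcomp _ _ (hL hc0 hc a) (hR b)
  rwa [S.av_comp, hf.comm', hcd, one_smul] at this

/-- Commuting with the root members of every slot but one. -/
theorem comm_roots (i : J) {L : ((J → Fin k) → F) →ₗ[F] (J → Fin k) → F}
    (h : ∀ (l : J) (c w : Fin k → F), l ≠ i → f c c = 0 → f w c = 0 →
      L ∘ₗ mvLin (fac l (eA S.hf c w)) = mvLin (fac l (eA S.hf c w)) ∘ₗ L) :
    ∃ T₀ : (Fin k → F) →ₗ[F] Fin k → F, L = op i LinearMap.id T₀ := by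
  refine comm_slot_all (by have := S.hk; omega) i fun l T => ?_
  refine S.all_of_iso (A := OrthWreath.Sl.commA L (l : J)) (OrthWreath.Sl.commA_comp L l) (fun c hc => ?_) T
  by_cases hc0 : c = 0
  · subst hc0
    rw [show Cop S.hf (0 : Fin k → F) = 0 from LinearMap.ext fun u => by simp]
    exact (OrthWreath.Sl.commA L (l : J)).zero_mem
  obtain ⟨d, hd, hcd⟩ := S.exists_pair hc0 hc
  obtain ⟨w, hwc, -, hw⟩ := S.exists_W_aniso hc hd hcd
  have hw' : f (-w) c = 0 := by rw [S.hf.neg_left, hwc, neg_zero]
  have hmem : ∀ u, f u c = 0 → mvLin (eA S.hf c u) ∈ OrthWreath.Sl.commA L (l : J) := fun u hu => by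
    show L ∘ₗ _ = _
    rw [← mvLin_fac]
    exact h l c u l.2 hc hu
  have hid : (LinearMap.id : (Fin k → F) →ₗ[F] Fin k → F) ∈ OrthWreath.Sl.commA L (l : J) := by
    show L ∘ₗ _ = _
    rw [op_one, LinearMap.comp_id, LinearMap.id_comp]
  have e : Cop S.hf c = (-(f w w)⁻¹) • (mvLin (eA S.hf c w) + mvLin (eA S.hf c (-w)) - (2 : F) • LinearMap.id) := by
    refine LinearMap.ext fun x => ?_
    show _ = (-(f w w)⁻¹) • (mv (eA S.hf c w) x + mv (eA S.hf c (-w)) x - (2 : F) • x)
    rw [mv_eA S.hf S.two hc hwc, mv_eA S.hf S.two hc hw', Elin_apply, Elin_apply, Aop_Aop S.hf hc hwc hwc,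
      Aop_Aop S.hf hc hw' hw', Aop_neg, LinearMap.neg_apply, S.hf.neg_left, S.hf.neg_right]
    have := S.two
    match_scalars <;> field_simp <;> ring
  rw [e]
  exact Submodule.smul_mem _ _ (Submodule.sub_mem _ (Submodule.add_mem _ (hmem w hwc) (hmem _ hw'))
    (Submodule.smul_mem _ _ hid))

end Sl

end Cfsg.Agent.OrthEvenWreath
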