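/-
Tensor powers of a symmetric form of even dimension: members centralising the roots along one line.
-/
import Cfsg.Agent.Lib.OrthWreathEven.Slots
import Cfsg.Agent.Lib.OrthWreath.Mid

set_option autoImplicit false
set_option linter.unusedSectionVars false

namespace Cfsg.Agent.OrthEvenWreath

open scoped Matrix
open Matrix Cfsg.Agent.Transvec Cfsg.Agent.TensorMax Cfsg.Agent.WreathMax Cfsg.Agent.FormWreath
open Cfsg.Agent.OrthWreath hiding Sl Ctx Base Ind Inv Gd
open Cfsg.Agent.UWreath (top top_ten Loc loc_pten loc_comp loc_id pull Has Additive loc_congr loc_conj_fac loc_conj_pm)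

variable {F : Type*} [Field F] {k : ℕ} {J : Type} [Fintype J] [DecidableEq J]

local notation "σ₁" => RingEquiv.refl F

variable {f : (Fin k → F) → (Fin k → F) → F}

variable [Finite F] {κ : F}

variable {Q : ((J → Fin k) → F) → F} {X : Subgroup (GL (J → Fin k) F)}

namespace Ctx

variable (C : Ctx f Q κ X)
include C

/-- Isometries preserving a line preserve its orthogonal. -/
theorem cr_map {g : GL (J → Fin k) F} (hg : g ∈ isometryGroup F Q) {i l : J} {c c' : Fin k → F}
    (hL : (Ln i c).map (mvLin g) = Ln l c') {z : Fin k → F} (hz : f z c = 0) (u : Rest i k → F) :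
    cr l (frow f c') (mv g (ins i z u)) = 0 := by
  refine (Bt_sym C.hf).nondeg _ fun w => ?_
  rw [← Bt_ins C.hf]
  obtain ⟨y, hy, he⟩ := mem_map_gl.1 (hL.symm ▸ ins_mem l c' w : ins l c' w ∈ (Ln i c).map (mvLin g))
  obtain ⟨u', rfl⟩ := mem_Ln_ins hy
  rw [← he, C.pres hg, Bt_ins_ins C.hf, hz, zero_mul]

/-- The sign change on a hyperbolic plane. -/
theorem exists_flip {c d : Fin k → F} (hc : f c c = 0) (hd : f d d = 0) (hcd : f c d = 1) :
    ∃ T : GL (Fin k) F, Mv f X T ∧ mv T c = -c ∧ mv T d = -d ∧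
      ∀ w, f w c = 0 → f w d = 0 → mv T w = w := by
  have hf := C.hf
  have h2 := C.two
  obtain ⟨hp, h1c, h1d, h1w⟩ := mr_swap hf h2 hc hd hcd C.hκ
  obtain ⟨hq, h2c, h2d, h2w⟩ := mr_swap hf h2 hc hd hcd (neg_ne_zero.2 C.hκ)
  refine ⟨_, C.mv_mm (x := c + (-κ / 2) • d) (y := c + (κ / 2) • d) (by rw [hq]; exact neg_ne_zero.2 C.hκ)
    (by rw [hp]; exact C.hκ), ?_, ?_, fun w hwc hwd => ?_⟩
  · rw [mv_mul, h1c, mv_smul, h2d, smul_smul, ← neg_one_smul F c]
    congr 1
    have := C.hκ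
    field_simp
  · rw [mv_mul, h1d, mv_smul, h2c, smul_smul, ← neg_one_smul F d]
    congr 1
    have := C.hκ
    field_simp
  · rw [mv_mul, h1w w hwc hwd, mv_neg, h2w w hwc hwd, neg_neg]

variable (hJ : 2 ≤ Fintype.card J) (hX : ¬ Geo.omegaGL Q ≤ X)
include hJ hX

/-- A member carrying a line to a line carries its roots to roots. -/
theorem conj_root {g : GL (J → Fin k) F} (hg : g ∈ X) {i l : J} {c c' : Fin k → F} (hc : f c c = 0)
    (hc'0 : c' ≠ 0) (hc' : f c' c' = 0) (hL : (Ln i c).map (mvLin g) = Ln l c') {w : Fin k → F} (hw : f w c = 0) :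
    ∃ w', f w' c' = 0 ∧ g * fac i (eA C.hf c w) * g⁻¹ = fac l (eA C.hf c' w') := by
  have hf := C.hf
  have hLi : (Ln l c').map (mvLin g⁻¹) = Ln i c := by rw [← hL, map_gl_inv]
  refine C.qrad hJ hX l hc'0 hc' (X.mul_mem (X.mul_mem hg (C.root i c w hc hw)) (X.inv_mem hg)) (fun u => ?_)
    fun v hv u => ?_
  · obtain ⟨w₀, hw₀⟩ := mem_Ln_ins (hLi ▸ mem_map_gl.2 ⟨_, ins_mem l c' u, rfl⟩ : mv g⁻¹ (ins l c' u) ∈ Ln i c)
    rw [mv_mul, mv_mul, ← hw₀, mv_fac_ins, eA_fix_perp hf C.two hc hw hc, show f c w = 0 by rw [hf.comm', hw],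
      zero_smul, sub_zero, hw₀, mv_mv_inv]
  · have h0 := C.cr_map (C.iso (X.inv_mem hg)) hLi hv u
    rw [mv_mul, mv_mul, mv_eA_line hf C.two i hc hw h0, mv_sub, mv_mv_inv, sub_sub_cancel_left]
    exact (Ln l c').neg_mem (hL ▸ mem_map_gl.2 ⟨_, ins_mem i c _, rfl⟩)

/-- A member centralising the roots along the line of c has a scalar middle part. -/
theorem exists_P1 {s : GL (J → Fin k) F} (hs : s ∈ X) {i : J} {c : Fin k → F} (hc0 : c ≠ 0) (hc : f c c = 0)
    (hcomm : ∀ w, f w c = 0 → s * fac i (eA C.hf c w) = fac i (eA C.hf c w) * s) :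
    ∃ b w, f w c = 0 ∧ (∀ x y, Bt σ₁ f (mv b x) (mv b y) = Bt σ₁ f x y) ∧ P1 f i c s b w := by
  classical
  have hf := C.hf
  have h2 := C.two
  haveI : NeZero k := ⟨by have := C.hk; omega⟩
  obtain ⟨d, hd, hcd⟩ := C.toSl.exists_pair hc0 hc
  obtain ⟨x, hxc, hxd, hx⟩ := C.toSl.exists_W_aniso hc hd hcd
  have hdc : f d c = 1 := by rw [hf.comm', hcd]
  have hopc : ∀ z, mv s (op i LinearMap.id (Cop hf c) z) = op i LinearMap.id (Cop hf c) (mv s z) := by
    intro z
    have hw' : f (-x) c = 0 := by rw [hf.neg_left, hxc, neg_zero]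
    have e : op (k := k) i LinearMap.id (Cop hf c) =
        (-(f x x)⁻¹) • (mvLin (fac i (eA hf c x)) + mvLin (fac i (eA hf c (-x))) - (2 : F) • LinearMap.id) := by
      refine ext_ins i fun v u => ?_
      show _ = (-(f x x)⁻¹) • (mv (fac i (eA hf c x)) (ins i v u) + mv (fac i (eA hf c (-x))) (ins i v u) -
        (2 : F) • ins i v u)
      rw [op_ins, mv_fac_ins, mv_fac_ins, mv_eA hf h2 hc hxc, mv_eA hf h2 hc hw', Elin_apply, Elin_apply,
        Aop_Aop hf hc hxc hxc, Aop_Aop hf hc hw' hw', Aop_neg, LinearMap.neg_apply, hf.neg_left, hf.neg_right,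
        LinearMap.id_apply]
      simp only [ins_add_vec, ins_smul_vec, ← neg_one_smul F (Aop hf c x v)]
      match_scalars <;> field_simp <;> ring
    rw [e]
    simp only [LinearMap.smul_apply, LinearMap.sub_apply, LinearMap.add_apply, LinearMap.id_apply]
    show mv s ((-(f x x)⁻¹) • (mv (fac i (eA hf c x)) z + mv (fac i (eA hf c (-x))) z - (2 : F) • z)) =
      (-(f x x)⁻¹) • (mv (fac i (eA hf c x)) (mv s z) + mv (fac i (eA hf c (-x))) (mv s z) - (2 : F) • mv s z)
    rw [mv_smul, mv_sub, mv_add, mv_smul, ← mv_mul, ← mv_mul, hcomm x hxc, hcomm _ hw', mv_mul, mv_mul]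
  set α : (Rest i k → F) →ₗ[F] Rest i k → F := cr i (frow f d) ∘ₗ mvLin s ∘ₗ ins i c with hα
  have hsc : ∀ u, mv s (ins i c u) = ins i c (α u) := fun u => by
    have e1 : ins i c u = op i LinearMap.id (Cop hf c) (ins i d u) := by
      rw [op_ins, Cop_apply, hdc, one_smul, LinearMap.id_apply]
    have e2 : ∀ y, op i LinearMap.id (Cop hf c) y = ins i c (cr i (frow f c) y) := fun y => by
      refine LinearMap.congr_fun (f := op i LinearMap.id (Cop hf c)) (g := (ins i c).comp (cr i (frow f c)))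
        (ext_ins i fun v u => ?_) y
      rw [op_ins, LinearMap.comp_apply, cr_ins' hf, map_smul, Cop_apply, ins_smul_vec, LinearMap.id_apply]
    show _ = ins i c (cr i (frow f d) (mv s (ins i c u)))
    rw [e1, hopc, e2, cr_ins' hf, hcd, one_smul]
  have hinj : Function.Injective α := fun a a' e => ins_injective i hc0 (mv_inj s (by rw [hsc, hsc, e]))
  obtain ⟨b, hb⟩ := exists_gl_of_injective α hinj
  have hb1 : ∀ u, mv s (ins i c u) = ins i c (mv b u) := fun u => by rw [hb, hsc]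
  have hmap : (Ln i c).map (mvLin s) = Ln i c := Submodule.eq_of_le_of_finrank_le (fun z hz => by
    obtain ⟨y, hy, rfl⟩ := mem_map_gl.1 hz
    obtain ⟨u, rfl⟩ := mem_Ln_ins hy
    rw [hb1]; exact ins_mem i c _) (by rw [finrank_map_gl])
  have hmid : ∀ z, f z c = 0 → ∀ u, mv s (ins i z u) - ins i z (mv b u) ∈ Ln i c := by
    intro z hz u
    refine mem_Ln_of_cr hc0 fun φ hφ => ?_
    obtain ⟨w, rfl⟩ := hf.frow_surj (fun _ => rfl) φ
    rw [hf.frow_dot, hf.comm'] at hφ
    have e := congrArg (fun g => mv g (ins i z u)) (hcomm w hφ)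
    simp only [mv_mul] at e
    rw [mv_fac_ins, eA_fix_perp hf h2 hc hφ hz, mv_eA_line hf h2 i hc hφ (C.cr_map (C.iso hs) hmap hz u),
      ins_sub_vec, ins_smul_vec, mv_sub, mv_smul, hb1, sub_right_inj, ← map_smul] at e
    rw [map_sub, cr_ins' hf, ins_injective i hc0 e.symm, sub_self]
  have hbiso : ∀ u v, Bt σ₁ f (mv b u) (mv b v) = Bt σ₁ f u v := fun u v => by
    obtain ⟨m, hm⟩ := mem_Ln_ins (hmid x hxc u)
    obtain ⟨m', hm'⟩ := mem_Ln_ins (hmid x hxc v)
    have e := C.pres (C.iso hs) (ins i x u) (ins i x v)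
    rw [eq_sub_iff_add_eq] at hm hm'
    rw [← hm, ← hm', (Bt_sym hf).add_left, (Bt_sym hf).add_right, (Bt_sym hf).add_right, Bt_ins_ins hf,
      Bt_ins_ins hf, Bt_ins_ins hf, Bt_ins_ins hf, Bt_ins_ins hf, hc, hxc, hf.comm' c x, hxc] at e
    exact mul_left_cancel₀ hx (by linear_combination e)
  -- the middle part
  set N : (Fin k → F) →ₗ[F] (Rest i k → F) →ₗ[F] Rest i k → F :=
    { toFun := fun z => cr i (frow f d) ∘ₗ mvLin s ∘ₗ ins i z ∘ₗ mvLin b⁻¹ - f z d • LinearMap.id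
      map_add' := fun a a' => LinearMap.ext fun u => by
        simp [ins_add_vec, hf.add_left, add_smul, Matrix.mulVec_add]
        abel
      map_smul' := fun r a => LinearMap.ext fun u => by
        simp [ins_smul_vec, hf.smul_left, smul_sub, smul_smul, Matrix.mulVec_smul] } with hN
  have hN' : ∀ z, f z c = 0 → ∀ u, mv s (ins i z (mv b⁻¹ u)) = ins i z u + ins i c (N z u) := by
    intro z hz u
    obtain ⟨m, hm⟩ := mem_Ln_ins (hmid z hz (mv b⁻¹ u))
    rw [mv_mv_inv] at hm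
    have : N z u = m := by
      show cr i (frow f d) (mv s (ins i z (mv b⁻¹ u))) - f z d • u = m
      rw [← cr_ins' hf i d z u, ← map_sub, ← hm, cr_ins' hf, hcd, one_smul]
    rw [this, hm, add_sub_cancel]
  set Sc : Submodule F ((Rest i k → F) →ₗ[F] Rest i k → F) := Submodule.span F {LinearMap.id}
  have key : ∀ (T : GL (Fin k) F) (a : F), fac i T ∈ X → mv T c = a • c → ∀ y, f y c = 0 →
      mv T y = y → a ≠ 1 → N y ∈ Sc := by
    intro T a hT hTc y hy hTy ha
    set τ := fac (J := J) i T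
    have hT' : mv T⁻¹ y = y := by rw [mv_eq_iff, inv_inv, hTy]
    have hTc' : mv T⁻¹ c = a⁻¹ • c := by
      have ha0 : a ≠ 0 := fun e => hc0 (mv_inj T (by rw [hTc, e, zero_smul, mv_zero]))
      rw [mv_eq_iff, inv_inv, mv_smul, hTc, smul_smul, inv_mul_cancel₀ ha0, one_smul]
    have hgp : ∀ z, f z c = 0 → f (mv T⁻¹ z) c = 0 := fun z hz => by
      have hTi := C.pres (C.iso hT)
      have h1 : ∀ u, Bt σ₁ f (ins i (mv T⁻¹ z) u) (ins i c u) = 0 := fun u => by
        rw [← hTi, mv_fac_ins, mv_fac_ins, mv_mv_inv, hTc, ins_smul_vec, (Bt_sym hf).smul_right', Bt_ins_ins hf,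
          hz, zero_mul, mul_zero]
      obtain ⟨u, hu⟩ : ∃ u : Rest i k → F, Bt σ₁ f u u ≠ 0 := by
        exact ⟨pten fun _ => x, by
          rw [Bt_pten hf]; exact Finset.prod_ne_zero_iff.2 fun _ _ => hx⟩
      have := h1 u
      rw [Bt_ins_ins hf] at this
      exact (mul_eq_zero.1 this).resolve_right hu
    have ha0 : a ≠ 0 := fun e => hc0 (mv_inj T (by rw [hTc, e, zero_smul, mv_zero]))
    have hs' : ∀ u, mv (τ * s * τ⁻¹) (ins i c u) = ins i c (mv b u) := fun u => by
      rw [mv_mul, mv_mul, fac_inv, mv_fac_ins, hTc', ins_smul_vec, mv_smul, hb1, ← ins_smul_vec, mv_fac_ins,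
        mv_smul, hTc, smul_smul, inv_mul_cancel₀ ha0, one_smul]
    have hs'z : ∀ z, f z c = 0 → ∀ u, mv (τ * s * τ⁻¹) (ins i z (mv b⁻¹ u)) =
        ins i z u + a • ins i c (N (mv T⁻¹ z) u) := fun z hz u => by
      rw [mv_mul, mv_mul, fac_inv, mv_fac_ins, hN' _ (hgp z hz), mv_add, mv_fac_ins, mv_fac_ins, mv_mv_inv, hTc,
        ins_smul_vec]
    have hh : τ * s * τ⁻¹ * s⁻¹ ∈ X := X.mul_mem (X.mul_mem (X.mul_mem hT hs) (X.inv_mem hT)) (X.inv_mem hs)
    have hsi : ∀ u, mv s⁻¹ (ins i c u) = ins i c (mv b⁻¹ u) := fun u => by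
      rw [mv_eq_iff, inv_inv, hb1, mv_mv_inv]
    have hsz : ∀ z, f z c = 0 → ∀ u, mv (τ * s * τ⁻¹ * s⁻¹) (ins i z u) =
        ins i z u + ins i c (a • N (mv T⁻¹ z) u - N z u) := fun z hz u => by
      have e : mv s⁻¹ (ins i z u) = ins i z (mv b⁻¹ u) - ins i c (mv b⁻¹ (N z u)) := by
        rw [mv_eq_iff, inv_inv, mv_sub, hN' z hz, hb1, mv_mv_inv, add_sub_cancel_right]
      rw [mv_mul, e, mv_sub, hs'z z hz, hs', mv_mv_inv, map_sub, map_smul]
      abel
    obtain ⟨w, hwc, hw⟩ := C.qrad hJ hX i hc0 hc hh (fun u => by rw [mv_mul, hsi, hs', mv_mv_inv])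
      (fun z hz u => by rw [hsz z hz, add_sub_cancel_left]; exact ins_mem i c _)
    refine Submodule.mem_span_singleton.2 ⟨-f y w / (a - 1), ?_⟩
    refine LinearMap.ext fun u => ins_injective i hc0 ?_
    have e := hsz y hy u
    rw [hw, mv_fac_ins, eA_fix_perp hf h2 hc hwc hy, hT', ins_sub_vec, ins_smul_vec, sub_eq_add_neg,
      add_right_inj, map_sub, map_smul] at e
    have ha1 : a - 1 ≠ 0 := sub_ne_zero.2 ha
    refine smul_right_injective _ ha1 ?_
    show (a - 1) • _ = (a - 1) • _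
    rw [LinearMap.smul_apply, LinearMap.id_apply, map_smul, smul_smul, mul_div_cancel₀ _ ha1]
    linear_combination (norm := module) e
  have hall : ∀ z, f z c = 0 → N z ∈ Sc := by
    intro z hz
    have hNc : N c ∈ Sc := by
      have : N c = 0 := LinearMap.ext fun u => by
        show cr i (frow f d) (mv s (ins i c (mv b⁻¹ u))) - f c d • u = 0
        rw [hb1, mv_mv_inv, cr_ins' hf, sub_self]
      rw [this]; exact Sc.zero_mem
    obtain ⟨T, hT, hTc, -, hTw⟩ := C.exists_flip hc hd hcd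
    have hw1 : f (z - f z d • c) c = 0 := by rw [hf.sub_left, hf.smul_left, hz, hc, mul_zero, sub_zero]
    have hw2 : f (z - f z d • c) d = 0 := by rw [hf.sub_left, hf.smul_left, hcd, mul_one, sub_self]
    have h1 := key T (-1) (hT.2 i) (by rw [hTc, neg_one_smul]) _ hw1 (hTw _ hw1 hw2) fun e => h2 (by
      linear_combination -e)
    rw [map_sub, map_smul] at h1
    exact (Sc.sub_mem_iff_left (Sc.smul_mem _ hNc)).1 h1
  set u₁ : Rest i k → F := Pi.single (fun _ => 0) 1 with hu₁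
  set φ : (Fin k → F) →ₗ[F] F :=
    { toFun := fun v => N (v - f v c • d) u₁ (fun _ => 0)
      map_add' := fun a a' => by
        simp only [hf.add_left, add_smul, map_add, map_sub, LinearMap.add_apply, LinearMap.sub_apply,
          Pi.add_apply, Pi.sub_apply]
        ring
      map_smul' := fun r a => by
        simp only [hf.smul_left, mul_smul, map_sub, map_smul, LinearMap.smul_apply, LinearMap.sub_apply,
          Pi.smul_apply, Pi.sub_apply, smul_eq_mul, RingHom.id_apply]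
        ring }
  have hNφ : ∀ v, f v c = 0 → N v = φ v • LinearMap.id := fun v hv => by
    obtain ⟨r, hr⟩ := Submodule.mem_span_singleton.1 (hall v hv)
    have : φ v = r := by
      show N (v - f v c • d) u₁ (fun _ => 0) = r
      rw [hv, zero_smul, sub_zero, ← hr, LinearMap.smul_apply, LinearMap.id_apply, Pi.smul_apply, hu₁,
        Pi.single_eq_same, smul_eq_mul, mul_one]
    rw [this, hr]
  obtain ⟨w₀, hw₀⟩ : ∃ w₀, ∀ v, f v w₀ = φ v := by
    obtain ⟨w₀, hw⟩ := hf.frow_surj (fun _ => rfl) fun a => φ (Pi.single a 1)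
    refine ⟨w₀, fun v => ?_⟩
    rw [← hf.frow_dot, hw, dotProduct]
    conv_rhs => rw [← Finset.univ_sum_single v, map_sum]
    refine Finset.sum_congr rfl fun a _ => ?_
    rw [show (Pi.single a (v a) : Fin k → F) = v a • Pi.single a 1 by
      rw [← Pi.single_smul, smul_eq_mul, mul_one], map_smul, smul_eq_mul, mul_comm]
  refine ⟨b, -w₀, ?_, hbiso, hb1, fun z hz u => ?_⟩
  · rw [hf.neg_left, hf.comm', hw₀]
    show -N (c - f c c • d) u₁ (fun _ => 0) = 0
    rw [hc, zero_smul, sub_zero]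
    show -(cr i (frow f d) (mv s (ins i c (mv b⁻¹ u₁))) - f c d • u₁) (fun _ => 0) = 0
    rw [hb1, mv_mv_inv, cr_ins' hf, sub_self, Pi.zero_apply, neg_zero]
  · have := hN' z hz (mv b u)
    rw [mv_inv_mv, hNφ z hz, LinearMap.smul_apply, LinearMap.id_apply, map_smul] at this
    rw [this, hf.neg_right, hw₀]
    module

end Ctx

end Cfsg.Agent.OrthEvenWreath
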