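/-
Tensor powers of a symmetric form of even dimension: lifts of members of the other slots.
-/
import Cfsg.Agent.Lib.OrthWreathEven.Mid
import Cfsg.Agent.Lib.OrthWreath.Lift

set_option autoImplicit false
set_option linter.unusedSectionVars false

namespace Cfsg.Agent.OrthEvenWreath

open scoped Matrix
open Matrix Cfsg.Agent.Transvec Cfsg.Agent.TensorMax Cfsg.Agent.WreathMax
open Cfsg.Agent.FormWreath hiding up mv_up_ins
open Cfsg.Agent.OrthWreath hiding Sl Ctx Base Ind Inv Gd
open Cfsg.Agent.UWreath (top top_ten Loc loc_pten loc_comp loc_id pull Has Additive loc_congr loc_conj_fac loc_conj_pm)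

variable {F : Type*} [Field F] {k : ℕ} {J : Type} [Fintype J] [DecidableEq J]

local notation "σ₁" => RingEquiv.refl F

variable {f : (Fin k → F) → (Fin k → F) → F}

variable [Finite F] {κ : F} {Q : ((J → Fin k) → F) → F} {X : Subgroup (GL (J → Fin k) F)}

namespace Base

variable (B : Base f Q κ)
include B

theorem rest (i : J) (h : 2 ≤ Fintype.card {j // j ≠ i}) :
    Base (J := {j // j ≠ i}) f (qf (Bt σ₁ f)) κ where
  toSl := B.toSl
  hQ := qf_nondeg (Bt_sym B.hf) B.two
  hpol := fun x y => pol_qf (Bt_sym B.hf) B.two x y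
  hJ := h

theorem pres {g : GL (J → Fin k) F} (hg : g ∈ isometryGroup F Q) (x y : (J → Fin k) → F) :
    Bt σ₁ f (mv g x) (mv g y) = Bt σ₁ f x y := by
  rw [← B.hpol, ← B.hpol, Transvec.Orth.pol_mv B.hQ hg]

theorem rest_iso {i : J} {b : GL (Rest i k) F} :
    b ∈ isometryGroup F (qf (Bt (J := {j // j ≠ i}) σ₁ f)) ↔
      ∀ x y, Bt σ₁ f (mv b x) (mv b y) = Bt σ₁ f x y := by
  constructor
  · intro hb x y
    rw [← pol_qf (Bt_sym B.hf) B.two, ← pol_qf (Bt_sym B.hf) B.two,
      Transvec.Orth.pol_mv (qf_nondeg (Bt_sym B.hf) B.two) hb]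
  · intro h
    exact Transvec.Orth.mem_isometry.2 fun z => by rw [qf, qf, h]

theorem up_omega (i : J) {b : GL (Rest i k) F} (hb : b ∈ Geo.omegaGL (qf (Bt (J := {j // j ≠ i}) σ₁ f))) :
    up i b ∈ Geo.omegaGL Q :=
  omega_map (up i) (fun _ hg => B.mem_iso (up_pres B.hf i (B.rest_iso.1 hg))) hb

end Base

/-- Proper groups over the monomial part are monomial for all smaller index types. -/
def Ind (f : (Fin k → F) → (Fin k → F) → F) (κ : F) (J : Type) [Fintype J] : Prop :=
  ∀ (J' : Type) [Fintype J'] [DecidableEq J'], Fintype.card J' < Fintype.card J →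
    ∀ (Q' : ((J' → Fin k) → F) → F) (X' : Subgroup (GL (J' → Fin k) F)),
      Base f Q' κ → Ctx f Q' κ X' → ¬ Geo.omegaGL Q' ≤ X' → ∀ g ∈ X', Mono g

theorem Base.rest_mono (B : Base f Q κ) (IH : Ind f κ J) (i : J) {X' : Subgroup (GL (Rest i k) F)}
    (le : X' ≤ Geo.omegaGL (qf (Bt (J := {j // j ≠ i}) σ₁ f)))
    (hmono : ∀ g ∈ Geo.omegaGL (qf (Bt (J := {j // j ≠ i}) σ₁ f)), Mono g → g ∈ X')
    (hne : 2 ≤ Fintype.card {j // j ≠ i} → ¬ Geo.omegaGL (qf (Bt (J := {j // j ≠ i}) σ₁ f)) ≤ X')
    {g : GL (Rest i k) F} (hg : g ∈ X') : Mono g := by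
  have hcard : Fintype.card {j // j ≠ i} + 1 = Fintype.card J := by
    rw [Fintype.card_subtype_compl, Fintype.card_subtype_eq]
    have := Fintype.card_pos_iff.2 ⟨i⟩
    omega
  by_cases h2 : 2 ≤ Fintype.card {j // j ≠ i}
  · exact IH _ (by omega) _ X' (B.rest i h2) ((B.rest i h2).ctx le hmono) (hne h2) g hg
  · have := B.hJ
    exact mono_of_card_one (by omega) g

theorem rho_omega (B : Base f Q κ) {j m : J} (hjm : j ≠ m) {c : Fin k → F} (hc : f c c = 0) (x : Fin k → F) :
    rho B.hf hjm hc x ∈ Geo.omegaGL Q := by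
  haveI : Fintype F := Fintype.ofFinite F
  obtain ⟨p, hp⟩ := CharP.exists F
  haveI := hp
  have hpp : p.Prime := CharP.char_is_prime F p
  exact OrthTensor.omega_of_odd B.hQ B.two (by have := B.card_ge; omega) (B.mem_iso (rho_pres B.hf hjm hc x))
    ((hpp.odd_of_ne_two fun e => B.two (by subst e; exact CharP.cast_eq_zero F 2)).of_dvd_nat
      (orderOf_dvd_of_pow_eq_one (rho_pow B.hf hjm hc x p)))

/-- A member acting as b on the line and its orthogonal. -/
theorem exists_lift {X : Subgroup (GL (J → Fin k) F)} (C : Ctx f Q κ X) {i : J} {c : Fin k → F} (hc0 : c ≠ 0)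
    (hc : f c c = 0) {s : GL (J → Fin k) F} (hs : s ∈ X) {b : GL (Rest i k) F} {w : Fin k → F}
    (hb : ∀ x y, Bt σ₁ f (mv b x) (mv b y) = Bt σ₁ f x y) (h : P1 f i c s b w)
    (hw : ∀ z, f z c = 0 → f z w = 0) : ∃ K, Lift C.hf i c s b K := by
  have hf := C.hf
  obtain ⟨d, hd, hcd⟩ := C.toSl.exists_pair hc0 hc
  have hdc : f d c = 1 := by rw [hf.comm', hcd]
  have hz : ∀ z, f z c = 0 → ∀ u, mv s (ins i z u) = ins i z (mv b u) := fun z hz u => by
    rw [h.2 z hz, hw z hz, zero_smul, sub_zero]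
  set M := cr i (frow f d) ∘ₗ mvLin s ∘ₗ ins i d
  have hdd : ∀ u, mv s (ins i d u) = ins i d (mv b u) + ins i c (M u) := by
    intro u
    have hD : mv s (ins i d u) - ins i d (mv b u) ∈ Ln i c := mem_Ln_of_cr hc0 fun φ hφ => by
      obtain ⟨z, rfl⟩ := hf.frow_surj (fun _ => rfl) φ
      rw [hf.frow_dot, hf.comm'] at hφ
      refine (Bt_sym hf).nondeg _ fun v => ?_
      have e := C.pres (C.iso hs) (ins i d u) (ins i z (mv b⁻¹ v))
      rw [hz z hφ, mv_mv_inv, Bt_ins_ins hf, ← hb u, mv_mv_inv] at e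
      rw [← Bt_ins hf, (Bt_sym hf).sub_left, e, Bt_ins_ins hf, sub_self]
    obtain ⟨m, hm⟩ := mem_Ln_ins hD
    have : M u = m := by
      show cr i (frow f d) (mv s (ins i d u)) = m
      rw [← sub_add_cancel (mv s (ins i d u)) (ins i d (mv b u)), ← hm, map_add, cr_ins' hf, cr_ins' hf, hcd, hd,
        one_smul, zero_smul, add_zero]
    rw [this, hm, add_sub_cancel]
  refine ⟨M ∘ₗ mvLin b⁻¹, lift_of_ins fun v u => ?_⟩
  obtain ⟨v', r, hv', rfl⟩ : ∃ v' r, f v' c = 0 ∧ v = v' + r • d :=
    ⟨v - f v c • d, f v c, by simp [hf.sub_left, hf.smul_left, hdc], by abel⟩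
  rw [LinearMap.comp_apply, Cop_apply, hf.add_left,
    hf.smul_left, hv', hdc, zero_add, mul_one, show mvLin b⁻¹ (mv b u) = u from mv_inv_mv b u]
  simp only [ins_add_vec, ins_smul_vec, mv_add, mv_smul, hz v' hv', hdd]
  module

namespace Ctx

variable (C : Ctx f Q κ X) (hJ : 2 ≤ Fintype.card J) (hX : ¬ Geo.omegaGL Q ≤ X)
include C hJ hX

theorem up_rho_not_mem (i : J) {j m : {l // l ≠ i}} (hjm : j ≠ m) {c x : Fin k → F} (hc0 : c ≠ 0) (hc : f c c = 0)
    (hxc : f x c = 0) (hx : f x x ≠ 0) : up i (rho C.hf hjm hc x) ∉ X := by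
  classical
  intro h
  have hf := C.hf
  haveI : NeZero k := ⟨by have := C.hk; omega⟩
  obtain ⟨d, hd, hcd⟩ := C.toSl.exists_pair hc0 hc
  have hjm' : (j : J) ≠ m := fun e => hjm (Subtype.ext e)
  set R : (Rest (j : J) k → F) →ₗ[F] Rest (j : J) k → F :=
    op (⟨(m : J), Ne.symm hjm'⟩ : {l // l ≠ (j : J)}) LinearMap.id (Aop hf c x)
  have e : op (j : J) R (Cop hf c) = op i (rhoLin hf j m c x) LinearMap.id := eq_of_pten fun y => by
    have h1 : op i (rhoLin hf j m c x) LinearMap.id = op (j : J) LinearMap.id (Cop hf c) ∘ₗ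
        op (m : J) LinearMap.id (Aop hf c x) := by
      rw [op_slot j, op_slot m, op_comp, LinearMap.id_comp]
      rfl
    have h2 : op (j : J) R (Cop hf c) = op (j : J) LinearMap.id (Cop hf c) ∘ₗ
        op (m : J) LinearMap.id (Aop hf c x) := by
      rw [op_slot (i := (j : J)) ⟨(m : J), Ne.symm hjm'⟩, op_comp, LinearMap.id_comp, LinearMap.comp_id]
    rw [h1, h2]
  have hH : Has X (op (j : J) R (Cop hf c)) := ⟨_, h, fun y => by
    rw [e]
    refine LinearMap.congr_fun (f := mvLin (up i (rho hf hjm hc x))) (g := LinearMap.id + _) (ext_ins i fun v u => ?_) y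
    show mv _ (ins i v u) = _
    rw [mv_up_ins, mv_rho, map_add, LinearMap.add_apply, LinearMap.id_apply, op_ins, LinearMap.id_apply]⟩
  have h0 := C.nr0 hJ hX (j : J) hc0 hc hH
  have := congrArg (fun R => R (pten fun _ : {l // l ≠ (j : J)} => d)) h0
  simp only [R, op_pten, LinearMap.zero_apply] at this
  refine pten_ne_zero (fun l => ?_) this
  by_cases hl : l = (⟨(m : J), Ne.symm hjm'⟩ : {l // l ≠ (j : J)})
  · subst hl
    rw [Function.update_self, Aop_apply, hf.comm' d c, hcd]
    intro e0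
    have := congrArg (fun v => f v x) e0
    simp only [hf.sub_left, hf.smul_left, hf.comm' c x, hxc, hf.zero_left, mul_zero, sub_zero, one_mul] at this
    exact hx this
  · rw [Function.update_of_ne hl]
    intro e0
    rw [e0, hf.zero_right] at hcd
    exact zero_ne_one hcd

/-- Lifts over the same member coincide. -/
theorem lift_uniq {i : J} {c : Fin k → F} (hc0 : c ≠ 0) (hc : f c c = 0) {Z Z' : GL (J → Fin k) F}
    (hZ : Z ∈ X) (hZ' : Z' ∈ X) {b : GL (Rest i k) F} {K K'} (h : Lift C.hf i c Z b K)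
    (h' : Lift C.hf i c Z' b K') : K = K' := by
  have hl := h.mul hc (h'.inv hc)
  rw [mul_inv_cancel] at hl
  have hH : Has X (op i (K - K') (Cop C.hf c)) := ⟨_, X.mul_mem hZ (X.inv_mem hZ'), fun y => by
    have := LinearMap.congr_fun hl y
    rw [map_one, LinearMap.comp_apply, show mvLin (1 : GL (J → Fin k) F) y = y from mv_one y] at this
    have e : K + cj b (-cj b⁻¹ K') = K - K' := LinearMap.ext fun u => by
      simp only [LinearMap.add_apply, LinearMap.sub_apply, cj_apply, LinearMap.neg_apply, inv_inv]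
      rw [mv_neg, mv_mv_inv, mv_mv_inv, sub_eq_add_neg]
    rw [e] at this
    exact this⟩
  exact sub_eq_zero.1 (C.nr0 hJ hX i hc0 hc hH)

set_option maxHeartbeats 1000000 in
/-- Lifts are pure. -/
theorem lift_K (B : Base f Q κ) (IH : Ind f κ J) (i : J) {c : Fin k → F} (hc0 : c ≠ 0) (hc : f c c = 0)
    {Z : GL (J → Fin k) F} (hZ : Z ∈ X) {b : GL (Rest i k) F}
    (hb : b ∈ Geo.omegaGL (qf (Bt (J := {j // j ≠ i}) σ₁ f))) {K} (h : Lift C.hf i c Z b K) : K = 0 := by
  classical
  have hf := C.hf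
  have h2 := C.two
  obtain ⟨d, hd, hcd⟩ := C.toSl.exists_pair hc0 hc
  have hdc : f d c = 1 := by rw [hf.comm', hcd]
  obtain ⟨x, hxc, hxd, hx⟩ := C.toSl.exists_W_aniso hc hd hcd
  let X2 : Subgroup (GL (Rest i k) F) :=
    { carrier := {b | b ∈ Geo.omegaGL (qf (Bt (J := {j // j ≠ i}) σ₁ f)) ∧ ∃ Z ∈ X, ∃ K, Lift hf i c Z b K}
      one_mem' := ⟨Subgroup.one_mem _, 1, X.one_mem, 0, lift_one hf i c⟩
      mul_mem' := fun {a b} ⟨ha, Z, hZ, K, h⟩ ⟨hb, Z', hZ', K', h'⟩ =>
        ⟨Subgroup.mul_mem _ ha hb, _, X.mul_mem hZ hZ', _, h.mul hc h'⟩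
      inv_mem' := fun {a} ⟨ha, Z, hZ, K, h⟩ => ⟨Subgroup.inv_mem _ ha, _, X.inv_mem hZ, _, h.inv hc⟩ }
  have hbm : Mono b := by
    refine B.rest_mono IH i (X' := X2) (fun g hg => hg.1) (fun g hg hm => ⟨hg, _, C.mono _ (B.up_omega i hg)
      (up_mono i hm), 0, lift_up hf i c g⟩) (fun hrest hle => ?_) ⟨hb, Z, hZ, K, h⟩
    obtain ⟨j, m, hjm⟩ := Fintype.exists_pair_of_one_lt_card (α := {j // j ≠ i}) (by omega)
    obtain ⟨-, Z₀, hZ₀, K₀, h₀⟩ := hle (rho_omega (B.rest i hrest) hjm hc x)
    set ρ := rho hf hjm hc x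
    suffices hK₀ : K₀ = 0 by
      subst hK₀
      exact C.up_rho_not_mem hJ hX i hjm hc0 hc hxc hx (h₀.eq_up ▸ hZ₀)
    -- the lift commutes with the roots of the two slots
    have hcomm : ∀ (l : {j // j ≠ i}) (T : GL (Fin k) F), fac (l : J) T ∈ X → fac l T * ρ = ρ * fac l T →
        K₀ ∘ₗ op l LinearMap.id (mvLin T) = op l LinearMap.id (mvLin T) ∘ₗ K₀ := by
      intro l T hT hlT
      have hup : up i (fac l T) ∈ X := by rw [up_fac]; exact hT
      have h' := h₀.conj_other (fac l T)
      rw [hlT, mul_inv_cancel_right] at h'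
      have e := C.lift_uniq hJ hX hc0 hc (X.mul_mem (X.mul_mem hup hZ₀) (X.inv_mem hup)) hZ₀ h' h₀
      rw [← mvLin_fac]
      refine LinearMap.ext fun y => ?_
      have := LinearMap.congr_fun e (mv (fac l T) y)
      rw [cj_apply, mv_inv_mv] at this
      exact this.symm
    have hAcomm : ∀ w, f w c = 0 → mvLin (eA hf c w) ∘ₗ Aop hf c x = Aop hf c x ∘ₗ mvLin (eA hf c w) :=
      fun w hwc => LinearMap.ext fun v => by
        show mv (eA hf c w) (Aop hf c x v) = Aop hf c x (mv (eA hf c w) v)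
        rw [mv_eA hf h2 hc hwc, mv_eA hf h2 hc hwc, Elin_apply, Elin_apply, map_add, map_add, map_smul,
          Aop_Aop hf hc hwc hxc, Aop_Aop hf hc hxc hwc, hf.comm' w x, map_smul, Aop_Aop hf hc hwc hwc,
          Aop_Cop hf hc hwc, map_smul, Aop_Cop hf hc hxc]
        simp only [smul_zero]
    have hmem : ∀ (l : {j // j ≠ i}) (w : Fin k → F), f w c = 0 →
        K₀ ∘ₗ op l LinearMap.id (mvLin (eA hf c w)) = op l LinearMap.id (mvLin (eA hf c w)) ∘ₗ K₀ :=
      fun l w hwc => hcomm l _ (C.root _ c w hc hwc)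
        (rho_fac_comm hf hjm hc x (fun _ => eA_Cop hf h2 hc hwc) fun _ => hAcomm w hwc)
    have hidA : ∀ l : {j // j ≠ i}, (LinearMap.id : (Fin k → F) →ₗ[F] _) ∈ OrthWreath.Sl.commA K₀ l := fun l => by
      show K₀ ∘ₗ _ = _
      rw [op_one, LinearMap.comp_id, LinearMap.id_comp]
    have hA : ∀ w, f w c = 0 → Aop hf c w = (2⁻¹ : F) • (mvLin (eA hf c w) - mvLin (eA hf c (-w))) := fun w hwc =>
      LinearMap.ext fun v => by
        have hw' : f (-w) c = 0 := by rw [hf.neg_left, hwc, neg_zero]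
        show _ = (2⁻¹ : F) • (mv (eA hf c w) v - mv (eA hf c (-w)) v)
        rw [mv_eA hf h2 hc hwc, mv_eA hf h2 hc hw', Elin_apply, Elin_apply, Aop_neg, LinearMap.neg_apply,
          LinearMap.neg_apply, map_neg, neg_neg]
        match_scalars <;> field_simp <;> ring
    have hxc' : f (-x) c = 0 := by rw [hf.neg_left, hxc, neg_zero]
    have hC' : Cop hf c = (-(f x x)⁻¹) • (mvLin (eA hf c x) + mvLin (eA hf c (-x)) - (2 : F) • LinearMap.id) :=
      LinearMap.ext fun v => by
        show _ = (-(f x x)⁻¹) • (mv (eA hf c x) v + mv (eA hf c (-x)) v - (2 : F) • v)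
        rw [mv_eA hf h2 hc hxc, mv_eA hf h2 hc hxc', Elin_apply, Elin_apply, Aop_Aop hf hc hxc hxc,
          Aop_Aop hf hc hxc' hxc', Aop_neg, LinearMap.neg_apply, hf.neg_left, hf.neg_right]
        match_scalars <;> field_simp <;> ring
    have hCl : ∀ l : {j // j ≠ i}, Cop hf c ∈ OrthWreath.Sl.commA K₀ l := fun l => by
      rw [hC']
      exact Submodule.smul_mem _ _ (Submodule.sub_mem _ (Submodule.add_mem _ (hmem l x hxc)
        (hmem l _ hxc')) (Submodule.smul_mem _ _ (hidA l)))
    have hAl : ∀ (l : {j // j ≠ i}) (w : Fin k → F), f w c = 0 → Aop hf c w ∈ OrthWreath.Sl.commA K₀ l :=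
      fun l w hwc => by
        rw [hA w hwc]
        exact Submodule.smul_mem _ _ (Submodule.sub_mem _ (hmem l w hwc)
          (hmem l _ (by rw [hf.neg_left, hwc, neg_zero])))
    have hρK : ∀ y, mv ρ (K₀ y) = K₀ (mv ρ y) := fun y => by
      have hKC : K₀ ∘ₗ op j LinearMap.id (Cop hf c) = op j LinearMap.id (Cop hf c) ∘ₗ K₀ := hCl j
      have hKA : K₀ ∘ₗ op m LinearMap.id (Aop hf c x) = op m LinearMap.id (Aop hf c x) ∘ₗ K₀ := hAl m x hxc
      have e : rhoLin hf j m c x ∘ₗ K₀ = K₀ ∘ₗ rhoLin hf j m c x := by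
        rw [rhoLin, LinearMap.comp_assoc, ← hKA, ← LinearMap.comp_assoc, ← hKC, LinearMap.comp_assoc]
      rw [mv_rho, mv_rho, map_add]
      exact congrArg _ (LinearMap.congr_fun e y)
    have hρK' : cj ρ⁻¹ K₀ = K₀ := LinearMap.ext fun y => by rw [cj_apply, inv_inv, ← hρK, mv_inv_mv]
    have hinvK : -cj ρ⁻¹ K₀ = -K₀ := by rw [hρK']
    -- the sign change on a hyperbolic plane at the slot m
    obtain ⟨T, hT, hTc, hTd, hTw⟩ := C.exists_flip hc hd hcd
    have hTA : ∀ u, mv T (Aop hf c x u) = -Aop hf c x (mv T u) := fun u => by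
      rw [← mv_inv_mv T u, Aop_conj hf hT.1, hTc, hTw x hxc hxd, Aop_neg_left, LinearMap.neg_apply, mv_inv_mv]
    have hanti : ∀ y, mv (fac m T) (rhoLin hf j m c x y) = -rhoLin hf j m c x (mv (fac m T) y) := by
      have e : mvLin (fac m T) ∘ₗ rhoLin hf j m c x = -(rhoLin hf j m c x ∘ₗ mvLin (fac m T)) :=
        eq_of_pten fun y => by
          show mv (fac m T) (rhoLin hf j m c x (pten y)) = -rhoLin hf j m c x (mv (fac m T) (pten y))
          rw [rhoLin_pten hf hjm, mv_fac, mv_fac, rhoLin_pten hf hjm]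
          simp only [Function.update_self, Function.update_of_ne hjm, Function.update_of_ne hjm.symm, hTA,
            Function.update_idem]
          rw [Function.update_comm hjm, Function.update_idem, Function.update_comm hjm.symm, ← updL_apply,
            ← updL_apply, map_neg]
          simp only [updL_apply, Function.update_comm hjm]
      exact fun y => LinearMap.congr_fun e y
    have hρT : fac m T * ρ * (fac m T)⁻¹ = ρ⁻¹ := by
      rw [mul_inv_eq_iff_eq_mul, eq_inv_mul_iff_mul_eq]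
      refine ext_mv fun y => ?_
      rw [mv_mul, mv_mul, mv_rho, mv_rho, mv_add, hanti, map_add, map_neg,
        show rhoLin hf j m c x (rhoLin hf j m c x (mv (fac m T) y)) = 0 from
          LinearMap.congr_fun (rhoLin_sq hf hjm hc x) _]
      abel
    have hupT : up i (fac m T) ∈ X := by rw [up_fac]; exact hT.2 _
    have hKT : cj (fac m T) K₀ = -K₀ := by
      have h1 := h₀.conj_other (fac m T)
      rw [hρT] at h1
      have h3 := h₀.inv hc
      rw [hinvK] at h3
      exact C.lift_uniq hJ hX hc0 hc (X.mul_mem (X.mul_mem hupT hZ₀) (X.inv_mem hupT)) (X.inv_mem hZ₀) h1 h3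
    -- seen on all the slots
    set M : J := (m : J) with hM
    set KK := op i K₀ (LinearMap.id : (Fin k → F) →ₗ[F] Fin k → F) with hKK
    have him : i ≠ M := Ne.symm m.2
    have hops : ∀ T' : (Fin k → F) →ₗ[F] Fin k → F, T' ∈ OrthWreath.Sl.commA K₀ m → ∀ y,
        KK (op M LinearMap.id T' y) = op M LinearMap.id T' (KK y) := fun T' hT' y => by
      have e1 : KK ∘ₗ op M LinearMap.id T' = op M LinearMap.id T' ∘ₗ KK := by
        rw [hKK, hM, op_slot, op_comp, op_comp, LinearMap.id_comp,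
          show K₀ ∘ₗ op m LinearMap.id T' = op m LinearMap.id T' ∘ₗ K₀ from hT']
      exact LinearMap.congr_fun e1 y
    have hKg : ∀ y, mv (fac M T) (KK y) = -KK (mv (fac M T) y) := fun y => by
      have e1 : op M LinearMap.id (mvLin T) ∘ₗ KK = -(KK ∘ₗ op M LinearMap.id (mvLin T)) := by
        rw [hKK, hM, op_slot, op_comp, op_comp, LinearMap.id_comp, ← op_neg_left]
        congr 1
        rw [← mvLin_fac]
        refine LinearMap.ext fun u => ?_
        have := LinearMap.congr_fun hKT (mv (fac m T) u)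
        rw [cj_apply, mv_inv_mv] at this
        exact this
      rw [← mvLin_fac] at e1
      exact LinearMap.congr_fun e1 y
    have hT1 : ∀ v, f v c = 0 → f v d = 0 → mv T v = v := hTw
    set zd : (Rest M k → F) → ((J → Fin k) → F) := fun u => KK (ins M d u) with hzd
    have hzc : ∀ u, cr M (frow f c) (zd u) = 0 ∧ cr M (frow f d) (zd u) = 0 := by
      intro u
      have e : mv (fac M T) (zd u) = zd u := by
        rw [hzd, hKg, mv_fac_ins, hTd, ← neg_one_smul F d, ins_smul_vec, map_smul, neg_one_smul, neg_neg]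
      have hcr : ∀ v, mv T v = -v → cr M (frow f v) (zd u) = 0 := fun v hv => by
        have h1 := congrArg (cr M (frow f v)) e
        rw [cr_fac M T (φ := frow f v) (φ' := -frow f v) (fun z => by
          rw [neg_dotProduct, hf.frow_dot, hf.frow_dot, ← hT.1 z v, hv, hf.neg_right, neg_neg]),
          show cr M (-frow f v) (zd u) = -cr M (frow f v) (zd u) by
            simp only [cr, LinearMap.comp_apply, LinearEquiv.coe_coe]
            rw [← neg_one_smul F (frow f v), ctr_smul_vec, LinearMap.smul_apply, neg_one_smul]] at h1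
        refine (smul_eq_zero.1 (?_ : (2 : F) • cr M (frow f v) (zd u) = 0)).resolve_left h2
        linear_combination (norm := module) -h1
      exact ⟨hcr c hTc, hcr d hTd⟩
    have hopA : ∀ (w : Fin k → F) (y : (J → Fin k) → F),
        op M LinearMap.id (Aop hf c w) y = ins M w (cr M (frow f c) y) - ins M c (cr M (frow f w) y) := fun w y =>
      LinearMap.congr_fun (f := op M LinearMap.id (Aop hf c w))
        (g := (ins M w).comp (cr M (frow f c)) - (ins M c).comp (cr M (frow f w))) (ext_ins M fun v u => by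
          show op M LinearMap.id (Aop hf c w) (ins M v u) =
            ins M w (cr M (frow f c) (ins M v u)) - ins M c (cr M (frow f w) (ins M v u))
          rw [op_ins, cr_ins' hf, cr_ins' hf,
            map_smul, map_smul, Aop_apply, ins_sub_vec, ins_smul_vec, ins_smul_vec, LinearMap.id_apply]) y
    have hopC : ∀ y : (J → Fin k) → F,
        op M LinearMap.id (Cop hf c) y = ins M c (cr M (frow f c) y) := fun y =>
      LinearMap.congr_fun (f := op M LinearMap.id (Cop hf c)) (g := (ins M c).comp (cr M (frow f c)))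
        (ext_ins M fun v u => by
          rw [op_ins, LinearMap.comp_apply, cr_ins' hf, map_smul, Cop_apply, ins_smul_vec, LinearMap.id_apply]) y
    have hlow : ∀ y, cr M (frow f c) y = 0 → KK y ∈ Ln M c := by
      intro y hy
      have e0 : cr M (frow f c) (KK y) = 0 := ins_injective M hc0 (by
        rw [← hopC, ← hops _ (hCl m), hopC, hy, map_zero, map_zero])
      refine mem_Ln_of_cr hc0 fun φ hφ => ?_
      obtain ⟨v, rfl⟩ := hf.frow_surj (fun _ => rfl) φ
      rw [hf.frow_dot, hf.comm'] at hφ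
      have e1 := hops _ (hAl m v hφ) y
      rw [hopA, hopA, hy, e0, map_zero, zero_sub, zero_sub, map_neg, neg_inj] at e1
      have e2 : KK (ins M c (cr M (frow f v) y)) = 0 := by
        have := hopC (ins M d (cr M (frow f v) y))
        rw [cr_ins' hf, hdc, one_smul] at this
        rw [← this, hops _ (hCl m), hopC, (hzc _).1, map_zero]
      rw [e2] at e1
      exact ins_injective M hc0 (e1.symm.trans (map_zero _).symm)
    have hKc : ∀ u, KK (ins M c u) = 0 := fun u => by
      have := hopC (ins M d u)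
      rw [cr_ins' hf, hdc, one_smul] at this
      rw [← this, hops _ (hCl m), hopC, (hzc u).1, map_zero]
    have hLc : ∀ y ∈ Ln M c, KK y = 0 := fun y hy => by
      obtain ⟨u, rfl⟩ := mem_Ln_ins hy
      exact hKc u
    set iM : {j // j ≠ M} := ⟨i, him⟩
    have hopi : ∀ T' : (Fin k → F) →ₗ[F] Fin k → F, ∀ v u,
        op i K₀ T' (ins M v u) = KK (ins M v (op iM LinearMap.id T' u)) := fun T' v u => by
      have e1 : op i K₀ T' = KK ∘ₗ op i LinearMap.id T' := by
        rw [hKK, op_comp, LinearMap.comp_id, LinearMap.id_comp]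
      rw [e1, LinearMap.comp_apply, show op i LinearMap.id T' = op M (op iM LinearMap.id T') LinearMap.id from
        op_slot (i := M) iM T', op_ins, LinearMap.id_apply]
    -- two lifts along different lines
    have key : ∀ e, e ≠ 0 → f e e = 0 → ∃ (r : F) (w₀ : Fin k → F), r ≠ 0 ∧ ∀ w, f w c = 0 → f w d = 0 → ∀ u,
        r • cr M (frow f w) (zd (op iM LinearMap.id (Cop hf e) u)) -
          cr M (frow f w) (zd (op iM LinearMap.id (Cop hf c) u)) = f w₀ w • u := by
      intro e he0 he
      obtain ⟨S', a, hS', ha, hSc⟩ := C.exists_move hc0 hc he0 he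
      have h' := h₀.conj_self (T := S') hS'.1 hSc
      have hZ' : fac i S' * Z₀ * (fac i S')⁻¹ ∈ X :=
        X.mul_mem (X.mul_mem (hS'.2 i) hZ₀) (X.inv_mem (hS'.2 i))
      set Z' := fac i S' * Z₀ * (fac i S')⁻¹
      have hi := h₀.inv hc
      rw [hinvK] at hi
      have hform : ∀ y, mv (Z' * Z₀⁻¹) y = (y - op i K₀ (Cop hf c) y) +
          (a * a) • op i K₀ (Cop hf e) (y - op i K₀ (Cop hf c) y) := by
        intro y
        have e1 : mvLin (up i ρ) ∘ₗ (LinearMap.id + op i (-K₀) (Cop hf c)) ∘ₗ mvLin (up i ρ⁻¹) =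
            LinearMap.id + op i (-K₀) (Cop hf c) := by
          rw [mvLin_up, mvLin_up, LinearMap.add_comp, LinearMap.id_comp, LinearMap.comp_add, op_comp, op_comp,
            op_comp, LinearMap.id_comp, LinearMap.comp_id, LinearMap.id_comp,
            show mvLin ρ ∘ₗ mvLin ρ⁻¹ = LinearMap.id from LinearMap.ext fun z => mv_mv_inv ρ z, op_one]
          congr 2
          refine LinearMap.ext fun z => ?_
          show mv ρ ((-K₀) (mv ρ⁻¹ z)) = _
          rw [LinearMap.neg_apply, mv_neg, hρK, mv_mv_inv, LinearMap.neg_apply]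
        have e2 : mvLin (Z' * Z₀⁻¹) =
            (LinearMap.id + op i ((a * a) • K₀) (Cop hf e)) ∘ₗ (LinearMap.id + op i (-K₀) (Cop hf c)) := by
          rw [← e1, ← LinearMap.comp_assoc, ← h', ← hi]
          exact LinearMap.ext fun z => mv_mul _ _ z
        have := LinearMap.congr_fun e2 y
        simp only [LinearMap.comp_apply, LinearMap.add_apply, LinearMap.id_apply, op_neg_left, op_smul_left,
          LinearMap.neg_apply, LinearMap.smul_apply, ← sub_eq_add_neg] at this
        exact this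
      have hfix : ∀ u, mv (Z' * Z₀⁻¹) (ins M c u) = ins M c u := fun u => by
        rw [hform, hopi, hKc, sub_zero, hopi, hKc, smul_zero, add_zero]
      obtain ⟨w₀, hw₀, hq⟩ := C.qrad hJ hX M hc0 hc (X.mul_mem hZ' (X.inv_mem hZ₀)) hfix fun v hv u => by
        have hLn : ∀ u', KK (ins M v u') ∈ Ln M c := fun u' => hlow _ (by rw [cr_ins' hf, hv, zero_smul])
        rw [hform]
        have h1 : ∀ T' : (Fin k → F) →ₗ[F] Fin k → F, ∀ y ∈ Ln M c, op i K₀ T' y = 0 := fun T' y hy => by
          obtain ⟨u', rfl⟩ := mem_Ln_ins hy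
          rw [hopi, hKc]
        have h3 := hLn (op iM LinearMap.id (Cop hf c) u)
        rw [← hopi] at h3
        rw [map_sub (op i K₀ (Cop hf e)), h1 _ _ h3, sub_zero]
        have h4 := hLn (op iM LinearMap.id (Cop hf e) u)
        rw [← hopi] at h4
        convert (Ln M c).add_mem ((Ln M c).neg_mem h3) ((Ln M c).smul_mem (a * a) h4) using 1
        abel
      refine ⟨a * a, w₀, mul_ne_zero ha ha, fun w hwc hwd u => ?_⟩
      have eq₀ := congrArg (fun g => cr M (frow f w) (mv g (ins M d u))) hq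
      rw [hform, mv_fac_ins, mv_eA hf h2 hc hw₀, Elin_apply, Aop_Aop hf hc hw₀ hw₀, hopi (Cop hf c) d] at eq₀
      have hlast : cr M (frow f w) (op i K₀ (Cop hf e) (zd (op iM LinearMap.id (Cop hf c) u))) = 0 := by
        have e1 : op i K₀ (Cop hf e) (zd (op iM LinearMap.id (Cop hf c) u)) =
            KK (op i LinearMap.id (Cop hf e) (zd (op iM LinearMap.id (Cop hf c) u))) := by
          show _ = (op i K₀ (LinearMap.id : (Fin k → F) →ₗ[F] _) ∘ₗ op i LinearMap.id (Cop hf e))
            (zd (op iM LinearMap.id (Cop hf c) u))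
          rw [op_comp, LinearMap.comp_id, LinearMap.id_comp]
        have e2 : cr M (frow f c) (op i LinearMap.id (Cop hf e) (zd (op iM LinearMap.id (Cop hf c) u))) = 0 := by
          refine ins_injective M hc0 ?_
          rw [map_zero, ← hopC, ← LinearMap.comp_apply, op_comm (Ne.symm him) (Cop hf c) (Cop hf e),
            LinearMap.comp_apply, hopC, (hzc _).1, map_zero, map_zero]
        obtain ⟨u', hu'⟩ := mem_Ln_ins (hlow _ e2)
        rw [e1, ← hu', cr_ins' hf, show f c w = 0 by rw [hf.comm', hwc], zero_smul]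
      simp only [hzd] at hlast
      rw [map_sub (op i K₀ (Cop hf e)), hopi (Cop hf e) d] at eq₀
      simp only [map_add, map_sub, map_smul, hlast, sub_zero, cr_ins' hf, Aop_apply, Cop_apply, hf.add_left,
        hf.sub_left, hf.smul_left, hdc, show f d w = 0 by rw [hf.comm', hwd], show f c w = 0 by rw [hf.comm', hwc],
        hzd] at eq₀ ⊢
      convert eq₀ using 1
      · module
      · congr 1; ring
    have hM0 : Nonempty (Rest M k) := ⟨fun _ => ⟨0, by have := C.hk; omega⟩⟩
    obtain ⟨p⟩ := hM0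
    have hins : ∀ v : Fin k → F, v ≠ 0 → ∃ r : Rest iM k → F, ins iM v r ≠ 0 := fun v hv => by
      refine ⟨Pi.single (fun _ => ⟨0, by have := C.hk; omega⟩) 1, fun e => ?_⟩
      exact Pi.single_ne_zero_iff.2 (one_ne_zero (α := F)) (ins_injective iM hv (e.trans (map_zero _).symm))
    have hZw : ∀ w, f w c = 0 → f w d = 0 → ∀ v r, cr M (frow f w) (zd (ins iM v r)) = 0 := by
      intro w hwc hwd
      let P : Submodule F (Fin k → F) :=
        { carrier := {v | ∀ r, cr M (frow f w) (zd (ins iM v r)) = 0}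
          add_mem' := fun {p q} hp hq r => by
            simp only [hzd, ins_add_vec, map_add]
            exact (congrArg₂ (· + ·) (hp r) (hq r)).trans (add_zero _)
          zero_mem' := fun r => by simp [hzd, ins_zero_vec]
          smul_mem' := fun t p hp r => by
            simp only [hzd, ins_smul_vec, map_smul]
            rw [show cr M (frow f w) (KK (ins M d (ins iM p r))) = 0 from hp r, smul_zero] }
      suffices P = ⊤ from fun v r => (this.symm ▸ Submodule.mem_top : v ∈ P) r
      obtain ⟨x', hx'c, hx'd, hx'⟩ := C.toSl.exists_W_aniso hc hd hcd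
      have hd0 : d ≠ 0 := fun e => by rw [e, hf.zero_right] at hcd; exact zero_ne_one hcd
      -- the scalar vanishes
      obtain ⟨r₁, w₁, hr₁, hk₁⟩ := key d hd0 hd
      have hcP : c ∈ P := by
        obtain ⟨r', hr'⟩ := hins x' (fun e => hx' (by rw [e, hf.zero_left]))
        have e1 := hk₁ w hwc hwd (ins iM x' r')
        rw [op_ins, op_ins, Cop_apply, Cop_apply, hx'c, hx'd, zero_smul, zero_smul, ins_zero_vec] at e1
        simp only [hzd, map_zero, smul_zero, sub_zero] at e1
        have hs : f w₁ w = 0 := (smul_eq_zero.1 e1.symm).resolve_right hr'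
        intro r
        have e2 := hk₁ w hwc hwd (ins iM d r)
        rw [op_ins, op_ins, Cop_apply, Cop_apply, hd, hdc, zero_smul, one_smul, ins_zero_vec, hs,
          LinearMap.id_apply, zero_smul] at e2
        simp only [hzd, map_zero, smul_zero, zero_sub, neg_eq_zero] at e2
        exact e2
      refine C.toSl.iso_span hd0 hd P fun e he hed => ?_
      have he0 : e ≠ 0 := fun e0 => hed (by rw [e0, hf.zero_left])
      by_cases hec : ∃ β : F, e = β • c
      · obtain ⟨β, rfl⟩ := hec; exact P.smul_mem β hcP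
      push Not at hec
      obtain ⟨v, hvc, hve⟩ : ∃ v, f v c = 0 ∧ f v e ≠ 0 := by
        by_contra hcon
        push Not at hcon
        refine hec (f e d) (sub_eq_zero.1 (hf.nondeg _ fun z => ?_))
        have h1 := hcon (z - f z c • d) (by rw [hf.sub_left, hf.smul_left, hdc, mul_one, sub_self])
        rw [hf.sub_left, hf.smul_left, sub_eq_zero] at h1
        rw [hf.sub_left, hf.smul_left, hf.comm' e z, h1, hf.comm' d e, hf.comm' c z]
        ring
      obtain ⟨r₂, w₂, hr₂, hk₂⟩ := key e he0 he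
      obtain ⟨y', hy'c, hy'e, hy'⟩ : ∃ y', f y' c = 0 ∧ f y' e = 0 ∧ y' ≠ 0 := by
        have h1 := finrank_perp_ge hf ⊤ c
        have h3 := finrank_perp_ge hf (⊤ ⊓ LinearMap.ker (hf.formL c)) e
        rw [finrank_top, Module.finrank_fintype_fun_eq_card, Fintype.card_fin] at h1
        have := C.hk
        obtain ⟨y', hy', hy'0⟩ := Submodule.exists_mem_ne_zero_of_ne_bot
          (p := ⊤ ⊓ LinearMap.ker (hf.formL c) ⊓ LinearMap.ker (hf.formL e)) (fun e0 => by
            rw [e0, finrank_bot] at h3; omega)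
        simp only [Submodule.mem_inf, LinearMap.mem_ker, SF.formL_apply] at hy'
        exact ⟨y', hy'.1.2, hy'.2, hy'0⟩
      obtain ⟨r', hr'⟩ := hins y' hy'
      have e1 := hk₂ w hwc hwd (ins iM y' r')
      rw [op_ins, op_ins, Cop_apply, Cop_apply, hy'c, hy'e, zero_smul, zero_smul, ins_zero_vec] at e1
      simp only [hzd, map_zero, smul_zero, sub_zero] at e1
      have hs : f w₂ w = 0 := (smul_eq_zero.1 e1.symm).resolve_right hr'
      intro r
      have e2 := hk₂ w hwc hwd (ins iM v r)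
      rw [op_ins, op_ins, Cop_apply, Cop_apply, hvc, zero_smul, ins_zero_vec, hs, LinearMap.id_apply, zero_smul,
        ins_smul_vec] at e2
      simp only [hzd, map_zero, sub_zero, map_smul, smul_smul] at e2
      exact (smul_eq_zero.1 e2).resolve_left (mul_ne_zero hr₂ hve)
    have hz0 : ∀ u, zd u = 0 := by
      intro u
      refine LinearMap.congr_fun (f := KK ∘ₗ ins M d) (g := 0) (ext_ins iM fun v r => ?_) u
      show zd (ins iM v r) = 0
      refine eq_of_frow hf M fun b' => ?_
      obtain ⟨w, hwc, hwd, hb'⟩ : ∃ w, f w c = 0 ∧ f w d = 0 ∧ b' = w + f b' d • c + f b' c • d :=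
        ⟨b' - f b' d • c - f b' c • d, by simp [hf.sub_left, hf.smul_left, hc, hdc],
          by simp [hf.sub_left, hf.smul_left, hd, hcd], by abel⟩
      rw [hb', map_zero]
      simp only [cr, hf.frow_add, hf.frow_smul, RingEquiv.refl_apply, LinearMap.comp_apply, LinearEquiv.coe_coe,
        ctr_add_vec, ctr_smul_vec, LinearMap.add_apply, LinearMap.smul_apply]
      have e1 := hZw w hwc hwd v r
      obtain ⟨e2, e3⟩ := hzc (ins iM v r)
      simp only [cr, LinearMap.comp_apply, LinearEquiv.coe_coe] at e1 e2 e3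
      rw [e1, e2, e3, smul_zero, smul_zero, add_zero, add_zero]
    have hKK0 : KK = 0 := ext_ins M fun v u => by
      rw [LinearMap.zero_apply]
      obtain ⟨v', hv', hv⟩ : ∃ v', f v' c = 0 ∧ v = v' + f v c • d :=
        ⟨v - f v c • d, by simp [hf.sub_left, hf.smul_left, hdc], by abel⟩
      rw [hv, ins_add_vec, ins_smul_vec, map_add, map_smul, show KK (ins M d u) = 0 from hz0 u, smul_zero, add_zero]
      obtain ⟨w, hw1, hw2, hv2⟩ : ∃ w, f w c = 0 ∧ f w d = 0 ∧ v' = w + f v' d • c :=
        ⟨v' - f v' d • c, by simp [hf.sub_left, hf.smul_left, hc, hv'], by simp [hf.sub_left, hf.smul_left, hcd],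
          by abel⟩
      have e1 := hops _ (hAl m w hw1) (ins M d u)
      rw [show KK (ins M d u) = 0 from hz0 u, map_zero, op_ins, Aop_apply, hdc, show f d w = 0 by
        rw [hf.comm', hw2], one_smul, zero_smul, sub_zero, LinearMap.id_apply] at e1
      rw [hv2, ins_add_vec, ins_smul_vec, map_add, map_smul, hKc, smul_zero, add_zero]
      exact e1
    exact op_zero_iff (T := LinearMap.id) (fun e0 => hc0 (LinearMap.congr_fun e0 c)) hKK0
  exact C.lift_uniq hJ hX hc0 hc hZ (C.mono _ (B.up_omega i hb) (up_mono i hbm)) h (lift_up hf i c b)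

end Ctx

end Cfsg.Agent.OrthEvenWreath
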