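/-
Tensor powers of a symmetric form of even dimension: members carrying one isotropic line to another are monomial.
-/
import Cfsg.Agent.Lib.OrthWreathEven.Lift
import Cfsg.Agent.Lib.OrthWreathEven.Norm
import Cfsg.Agent.Lib.OrthWreath.Stab

set_option autoImplicit false
set_option linter.unusedSectionVars false

namespace Cfsg.Agent.OrthEvenWreath

open scoped Matrix
open Matrix Cfsg.Agent.Transvec Cfsg.Agent.TensorMax Cfsg.Agent.WreathMax
open Cfsg.Agent.FormWreath hiding up mv_up_ins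
open Cfsg.Agent.OrthWreath hiding Sl Ctx Base Ind Inv Gd fixsp_mir small_mir split_sim rho_omega
open Cfsg.Agent.UWreath (Loc Has mono_mul)

variable {F : Type*} [Field F] [Finite F] {k : ℕ} {J : Type} [Fintype J] [DecidableEq J]
variable {f : (Fin k → F) → (Fin k → F) → F} {κ : F}

local notation "σ₁" => RingEquiv.refl F

section Split

variable {g : GL (J → Fin k) F} {i l : J} {A : (Fin k → F) ≃ₗ[F] (Fin k → F)}
  {R : (Rest i k → F) ≃ₗ[F] (Rest l k → F)} (h : ∀ y u, mv g (ins i y u) = ins l (A y) (R u))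
include h

theorem split_sim (S : Sl f κ) (hg : ∀ x y, Bt σ₁ f (mv g x) (mv g y) = Bt σ₁ f x y) :
    ∃ ν : F, ν ≠ 0 ∧ (∀ y y', f (A y) (A y') = ν * f y y') ∧
      ∀ u u', Bt σ₁ f (R u) (R u') = ν⁻¹ * Bt σ₁ f u u' := by
  have hf := S.hf
  obtain ⟨e, he⟩ := S.exists_aniso
  have he0 : f e e ≠ 0 := he ▸ S.hκ
  set u₀ : Rest i k → F := pten fun _ => e
  have hu : Bt σ₁ f u₀ u₀ ≠ 0 := by rw [Bt_pten hf]; exact Finset.prod_ne_zero_iff.2 fun _ _ => he0
  have key : ∀ y y' u u', f (A y) (A y') * Bt σ₁ f (R u) (R u') = f y y' * Bt σ₁ f u u' := fun y y' u u' => by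
    have := hg (ins i y u) (ins i y' u')
    rwa [h, h, Bt_ins_ins hf, Bt_ins_ins hf] at this
  have hv : Bt σ₁ f (R u₀) (R u₀) ≠ 0 := fun e0 => by
    have := key e e u₀ u₀
    rw [e0, mul_zero] at this
    exact mul_ne_zero he0 hu this.symm
  have hA : ∀ y y', f (A y) (A y') = Bt σ₁ f u₀ u₀ / Bt σ₁ f (R u₀) (R u₀) * f y y' := fun y y' => by
    rw [div_mul_eq_mul_div, eq_div_iff hv]
    linear_combination key y y' u₀ u₀
  refine ⟨_, div_ne_zero hu hv, hA, fun u u' => ?_⟩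
  have h1 := key e e u u'
  rw [hA] at h1
  refine mul_left_cancel₀ (mul_ne_zero (div_ne_zero hu hv) he0) ?_
  rw [h1]
  field_simp

end Split

variable {Q : ((J → Fin k) → F) → F} {X : Subgroup (GL (J → Fin k) F)}

namespace Ctx

variable (C : Ctx f Q κ X) (hJ : 2 ≤ Fintype.card J) (hX : ¬ Geo.omegaGL Q ≤ X) (B : Base f Q κ) (IH : Ind f κ J)
include C hJ hX B IH

/-- Isometries of the other slots inside X are monomial. -/
theorem up_mono_of_mem (i : J) {b : GL (Rest i k) F}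
    (hb : ∀ x y, Bt σ₁ f (mv b x) (mv b y) = Bt σ₁ f x y)
    (h : 2 ≤ Fintype.card {j // j ≠ i} → up i b ∈ X) : Mono b := by
  classical
  have hf := C.hf
  have hcard : Fintype.card {j // j ≠ i} + 1 = Fintype.card J := by
    rw [Fintype.card_subtype_compl, Fintype.card_subtype_eq]
    omega
  by_cases h2 : 2 ≤ Fintype.card {j // j ≠ i}
  swap
  · exact mono_of_card_one (by omega) b
  have hΩ : ∀ a ∈ Geo.omegaGL (qf (Bt (J := {j // j ≠ i}) σ₁ f)), up i a ∈ X → Mono a := fun a ha hax => by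
    refine B.rest_mono IH i (X' := Geo.omegaGL (qf (Bt (J := {j // j ≠ i}) σ₁ f)) ⊓ X.comap (up i)) inf_le_left
      (fun g hg hm => ⟨hg, C.mono _ (B.up_omega i hg) (up_mono i hm)⟩) (fun h2' hle => ?_) ⟨ha, hax⟩
    obtain ⟨c, hc0, hc⟩ := C.toSl.exists_isotropic
    obtain ⟨d, hd, hcd⟩ := C.toSl.exists_pair hc0 hc
    obtain ⟨x, hxc, -, hx⟩ := C.toSl.exists_W_aniso hc hd hcd
    obtain ⟨j, m, hjm⟩ := Fintype.exists_pair_of_one_lt_card (α := {j // j ≠ i}) (by omega)
    exact C.up_rho_not_mem hJ hX i hjm hc0 hc hxc hx (hle (rho_omega (B.rest i h2') hjm hc x)).2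
  haveI : Nonempty {j // j ≠ i} := Fintype.card_pos_iff.1 (by omega)
  refine C.toSl.norm_mono fun l x hx => ?_
  have hx0 : f x x ≠ 0 := hx ▸ C.hκ
  set m := fac (J := {j // j ≠ i}) l (mr hf x) with hm
  have hbI := B.rest_iso.2 hb
  have hmI : m ∈ isometryGroup F (qf (Bt (J := {j // j ≠ i}) σ₁ f)) :=
    B.rest_iso.2 (fac_pres' hf l (mr_isom hf hx0))
  have hmX : up i m ∈ X := by rw [hm, up_fac]; exact C.mir (by omega) _ x hx0
  have hbX := h h2
  have ha : Mono (b * m * b⁻¹ * m⁻¹) := hΩ _ (comm_mem_omega hbI hmI) (by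
    rw [map_mul, map_mul, map_mul, map_inv, map_inv]
    exact X.mul_mem (X.mul_mem (X.mul_mem hbX hmX) (X.inv_mem hbX)) (X.inv_mem hmX))
  have hbm : Mono (b * m * b⁻¹) := by
    have := mono_mul ha (mono_iff.2 ⟨1, monoOf_fac l (mr hf x)⟩ : Mono m)
    rwa [inv_mul_cancel_right] at this
  refine C.toSl.trc_even (fun u v => (B.rest_iso (i := i)).1
    (Subgroup.mul_mem _ (Subgroup.mul_mem _ hbI hmI) (Subgroup.inv_mem _ hbI)) u v) ?_ hbm ?_
  · rw [show b * m * b⁻¹ * (b * m * b⁻¹) = b * (m * m) * b⁻¹ by group, hm, ← fac_mul, mr_sq hf hx0, fac_one,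
      mul_one, mul_inv_cancel]
  · rw [OrthWreath.Small, finrank_fixsp_conj]
    exact small_mir C.toSl l hx0

section Lines

variable {g : GL (J → Fin k) F} (hg : g ∈ X) {i l : J} {c c' : Fin k → F} (hc0 : c ≠ 0) (hc : f c c = 0)
  (hc'0 : c' ≠ 0) (hc' : f c' c' = 0) (hL : (Ln i c).map (mvLin g) = Ln l c')
include hg hc0 hc hc'0 hc' hL

omit B IH in
/-- Members of the other slots go to members with a scalar middle part. -/
theorem conj_P1 {j : J} (hj : j ≠ i) {T : GL (Fin k) F} (hT : fac j T ∈ X) :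
    ∃ b w, f w c' = 0 ∧ (∀ x y, Bt σ₁ f (mv b x) (mv b y) = Bt σ₁ f x y) ∧
      P1 f l c' (g * fac j T * g⁻¹) b w := by
  refine C.exists_P1 hJ hX (X.mul_mem (X.mul_mem hg hT) (X.inv_mem hg)) hc'0 hc' fun w hw => ?_
  have hLi : (Ln l c').map (mvLin g⁻¹) = Ln i c := by rw [← hL, map_gl_inv]
  obtain ⟨w', -, e⟩ := C.conj_root hJ hX (X.inv_mem hg) hc' hc0 hc hLi hw
  rw [inv_inv] at e
  calc g * fac j T * g⁻¹ * fac l (eA C.hf c' w)
      = g * (fac j T * (g⁻¹ * fac l (eA C.hf c' w) * g)) * g⁻¹ := by group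
    _ = g * ((g⁻¹ * fac l (eA C.hf c' w) * g) * fac j T) * g⁻¹ := by rw [e, fac_comm hj]
    _ = fac l (eA C.hf c' w) * (g * fac j T * g⁻¹) := by group

omit B IH in
/-- Root members of the other slots go to members without middle part. -/
theorem conj_root_P1 {j : J} (hj : j ≠ i) {c₀ w₀ : Fin k → F} (hc₀ : f c₀ c₀ = 0) (hw₀ : f w₀ c₀ = 0) :
    ∃ b, (∀ x y, Bt σ₁ f (mv b x) (mv b y) = Bt σ₁ f x y) ∧
      P1 f l c' (g * fac j (eA C.hf c₀ w₀) * g⁻¹) b 0 := by
  classical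
  have hf := C.hf
  have h2 := C.two
  have hk : 0 < k := by have := C.hk; omega
  have h1 : ∃ b, (∀ x y, Bt σ₁ f (mv b x) (mv b y) = Bt σ₁ f x y) ∧ P1 f l c' (g * 1 * g⁻¹) b 0 :=
    ⟨1, fun x y => by rw [mv_one, mv_one], fun u => by rw [mul_one, mul_inv_cancel, mv_one, mv_one],
      fun z _ u => by rw [mul_one, mul_inv_cancel, mv_one, mv_one, hf.zero_right, zero_smul, sub_zero]⟩
  by_cases hc₀0 : c₀ = 0
  · have hwz : eA hf c₀ w₀ = 1 := by
      subst hc₀0
      refine ext_mv fun x => ?_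
      rw [mv_eA hf h2 (hf.zero_left _) (hf.zero_right _), Elin_apply, mv_one]
      have e : Aop hf (0 : Fin k → F) w₀ = 0 := LinearMap.ext fun u => by
        simp [hf.zero_right]
      rw [e, LinearMap.zero_apply, LinearMap.zero_apply, smul_zero, add_zero, add_zero]
    rwa [hwz, fac_one]
  set E : (Fin k → F) → GL (Fin k) F := fun w => eA hf c₀ w
  let Z : (Fin k → F) → Prop := fun w => ∃ b, (∀ x y, Bt σ₁ f (mv b x) (mv b y) = Bt σ₁ f x y) ∧
    P1 f l c' (g * fac j (E w) * g⁻¹) b 0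
  have hE : ∀ w, f w c₀ = 0 → fac j (E w) ∈ X := fun w hw => C.root j c₀ w hc₀ hw
  have hsum : ∀ {a b : Fin k → F}, f a c₀ = 0 → f b c₀ = 0 →
      g * fac j (E (a + b)) * g⁻¹ = g * fac j (E a) * g⁻¹ * (g * fac j (E b) * g⁻¹) := fun {a b} ha hb => by
    simp only [E]
    rw [← eA_mul hf h2 hc₀ ha hb, fac_mul]
    group
  let W : Submodule F (Fin k → F) :=
    { carrier := {w | f w c₀ = 0 ∧ ∀ t : F, Z (t • w)}
      add_mem' := fun {a b} ha hb => by
        refine ⟨by rw [hf.add_left, ha.1, hb.1, add_zero], fun t => ?_⟩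
        obtain ⟨b₁, hb₁, p₁⟩ := ha.2 t
        obtain ⟨b₂, hb₂, p₂⟩ := hb.2 t
        refine ⟨b₁ * b₂, fun x y => by rw [mv_mul, mv_mul, hb₁, hb₂], ?_⟩
        rw [smul_add, hsum (by rw [hf.smul_left, ha.1, mul_zero]) (by rw [hf.smul_left, hb.1, mul_zero])]
        have := p₁.mul hf p₂
        rwa [add_zero] at this
      zero_mem' := ⟨hf.zero_left _, fun t => by
        show Z (t • 0)
        simp only [Z, E, smul_zero, eA_zero hf h2 hc₀, fac_one]
        exact h1⟩
      smul_mem' := fun r a ha => ⟨by rw [hf.smul_left, ha.1, mul_zero], fun t => by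
        rw [smul_smul]; exact ha.2 _⟩ }
  have hdiff : ∀ (T : GL (Fin k) F), fac j T ∈ X → ∀ w w' : Fin k → F, f w c₀ = 0 → f w' c₀ = 0 →
      T * E w * T⁻¹ = E w' → Z (w' - w) := by
    intro T hT w w' hw hw' e
    obtain ⟨bT, wT, -, -, pT⟩ := C.conj_P1 hJ hX hg hc0 hc hc'0 hc' hL hj hT
    obtain ⟨b, v, -, hb, p⟩ := C.conj_P1 hJ hX hg hc0 hc hc'0 hc' hL hj (hE w hw)
    obtain ⟨b', v', -, hb', p'⟩ := C.conj_P1 hJ hX hg hc0 hc hc'0 hc' hL hj (hE w' hw')
    have p2 := (pT.mul hf p).mul hf (pT.inv hf)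
    have es : g * fac j T * g⁻¹ * (g * fac j (E w) * g⁻¹) * (g * fac j T * g⁻¹)⁻¹ = g * fac j (E w') * g⁻¹ := by
      rw [← e, fac_mul, fac_mul, ← fac_inv]
      group
    rw [es] at p2
    obtain ⟨-, hv⟩ := P1.uniq hk hf hc'0 p2 p'
    refine ⟨b' * b⁻¹, fun x y => by rw [mv_mul, mv_mul, hb', ← hb, mv_mv_inv, mv_mv_inv], ?_⟩
    have es' : g * fac j (E (w' - w)) * g⁻¹ = g * fac j (E w') * g⁻¹ * (g * fac j (E w) * g⁻¹)⁻¹ := by
      simp only [E]
      rw [sub_eq_add_neg, ← eA_mul hf h2 hc₀ hw' (by rw [hf.neg_left, hw, neg_zero]), fac_mul,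
        ← eA_inv hf h2 hc₀ hw, ← fac_inv]
      group
    rw [es']
    obtain ⟨h3, h4⟩ := p'.mul hf (p.inv hf)
    refine ⟨h3, fun z hz u => ?_⟩
    rw [h4 z hz u, hf.zero_right, hf.add_right, hf.neg_right, ← hv z hz, hf.add_right, hf.add_right, hf.neg_right]
    module
  suffices w₀ ∈ W by
    have h := this.2 1
    rwa [one_smul] at h
  haveI : NeZero (2 : F) := ⟨h2⟩
  obtain ⟨d, hd, hcd⟩ := C.toSl.exists_pair hc₀0 hc₀
  obtain ⟨T, hT, hTc, -, hTw⟩ := C.exists_flip hc₀ hd hcd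
  have hcW : c₀ ∈ W := ⟨hc₀, fun r => by
    simp only [Z, E, eA_line_one hf h2 hc₀, fac_one]
    exact h1⟩
  have hwW : ∀ w, f w c₀ = 0 → f w d = 0 → w ∈ W := fun w hwc hwd => ⟨hwc, fun r => by
    have hs : f ((-r / 2) • w) c₀ = 0 := by rw [hf.smul_left, hwc, mul_zero]
    have hs' : f ((r / 2) • w) c₀ = 0 := by rw [hf.smul_left, hwc, mul_zero]
    have := hdiff T (hT.2 j) ((-r / 2) • w) ((r / 2) • w) hs hs' (by
      simp only [E]
      rw [eA_conj hf h2 hT.1 hc₀ hs, mv_smul, hTw w hwc hwd, hTc, ← neg_one_smul F c₀,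
        eA_smul_line hf h2 hc₀ hs, smul_smul]
      congr 2
      ring)
    rwa [← sub_smul, show r / 2 - -r / 2 = r by field_simp; ring] at this⟩
  have hd1 : w₀ = (w₀ - f w₀ d • c₀) + f w₀ d • c₀ := by rw [sub_add_cancel]
  rw [hd1]
  exact W.add_mem (hwW _ (by rw [hf.sub_left, hf.smul_left, hw₀, hc₀, mul_zero, sub_zero])
    (by rw [hf.sub_left, hf.smul_left, hcd, mul_one, sub_self])) (W.smul_mem _ hcW)

/-- Root members of the other slots go to members of the other slots. -/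
theorem conj_root_up {j : J} (hj : j ≠ i) {c₀ w₀ : Fin k → F} (hc₀ : f c₀ c₀ = 0) (hw₀ : f w₀ c₀ = 0) :
    ∃ b, g * fac j (eA C.hf c₀ w₀) * g⁻¹ = up l b := by
  have hf := C.hf
  have h2 := C.two
  haveI : Fintype F := Fintype.ofFinite F
  obtain ⟨p, hp⟩ := CharP.exists F
  haveI := hp
  have hpp : p.Prime := CharP.char_is_prime F p
  obtain ⟨b, hb, hP⟩ := C.conj_root_P1 hJ hX hg hc0 hc hc'0 hc' hL hj hc₀ hw₀
  set s := g * fac j (eA hf c₀ w₀) * g⁻¹ with hs
  have hpow : ∀ n : ℕ, P1 f l c' (s ^ n) (b ^ n) 0 := fun n => by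
    induction n with
    | zero =>
      exact ⟨fun u => by rw [pow_zero, pow_zero, mv_one, mv_one],
        fun z _ u => by rw [pow_zero, pow_zero, mv_one, mv_one, hf.zero_right, zero_smul, sub_zero]⟩
    | succ n ih =>
      rw [pow_succ, pow_succ]
      have := ih.mul hf hP
      rwa [add_zero] at this
  have hsp : s ^ p = 1 := by
    have e1 : ∀ n : ℕ, fac j (eA hf c₀ w₀) ^ n = fac j (eA hf c₀ w₀ ^ n) := fun n => by
      induction n with
      | zero => rw [pow_zero, pow_zero, fac_one]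
      | succ n ih => rw [pow_succ, pow_succ, ih, fac_mul]
    rw [hs, conj_pow, e1, eA_pow_char hf h2 p hc₀ hw₀, fac_one, mul_one, mul_inv_cancel]
  have hbp : b ^ p = 1 := by
    have h0 := hpow 0
    rw [pow_zero, pow_zero] at h0
    have h4 := hpow p
    rw [hsp] at h4
    exact (P1.uniq (by have := C.hk; omega) hf hc'0 h4 h0).1
  have hbΩ : b ∈ Geo.omegaGL (qf (Bt (J := {j // j ≠ l}) σ₁ f)) := by
    refine OrthTensor.omega_of_odd (qf_nondeg (Bt_sym hf) h2) h2 ?_ (B.rest_iso.2 hb)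
      ((hpp.odd_of_ne_two fun e => h2 (by subst e; exact CharP.cast_eq_zero F 2)).of_dvd_nat
        (orderOf_dvd_of_pow_eq_one hbp))
    rw [Fintype.card_fun, Fintype.card_fin]
    have h1 : 1 ≤ Fintype.card {j // j ≠ l} := by
      rw [Fintype.card_subtype_compl, Fintype.card_subtype_eq]; omega
    calc 2 ≤ k ^ 1 := by rw [pow_one]; have := C.hk; omega
      _ ≤ k ^ Fintype.card {j // j ≠ l} := Nat.pow_le_pow_right (by have := C.hk; omega) h1
  have hsX : s ∈ X := X.mul_mem (X.mul_mem hg (C.root j c₀ w₀ hc₀ hw₀)) (X.inv_mem hg)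
  obtain ⟨K, hK⟩ := exists_lift C hc'0 hc' hsX hb hP fun z _ => hf.zero_right z
  have hK0 := C.lift_K hJ hX B IH l hc'0 hc' hsX hbΩ hK
  subst hK0
  exact ⟨b, hK.eq_up⟩

/-- Such a member is a pure tensor of two maps. -/
theorem exists_split : ∃ (A : (Fin k → F) ≃ₗ[F] (Fin k → F)) (R : (Rest i k → F) ≃ₗ[F] (Rest l k → F)),
    ∀ y u, mv g (ins i y u) = ins l (A y) (R u) := by
  have hk : 0 < k := by have := C.hk; omega
  have h : ∀ T' : (Fin k → F) →ₗ[F] Fin k → F, ∃ T,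
      op l LinearMap.id T' ∘ₗ mvLin g = mvLin g ∘ₗ op i LinearMap.id T := fun T' => by
    obtain ⟨T₀, hT₀⟩ := C.toSl.comm_roots i (L := mvLin g⁻¹ ∘ₗ op l LinearMap.id T' ∘ₗ mvLin g)
      fun j a w hj ha hw => LinearMap.ext fun x => by
        obtain ⟨b, hb⟩ := C.conj_root_up hJ hX B IH hg hc0 hc hc'0 hc' hL hj ha hw
        rw [mul_inv_eq_iff_eq_mul] at hb
        have hcomm : ∀ y, op l LinearMap.id T' (mv (up l b) y) = mv (up l b) (op l LinearMap.id T' y) := fun y => by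
          have := LinearMap.congr_fun (show op l LinearMap.id T' ∘ₗ mvLin (up l b) =
            mvLin (up l b) ∘ₗ op l LinearMap.id T' by
              rw [mvLin_up, op_comp, op_comp, LinearMap.id_comp, LinearMap.comp_id, LinearMap.id_comp,
                LinearMap.comp_id]) y
          exact this
        show mv g⁻¹ (op l LinearMap.id T' (mv g (mv (fac j (eA C.hf a w)) x))) =
          mv (fac j (eA C.hf a w)) (mv g⁻¹ (op l LinearMap.id T' (mv g x)))
        rw [← mv_mul g, hb, mv_mul (up l b), hcomm, ← mv_mul g⁻¹, ← mv_mul (fac j _) g⁻¹]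
        congr 1
        rw [eq_inv_mul_iff_mul_eq.2 hb]
        group
    refine ⟨T₀, ?_⟩
    rw [← hT₀]
    refine LinearMap.ext fun x => ?_
    exact (mv_mv_inv g _).symm
  obtain ⟨A, R, hA, hAR⟩ := split_of_slot C.hf hk (fun T => slot_onto hk h T)
  exact ⟨LinearEquiv.ofInjectiveEndo A hA, R, hAR⟩
set_option maxHeartbeats 400000 in
/-- A member carrying an isotropic line to an isotropic line is monomial. -/
theorem stab : Mono g := by
  classical
  have hf := C.hf
  obtain ⟨A, R, hgR⟩ := C.exists_split hJ hX B IH hg hc0 hc hc'0 hc' hL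
  obtain ⟨ν, hν, hA, hR⟩ := split_sim hgR C.toSl (C.pres (C.iso hg))
  haveI : Nonempty J := ⟨i⟩
  refine C.toSl.norm_mono fun j z hz => ?_
  have hz0 : f z z ≠ 0 := hz ▸ C.hκ
  by_cases hj : j = i
  · subst hj
    have hAz : f (A z) (A z) ≠ 0 := by rw [hA]; exact mul_ne_zero hν hz0
    refine ⟨l, A z, hAz, ?_⟩
    rw [split_fac hgR]
    congr 1
    refine ext_mv fun v => ?_
    have hv : f v (A z) = ν * f (A.symm v) z := by rw [← hA, A.apply_symm_apply]
    rw [mv_conjGL, mv_mr hf hz0, mv_mr hf hAz, map_sub, map_smul, A.apply_symm_apply, hv, hA]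
    congr 2
    field_simp
  · have hs : g * fac j (mr hf z) * g⁻¹ = up l (conjGL R (fac (⟨j, hj⟩ : {m // m ≠ i}) (mr hf z))) := by
      rw [← split_up hgR, up_fac]
    set a := fac (⟨j, hj⟩ : {m // m ≠ i}) (mr hf z) with hadef
    have hiso : ∀ x y, Bt σ₁ f (mv (conjGL R a) x) (mv (conjGL R a) y) = Bt σ₁ f x y := fun x y => by
      rw [mv_conjGL, mv_conjGL, hR, hadef, fac_pres' hf _ (mr_isom hf hz0), ← hR, R.apply_symm_apply,
        R.apply_symm_apply]
    have hb : Mono (conjGL R a) := by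
      refine C.up_mono_of_mem hJ hX B IH l hiso fun h2 => ?_
      rw [← hs]
      have h3 : 3 ≤ Fintype.card J := by
        rw [Fintype.card_subtype_compl, Fintype.card_subtype_eq] at h2
        omega
      exact X.mul_mem (X.mul_mem hg (C.mir h3 j z hz0)) (X.inv_mem hg)
    have hgI := C.iso hg
    obtain ⟨l', y, hy, e⟩ := C.toSl.trc_even (h := g * fac j (mr hf z) * g⁻¹)
      (C.pres (Subgroup.mul_mem _ (Subgroup.mul_mem _ hgI (C.fac_iso j (mr_isom hf hz0))) (Subgroup.inv_mem _ hgI)))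
      (by rw [show g * fac j (mr hf z) * g⁻¹ * (g * fac j (mr hf z) * g⁻¹) =
            g * (fac j (mr hf z) * fac j (mr hf z)) * g⁻¹ by group, ← fac_mul, mr_sq hf hz0, fac_one,
          mul_one, mul_inv_cancel])
      (hs ▸ up_mono l hb)
      (by rw [OrthWreath.Small, finrank_fixsp_conj]; exact small_mir C.toSl j hz0)
    exact ⟨l', y, hy, e⟩

end Lines

/-- Members centralising a root member with an anisotropic middle vector are monomial. -/
theorem root_cent_mono {g : GL (J → Fin k) F} (hg : g ∈ X) {l : J} {c w : Fin k → F} (hc0 : c ≠ 0)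
    (hc : f c c = 0) (hwc : f w c = 0) (hw : f w w ≠ 0)
    (hcomm : g * fac l (eA C.hf c w) = fac l (eA C.hf c w) * g) : Mono g := by
  have hf := C.hf
  have h2 := C.two
  refine C.stab hJ hX B IH hg (i := l) (l := l) hc0 hc hc0 hc ?_
  have hw' : f (-w) c = 0 := by rw [hf.neg_left, hwc, neg_zero]
  have e : op (k := k) l LinearMap.id (Cop hf c) =
      (-(f w w)⁻¹) • (mvLin (fac l (eA hf c w)) + mvLin (fac l (eA hf c (-w))) - (2 : F) • LinearMap.id) := by
    refine ext_ins l fun v u => ?_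
    show _ = (-(f w w)⁻¹) • (mv (fac l (eA hf c w)) (ins l v u) + mv (fac l (eA hf c (-w))) (ins l v u) -
      (2 : F) • ins l v u)
    rw [op_ins, mv_fac_ins, mv_fac_ins, mv_eA hf h2 hc hwc, mv_eA hf h2 hc hw', Elin_apply, Elin_apply,
      Aop_Aop hf hc hwc hwc, Aop_Aop hf hc hw' hw', Aop_neg, LinearMap.neg_apply, hf.neg_left, hf.neg_right,
      LinearMap.id_apply]
    simp only [ins_add_vec, ins_smul_vec, ← neg_one_smul F (Aop hf c w v)]
    match_scalars <;> field_simp <;> ring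
  have hcomm' : g * fac l (eA hf c (-w)) = fac l (eA hf c (-w)) * g := by
    rw [← eA_inv hf h2 hc hwc, ← fac_inv]
    exact (Commute.inv_right (show Commute g (fac l (eA hf c w)) from hcomm)).eq
  have hop : ∀ z, mv g (op l LinearMap.id (Cop hf c) z) = op l LinearMap.id (Cop hf c) (mv g z) := fun z => by
    rw [e]
    simp only [LinearMap.smul_apply, LinearMap.sub_apply, LinearMap.add_apply, LinearMap.id_apply]
    show mv g ((-(f w w)⁻¹) • (mv (fac l (eA hf c w)) z + mv (fac l (eA hf c (-w))) z - (2 : F) • z)) =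
      (-(f w w)⁻¹) • (mv (fac l (eA hf c w)) (mv g z) + mv (fac l (eA hf c (-w))) (mv g z) - (2 : F) • mv g z)
    rw [mv_smul, mv_sub, mv_add, mv_smul, ← mv_mul, ← mv_mul, hcomm, hcomm', mv_mul, mv_mul]
  obtain ⟨d, -, hcd⟩ := C.toSl.exists_pair hc0 hc
  refine Submodule.eq_of_le_of_finrank_le (fun y hy => ?_) (by rw [finrank_map_gl])
  obtain ⟨x, hx, rfl⟩ := mem_map_gl.1 hy
  obtain ⟨u, rfl⟩ := mem_Ln_ins hx
  have e1 : ins l c u = op l LinearMap.id (Cop hf c) (ins l d u) := by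
    rw [op_ins, Cop_apply, hf.comm', hcd, one_smul, LinearMap.id_apply]
  have e2 : LinearMap.range (op l LinearMap.id (Cop hf c)) ≤ Ln l c := by
    rintro _ ⟨z, rfl⟩
    rw [show op l LinearMap.id (Cop hf c) = (ins l c).comp (cr l (frow f c)) from ext_ins l fun v u => by
      rw [op_ins, LinearMap.comp_apply, cr_ins' hf, map_smul, Cop_apply, ins_smul_vec, LinearMap.id_apply]]
    exact ins_mem l c _
  rw [e1, hop]
  exact e2 ⟨_, rfl⟩

end Ctx

end Cfsg.Agent.OrthEvenWreath
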