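/-
Tensor powers of a symmetric form of even dimension: groups normalised by root members, and members carrying
one root member to a member of a single slot.
-/
import Cfsg.Agent.Lib.OrthWreathEven.Stab
import Cfsg.Agent.Lib.OrthWreathEven.Sig
import Cfsg.Agent.Lib.OrthWreath.Frame

set_option autoImplicit false
set_option linter.unusedSectionVars false

namespace Cfsg.Agent.OrthEvenWreath

open scoped Matrix Pointwise
open Matrix Cfsg.Agent.Transvec Cfsg.Agent.TensorMax Cfsg.Agent.WreathMax
open Cfsg.Agent.FormWreath hiding up mv_up_ins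
open Cfsg.Agent.OrthWreath hiding Sl Ctx Base Ind Inv Gd fixsp_mir small_mir split_sim rho_omega fix_line_mono
open Cfsg.Agent.UWreath (mono_mul mono_inv)

variable {F : Type*} [Field F] [Finite F] {k : ℕ} {J : Type} [Fintype J] [DecidableEq J]
variable {f : (Fin k → F) → (Fin k → F) → F} {κ : F}

local notation "σ₁" => RingEquiv.refl F

/-- A monomial isometry fixing a line pointwise is a member of that slot. -/
theorem fix_line_mono (S : Sl f κ) {u : GL (J → Fin k) F} (hu : Mono u)
    (hiso : ∀ a b, Bt σ₁ f (mv u a) (mv u b) = Bt σ₁ f a b) {i : J} {x : Fin k → F} (hx0 : x ≠ 0)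
    (hfix : ∀ w, mv u (ins i x w) = ins i x w) :
    ∃ T : GL (Fin k) F, u = fac i T ∧ mv T x = x ∧ ∀ a b, f (mv T a) (mv T b) = f a b := by
  classical
  have hf := S.hf
  have hk : 0 < k := by have := S.hk; omega
  obtain ⟨π, A, hA⟩ := hu
  have hAne : ∀ j (v : Fin k → F), v ≠ 0 → mv (A j) v ≠ 0 := fun j v hv h0 =>
    hv (mv_inj _ (h0.trans (mv_zero _).symm))
  have hmL := monoOf_map_Ln hk hA i hx0
  have hmap : (Ln i x).map (mvLin u) = Ln i x := by
    refine Submodule.eq_of_le_of_finrank_le (fun z hz => ?_) (by rw [finrank_map_gl])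
    obtain ⟨y, hy, rfl⟩ := mem_map_gl.1 hz
    obtain ⟨w, rfl⟩ := mem_Ln_ins hy
    rw [hfix]
    exact ins_mem i x w
  rw [hmap] at hmL
  have hi' := Ln_type_unique (by have := S.hk; omega) hx0 (hAne _ x hx0) hmL
  have hi : π i = i := by
    have := congrArg π hi'
    rwa [Equiv.Perm.coe_inv, Equiv.apply_symm_apply] at this
  rw [← hi'] at hmL
  obtain ⟨w₁, hw₁⟩ := rest_vec_ne (F := F) hk i
  obtain ⟨τ, hτx⟩ := line_scalar hx0 hw₁ (hmL ▸ ins_mem i (mv (A i) x) w₁)
  have hτ : τ ≠ 0 := fun e => hAne i x hx0 (by rw [hτx, e, zero_smul])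
  obtain ⟨T₁, hT₁⟩ := exists_smul_gl (k := k) τ⁻¹ (inv_ne_zero hτ)
  set T := T₁ * A i
  have hT : ∀ v, mv T v = τ⁻¹ • mv (A i) v := fun v => by rw [mv_mul, hT₁]
  have hu : u = fac i T := ext_pten fun z => by
    rw [mv_fac]
    set z' : J → Fin k → F := fun j => mv (A j) (z (π j))
    have hupd : ∀ v, mv u (pten (Function.update z i v)) = pten (Function.update z' i (mv (A i) v)) := fun v => by
      rw [hA]
      refine congrArg pten (funext fun j => ?_)
      by_cases hj : j = i
      · subst hj; rw [hi, Function.update_self, Function.update_self]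
      · have : π j ≠ i := fun e => hj (π.injective (e.trans hi.symm))
        rw [Function.update_of_ne this, Function.update_of_ne hj]
    have hxfix : pten (Function.update z i x) = τ • pten (Function.update z' i x) := by
      have e1 : pten (Function.update z i x) = ins i x (pten fun j : {j // j ≠ i} => z j) := by
        rw [ins_pten]
        refine congrArg pten (funext fun j => ?_)
        by_cases hj : j = i
        · subst hj; rw [Function.update_self, dif_pos rfl]
        · rw [Function.update_of_ne hj, dif_neg hj]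
      have e2 := hfix (pten fun j : {j // j ≠ i} => z j)
      rw [← e1, hupd, hτx, ← updL_apply, map_smul, updL_apply] at e2
      exact e2.symm
    have h3 := pten_update_congr hx0 hxfix (mv T (z i))
    rw [← Function.update_eq_self i z, hupd, Function.update_idem, Function.update_self, h3, ← updL_apply, ← updL_apply,
      ← map_smul, hT, smul_smul, mul_inv_cancel₀ hτ, one_smul]
  have hTx : mv T x = x := by rw [hT, hτx, smul_smul, inv_mul_cancel₀ hτ, one_smul]
  refine ⟨T, hu, hTx, fun a b => ?_⟩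
  obtain ⟨e, he⟩ := S.exists_aniso
  set w : Rest i k → F := pten fun _ => e
  have hw : Bt σ₁ f w w ≠ 0 := by rw [Bt_pten hf]; exact Finset.prod_ne_zero_iff.2 fun _ _ => he ▸ S.hκ
  have := hiso (ins i a w) (ins i b w)
  rw [hu, mv_fac_ins, mv_fac_ins, Bt_ins_ins hf, Bt_ins_ins hf] at this
  exact mul_right_cancel₀ hw this


variable {Q : ((J → Fin k) → F) → F} {X : Subgroup (GL (J → Fin k) F)}

namespace Ctx

variable (C : Ctx f Q κ X) (hJ : 2 ≤ Fintype.card J) (hX : ¬ Geo.omegaGL Q ≤ X) (B : Base f Q κ) (IH : Ind f κ J)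
include C hJ hX B IH

set_option maxHeartbeats 1000000 in
/-- A group of members normalised by the roots of a slot, with no monomial element of order p, is monomial. -/
theorem gp (G : Subgroup (GL (J → Fin k) F)) (hG : G ≤ X) (l : J)
    (hnorm : ∀ c w : Fin k → F, f c c = 0 → f w c = 0 → ∀ g ∈ G,
      fac l (eA C.hf c w) * g * (fac l (eA C.hf c w))⁻¹ ∈ G)
    (p : ℕ) [CharP F p] (hH : ∀ g ∈ G, Mono g → g ^ p = 1 → g = 1) : ∀ g ∈ G, Mono g := by
  classical
  have hf := C.hf
  have h2 := C.two
  have hk : 0 < k := by have := C.hk; omega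
  haveI : Fintype F := Fintype.ofFinite F
  haveI : Fact p.Prime := ⟨CharP.char_is_prime F p⟩
  have hpp : p.Prime := Fact.out
  have hp2 : p ≠ 2 := fun e => h2 (by subst e; exact CharP.cast_eq_zero F 2)
  have hroot : ∀ (c w : Fin k → F), f c c = 0 → f w c = 0 → fac l (eA hf c w) ^ p = 1 := fun c w hc hw => by
    have e1 : ∀ n : ℕ, fac l (eA hf c w) ^ n = fac l (eA hf c w ^ n) := fun n => by
      induction n with
      | zero => rw [pow_zero, pow_zero, fac_one]
      | succ n ih => rw [pow_succ, pow_succ, ih, fac_mul]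
    rw [e1, eA_pow_char hf h2 p hc hw, fac_one]
  have hnormal : ∀ (c w : Fin k → F), f c c = 0 → f w c = 0 →
      fac l (eA hf c w) ∈ Subgroup.normalizer (G : Set (GL (J → Fin k) F)) := fun c w hc hw => by
    refine Subgroup.mem_normalizer_iff.2 fun g => ⟨hnorm c w hc hw g, fun h => ?_⟩
    have h1 := hnorm c (-w) hc (by rw [hf.neg_left, hw, neg_zero]) _ h
    rw [← eA_inv hf h2 hc hw, ← fac_inv, inv_inv] at h1
    convert h1 using 1
    group
  obtain ⟨c, hc0, hc⟩ := C.toSl.exists_isotropic
  obtain ⟨d, hd, hcd⟩ := C.toSl.exists_pair hc0 hc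
  obtain ⟨x, hxc, -, hx⟩ := C.toSl.exists_W_aniso hc hd hcd
  have hcent : ∀ g ∈ G, ∀ (c w : Fin k → F), c ≠ 0 → f c c = 0 → f w c = 0 → f w w ≠ 0 →
      g * fac l (eA hf c w) = fac l (eA hf c w) * g → Mono g := fun g hg c w h0 h1 h3 h4 h5 =>
    C.root_cent_mono hJ hX B IH (hG hg) h0 h1 h3 h4 h5
  have hcop : (Nat.card G).Coprime p := by
    refine Nat.Coprime.symm ((Nat.Prime.coprime_iff_not_dvd hpp).2 fun hd' => ?_)
    obtain ⟨g, hg, hg1, hgp, hge⟩ := exists_fixed_prime (hnormal c x hc hxc) (hroot c x hc hxc) hd'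
    exact hg1 (hH g hg (hcent g hg c x hc0 hc hxc hx hge) hgp)
  by_cases hp3 : p = 3
  swap
  · have h5 : 5 ≤ p := by
      have := hpp.two_le
      by_contra hlt
      have : p = 4 := by omega
      subst this
      exact absurd hpp (by norm_num)
    haveI : NeZero k := ⟨by omega⟩
    set e := leq (fac (J := J) l (eA hf c x))
    haveI : Finite (((J → Fin k) → F) ≃ₗ[F] ((J → Fin k) → F)) :=
      Finite.of_injective (fun g : ((J → Fin k) → F) ≃ₗ[F] ((J → Fin k) → F) => (g : ((J → Fin k) → F) → _))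
        DFunLike.coe_injective
    have hcom := comm_of_cube (p := p) h5 (G.map leq) (e := e) (by
        refine Subgroup.le_normalizer_map leq ⟨_, hnormal c x hc hxc, rfl⟩)
      (by rw [← map_pow, hroot c x hc hxc, map_one])
      (fun h => eA_ne_one hf h2 hc0 hc hxc hx ((fac_one_iff hk l).1 (leq_injective (h.trans (map_one leq).symm))))
      (by rwa [Nat.card_congr (G.equivMapOfInjective leq leq_injective).toEquiv.symm]) (by
        have h1 : (e : Module.End F ((J → Fin k) → F)) - 1 = op l LinearMap.id (mvLin (eA hf c x) - LinearMap.id) :=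
          ext_ins l fun v u => by
            show mv (fac l (eA hf c x)) (ins l v u) - ins l v u = _
            rw [mv_fac_ins, op_ins, LinearMap.id_apply, LinearMap.sub_apply, ins_sub_vec]
            rfl
        have h3 : ((e : Module.End F ((J → Fin k) → F)) - 1) ∘ₗ ((e : Module.End F ((J → Fin k) → F)) - 1) ∘ₗ
            ((e : Module.End F ((J → Fin k) → F)) - 1) = 0 := by
          rw [h1, op_comp, op_comp, eA_dev_cube hf h2 hc hxc, op_zero_right]
        rw [← h3, pow_succ, pow_two]
        rfl)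
    intro g hg
    refine hcent g hg c x hc0 hc hxc hx (leq_injective ?_)
    rw [map_mul, map_mul]
    exact hcom _ ⟨g, hg, rfl⟩
  subst hp3
  -- a space of anisotropic middle vectors
  obtain ⟨U, hUc, hUa, hU3⟩ : ∃ U : Submodule F (Fin k → F), (∀ u ∈ U, f u c = 0) ∧
      (∀ u ∈ U, u ≠ 0 → f u u ≠ 0) ∧ 3 < Nat.card U := by
    by_cases hq : 5 ≤ Nat.card F
    · have hx0 : x ≠ 0 := fun e => hx (by rw [e, hf.zero_left])
      refine ⟨Submodule.span F {x}, fun u hu => ?_, fun u hu hu0 => ?_, ?_⟩
      · obtain ⟨a, rfl⟩ := Submodule.mem_span_singleton.1 hu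
        rw [hf.smul_left, hxc, mul_zero]
      · obtain ⟨a, rfl⟩ := Submodule.mem_span_singleton.1 hu
        have ha : a ≠ 0 := fun e => hu0 (by rw [e, zero_smul])
        rw [hf.smul_left, hf.smul_right']
        exact mul_ne_zero ha (mul_ne_zero ha hx)
      · have := Nat.card_le_card_of_injective (fun a : F => (⟨a • x, Submodule.smul_mem _ _
          (Submodule.mem_span_singleton_self x)⟩ : Submodule.span F {x}))
          (fun a b h => smul_left_injective F hx0 (congrArg Subtype.val h))
        omega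
    obtain ⟨w, w', v, hv, hwc, hwd, hw, hw'c, hw'd, hw'w, hw', hani⟩ : ∃ w w' v, v ≠ 0 ∧ f w c = 0 ∧ f w d = 0 ∧
        f w w = κ ∧ f w' c = 0 ∧ f w' d = 0 ∧ f w' w = 0 ∧ f w' w' = v ∧
        ∀ a b : F, a * a * κ + b * b * v = 0 → a = 0 ∧ b = 0 := by
      obtain ⟨w, hwc, hwd, hw⟩ := C.toSl.exists_W_value hc hd hcd κ
      have hw0 : f w w ≠ 0 := hw ▸ C.hκ
      rcases Nat.lt_or_ge k 5 with h4 | h5
      · obtain ⟨z, hzc, hzd, hzw, hz⟩ := C.toSl.exists_W_perp hc hd hcd hwc hwd hw0
        refine ⟨w, z, _, hz, hwc, hwd, hw, hzc, hzd, hzw, rfl, fun a b hab => ?_⟩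
        have hwz : f w z = 0 := by rw [hf.comm', hzw]
        have h0 := C.mnus (by have := C.hk; omega) c d (a • w + b • z) hc hd hcd
          (by rw [hf.add_left, hf.smul_left, hf.smul_left, hwc, hzc, mul_zero, mul_zero, add_zero])
          (by rw [hf.add_left, hf.smul_left, hf.smul_left, hwd, hzd, mul_zero, mul_zero, add_zero])
          (by simp only [hf.add_left, hf.add_right, hf.smul_left, hf.smul_right', hw, hzw, hwz, mul_zero, add_zero,
                zero_add]
              linear_combination hab)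
        have e1 := congrArg (fun v => f v w) h0
        have e2 := congrArg (fun v => f v z) h0
        simp only [hf.add_left, hf.smul_left, hw, hzw, hwz, mul_zero, add_zero, zero_add, hf.zero_left] at e1 e2
        exact ⟨(mul_eq_zero.1 e1).resolve_right C.hκ, (mul_eq_zero.1 e2).resolve_right hz⟩
      have hF : ∀ a : F, a = 0 ∨ a * a = 1 := by
        have h3 : Nat.card F = 3 := by
          obtain ⟨n, -, hn⟩ := FiniteField.card F 3
          rw [← Nat.card_eq_fintype_card] at hn
          by_contra hne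
          have h1 : 2 ≤ (n : ℕ) := by
            rcases Nat.lt_or_ge (n : ℕ) 2 with h | h
            · have := n.pos
              rw [show (n : ℕ) = 1 by omega, pow_one] at hn
              exact absurd hn hne
            · exact h
          have := Nat.pow_le_pow_right (by norm_num : 1 ≤ 3) h1
          omega
        intro a
        by_cases ha : a = 0
        · exact Or.inl ha
        · right
          have := FiniteField.pow_card_sub_one_eq_one a ha
          rw [← Nat.card_eq_fintype_card, h3] at this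
          rw [← pow_two]
          exact this
      have hwW : w ∈ Wsub hf c d := (mem_Wsub hf).2 ⟨hwc, hwd⟩
      obtain ⟨z, hz, hzz⟩ := C.toSl.exists_value (P := Wsub hf c d ⊓ LinearMap.ker (hf.formL w))
        (perp_nondeg hf (C.toSl.W_nondeg hc hd hcd) hwW hw0) (by
          have := finrank_perp_ge hf (Wsub hf c d) w
          have := C.toSl.finrank_W hc hd hcd
          omega) κ
      obtain ⟨hz1, hz2⟩ := Submodule.mem_inf.1 hz
      rw [LinearMap.mem_ker, SF.formL_apply] at hz2
      obtain ⟨hzc, hzd⟩ := (mem_Wsub hf).1 hz1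
      refine ⟨w, z, κ, C.hκ, hwc, hwd, hw, hzc, hzd, hz2, hzz, fun a b hab => ?_⟩
      have h3 : (3 : F) = 0 := by
        have := CharP.cast_eq_zero F 3
        exact_mod_cast this
      rw [← add_mul] at hab
      have hab' := (mul_eq_zero.1 hab).resolve_right C.hκ
      rcases hF a with ha | ha <;> rcases hF b with hb | hb
      · exact ⟨ha, hb⟩
      · rw [ha, hb, zero_mul, zero_add] at hab'; exact absurd hab' one_ne_zero
      · rw [hb, ha, zero_mul, add_zero] at hab'; exact absurd hab' one_ne_zero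
      · rw [ha, hb] at hab'; exact absurd (by linear_combination h3 - hab' : (1 : F) = 0) one_ne_zero
    refine ⟨Submodule.span F {w, w'}, fun u hu => ?_, fun u hu hu0 => ?_, ?_⟩
    · obtain ⟨a, b, rfl⟩ := Submodule.mem_span_pair.1 hu
      rw [hf.add_left, hf.smul_left, hf.smul_left, hwc, hw'c, mul_zero, mul_zero, add_zero]
    · obtain ⟨a, b, rfl⟩ := Submodule.mem_span_pair.1 hu
      simp only [hf.add_left, hf.add_right, hf.smul_left, hf.smul_right', hw, hw', hw'w, hf.comm' w w',
        mul_zero, add_zero, zero_add]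
      intro e
      obtain ⟨ha, hb⟩ := hani a b (by linear_combination e)
      exact hu0 (by rw [ha, hb, zero_smul, zero_smul, add_zero])
    · have hinj : Function.Injective fun a : F × F => (⟨a.1 • w + a.2 • w', Submodule.mem_span_pair.2 ⟨_, _, rfl⟩⟩ :
          Submodule.span F {w, w'}) := fun a b h => by
        have h1 := congrArg Subtype.val h
        have e1 := congrArg (fun v => f v w) h1
        have e2 := congrArg (fun v => f v w') h1
        simp only [hf.add_left, hf.smul_left, hw, hw', hw'w, hf.comm' w w', mul_zero, add_zero, zero_add] at e1 e2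
        exact Prod.ext (mul_right_cancel₀ C.hκ e1) (mul_right_cancel₀ hv e2)
      have := Nat.card_le_card_of_injective _ hinj
      rw [Nat.card_prod] at this
      have h2' := Finite.one_lt_card (α := F)
      nlinarith
  let φ : Multiplicative U →* GL (J → Fin k) F :=
    { toFun := fun u => fac l (eA hf c ((Multiplicative.toAdd u : U) : Fin k → F))
      map_one' := by
        show fac l (eA hf c (0 : Fin k → F)) = 1
        rw [eA_zero hf h2 hc, fac_one]
      map_mul' := fun u v => by
        show fac l (eA hf c (_ + _)) = _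
        rw [← fac_mul, eA_mul hf h2 hc (hUc _ u.toAdd.2) (hUc _ v.toAdd.2)] }
  have hφ : ∀ u : Multiplicative U, φ u = 1 → u = 1 := fun u hu => by
    by_contra hne
    have hu0 : ((Multiplicative.toAdd u : U) : Fin k → F) ≠ 0 := fun e => hne (Subtype.ext e)
    exact eA_ne_one hf h2 hc0 hc (hUc _ u.toAdd.2) (hUa _ u.toAdd.2 hu0) ((fac_one_iff hk l).1 hu)
  set A := φ.range
  haveI hcomm : IsMulCommutative A := ⟨⟨fun a b => Subtype.ext (by
    obtain ⟨u, hu⟩ := a.2
    obtain ⟨v, hv⟩ := b.2
    show (a : GL (J → Fin k) F) * b = b * a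
    rw [← hu, ← hv, ← map_mul, ← map_mul, mul_comm])⟩⟩
  have hexp : ∀ a : A, a ^ 3 = 1 := fun a => Subtype.ext (by
    obtain ⟨u, hu⟩ := a.2
    show (a : GL (J → Fin k) F) ^ 3 = 1
    rw [← hu]
    exact hroot c _ hc (hUc _ u.toAdd.2))
  have hAcard : 3 < Nat.card A := by
    rw [← Nat.card_congr (MonoidHom.ofInjective (f := φ) ((injective_iff_map_eq_one φ).2 hφ)).toEquiv]
    exact hU3
  have hA : ¬ IsCyclic A := fun hcyc => by
    obtain ⟨a, ha⟩ := hcyc.exists_generator
    have h1 := orderOf_eq_card_of_forall_mem_zpowers ha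
    have h3 := Nat.le_of_dvd (by norm_num) (orderOf_dvd_of_pow_eq_one (hexp a))
    omega
  have hAp : IsPGroup 3 A := fun a => ⟨1, by rw [pow_one]; exact hexp a⟩
  have key := Cfsg.Agent.S0058.result A G hA (fun a ⟨u, hu⟩ => hu ▸ hnormal c _ hc (hUc _ u.toAdd.2)) (by
    obtain ⟨n, hn⟩ := IsPGroup.iff_card.1 hAp
    rw [hn]
    exact hcop.symm.pow_left n)
  intro g hg
  have hle : G ≤ monoSub := by
    rw [← key]
    refine iSup₂_le fun a ⟨⟨u, hu⟩, ha1⟩ z ⟨hzG, hzc⟩ => ?_
    have hu0 : ((Multiplicative.toAdd u : U) : Fin k → F) ≠ 0 := fun e => ha1 (by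
      rw [← hu, show u = 1 from Subtype.ext e, map_one])
    refine hcent z hzG c _ hc0 hc (hUc _ u.toAdd.2) (hUa _ u.toAdd.2 hu0) ?_
    have := Subgroup.mem_centralizer_iff.1 hzc a rfl
    rw [← hu] at this
    exact this.symm
  exact hle hg

omit hX B IH in
/-- A line carried by a member from an isotropic line is isotropic. -/
theorem line_iso {g : GL (J → Fin k) F} (hg : g ∈ X) {i l : J} {c c' : Fin k → F} (hc : f c c = 0)
    (h : (Ln i c).map (mvLin g) = Ln l c') : f c' c' = 0 := by
  have hf := C.hf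
  obtain ⟨e, he⟩ := C.toSl.exists_aniso
  set w : Rest l k → F := pten fun _ => e
  have hw : Bt σ₁ f w w ≠ 0 := by rw [Bt_pten hf]; exact Finset.prod_ne_zero_iff.2 fun _ _ => he ▸ C.hκ
  obtain ⟨y, hy, hgy⟩ := mem_map_gl.1 (h ▸ ins_mem l c' w : ins l c' w ∈ (Ln i c).map (mvLin g))
  obtain ⟨u, rfl⟩ := mem_Ln_ins hy
  have := C.pres (C.iso hg) (ins i c u) (ins i c u)
  rw [hgy, Bt_ins_ins hf, Bt_ins_ins hf, hc, zero_mul] at this
  exact (mul_eq_zero.1 this).resolve_right hw

/-- A member carrying a root member to a member of one slot is monomial. -/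
theorem root_line {g : GL (J → Fin k) F} (hg : g ∈ X) {i l : J} {c w : Fin k → F} (hc0 : c ≠ 0)
    (hc : f c c = 0) (hwc : f w c = 0) (hw : f w w ≠ 0) {T : GL (Fin k) F}
    (h : g * fac i (eA C.hf c w) * g⁻¹ = fac l T) : Mono g := by
  have hf := C.hf
  have h2 := C.two
  have hk : 0 < k := by have := C.hk; omega
  have hw' : f (-w) c = 0 := by rw [hf.neg_left, hwc, neg_zero]
  have e : op (k := k) i LinearMap.id (Cop hf c) =
      (-(f w w)⁻¹) • (mvLin (fac i (eA hf c w)) + mvLin (fac i (eA hf c (-w))) - (2 : F) • LinearMap.id) := by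
    refine ext_ins i fun v u => ?_
    show _ = (-(f w w)⁻¹) • (mv (fac i (eA hf c w)) (ins i v u) + mv (fac i (eA hf c (-w))) (ins i v u) -
      (2 : F) • ins i v u)
    rw [op_ins, mv_fac_ins, mv_fac_ins, mv_eA hf h2 hc hwc, mv_eA hf h2 hc hw', Elin_apply, Elin_apply,
      Aop_Aop hf hc hwc hwc, Aop_Aop hf hc hw' hw', Aop_neg, LinearMap.neg_apply, hf.neg_left, hf.neg_right,
      LinearMap.id_apply]
    simp only [ins_add_vec, ins_smul_vec, ← neg_one_smul F (Aop hf c w v)]
    match_scalars <;> field_simp <;> ring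
  have hneg : g * fac i (eA hf c (-w)) * g⁻¹ = fac l T⁻¹ := by
    rw [← eA_inv hf h2 hc hwc, ← fac_inv, ← fac_inv, ← h]
    group
  set L' : (Fin k → F) →ₗ[F] Fin k → F := (-(f w w)⁻¹) • (mvLin T + mvLin T⁻¹ - (2 : F) • LinearMap.id) with hL'
  have hop : ∀ z, mv g (op i LinearMap.id (Cop hf c) z) = op l LinearMap.id L' (mv g z) := fun z => by
    have e2 : op (k := k) l LinearMap.id L' =
        (-(f w w)⁻¹) • (mvLin (fac l T) + mvLin (fac l T⁻¹) - (2 : F) • LinearMap.id) := ext_ins l fun v u => by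
      show _ = (-(f w w)⁻¹) • (mv (fac l T) (ins l v u) + mv (fac l T⁻¹) (ins l v u) - (2 : F) • ins l v u)
      rw [op_ins, mv_fac_ins, mv_fac_ins, LinearMap.id_apply, hL']
      simp only [LinearMap.smul_apply, LinearMap.sub_apply, LinearMap.add_apply, LinearMap.id_apply, ins_smul_vec,
        ins_sub_vec, ins_add_vec]
      rfl
    rw [e, e2]
    simp only [LinearMap.smul_apply, LinearMap.sub_apply, LinearMap.add_apply, LinearMap.id_apply]
    show mv g ((-(f w w)⁻¹) • (mv (fac i (eA hf c w)) z + mv (fac i (eA hf c (-w))) z - (2 : F) • z)) =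
      (-(f w w)⁻¹) • (mv (fac l T) (mv g z) + mv (fac l T⁻¹) (mv g z) - (2 : F) • mv g z)
    rw [← h, ← hneg, mv_smul, mv_sub, mv_add, mv_smul]
    simp only [mv_mul, mv_inv_mv]
  obtain ⟨d, hd, hcd⟩ := C.toSl.exists_pair hc0 hc
  obtain ⟨u₀, hu₀⟩ := rest_vec_ne (F := F) hk i
  obtain ⟨v, hv⟩ : ∃ v, L' v ≠ 0 := by
    by_contra hcon
    push Not at hcon
    have := hop (ins i d u₀)
    rw [op_ins, Cop_apply, hf.comm', hcd, one_smul, LinearMap.id_apply, show L' = 0 from LinearMap.ext hcon,
      op_zero_right, LinearMap.zero_apply] at this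
    exact hu₀ (ins_injective i hc0 ((mv_inj g (this.trans (mv_zero g).symm)).trans (map_zero _).symm))
  have hle : Ln l (L' v) ≤ (Ln i c).map (mvLin g) := fun y hy => by
    obtain ⟨u, rfl⟩ := mem_Ln_ins hy
    have e1 := hop (mv g⁻¹ (ins l v u))
    rw [mv_mv_inv, op_ins, LinearMap.id_apply] at e1
    refine mem_map_gl.2 ⟨_, ?_, e1⟩
    rw [show op (k := k) i LinearMap.id (Cop hf c) = (ins i c).comp (cr i (frow f c)) from ext_ins i fun v u => by
      rw [op_ins, LinearMap.comp_apply, cr_ins' hf, map_smul, Cop_apply, ins_smul_vec, LinearMap.id_apply]]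
    exact ins_mem i c _
  have hL : (Ln i c).map (mvLin g) = Ln l (L' v) := (Submodule.eq_of_le_of_finrank_le hle (by
    rw [finrank_map_gl, finrank_Ln i hc0, finrank_Ln l hv, card_rest_same i l hk])).symm
  exact C.stab hJ hX B IH hg hc0 hc hv (C.line_iso hJ hg hc hL) hL

/-- A member carrying a root member to a monomial member fixing a line pointwise is monomial. -/
theorem root_fix {g : GL (J → Fin k) F} (hg : g ∈ X) {i l : J} {c w x : Fin k → F} (hc0 : c ≠ 0)
    (hc : f c c = 0) (hwc : f w c = 0) (hw : f w w ≠ 0) (hx0 : x ≠ 0)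
    (hfix : ∀ u, mv (fac i (eA C.hf c w)) (mv g⁻¹ (ins l x u)) = mv g⁻¹ (ins l x u))
    (hm : Mono (g * fac i (eA C.hf c w) * g⁻¹)) : Mono g := by
  obtain ⟨T, hT, -, -⟩ := fix_line_mono C.toSl hm
    (C.pres (C.iso (X.mul_mem (X.mul_mem hg (C.root i c w hc hwc)) (X.inv_mem hg)))) hx0 fun u => by
      rw [mv_mul, mv_mul, hfix, mv_mv_inv]
  exact C.root_line hJ hX B IH hg hc0 hc hwc hw hT

/-- The isotropic case. -/
theorem root_fix_iso {g : GL (J → Fin k) F} (hg : g ∈ X) {i l : J} {c w x : Fin k → F} (hc0 : c ≠ 0)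
    (hc : f c c = 0) (hwc : f w c = 0) (hw : f w w ≠ 0) (hx0 : x ≠ 0) (hx : f x x = 0)
    (hfix : ∀ u, mv (fac i (eA C.hf c w)) (mv g⁻¹ (ins l x u)) = mv g⁻¹ (ins l x u)) : Mono g := by
  refine C.root_fix hJ hX B IH hg hc0 hc hwc hw hx0 hfix (C.stab hJ hX B IH
    (X.mul_mem (X.mul_mem hg (C.root i c w hc hwc)) (X.inv_mem hg)) (i := l) (l := l) hx0 hx hx0 hx ?_)
  refine Submodule.eq_of_le_of_finrank_le (fun y hy => ?_) (by rw [finrank_map_gl])
  obtain ⟨y', hy', rfl⟩ := mem_map_gl.1 hy
  obtain ⟨u, rfl⟩ := mem_Ln_ins hy'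
  rw [mv_mul, mv_mul, hfix, mv_mv_inv]
  exact ins_mem l x u

end Ctx

end Cfsg.Agent.OrthEvenWreath
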