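/-
Tensor powers of a symmetric form of even dimension: subspaces without radical and involutions of one slot.
-/
import Cfsg.Agent.Lib.OrthWreathEven.Root

set_option autoImplicit false
set_option linter.unusedSectionVars false

namespace Cfsg.Agent.OrthEvenWreath

open scoped Matrix
open Matrix Cfsg.Agent.Transvec Cfsg.Agent.TensorMax Cfsg.Agent.WreathMax
open Cfsg.Agent.FormWreath hiding up mv_up_ins
open Cfsg.Agent.OrthWreath hiding Sl Ctx Base Ind Inv Gd fixsp_mir small_mir split_sim rho_omega fix_line_mono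

variable {F : Type*} [Field F] [Finite F] {k : ℕ} {J : Type} [Fintype J] [DecidableEq J]
variable {f : (Fin k → F) → (Fin k → F) → F} {κ : F}

local notation "σ₁" => RingEquiv.refl F

/-- A subspace without radical. -/
def Nd (f : (Fin k → F) → (Fin k → F) → F) (P : Submodule F (Fin k → F)) : Prop :=
  ∀ u ∈ P, (∀ w ∈ P, f w u = 0) → u = 0

theorem mem_prp (hf : Sym f) {x v : Fin k → F} : v ∈ LinearMap.ker (hf.formL x) ↔ f v x = 0 := by
  rw [LinearMap.mem_ker, SF.formL_apply]

theorem mv_neg_gl {ι : Type} [Fintype ι] [DecidableEq ι] (A : GL ι F) (v : ι → F) : mv (-A) v = -mv A v := by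
  show ((-A : GL ι F) : Matrix ι ι F) *ᵥ v = -((A : Matrix ι ι F) *ᵥ v)
  rw [Units.val_neg, Matrix.neg_mulVec]

theorem fac_neg (i : J) (A : GL (Fin k) F) : fac i (-A) = -fac i A :=
  ext_ins_mv i fun v w => by
    rw [mv_fac_ins, mv_neg_gl, mv_neg_gl, mv_fac_ins, ← neg_one_smul F (mv A v), ins_smul_vec, neg_one_smul]

theorem mem_fixsp_neg {ι : Type} [Fintype ι] [DecidableEq ι] {A : GL ι F} {v : ι → F} :
    v ∈ fixsp (-A) ↔ mv A v = -v := by
  rw [mem_fixsp, mv_neg_gl, neg_eq_iff_eq_neg]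

theorem ker_add_eq {ι : Type} [Fintype ι] [DecidableEq ι] (A : GL ι F) :
    LinearMap.ker (mvLin A + LinearMap.id) = fixsp (-A) := by
  ext v
  rw [mem_fixsp_neg, LinearMap.mem_ker, LinearMap.add_apply, LinearMap.id_apply, add_eq_zero_iff_eq_neg]
  rfl

/-- A root member fixes the vectors orthogonal to both of its vectors. -/
theorem eA_fix (hf : Sym f) (h2 : (2 : F) ≠ 0) {c w v : Fin k → F} (hc : f c c = 0) (hw : f w c = 0)
    (hvc : f v c = 0) (hvw : f v w = 0) : mv (eA hf c w) v = v := by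
  rw [eA_fix_perp hf h2 hc hw hvc, hvw, zero_smul, sub_zero]

theorem eA_neg_left (hf : Sym f) (h2 : (2 : F) ≠ 0) {c w : Fin k → F} (hc : f c c = 0) (hw : f w c = 0) :
    eA hf (-c) w = eA hf c (-w) := by
  refine ext_mv fun x => ?_
  rw [mv_eA hf h2 (by rw [hf.neg_left, hf.neg_right, neg_neg, hc]) (by rw [hf.neg_right, hw, neg_zero]),
    mv_eA hf h2 hc (by rw [hf.neg_left, hw, neg_zero]), Elin_apply, Elin_apply, Aop_neg_left, Aop_neg]

/-! ### Slot vectors -/

theorem op_av (hf : Sym f) (i : J) (p q : Fin k → F) (z : (J → Fin k) → F) :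
    op i LinearMap.id (av hf p q) z = ins i p (cr i (frow f q) z) := by
  refine LinearMap.congr_fun (g := (ins i p).comp (cr i (frow f q))) (ext_ins i fun v u => ?_) z
  rw [op_ins, LinearMap.comp_apply, cr_ins' hf, map_smul, LinearMap.id_apply]
  show ins i (f v q • p) u = _
  rw [ins_smul_vec]

theorem cr_adj (hf : Sym f) (i : J) (x : Fin k → F) (z : (J → Fin k) → F) (u : Rest i k → F) :
    Bt σ₁ f (cr i (frow f x) z) u = Bt σ₁ f z (ins i x u) := by
  have hB : Sym (Bt (J := J) σ₁ f) := Bt_sym hf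
  have hR : Sym (Bt (J := {j // j ≠ i}) σ₁ f) := Bt_sym hf
  refine LinearMap.congr_fun (f := (hR.formL u).comp (cr i (frow f x))) (g := hB.formL (ins i x u))
    (ext_ins i fun v w => ?_) z
  show Bt σ₁ f (cr i (frow f x) (ins i v w)) u = Bt σ₁ f (ins i v w) (ins i x u)
  rw [cr_ins' hf, hR.smul_left, Bt_ins_ins hf]

/-- A member fixing the fixed space of an involution in one slot fixes that of its tensor. -/
theorem fix_eig (h2 : (2 : F) ≠ 0) (i : J) {A T : GL (Fin k) F} (hA : A * A = 1)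
    (hT : ∀ v, mv A v = v → mv T v = v) {z : (J → Fin k) → F} (hz : mv (fac i A) z = z) :
    mv (fac i T) z = z := by
  have e := LinearMap.congr_fun (f := mvLin (fac i T) ∘ₗ (LinearMap.id + mvLin (fac i A)))
    (g := LinearMap.id + mvLin (fac i A)) (ext_ins i fun v w => by
      show mv (fac i T) (ins i v w + mv (fac i A) (ins i v w)) = ins i v w + mv (fac i A) (ins i v w)
      rw [mv_fac_ins, ← ins_add_vec, mv_fac_ins, hT]
      rw [mv_add, ← mv_mul, hA, mv_one, add_comm]) z
  change mv (fac i T) (z + mv (fac i A) z) = z + mv (fac i A) z at e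
  rw [hz, ← two_smul F z, mv_smul] at e
  exact smul_right_injective _ h2 e

/-- The same on the orthogonal of a fixed vector. -/
theorem fix_eig_perp (hf : Sym f) (h2 : (2 : F) ≠ 0) (i : J) {A T : GL (Fin k) F} (hA : A * A = 1)
    (hAi : ∀ u v, f (mv A u) (mv A v) = f u v) {x : Fin k → F} (hx : f x x ≠ 0) (hAx : mv A x = x)
    (hT : ∀ v, mv A v = v → f v x = 0 → mv T v = v) {z : (J → Fin k) → F} (hz : mv (fac i A) z = z)
    (hzx : ∀ u, Bt σ₁ f z (ins i x u) = 0) : mv (fac i T) z = z := by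
  have hR : Sym (Bt (J := {j // j ≠ i}) σ₁ f) := Bt_sym hf
  have h0 : op i LinearMap.id (pr hf x) z = 0 := by
    rw [pr, op_smul_right, LinearMap.smul_apply, op_av,
      show cr i (frow f x) z = 0 from hR.nondeg _ fun u => by rw [cr_adj hf, hzx], map_zero, smul_zero]
  have e := LinearMap.congr_fun
    (f := mvLin (fac i T) ∘ₗ ((LinearMap.id + mvLin (fac i A)) ∘ₗ (LinearMap.id - op i LinearMap.id (pr hf x))))
    (g := (LinearMap.id + mvLin (fac i A)) ∘ₗ (LinearMap.id - op i LinearMap.id (pr hf x))) (ext_ins i fun v w => by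
      show mv (fac i T) (ins i v w - op i LinearMap.id (pr hf x) (ins i v w) +
        mv (fac i A) (ins i v w - op i LinearMap.id (pr hf x) (ins i v w))) =
          ins i v w - op i LinearMap.id (pr hf x) (ins i v w) +
        mv (fac i A) (ins i v w - op i LinearMap.id (pr hf x) (ins i v w))
      rw [op_ins, LinearMap.id_apply, ← ins_sub_vec, mv_fac_ins, ← ins_add_vec, mv_fac_ins]
      set v' := v - pr hf x v with hv'
      have hv'x : f v' x = 0 := by
        rw [hv', pr_apply, hf.sub_left, hf.smul_left]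
        field_simp
        ring
      rw [hT _ (by rw [mv_add, ← mv_mul, hA, mv_one, add_comm]) (by
        have := hAi v' x
        rw [hAx] at this
        rw [hf.add_left, this, hv'x, add_zero])]) z
  change mv (fac i T) (z - op i LinearMap.id (pr hf x) z + mv (fac i A) (z - op i LinearMap.id (pr hf x) z)) =
    z - op i LinearMap.id (pr hf x) z + mv (fac i A) (z - op i LinearMap.id (pr hf x) z) at e
  rw [h0, sub_zero, hz, ← two_smul F z, mv_smul] at e
  exact smul_right_injective _ h2 e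

namespace Sl

variable (S : Sl f κ)
include S

theorem nd_top : Nd f (⊤ : Submodule F (Fin k → F)) := fun u _ h =>
  S.hf.nondeg u fun y => by rw [S.hf.comm']; exact h y Submodule.mem_top

theorem aniso_in {P : Submodule F (Fin k → F)} (hP : Nd f P) (h0 : P ≠ ⊥) : ∃ x ∈ P, f x x ≠ 0 := by
  have hn : Transvec.Orth.Nondeg (qf f) P := fun u hu h => hP u hu fun w hw => by
    rw [← pol_qf S.hf S.two]; exact h w hw
  obtain ⟨x, hx, hq⟩ := Transvec.Orth.exists_anisotropic (qf_nondeg S.hf S.two) hn h0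
  exact ⟨x, hx, fun e => hq (by rw [qf, e, zero_div])⟩

theorem perp_step {P : Submodule F (Fin k → F)} (hP : Nd f P) {x : Fin k → F} (hx : x ∈ P) (hxx : f x x ≠ 0) :
    Nd f (P ⊓ LinearMap.ker (S.hf.formL x)) ∧
      Module.finrank F P ≤ Module.finrank F (P ⊓ LinearMap.ker (S.hf.formL x) : Submodule F (Fin k → F)) + 1 :=
  ⟨perp_nondeg S.hf hP hx hxx, finrank_perp_ge S.hf P x⟩

theorem finrank_top' : Module.finrank F (⊤ : Submodule F (Fin k → F)) = k := by
  rw [finrank_top, Module.finrank_fintype_fun_eq_card, Fintype.card_fin]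

theorem ne_bot_of {P : Submodule F (Fin k → F)} (h : 0 < Module.finrank F P) : P ≠ ⊥ := fun e => by
  rw [e, finrank_bot] at h
  exact absurd h (lt_irrefl 0)

/-- Orthogonal vectors of values one and minus one. -/
theorem pair_in {P : Submodule F (Fin k → F)} (hP : Nd f P) (h3 : 3 ≤ Module.finrank F P) :
    ∃ x ∈ P, ∃ y ∈ P, f x x = 1 ∧ f y y = -1 ∧ f x y = 0 := by
  obtain ⟨x, hx, hxx⟩ := S.exists_value hP (by omega) 1
  obtain ⟨hn, hd⟩ := S.perp_step hP hx (by rw [hxx]; exact one_ne_zero)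
  obtain ⟨y, hy, hyy⟩ := S.exists_value hn (by omega) (-1)
  obtain ⟨hy1, hy2⟩ := Submodule.mem_inf.1 hy
  rw [mem_prp] at hy2
  exact ⟨x, hx, y, hy1, hxx, hyy, by rw [S.hf.comm', hy2]⟩

/-- Spaces of dimension three carry root members. -/
theorem root_in {P : Submodule F (Fin k → F)} (hP : Nd f P) (h3 : 3 ≤ Module.finrank F P) :
    ∃ c ∈ P, ∃ w ∈ P, c ≠ 0 ∧ f c c = 0 ∧ f w c = 0 ∧ f w w ≠ 0 := by
  have hf := S.hf
  obtain ⟨x, hx, y, hy, hxx, hyy, hxy⟩ := S.pair_in hP h3
  obtain ⟨hn, hd⟩ := S.perp_step hP hx (by rw [hxx]; exact one_ne_zero)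
  obtain ⟨hn', hd'⟩ := S.perp_step hn (Submodule.mem_inf.2 ⟨hy, (mem_prp hf).2 (by rw [hf.comm', hxy])⟩)
    (by rw [hyy]; exact neg_ne_zero.2 one_ne_zero)
  obtain ⟨w, hw, hww⟩ := S.aniso_in hn' (S.ne_bot_of (by omega))
  obtain ⟨hw1, hwy⟩ := Submodule.mem_inf.1 hw
  obtain ⟨hwP, hwx⟩ := Submodule.mem_inf.1 hw1
  rw [mem_prp] at hwy hwx
  refine ⟨x + y, P.add_mem hx hy, w, hwP, fun e => ?_, ?_, by rw [hf.add_right, hwx, hwy, add_zero], hww⟩
  · have := congrArg (fun v => f v x) e
    simp only [hf.add_left, hxx, hf.comm' y x, hxy, hf.zero_left, add_zero] at this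
    exact one_ne_zero this
  · rw [hf.add_left, hf.add_right, hf.add_right, hxx, hyy, hxy, hf.comm' y x, hxy]
    ring

/-! ### Involutions -/

theorem eig_nd {A : GL (Fin k) F} (hA : A * A = 1) (hi : ∀ u v, f (mv A u) (mv A v) = f u v) :
    Nd f (fixsp A) := fun u hu h => S.hf.nondeg u fun y => by
  have h1 := h (y + mv A y) (mem_fixsp.2 (by rw [mv_add, ← mv_mul, hA, mv_one, add_comm]))
  have h2 := hi y u
  rw [mem_fixsp.1 hu] at h2
  rw [S.hf.add_left, h2, ← two_mul, mul_eq_zero] at h1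
  rw [S.hf.comm']
  exact h1.resolve_left S.two

theorem eig_orth {A : GL (Fin k) F} (hi : ∀ u v, f (mv A u) (mv A v) = f u v) {u v : Fin k → F}
    (hu : mv A u = u) (hv : mv A v = -v) : f u v = 0 := by
  have h := hi u v
  rw [hu, hv, S.hf.neg_right] at h
  exact (mul_eq_zero.1 (by linear_combination -h : (2 : F) * f u v = 0)).resolve_left S.two

theorem neg_isom {A : GL (Fin k) F} (hi : ∀ u v, f (mv A u) (mv A v) = f u v) (u v : Fin k → F) :
    f (mv (-A) u) (mv (-A) v) = f u v := by
  rw [mv_neg_gl, mv_neg_gl, S.hf.neg_left, S.hf.neg_right, neg_neg, hi]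

theorem eig_sum {A : GL (Fin k) F} (hA : A * A = 1) :
    Module.finrank F (fixsp A) + Module.finrank F (fixsp (-A)) = k := by
  have := finrank_neg S.two hA
  rwa [ker_add_eq, Fintype.card_fin] at this

/-- An involution other than one negates an anisotropic vector. -/
theorem exists_neg {A : GL (Fin k) F} (hA : A * A = 1) (hi : ∀ u v, f (mv A u) (mv A v) = f u v) (hne : A ≠ 1) :
    ∃ x, mv A x = -x ∧ f x x ≠ 0 := by
  obtain ⟨x, hx, hxx⟩ := S.aniso_in (S.eig_nd (A := -A) (by rw [neg_mul_neg, hA]) (S.neg_isom hi)) fun e => hne (by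
    refine ext_mv fun v => ?_
    have h : v - mv A v ∈ fixsp (-A) := mem_fixsp_neg.2 (by rw [mv_sub, ← mv_mul, hA, mv_one, neg_sub])
    rw [e, Submodule.mem_bot, sub_eq_zero] at h
    rw [mv_one]
    exact h.symm)
  exact ⟨x, mem_fixsp_neg.1 hx, hxx⟩

variable {x y : Fin k → F} (hx : f x x ≠ 0) (hy : f y y ≠ 0) (hxy : f x y = 0)
include hx hy hxy

theorem mm_apply (v : Fin k → F) :
    mv (mr S.hf x * mr S.hf y) v = v - (2 * f v x / f x x) • x - (2 * f v y / f y y) • y := by
  rw [mv_mul, mv_mr S.hf hy v, mv_sub, mv_smul, mr_perp S.hf hx (by rw [S.hf.comm', hxy]), mv_mr S.hf hx v]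
  module

theorem mm_left : mv (mr S.hf x * mr S.hf y) x = -x := by
  rw [S.mm_apply hx hy hxy, hxy, mul_zero, zero_div, zero_smul, sub_zero, mul_div_assoc, div_self hx, mul_one]
  module

theorem mm_right : mv (mr S.hf x * mr S.hf y) y = -y := by
  rw [S.mm_apply hx hy hxy, S.hf.comm' y x, hxy, mul_zero, zero_div, zero_smul, sub_zero, mul_div_assoc,
    div_self hy, mul_one]
  module

theorem mm_perp {v : Fin k → F} (h1 : f v x = 0) (h2 : f v y = 0) : mv (mr S.hf x * mr S.hf y) v = v := by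
  rw [S.mm_apply hx hy hxy, h1, h2, mul_zero, zero_div, zero_div, zero_smul, zero_smul, sub_zero, sub_zero]

theorem isPl_mr : IsPl f (mr S.hf x * mr S.hf y) := by
  have hf := S.hf
  set D := mr hf x * mr hf y with hD
  have hi : ∀ u v, f (mv D u) (mv D v) = f u v := fun u v => by
    rw [hD, mv_mul, mv_mul, mr_isom hf hx, mr_isom hf hy]
  have hDD : D * D = 1 := ext_mv fun v => by
    rw [mv_mul, S.mm_apply hx hy hxy v, mv_sub, mv_sub, mv_smul, mv_smul, S.mm_left hx hy hxy,
      S.mm_right hx hy hxy, S.mm_apply hx hy hxy v, mv_one]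
    module
  refine ⟨hi, hDD, ?_⟩
  have hli : LinearIndependent F ![x, y] := by
    rw [LinearIndependent.pair_iff]
    intro s t h
    have e1 := congrArg (fun v => f v x) h
    have e2 := congrArg (fun v => f v y) h
    simp only [hf.add_left, hf.smul_left, hxy, hf.comm' y x, mul_zero, add_zero, zero_add, hf.zero_left] at e1 e2
    exact ⟨(mul_eq_zero.1 e1).resolve_right hx, (mul_eq_zero.1 e2).resolve_right hy⟩
  have hN : fixsp (-D) = Submodule.span F (Set.range ![x, y]) := by
    refine le_antisymm (fun v hv => ?_) (Submodule.span_le.2 ?_)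
    · have h := mem_fixsp_neg.1 hv
      rw [hD, S.mm_apply hx hy hxy] at h
      rw [Matrix.range_cons, Matrix.range_cons, Matrix.range_empty, Set.union_empty, Set.singleton_union,
        Submodule.mem_span_pair]
      refine ⟨f v x / f x x, f v y / f y y, ?_⟩
      refine smul_right_injective _ S.two ?_
      show (2 : F) • _ = (2 : F) • v
      linear_combination (norm := module) -h
    · rintro _ ⟨a, rfl⟩
      fin_cases a
      · exact mem_fixsp_neg.2 (S.mm_left hx hy hxy)
      · exact mem_fixsp_neg.2 (S.mm_right hx hy hxy)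
  have := S.eig_sum hDD
  rw [hN, finrank_span_eq_card hli, Fintype.card_fin] at this
  omega

end Sl

namespace Sl

variable (S : Sl f κ)
include S

theorem isPl_exists_mr {T : GL (Fin k) F} (hT : IsPl f T) :
    ∃ x y, f x x ≠ 0 ∧ f y y ≠ 0 ∧ f x y = 0 ∧ T = mr S.hf x * mr S.hf y := by
  obtain ⟨hi, hTT, hd⟩ := hT
  have hf := S.hf
  have hN := S.eig_nd (A := -T) (by rw [neg_mul_neg, hTT]) (S.neg_isom hi)
  have hs := S.eig_sum hTT
  obtain ⟨x, hx, hxx⟩ := S.aniso_in hN (S.ne_bot_of (by omega))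
  obtain ⟨hn, hd'⟩ := S.perp_step hN hx hxx
  obtain ⟨y, hy, hyy⟩ := S.aniso_in hn (S.ne_bot_of (by omega))
  obtain ⟨hy1, hy2⟩ := Submodule.mem_inf.1 hy
  rw [mem_prp] at hy2
  have hxy : f x y = 0 := by rw [hf.comm', hy2]
  obtain ⟨hn2, hd2⟩ := S.perp_step hn hy hyy
  refine ⟨x, y, hxx, hyy, hxy, ext_mv fun v => ?_⟩
  set r := v - (f v x / f x x) • x - (f v y / f y y) • y with hr
  have hrx : f r x = 0 := by
    rw [hr, hf.sub_left, hf.sub_left, hf.smul_left, hf.smul_left, hy2, mul_zero, sub_zero, div_mul_cancel₀ _ hxx,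
      sub_self]
  have hry : f r y = 0 := by
    rw [hr, hf.sub_left, hf.sub_left, hf.smul_left, hf.smul_left, hxy, mul_zero, sub_zero, div_mul_cancel₀ _ hyy,
      sub_self]
  set b := r - mv T r with hb
  have hbN : mv T b = -b := by rw [hb, mv_sub, ← mv_mul, hTT, mv_one, neg_sub]
  have hTx := mem_fixsp_neg.1 hx
  have hTy := mem_fixsp_neg.1 hy1
  have hTr : ∀ z, mv T z = -z → f (mv T r) z = -f r z := fun z hz => by
    have := hi r z
    rw [hz, hf.neg_right] at this
    linear_combination -this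
  have hb0 : b = 0 := by
    have hb1 : b ∈ fixsp (-T) ⊓ LinearMap.ker (hf.formL x) :=
      Submodule.mem_inf.2 ⟨mem_fixsp_neg.2 hbN, (mem_prp hf).2 (by rw [hb, hf.sub_left, hTr x hTx, hrx]; ring)⟩
    have hb2 : b ∈ fixsp (-T) ⊓ LinearMap.ker (hf.formL x) ⊓ LinearMap.ker (hf.formL y) :=
      Submodule.mem_inf.2 ⟨hb1, (mem_prp hf).2 (by rw [hb, hf.sub_left, hTr y hTy, hry]; ring)⟩
    by_contra hb0
    have h1 : Module.finrank F (Submodule.span F ({x, y, b} : Set (Fin k → F))) ≤
        Module.finrank F (fixsp (-T)) := Submodule.finrank_mono (Submodule.span_le.2 (by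
      intro z hz
      rcases hz with rfl | rfl | rfl
      · exact hx
      · exact hy1
      · exact mem_fixsp_neg.2 hbN))
    have hli : LinearIndependent F ![x, y, b] := by
      rw [Fintype.linearIndependent_iff]
      intro g hg
      simp only [Fin.sum_univ_three, Matrix.cons_val] at hg
      obtain ⟨-, hbx⟩ := Submodule.mem_inf.1 hb1
      obtain ⟨-, hby⟩ := Submodule.mem_inf.1 hb2
      rw [mem_prp] at hbx hby
      have e1 := congrArg (fun v => f v x) hg
      have e2 := congrArg (fun v => f v y) hg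
      simp only [hf.add_left, hf.smul_left, hxy, hy2, hbx, hby, mul_zero, add_zero, zero_add, hf.zero_left] at e1 e2
      have g0 := (mul_eq_zero.1 e1).resolve_right hxx
      have g1 := (mul_eq_zero.1 e2).resolve_right hyy
      rw [g0, g1, zero_smul, zero_smul, zero_add, zero_add] at hg
      have g2 := (smul_eq_zero.1 hg).resolve_right hb0
      intro a
      fin_cases a <;> assumption
    have h3 := finrank_span_eq_card hli
    rw [show Set.range ![x, y, b] = ({x, y, b} : Set (Fin k → F)) by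
      rw [Matrix.range_cons, Matrix.range_cons, Matrix.range_cons, Matrix.range_empty, Set.union_empty,
        Set.singleton_union, Set.singleton_union], Fintype.card_fin] at h3
    omega
  rw [hb, sub_eq_zero] at hb0
  rw [S.mm_apply hxx hyy hxy, show v = r + (f v x / f x x) • x + (f v y / f y y) • y by rw [hr]; abel, mv_add,
    mv_add, mv_smul, mv_smul, ← hb0, hTx, hTy]
  simp only [hf.add_left, hf.smul_left, hrx, hry, hxy, hy2, mul_zero, add_zero, zero_add]
  match_scalars <;> field_simp <;> ring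

end Sl

namespace Ctx

variable {Q : ((J → Fin k) → F) → F} {X : Subgroup (GL (J → Fin k) F)} (C : Ctx f Q κ X)
include C

theorem fac_pl {T : GL (Fin k) F} (hT : IsPl f T) (i : J) : fac i T ∈ X := by
  obtain ⟨x, y, hx, hy, -, rfl⟩ := C.toSl.isPl_exists_mr hT
  exact C.mm i x y hx hy

end Ctx

end Cfsg.Agent.OrthEvenWreath
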