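/-
Tensor powers of a symmetric form of even dimension: involutions of one and of two slots.
-/
import Cfsg.Agent.Lib.OrthWreathEven.Plane

set_option autoImplicit false
set_option linter.unusedSectionVars false

namespace Cfsg.Agent.OrthEvenWreath

open scoped Matrix
open Matrix Cfsg.Agent.Transvec Cfsg.Agent.TensorMax Cfsg.Agent.WreathMax
open Cfsg.Agent.FormWreath hiding up mv_up_ins
open Cfsg.Agent.OrthWreath hiding Sl Ctx Base Ind Inv Gd fixsp_mir small_mir split_sim rho_omega fix_line_mono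
  exists_noncomm

variable {F : Type*} [Field F] [Finite F] {k : ℕ} {J : Type} [Fintype J] [DecidableEq J]
variable {f : (Fin k → F) → (Fin k → F) → F} {κ : F}

local notation "σ₁" => RingEquiv.refl F

/-- Maps of one slot commuting with all linear maps. -/
def Ctl (A : GL (Fin k) F) : Prop := ∀ T : GL (Fin k) F, A * T = T * A

theorem ctl_of_scalar {A : GL (Fin k) F} {τ : F} (h : ∀ v, mv A v = τ • v) : Ctl A := fun T =>
  ext_mv fun v => by rw [mv_mul, mv_mul, h, h, mv_smul]

theorem fac_slot (hk : 0 < k) {a b : J} {A B : GL (Fin k) F} (hA : ¬ Ctl A) (h : fac a A = fac b B) : a = b := by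
  by_contra hne
  obtain ⟨τ, hτ⟩ := fac_eq_fac hk hne h
  exact hA (ctl_of_scalar hτ)

theorem facs_ne (hk : 0 < k) {a c j : J} (hac : a ≠ c) {A B M : GL (Fin k) F} (hA : ¬ Ctl A) (hB : ¬ Ctl B) :
    fac a A * fac c B ≠ fac j M := fun h => by
  by_cases hj : j = a
  · refine hB fun T => central_of_comm hk (a := c) (R := fac a A) (fun T => fac_comm hac _ _) (fun T => ?_) T
    rw [fac_comm hac.symm, h]
    exact fac_comm (hj ▸ hac) _ _
  · refine hA fun T => central_of_comm hk (a := a) (R := fac c B) (fun T => fac_comm hac.symm _ _) (fun T => ?_) T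
    rw [h]
    exact fac_comm hj _ _

/-- The slots of a product in two slots. -/
theorem facs_slot (hk : 0 < k) {a c p p' : J} (hac : a ≠ c) {A B P P' : GL (Fin k) F} (hA : ¬ Ctl A)
    (h : fac a A * fac c B = fac p P * fac p' P') : p = a ∨ p' = a := by
  by_contra hne
  push Not at hne
  refine hA fun T => central_of_comm hk (a := a) (R := fac c B) (fun T => fac_comm hac.symm _ _) (fun T => ?_) T
  rw [h, mul_assoc, fac_comm hne.2, ← mul_assoc, fac_comm hne.1, mul_assoc]

theorem facs_central (hk : 0 < k) {a c p' : J} (hac : a ≠ c) (hap : a ≠ p') {A B P P' : GL (Fin k) F}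
    (h : fac a A * fac c B = fac a P * fac p' P') : Ctl (P⁻¹ * A) := fun T => by
  have h1 : fac a (P⁻¹ * A) = fac p' P' * fac c B⁻¹ := by
    rw [← fac_inv, eq_mul_inv_iff_mul_eq, fac_mul, mul_assoc, h, ← fac_inv, inv_mul_cancel_left]
  refine fac_inj hk a ?_
  rw [fac_mul, fac_mul _ T, h1, mul_assoc, show fac c B⁻¹ * fac a T = fac a T * fac c B⁻¹ from fac_comm hac.symm _ _,
    ← mul_assoc, ← mul_assoc, show fac p' P' * fac a T = fac a T * fac p' P' from fac_comm hap.symm _ _]

/-- The transport of a member of one slot by a monomial map. -/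
theorem conj_slot {h : GL (J → Fin k) F} {π : Equiv.Perm J} {A : J → GL (Fin k) F}
    (hA : ∀ x, mv h (pten x) = pten fun j => mv (A j) (x (π j))) (a : J) (T : GL (Fin k) F) :
    h * fac a T * h⁻¹ = fac (π⁻¹ a) (A (π⁻¹ a) * T * (A (π⁻¹ a))⁻¹) := by
  rw [mul_inv_eq_iff_eq_mul]
  refine ext_pten fun x => ?_
  rw [mv_mul, mv_mul, mv_fac, hA, hA, mv_fac]
  refine congrArg pten (funext fun j => ?_)
  by_cases hj : j = π⁻¹ a
  · subst hj
    rw [Function.update_self, Equiv.Perm.coe_inv, Equiv.apply_symm_apply, Function.update_self, mv_mul, mv_mul,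
      mv_inv_mv]
  · rw [Function.update_of_ne hj, Function.update_of_ne fun e => hj (by rw [← e, Equiv.Perm.coe_inv,
      Equiv.symm_apply_apply])]

namespace Sl

variable (S : Sl f κ)
include S

theorem not_ctl {A : GL (Fin k) F} (hA : A * A = 1) (hi : ∀ u v, f (mv A u) (mv A v) = f u v) (h1 : A ≠ 1)
    (h2 : A ≠ -1) : ¬ Ctl A := fun hc => by
  obtain ⟨x, hx, hxx⟩ := S.exists_neg hA hi h1
  obtain ⟨u, hu, huu⟩ := S.exists_neg (A := -A) (by rw [neg_mul_neg, hA]) (S.neg_isom hi)
    fun e => h2 (by rw [← e, neg_neg])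
  rw [mv_neg_gl, neg_inj] at hu
  obtain ⟨T, hT⟩ := exists_gl_of_injective (LinearMap.id + (S.hf.formL u).smulRight x) fun a b h => by
    simp only [LinearMap.add_apply, LinearMap.id_apply, LinearMap.smulRight_apply, SF.formL_apply] at h
    have h1 := congrArg (fun z => f z u) h
    have hxu : f x u = 0 := by rw [S.hf.comm']; exact S.eig_orth hi hu hx
    simp only [S.hf.add_left, S.hf.smul_left, hxu, mul_zero, add_zero] at h1
    rw [h1] at h
    exact add_right_cancel h
  have h2 := congrArg (fun g => mv g u) (hc T)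
  simp only [mv_mul, hT, hu, LinearMap.add_apply, LinearMap.id_apply, LinearMap.smulRight_apply, SF.formL_apply,
    mv_add, mv_smul, hx] at h2
  have h3 : (f u u * 2) • x = 0 := by linear_combination (norm := module) (-1 : F) • h2
  exact (smul_eq_zero.1 h3).elim (fun h => mul_ne_zero huu S.two h)
    fun e => hxx (by rw [e, S.hf.zero_left])

theorem fixsp_one : Module.finrank F (fixsp (1 : GL (Fin k) F)) = k := by
  rw [show fixsp (1 : GL (Fin k) F) = ⊤ from eq_top_iff.2 fun x _ => mem_fixsp.2 (mv_one x), S.finrank_top']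

theorem fixsp_neg_one : Module.finrank F (fixsp (-1 : GL (Fin k) F)) = 0 := by
  rw [show fixsp (-1 : GL (Fin k) F) = ⊥ from (Submodule.eq_bot_iff _).2 fun x hx => by
    rw [mem_fixsp_neg, mv_one] at hx
    refine (smul_eq_zero.1 (?_ : (2 : F) • x = 0)).resolve_left S.two
    linear_combination (norm := module) hx, finrank_bot]

theorem isPl_ne {T : GL (Fin k) F} (hT : IsPl f T) : T ≠ 1 ∧ T ≠ -1 := by
  have hk := S.hk
  have hd := hT.2.2
  constructor <;> rintro rfl
  · rw [S.fixsp_one] at hd; omega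
  · rw [S.fixsp_neg_one] at hd; omega

theorem isPl_ctl {T : GL (Fin k) F} (hT : IsPl f T) : ¬ Ctl T :=
  S.not_ctl hT.2.1 hT.1 (S.isPl_ne hT).1 (S.isPl_ne hT).2

theorem isPl_fix {T : GL (Fin k) F} (hT : IsPl f T) : Module.finrank F (fixsp (-T)) = 2 := by
  have := S.eig_sum hT.2.1
  have := hT.2.2
  omega

/-- Mirrors of orthogonal vectors commute. -/
theorem mr_comm' {x z : Fin k → F} (hx : f x x ≠ 0) (hz : f z z ≠ 0) (hxz : f x z = 0) :
    mr S.hf x * mr S.hf z = mr S.hf z * mr S.hf x := by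
  have h := mr_conj S.hf (mr_isom S.hf hx) hz
  rw [mr_perp S.hf hx (by rw [S.hf.comm', hxz]), ← neg_one_smul F z, mr_smul S.hf hz (neg_ne_zero.2 one_ne_zero),
    mul_inv_eq_iff_eq_mul] at h
  exact h

/-- Planes of a pair of involutions with the same slot. -/
theorem facs_pl (h6 : 6 ≤ k) {a c p' : J} (hac : a ≠ c) (hap : a ≠ p') {A B P P' : GL (Fin k) F} (hA : IsPl f A)
    (hP : IsPl f P) (h : fac a A * fac c B = fac a P * fac p' P') : P = A := by
  have hk : 0 < k := by omega
  have hC : Ctl (P⁻¹ * A) := facs_central hk hac hap h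
  have hPi : P⁻¹ = P := inv_eq_of_mul_eq_one_right hP.2.1
  set T := P⁻¹ * A
  have hAT : A = P * T := by rw [mul_inv_cancel_left]
  have hTT : T * T = 1 := by
    have h1 := hA.2.1
    rw [hAT, mul_assoc, ← mul_assoc T, hC P, mul_assoc P T, ← mul_assoc P, hP.2.1, one_mul] at h1
    exact h1
  have hTi : ∀ u v, f (mv T u) (mv T v) = f u v := fun u v => by
    show f (mv (P⁻¹ * A) u) (mv (P⁻¹ * A) v) = _
    rw [hPi, mv_mul, mv_mul, hP.1, hA.1]
  by_cases h1 : T = 1
  · rw [hAT, h1, mul_one]
  exfalso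
  by_cases h2 : T = -1
  · rw [h2, mul_neg, mul_one] at hAT
    have := hA.2.2
    rw [hAT, S.isPl_fix hP] at this
    omega
  exact S.not_ctl hTT hTi h1 h2 hC

end Sl

end Cfsg.Agent.OrthEvenWreath
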