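/-
Tensor powers of a symmetric form of dimension four without totally isotropic planes: members of order p, planes.
-/
import Cfsg.Agent.Lib.OrthWreathEven.Slot

set_option autoImplicit false
set_option linter.unusedSectionVars false

namespace Cfsg.Agent.OrthEvenWreath

open scoped Matrix
open Matrix Cfsg.Agent.Transvec Cfsg.Agent.TensorMax Cfsg.Agent.WreathMax
open Cfsg.Agent.FormWreath hiding up mv_up_ins
open Cfsg.Agent.OrthWreath hiding Sl Ctx Base Ind Inv Gd fixsp_mir small_mir split_sim rho_omega fix_line_mono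
  exists_noncomm
open Cfsg.Agent.UWreath (mono_mul mono_inv)

variable {F : Type*} [Field F] [Finite F] {k : ℕ} {J : Type} [Fintype J] [DecidableEq J]
variable {f : (Fin k → F) → (Fin k → F) → F} {κ : F}

local notation "σ₁" => RingEquiv.refl F

/-! ### Unipotent maps -/

/-- The last image outside a subspace along a nilpotent map. -/
theorem nil_last {V : Type*} (N : V → V) (S : V → Prop) (hS : ∀ v, S v → S (N v)) (P : V → Prop) :
    ∀ (n : ℕ) (x : V), P (N^[n] x) → S x → ¬ P (N x) → ∃ y, S y ∧ ¬ P (N y) ∧ (P (N (N y)) ∨ P y) := by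
  intro n
  induction n with
  | zero => intro x h hx hP; exact ⟨x, hx, hP, Or.inr h⟩
  | succ n ih =>
    intro x h hx hP
    by_cases h2 : P (N (N x))
    · exact ⟨x, hx, hP, Or.inl h2⟩
    · exact ih (N x) h (hS x hx) h2

/-- Maps of order p are unipotent. -/
theorem unip_iter {p : ℕ} [CharP F p] (hp : p.Prime) (hk : 0 < k) {T : GL (Fin k) F} (hT : T ^ p = 1)
    (x : Fin k → F) : (fun v => mv T v - v)^[p] x = 0 := by
  haveI : Fact p.Prime := ⟨hp⟩
  haveI : Nonempty (Fin k) := ⟨⟨0, hk⟩⟩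
  have e : ∀ n, (fun v => mv T v - v)^[n] x = ((T : Matrix (Fin k) (Fin k) F) - 1) ^ n *ᵥ x := fun n => by
    induction n with
    | zero => rw [Function.iterate_zero_apply, pow_zero, Matrix.one_mulVec]
    | succ n ih =>
      rw [Function.iterate_succ_apply', ih, pow_succ', ← Matrix.mulVec_mulVec, Matrix.sub_mulVec, Matrix.one_mulVec]
  rw [e, sub_pow_char_of_commute _ (Commute.one_right _), one_pow, ← Units.val_pow_eq_pow_val, hT, Units.val_one,
    sub_self, Matrix.zero_mulVec]

namespace Sl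

variable (S : Sl f κ)
include S

/-- Isotropic vectors orthogonal to an isotropic line lie on it, in dimension four. -/
theorem perp_iso (h4 : k = 4) {c v : Fin k → F} (hc0 : c ≠ 0) (hc : f c c = 0) (hvc : f v c = 0) (hv : f v v = 0) :
    ∃ a : F, v = a • c := by
  have hf := S.hf
  obtain ⟨d, hd, hcd⟩ := S.exists_pair hc0 hc
  refine ⟨f v d, sub_eq_zero.1 (S.mnus h4 c d _ hc hd hcd ?_ ?_ ?_)⟩
  · rw [hf.sub_left, hf.smul_left, hvc, hc, mul_zero, sub_zero]
  · rw [hf.sub_left, hf.smul_left, hcd, mul_one, sub_self]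
  · simp only [hf.sub_left, hf.sub_right, hf.smul_left, hf.smul_right', hv, hc, hvc, hf.comm' c v, mul_zero,
      sub_zero]

/-- A frame through an isotropic vector and an anisotropic vector orthogonal to it. -/
theorem frame_four (h4 : k = 4) {c w : Fin k → F} (hc0 : c ≠ 0) (hc : f c c = 0) (hwc : f w c = 0) (hw : f w w ≠ 0) :
    ∃ d z, f d d = 0 ∧ f c d = 1 ∧ f w d = 0 ∧ f z c = 0 ∧ f z d = 0 ∧ f z w = 0 ∧ f z z ≠ 0 ∧
      ∀ v, v = f v d • c + f v c • d + (f v w / f w w) • w + (f v z / f z z) • z := by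
  have hf := S.hf
  have h2 := S.two
  obtain ⟨d₀, hd₀, hcd₀⟩ := S.exists_pair hc0 hc
  set a := -(f w d₀) / f w w
  set d := d₀ + a • w + (-(a * a * f w w + 2 * a * f w d₀) / 2) • c with hdd
  have hcw : f c w = 0 := by rw [hf.comm', hwc]
  have hd₀c : f d₀ c = 1 := by rw [hf.comm', hcd₀]
  have hd : f d d = 0 := by
    simp only [hdd, hf.add_left, hf.add_right, hf.smul_left, hf.smul_right', hd₀, hc, hcw, hwc, hcd₀, hd₀c,
      hf.comm' d₀ w, mul_zero, zero_add, add_zero, mul_one]
    field_simp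
    ring
  have hcd : f c d = 1 := by
    simp only [hdd, hf.add_right, hf.smul_right', hcd₀, hc, hcw, mul_zero, add_zero]
  have hwd : f w d = 0 := by
    simp only [hdd, hf.add_right, hf.smul_right', hwc, mul_zero, add_zero, a]
    field_simp
    ring
  obtain ⟨z, hzc, hzd, hzw, hz⟩ := S.exists_W_perp hc hd hcd hwc hwd hw
  refine ⟨d, z, hd, hcd, hwd, hzc, hzd, hzw, hz, fun v => ?_⟩
  set r := v - (f v d • c + f v c • d + (f v w / f w w) • w + (f v z / f z z) • z) with hr
  have hdc : f d c = 1 := by rw [hf.comm', hcd]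
  have e1 : f r c = 0 := by
    simp only [hr, hf.sub_left, hf.add_left, hf.smul_left, hc, hdc, hwc, hzc, mul_zero, mul_one, add_zero, zero_add,
      sub_self]
  have e2 : f r d = 0 := by
    simp only [hr, hf.sub_left, hf.add_left, hf.smul_left, hd, hcd, hwd, hzd, mul_zero, mul_one, add_zero, zero_add,
      sub_self]
  have e3 : f r w = 0 := by
    simp only [hr, hf.sub_left, hf.add_left, hf.smul_left, hcw, hf.comm' d w, hwd, hzw, mul_zero, add_zero, zero_add,
      div_mul_cancel₀ _ hw, sub_self]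
  have e4 : f r z = 0 := by
    simp only [hr, hf.sub_left, hf.add_left, hf.smul_left, hf.comm' c z, hzc, hf.comm' d z, hzd, hf.comm' w z, hzw,
      mul_zero, add_zero, zero_add, div_mul_cancel₀ _ hz, sub_self]
  have hr0 : r = 0 := by
    by_cases hrr : f r r = 0
    · exact S.mnus h4 c d r hc hd hcd e1 e2 hrr
    exfalso
    obtain ⟨x, y, hxy⟩ := S.exists_comb hw hz (by rw [hf.comm', hzw]) (-f r r)
    have h0 := S.mnus h4 c d (r + (x • w + y • z)) hc hd hcd
      (by simp only [hf.add_left, hf.smul_left, e1, hwc, hzc, mul_zero, add_zero])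
      (by simp only [hf.add_left, hf.smul_left, e2, hwd, hzd, mul_zero, add_zero])
      (by
        rw [hf.add_left, hf.add_right r, hf.add_right (x • w + y • z), hxy,
          show f (x • w + y • z) r = 0 by simp only [hf.add_left, hf.smul_left, hf.comm' w r, e3, hf.comm' z r, e4,
            mul_zero, add_zero],
          show f r (x • w + y • z) = 0 by simp only [hf.add_right, hf.smul_right', e3, e4, mul_zero, add_zero]]
        ring)
    have := congrArg (fun u => f u r) h0
    simp only [hf.add_left, hf.smul_left, hf.comm' w r, e3, hf.comm' z r, e4, mul_zero, add_zero, hf.zero_left] at this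
    exact hrr this
  rw [hr, sub_eq_zero] at hr0
  exact hr0

/-- Isometries of order p other than one are root members, in dimension four. -/
theorem unip_root (h4 : k = 4) {p : ℕ} [CharP F p] (hp : p.Prime) {T : GL (Fin k) F}
    (hi : ∀ u v, f (mv T u) (mv T v) = f u v) (hT : T ^ p = 1) (hne : T ≠ 1) :
    ∃ c w, c ≠ 0 ∧ f c c = 0 ∧ f w c = 0 ∧ f w w ≠ 0 ∧ T = eA S.hf c w := by
  have hf := S.hf
  have h2 := S.two
  have hk : 0 < k := by omega
  set N : (Fin k → F) → Fin k → F := fun v => mv T v - v with hN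
  have hN0 : N 0 = 0 := by rw [hN]; simp [mv_zero]
  obtain ⟨x, hx⟩ : ∃ x, N x ≠ 0 := by
    by_contra h
    push Not at h
    exact hne (ext_mv fun v => by rw [mv_one]; exact sub_eq_zero.1 (h v))
  obtain ⟨y, -, hy, hy'⟩ := nil_last N (fun _ => True) (fun _ _ => trivial) (fun v => v = 0) p x
    (unip_iter hp hk hT x) trivial hx
  have hyN : N (N y) = 0 := hy'.resolve_right fun e => hy (by show N y = 0; rw [show y = 0 from e, hN0])
  set c := N y with hcd
  have hTc : mv T c = c := sub_eq_zero.1 hyN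
  have hperp : ∀ v u, mv T u = u → f (N v) u = 0 := fun v u hu => by
    show f (mv T v - v) u = 0
    rw [hf.sub_left]
    nth_rw 1 [← hu]
    rw [hi, sub_self]
  have hcc : f c c = 0 := hperp y c hTc
  have hNc : ∀ v, f v c = 0 → ∃ a : F, N v = a • c := fun v hv => by
    by_contra hcon
    obtain ⟨u, hu, hu1, hu2⟩ := nil_last N (fun v => f v c = 0) (fun v _ => hperp v c hTc)
      (fun v => ∃ a : F, v = a • c) p v ⟨0, by rw [unip_iter hp hk hT, zero_smul]⟩ hv hcon
    have hu3 : ∃ a : F, N (N u) = a • c := hu2.resolve_right fun ⟨a, ha⟩ => hu1 ⟨0, by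
      show mv T u - u = _
      rw [ha, mv_smul, hTc, sub_self, zero_smul]⟩
    obtain ⟨a, ha⟩ := hu3
    refine hu1 (S.perp_iso h4 hy hcc (hperp u c hTc) ?_)
    have e1 : mv T (N u) = N u + a • c := sub_eq_iff_eq_add'.1 ha
    have e2 := hi u (N u)
    rw [e1, hf.add_right, hf.smul_right', show f (mv T u) c = 0 by rw [← hTc, hi, hu], mul_zero, add_zero] at e2
    show f (N u) (N u) = 0
    calc f (N u) (N u) = f (mv T u - u) (N u) := rfl
      _ = 0 := by rw [hf.sub_left, e2, sub_self]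
  obtain ⟨d₀, hd₀, hcd₀⟩ := S.exists_pair hy hcc
  obtain ⟨w, hwc, -, hw⟩ := S.exists_W_aniso hcc hd₀ hcd₀
  obtain ⟨d, z, hd, hcd', hwd, hzc, hzd, hzw, hz, hdec⟩ := S.frame_four h4 hy hcc hwc hw
  obtain ⟨α, hα⟩ := hNc w hwc
  obtain ⟨β, hβ⟩ := hNc z hzc
  set w₀ := (-α / f w w) • w + (-β / f z z) • z with hw₀
  have hw₀c : f w₀ c = 0 := by
    simp only [hw₀, hf.add_left, hf.smul_left, hwc, hzc, mul_zero, add_zero]
  have hww₀ : f w w₀ = -α := by
    simp only [hw₀, hf.add_right, hf.smul_right', hf.comm' w z, hzw, mul_zero, add_zero, div_mul_cancel₀ _ hw]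
  have hzw₀ : f z w₀ = -β := by
    simp only [hw₀, hf.add_right, hf.smul_right', hzw, mul_zero, zero_add, div_mul_cancel₀ _ hz]
  set E := eA hf c w₀
  have hEi := eA_isom hf h2 hcc hw₀c
  have hEw : ∀ v, f v c = 0 → mv E v = v - f v w₀ • c := fun v hv => eA_fix_perp hf h2 hcc hw₀c hv
  have hw1 : mv T w = mv E w := by
    rw [hEw w hwc, hww₀]
    have : mv T w - w = α • c := hα
    rw [neg_smul, sub_neg_eq_add, ← this]
    abel
  have hz1 : mv T z = mv E z := by
    rw [hEw z hzc, hzw₀]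
    have : mv T z - z = β • c := hβ
    rw [neg_smul, sub_neg_eq_add, ← this]
    abel
  have hc1 : mv T c = mv E c := by rw [hTc, hEw c hcc, hf.comm' c w₀, hw₀c, zero_smul, sub_zero]
  set T' := E⁻¹ * T with hT'
  have hfix : ∀ v, mv T v = mv E v → mv T' v = v := fun v h => by rw [hT', mv_mul, h, mv_inv_mv]
  have hT'i : ∀ u v, f (mv T' u) (mv T' v) = f u v := fun u v => by
    rw [← hEi (mv T' u) (mv T' v), hT', mv_mul, mv_mul, mv_mv_inv, mv_mv_inv, hi]
  have hd1 : mv T' d = d := by
    have e1 : f (mv T' d) c = 1 := by rw [← hfix c hc1, hT'i, hf.comm', hcd']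
    have e2 : f (mv T' d) w = 0 := by rw [← hfix w hw1, hT'i, hf.comm', hwd]
    have e3 : f (mv T' d) z = 0 := by rw [← hfix z hz1, hT'i, hf.comm', hzd]
    have h := hdec (mv T' d)
    rw [e1, e2, e3, zero_div, zero_div, zero_smul, zero_smul, add_zero, add_zero, one_smul] at h
    have e4 := hT'i d d
    rw [hd, h] at e4
    simp only [hf.add_left, hf.add_right, hf.smul_left, hf.smul_right', hcc, hd, hcd', hf.comm' d c, mul_zero, mul_one,
      add_zero, zero_add] at e4
    have e5 : f (mv T' d) d = 0 := (mul_eq_zero.1 (by linear_combination e4 : (2 : F) * f (mv T' d) d = 0)).resolve_left h2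
    rw [h, e5, zero_smul, zero_add]
  have hT1 : T = E := ext_mv fun v => by
    have : mv T' v = v := by
      conv_lhs => rw [hdec v]
      rw [mv_add, mv_add, mv_add, mv_smul, mv_smul, mv_smul, mv_smul, hfix c hc1, hd1, hfix w hw1, hfix z hz1,
        ← hdec v]
    conv_rhs => rw [← this, hT', mv_mul, mv_mv_inv]
  refine ⟨c, w₀, hy, hcc, hw₀c, fun e => hne ?_, hT1⟩
  obtain ⟨a, ha⟩ := S.perp_iso h4 hy hcc hw₀c e
  have : f w₀ d = 0 := by simp only [hw₀, hf.add_left, hf.smul_left, hwd, hzd, mul_zero, add_zero]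
  rw [ha, hf.smul_left, hcd', mul_one] at this
  rw [hT1]
  show eA hf c w₀ = 1
  rw [ha, this, zero_smul, eA_zero hf h2 hcc]

/-- Isometries of order p fixing two orthogonal anisotropic vectors are one. -/
theorem unip_fix (h4 : k = 4) {p : ℕ} [CharP F p] (hp : p.Prime) {T : GL (Fin k) F}
    (hi : ∀ u v, f (mv T u) (mv T v) = f u v) (hT : T ^ p = 1) {x y : Fin k → F} (hx : f x x ≠ 0) (hy : f y y ≠ 0)
    (hxy : f x y = 0) (hTx : mv T x = x) (hTy : mv T y = y) : T = 1 := by
  by_contra hne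
  obtain ⟨c, w, hc0, hc, hwc, hw, rfl⟩ := S.unip_root h4 hp hi hT hne
  have hf := S.hf
  obtain ⟨d, z, hd, hcd, hwd, hzc, hzd, hzw, hz, hdec⟩ := S.frame_four h4 hc0 hc hwc hw
  have key : ∀ v, mv (eA hf c w) v = v → f v c = 0 ∧ f v w = 0 := fun v hv => by
    rw [mv_eA hf S.two hc hwc, Elin_apply, Aop_Aop hf hc hwc hwc] at hv
    have h1 := congrArg (fun u => f u w) hv
    simp only [Aop_apply, Cop_apply, hf.add_left, hf.sub_left, hf.smul_left, hf.comm' c w, hwc, mul_zero, add_zero, sub_zero] at h1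
    have h3 : f v c = 0 := (mul_eq_zero.1 (by linear_combination h1 : f v c * f w w = 0)).resolve_right hw
    refine ⟨h3, ?_⟩
    have h4' := congrArg (fun u => f u d) hv
    simp only [Aop_apply, Cop_apply, hf.add_left, hf.sub_left, hf.smul_left, h3, hcd, hwd, mul_zero, zero_mul, mul_one, zero_sub,
      add_zero] at h4'
    linear_combination -h4'
  obtain ⟨hxc, hxw⟩ := key x hTx
  obtain ⟨hyc, hyw⟩ := key y hTy
  have h1 := hdec x
  have h2 := hdec y
  rw [hxc, hxw, zero_div, zero_smul, zero_smul, add_zero, add_zero] at h1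
  rw [hyc, hyw, zero_div, zero_smul, zero_smul, add_zero, add_zero] at h2
  have hxy' := hxy
  rw [h1, h2] at hxy'
  simp only [hf.add_left, hf.add_right, hf.smul_left, hf.smul_right', hc, hzc, hf.comm' c z, mul_zero, zero_add,
    add_zero] at hxy'
  rcases mul_eq_zero.1 hxy' with e | e
  · refine hx ?_
    rw [h1, e, zero_smul, add_zero, hf.smul_left, hf.smul_right', hc, mul_zero, mul_zero]
  · refine hy ?_
    rw [h2, (mul_eq_zero.1 e).resolve_right hz, zero_smul, add_zero, hf.smul_left, hf.smul_right', hc, mul_zero,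
      mul_zero]

end Sl

variable {Q : ((J → Fin k) → F) → F} {X : Subgroup (GL (J → Fin k) F)}

namespace Ctx

variable (C : Ctx f Q κ X) (hJ : 2 ≤ Fintype.card J) (hX : ¬ Geo.omegaGL Q ≤ X) (B : Base f Q κ) (IH : Ind f κ J)
include C hJ hX B IH

/-- Members fixing two orthogonal anisotropic lines pointwise are monomial, in dimension four. -/
theorem plane_group (h4 : k = 4) {g : GL (J → Fin k) F} (hg : g ∈ X) {i : J} {x y : Fin k → F} (hx : f x x ≠ 0)
    (hy : f y y ≠ 0) (hxy : f x y = 0) (hgx : ∀ u, mv g (ins i x u) = ins i x u)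
    (hgy : ∀ u, mv g (ins i y u) = ins i y u) : Mono g := by
  classical
  have hf := C.hf
  have hk : 0 < k := by omega
  obtain ⟨p, hp⟩ := CharP.exists F
  haveI := hp
  haveI : Fintype F := Fintype.ofFinite F
  have hpp : p.Prime := CharP.char_is_prime F p
  obtain ⟨m, hm⟩ := Fintype.exists_ne_of_one_lt_card (α := J) (by omega) i
  let G : Subgroup (GL (J → Fin k) F) :=
    { carrier := {v | v ∈ X ∧ (∀ u, mv v (ins i x u) = ins i x u) ∧ ∀ u, mv v (ins i y u) = ins i y u}
      one_mem' := ⟨X.one_mem, fun u => mv_one _, fun u => mv_one _⟩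
      mul_mem' := fun {a b} ha hb => ⟨X.mul_mem ha.1 hb.1, fun u => by rw [mv_mul, hb.2.1, ha.2.1],
        fun u => by rw [mv_mul, hb.2.2, ha.2.2]⟩
      inv_mem' := fun {a} ha => ⟨X.inv_mem ha.1, fun u => by rw [mv_eq_iff, inv_inv, ha.2.1],
        fun u => by rw [mv_eq_iff, inv_inv, ha.2.2]⟩ }
  refine C.gp hJ hX B IH G (fun v hv => hv.1) m (fun c w hc hw v hv => ?_) p (fun v hv hmono hvp => ?_) g
    ⟨hg, hgx, hgy⟩
  · set e := fac m (eA hf c w) with he
    have hins : ∀ (z : Fin k → F) r, mv e (ins i z r) =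
        ins i z (mv (fac (⟨m, hm⟩ : {j // j ≠ i}) (eA hf c w)) r) := fun z r => mv_fac_other hm _ z r
    have hins' : ∀ (z : Fin k → F) r, mv e⁻¹ (ins i z r) =
        ins i z (mv (fac (⟨m, hm⟩ : {j // j ≠ i}) (eA hf c w)⁻¹) r) := fun z r => by
      rw [he, fac_inv]; exact mv_fac_other hm _ z r
    refine ⟨X.mul_mem (X.mul_mem (C.root m c w hc hw) hv.1) (X.inv_mem (C.root m c w hc hw)), fun r => ?_,
      fun r => ?_⟩
    · rw [mv_mul, mv_mul, hins', hv.2.1, hins, ← mv_mul, ← fac_mul, mul_inv_cancel, fac_one, mv_one]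
    · rw [mv_mul, mv_mul, hins', hv.2.2, hins, ← mv_mul, ← fac_mul, mul_inv_cancel, fac_one, mv_one]
  · obtain ⟨T, rfl, hTx, hTi⟩ := fix_line_mono C.toSl hmono (C.pres (C.iso hv.1))
      (fun e => hx (by rw [e, hf.zero_left])) hv.2.1
    obtain ⟨u₀, hu₀⟩ := rest_vec_ne (F := F) hk i
    have hTy : mv T y = y := by
      have := hv.2.2 u₀
      rw [mv_fac_ins] at this
      exact ins_vec_inj hu₀ this
    rw [fac_pow, fac_one_iff hk] at hvp
    rw [C.toSl.unip_fix h4 hpp hTi hvp hx hy hxy hTx hTy, fac_one]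

end Ctx

end Cfsg.Agent.OrthEvenWreath
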