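/-
Tensor powers of a symmetric form of dimension four without totally isotropic planes: plane involutions.
-/
import Cfsg.Agent.Lib.OrthWreathEven.FourBase

set_option autoImplicit false
set_option linter.unusedSectionVars false

namespace Cfsg.Agent.OrthEvenWreath

open scoped Matrix
open Matrix Cfsg.Agent.Transvec Cfsg.Agent.TensorMax Cfsg.Agent.WreathMax
open Cfsg.Agent.FormWreath hiding up mv_up_ins
open Cfsg.Agent.OrthWreath hiding Sl Ctx Base Ind Inv Gd fixsp_mir small_mir split_sim rho_omega fix_line_mono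
  exists_noncomm

variable {F : Type*} [Field F] [Finite F] {k : ℕ} {J : Type} [Fintype J] [DecidableEq J]
variable {f : (Fin k → F) → (Fin k → F) → F} {κ : F}

local notation "σ₁" => RingEquiv.refl F

/-- The product of two nonsquares of a finite field of odd order is a square. -/
theorem isSquare_mul {F : Type*} [Field F] [Finite F] (h2 : (2 : F) ≠ 0) {a b : F} (ha : a ≠ 0) (hb : b ≠ 0)
    (hna : ¬ IsSquare a) (hnb : ¬ IsSquare b) : IsSquare (a * b) := by
  classical
  haveI : Fintype F := Fintype.ofFinite F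
  have hc : ringChar F ≠ 2 := fun e => h2 (by
    haveI : CharP F 2 := ringChar.eq_iff.1 e
    exact CharP.cast_eq_zero F 2)
  have key : ∀ x : F, x ≠ 0 → ¬ IsSquare x → x ^ (Fintype.card F / 2) = -1 := fun x hx hn =>
    (FiniteField.pow_dichotomy hc hx).resolve_left fun e => hn ((FiniteField.isSquare_iff hc hx).2 e)
  rw [FiniteField.isSquare_iff hc (mul_ne_zero ha hb), mul_pow, key a ha hna, key b hb hnb, neg_one_mul, neg_neg]

namespace Sl

variable (S : Sl f κ)
include S

theorem pl_neg (h4 : k = 4) {T : GL (Fin k) F} (hT : IsPl f T) : IsPl f (-T) :=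
  ⟨S.neg_isom hT.1, by rw [neg_mul_neg, hT.2.1], by rw [S.isPl_fix hT]; omega⟩

/-- A plane involution is determined by two orthogonal vectors that it negates. -/
theorem pl_ext {T : GL (Fin k) F} (hT : IsPl f T) {x y : Fin k → F} (hx : f x x ≠ 0) (hy : f y y ≠ 0)
    (hxy : f x y = 0) (hTx : mv T x = -x) (hTy : mv T y = -y) : T = mr S.hf x * mr S.hf y := by
  have hT' := S.isPl_mr hx hy hxy
  set T' := mr S.hf x * mr S.hf y
  have hle : fixsp (-T') ≤ fixsp (-T) := fun v hv => by
    have h := mem_fixsp_neg.1 hv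
    have h' := S.mm_apply hx hy hxy v
    change mv T' v = _ at h'
    rw [h] at h'
    rw [mem_fixsp_neg]
    have e : (2 : F) • v = (2 * f v x / f x x) • x + (2 * f v y / f y y) • y := by
      linear_combination (norm := module) -h'
    refine smul_right_injective (Fin k → F) S.two ?_
    show (2 : F) • mv T v = (2 : F) • -v
    rw [← mv_smul, smul_neg, e, mv_add, mv_smul, mv_smul, hTx, hTy]
    module
  have heq : fixsp (-T') = fixsp (-T) :=
    Submodule.eq_of_le_of_finrank_le hle (by rw [S.isPl_fix hT, S.isPl_fix hT'])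
  refine ext_mv fun v => ?_
  have h1 : v - mv T v ∈ fixsp (-T) := mem_fixsp_neg.2 (by rw [mv_sub, ← mv_mul, hT.2.1, mv_one, neg_sub])
  rw [← heq, mem_fixsp_neg, mv_sub] at h1
  have hf2 : mv T (v + mv T v) = v + mv T v := by rw [mv_add, ← mv_mul, hT.2.1, mv_one, add_comm]
  have h2 : mv T' (v + mv T v) = v + mv T v :=
    S.mm_perp hx hy hxy (S.eig_orth hT.1 hf2 hTx) (S.eig_orth hT.1 hf2 hTy)
  rw [mv_add] at h2
  refine smul_right_injective (Fin k → F) S.two ?_
  show (2 : F) • mv T v = (2 : F) • mv T' v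
  linear_combination (norm := module) -h1 - h2

/-- An isotropic pair inside the span of two orthogonal vectors of opposite square classes. -/
theorem hyp_span {x y : Fin k → F} (hx : f x x ≠ 0) (hy : f y y ≠ 0) (hxy : f x y = 0)
    (hs : IsSquare (-(f x x * f y y))) : ∃ x' y', f x' x' = 1 ∧ f y' y' = -1 ∧ f x' y' = 0 ∧
      x' ∈ Submodule.span F {x, y} ∧ y' ∈ Submodule.span F {x, y} := by
  have hf := S.hf
  have h2 := S.two
  obtain ⟨r, hr⟩ := hs
  set s := r / f x x
  have hs2 : s * s * f x x + f y y = 0 := by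
    simp only [s]
    field_simp
    linear_combination -hr
  have hr0 : r ≠ 0 := fun e => by
    rw [e, mul_zero, neg_eq_zero] at hr
    exact mul_ne_zero hx hy hr
  have hs0 : s ≠ 0 := div_ne_zero hr0 hx
  set u := (2 * (s * s * f x x))⁻¹
  have hu : 2 * (s * s * f x x) * u = 1 := mul_inv_cancel₀ (mul_ne_zero h2 (mul_ne_zero (mul_ne_zero hs0 hs0) hx))
  set c := s • x + y
  set d := u • (s • x - y)
  have hcc : f c c = 0 := by
    simp only [c, hf.add_left, hf.add_right, hf.smul_left, hf.smul_right', hxy, hf.comm' y x]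
    linear_combination hs2
  have hdd : f d d = 0 := by
    simp only [d, hf.sub_left, hf.sub_right, hf.smul_left, hf.smul_right', hxy, hf.comm' y x]
    linear_combination u * u * hs2
  have hcd : f c d = 1 := by
    simp only [c, d, hf.add_left, hf.sub_right, hf.smul_left, hf.smul_right', hxy, hf.comm' y x]
    linear_combination hu - u * hs2
  have hcm : c ∈ Submodule.span F {x, y} := Submodule.add_mem _
    (Submodule.smul_mem _ _ (Submodule.subset_span (by simp))) (Submodule.subset_span (by simp))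
  have hdm : d ∈ Submodule.span F {x, y} := Submodule.smul_mem _ _ (Submodule.sub_mem _
    (Submodule.smul_mem _ _ (Submodule.subset_span (by simp))) (Submodule.subset_span (by simp)))
  refine ⟨c + (2⁻¹ : F) • d, c - (2⁻¹ : F) • d, ?_, ?_, ?_, Submodule.add_mem _ hcm (Submodule.smul_mem _ _ hdm),
    Submodule.sub_mem _ hcm (Submodule.smul_mem _ _ hdm)⟩ <;>
    simp only [hf.add_left, hf.add_right, hf.sub_left, hf.sub_right, hf.smul_left, hf.smul_right', hcc, hdd, hcd,
      hf.comm' d c] <;> field_simp <;> ring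

theorem hyp_of_square {T : GL (Fin k) F} {x y : Fin k → F} (hT : IsPl f T) (hx : f x x ≠ 0) (hy : f y y ≠ 0)
    (hxy : f x y = 0) (hTx : mv T x = -x) (hTy : mv T y = -y) (hs : IsSquare (-(f x x * f y y))) :
    ∃ x' y', f x' x' = 1 ∧ f y' y' = -1 ∧ f x' y' = 0 ∧ T = mr S.hf x' * mr S.hf y' := by
  obtain ⟨x', y', h1, h2, h3, hx', hy'⟩ := S.hyp_span hx hy hxy hs
  have key : ∀ v ∈ Submodule.span F {x, y}, mv T v = -v := fun v hv => by
    obtain ⟨a, b, rfl⟩ := Submodule.mem_span_pair.1 hv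
    rw [mv_add, mv_smul, mv_smul, hTx, hTy, smul_neg, smul_neg, neg_add]
  exact ⟨x', y', h1, h2, h3, S.pl_ext hT (h1 ▸ one_ne_zero) (h2 ▸ neg_ne_zero.2 one_ne_zero) h3 (key x' hx')
    (key y' hy')⟩

/-- A plane involution or its negative negates a hyperbolic plane, in dimension four. -/
theorem hyp_or (h4 : k = 4) {T : GL (Fin k) F} (hT : IsPl f T) :
    ∃ x y, f x x = 1 ∧ f y y = -1 ∧ f x y = 0 ∧
      (T = mr S.hf x * mr S.hf y ∨ T = -(mr S.hf x * mr S.hf y)) := by
  have hf := S.hf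
  obtain ⟨x, y, hx, hy, hxy, hTe⟩ := S.isPl_exists_mr hT
  have hTx : mv T x = -x := by rw [hTe]; exact S.mm_left hx hy hxy
  have hTy : mv T y = -y := by rw [hTe]; exact S.mm_right hx hy hxy
  by_cases hs : IsSquare (-(f x x * f y y))
  · obtain ⟨x', y', h1, h2, h3, e⟩ := S.hyp_of_square hT hx hy hxy hTx hTy hs
    exact ⟨x', y', h1, h2, h3, Or.inl e⟩
  obtain ⟨z₀, w₀, hz₀, hw₀, hzw₀, hTe'⟩ := S.isPl_exists_mr (S.pl_neg h4 hT)
  have hfix : ∀ v, mv (-T) v = -v → mv T v = v := fun v h => by rwa [mv_neg_gl, neg_inj] at h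
  have hTz : mv T z₀ = z₀ := hfix _ (by rw [hTe']; exact S.mm_left hz₀ hw₀ hzw₀)
  have hTw : mv T w₀ = w₀ := hfix _ (by rw [hTe']; exact S.mm_right hz₀ hw₀ hzw₀)
  by_cases hs' : IsSquare (-(f z₀ z₀ * f w₀ w₀))
  · obtain ⟨x', y', h1, h2, h3, e⟩ := S.hyp_of_square (S.pl_neg h4 hT) hz₀ hw₀ hzw₀
      (by rw [mv_neg_gl, hTz]) (by rw [mv_neg_gl, hTw]) hs'
    exact ⟨x', y', h1, h2, h3, Or.inr (by rw [← e, neg_neg])⟩
  exfalso
  obtain ⟨a, b, hab⟩ := S.exists_comb hz₀ hw₀ hzw₀ (-f x x)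
  set z := a • z₀ + b • w₀ with hzd
  set z' := (-(b * f w₀ w₀)) • z₀ + (a * f z₀ z₀) • w₀ with hz'd
  have hz'z : f z' z = 0 := by
    simp only [hzd, hz'd, hf.add_left, hf.add_right, hf.smul_left, hf.smul_right', hzw₀, hf.comm' w₀ z₀]
    ring
  have hz'v : f z' z' = f z₀ z₀ * f w₀ w₀ * f z z := by
    simp only [hzd, hz'd, hf.add_left, hf.add_right, hf.smul_left, hf.smul_right', hzw₀, hf.comm' w₀ z₀]
    ring
  rw [hab] at hz'v
  have hTzz : mv T z = z := by rw [hzd, mv_add, mv_smul, mv_smul, hTz, hTw]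
  have hTz' : mv T z' = z' := by rw [hz'd, mv_add, mv_smul, mv_smul, hTz, hTw]
  have hor : ∀ v, mv T v = v → f v x = 0 ∧ f v y = 0 := fun v hv =>
    ⟨S.eig_orth hT.1 hv hTx, S.eig_orth hT.1 hv hTy⟩
  obtain ⟨hzx, hzy⟩ := hor z hTzz
  obtain ⟨hz'x, hz'y⟩ := hor z' hTz'
  have hzxy : f x z = 0 := by rw [hf.comm', hzx]
  have hne : -(f x x * f y y) ≠ 0 ∧ -(f z₀ z₀ * f w₀ w₀) ≠ 0 :=
    ⟨neg_ne_zero.2 (mul_ne_zero hx hy), neg_ne_zero.2 (mul_ne_zero hz₀ hw₀)⟩
  obtain ⟨r, hr⟩ := isSquare_mul S.two hne.1 hne.2 hs hs'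
  set c := x + z
  set d := (2 * f x x)⁻¹ • (x - z)
  have h2x : (2 * f x x)⁻¹ * (2 * f x x) = 1 := inv_mul_cancel₀ (mul_ne_zero S.two hx)
  have hcc : f c c = 0 := by
    simp only [c, hf.add_left, hf.add_right, hab, hzxy, hzx]; ring
  have hdd : f d d = 0 := by
    simp only [d, hf.sub_left, hf.sub_right, hf.smul_left, hf.smul_right', hab, hzxy, hzx]; ring
  have hcd : f c d = 1 := by
    simp only [c, d, hf.add_left, hf.sub_right, hf.smul_right', hab, hzxy, hzx]
    linear_combination h2x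
  set i := (r / f y y) • y + z'
  have hyz : f y z = 0 := by rw [hf.comm', hzy]
  have hi0 := S.mnus h4 c d i hcc hdd hcd
    (by simp only [i, c, hf.add_left, hf.add_right, hf.smul_left, hf.comm' y x, hxy, hyz, hz'x, hz'z]; ring)
    (by simp only [i, d, hf.add_left, hf.sub_right, hf.smul_left, hf.smul_right', hf.comm' y x, hxy, hyz, hz'x, hz'z]
        ring)
    (by
      simp only [i, hf.add_left, hf.add_right, hf.smul_left, hf.smul_right', hz'y, hf.comm' y z', hz'v]
      field_simp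
      linear_combination -hr)
  have := congrArg (fun v => f v z') hi0
  simp only [i, hf.add_left, hf.smul_left, hf.comm' y z', hz'y, hz'v, hf.zero_left, mul_zero, zero_add] at this
  exact mul_ne_zero (mul_ne_zero hz₀ hw₀) (neg_ne_zero.2 hx) this

/-- The fixed plane of a hyperbolic plane involution has no isotropic vectors. -/
theorem hyp_fix_aniso (h4 : k = 4) {x y v : Fin k → F} (hx : f x x = 1) (hy : f y y = -1) (hxy : f x y = 0)
    (hvx : f v x = 0) (hvy : f v y = 0) (hv : f v v = 0) : v = 0 := by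
  have hf := S.hf
  refine S.mnus h4 (x + y) ((2⁻¹ : F) • (x - y)) v ?_ ?_ ?_ ?_ ?_ hv
  · simp only [hf.add_left, hf.add_right, hx, hy, hxy, hf.comm' y x]; ring
  · simp only [hf.sub_left, hf.sub_right, hf.smul_left, hf.smul_right', hx, hy, hxy, hf.comm' y x]; ring
  · simp only [hf.add_left, hf.sub_right, hf.smul_right', hx, hy, hxy, hf.comm' y x]
    have := S.two
    field_simp
    ring
  · rw [hf.add_right, hvx, hvy, add_zero]
  · rw [hf.smul_right', hf.sub_right, hvx, hvy, sub_zero, mul_zero]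

/-- Isometries of order p commuting with a plane involution are one. -/
theorem unip_comm (h4 : k = 4) {p : ℕ} [CharP F p] (hp : p.Prime) {T D : GL (Fin k) F}
    (hi : ∀ u v, f (mv T u) (mv T v) = f u v) (hT : T ^ p = 1) (hD : IsPl f D) (hc : T * D = D * T) : T = 1 := by
  have hf := S.hf
  have hk : 0 < k := by omega
  obtain ⟨x, y, hx, hy, hxy, hDe⟩ := S.hyp_or h4 hD
  set D₀ := mr hf x * mr hf y
  have hx0 : f x x ≠ 0 := hx ▸ one_ne_zero
  have hy0 : f y y ≠ 0 := hy ▸ neg_ne_zero.2 one_ne_zero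
  have hc0 : T * D₀ = D₀ * T := by
    rcases hDe with e | e
    · rw [← e]; exact hc
    · rw [e, mul_neg, neg_mul, neg_inj] at hc; exact hc
  have hD₀ := S.isPl_mr hx0 hy0 hxy
  set N : (Fin k → F) → Fin k → F := fun v => mv T v - v with hN
  have hW : ∀ v, mv D₀ v = v → mv D₀ (N v) = N v := fun v hv => by
    show mv D₀ (mv T v - v) = mv T v - v
    rw [mv_sub, hv, ← mv_mul, ← hc0, mv_mul, hv]
  have han : ∀ v, mv D₀ v = v → f v v = 0 → v = 0 := fun v hv h0 =>
    S.hyp_fix_aniso h4 hx hy hxy (S.eig_orth hD₀.1 hv (S.mm_left hx0 hy0 hxy))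
      (S.eig_orth hD₀.1 hv (S.mm_right hx0 hy0 hxy)) h0
  have hfix : ∀ v, mv D₀ v = v → mv T v = v := fun v hv => by
    by_contra hne
    obtain ⟨u, hu, hu1, hu2⟩ := nil_last N (fun v => mv D₀ v = v) hW (fun v => v = 0) p v
      (unip_iter hp hk hT v) hv (sub_ne_zero.2 hne)
    have hu3 : mv T (N u) = N u := sub_eq_zero.1 (hu2.resolve_right fun e => hu1 (by
      show mv T u - u = 0
      rw [show u = 0 from e, mv_zero, sub_self]))
    refine hu1 (han _ (hW u hu) ?_)
    show f (mv T u - u) (N u) = 0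
    rw [hf.sub_left]
    nth_rw 1 [← hu3]
    rw [hi, sub_self]
  obtain ⟨z, w, hz, hw, hzw, hDe'⟩ := S.isPl_exists_mr (S.pl_neg h4 hD₀)
  have hzf : mv D₀ z = z := by
    have := S.mm_left hz hw hzw
    rwa [← hDe', mv_neg_gl, neg_inj] at this
  have hwf : mv D₀ w = w := by
    have := S.mm_right hz hw hzw
    rwa [← hDe', mv_neg_gl, neg_inj] at this
  exact S.unip_fix h4 hp hi hT hz hw hzw (hfix z hzf) (hfix w hwf)

end Sl

end Cfsg.Agent.OrthEvenWreath
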