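/-
Tensor powers of a symmetric form of dimension four: members fixing an anisotropic line pointwise.
-/
import Cfsg.Agent.Lib.OrthWreathEven.FourPlane
import Cfsg.Agent.Lib.OrthWreathEven.Desc

set_option autoImplicit false
set_option linter.unusedSectionVars false

namespace Cfsg.Agent.OrthEvenWreath

open scoped Matrix
open Matrix Cfsg.Agent.Transvec Cfsg.Agent.TensorMax Cfsg.Agent.WreathMax
open Cfsg.Agent.FormWreath hiding up mv_up_ins
open Cfsg.Agent.OrthWreath hiding Sl Ctx Base Ind Inv Gd fixsp_mir small_mir split_sim rho_omega fix_line_mono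
  exists_noncomm
open Cfsg.Agent.UWreath (mono_mul mono_inv)

variable {F : Type*} [Field F] [Finite F] {k : ℕ} {J : Type} [Fintype J] [DecidableEq J]
variable {f : (Fin k → F) → (Fin k → F) → F} {κ : F}

local notation "σ₁" => RingEquiv.refl F

/-- Centralisers of plane involutions of one slot are monomial. -/
def CentPl (f : (Fin k → F) → (Fin k → F) → F) (X : Subgroup (GL (J → Fin k) F)) : Prop :=
  ∀ v ∈ X, ∀ (i : J) (D : GL (Fin k) F), IsPl f D → v * fac i D = fac i D * v → Mono v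

theorem pow_isom {T : GL (Fin k) F} (hT : ∀ u v, f (mv T u) (mv T v) = f u v) (r : ℕ) (u v : Fin k → F) :
    f (mv (T ^ r) u) (mv (T ^ r) v) = f u v := by
  induction r generalizing u v with
  | zero => rw [pow_zero, mv_one, mv_one]
  | succ r ih => rw [pow_succ, mv_mul, mv_mul, ih, hT]

theorem pow_fixed {T : GL (Fin k) F} {x : Fin k → F} (hT : mv T x = x) (r : ℕ) : mv (T ^ r) x = x := by
  induction r with
  | zero => rw [pow_zero, mv_one]
  | succ r ih => rw [pow_succ, mv_mul, hT, ih]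

namespace Sl

variable (S : Sl f κ)
include S

theorem cent_pl_of_hyp (h4 : k = 4) {X : Subgroup (GL (J → Fin k) F)}
    (h : ∀ v ∈ X, ∀ (i : J) (x y : Fin k → F), f x x = 1 → f y y = -1 → f x y = 0 →
      v * fac i (mr S.hf x * mr S.hf y) = fac i (mr S.hf x * mr S.hf y) * v → Mono v) : CentPl f X :=
  fun v hv i D hD hc => by
    obtain ⟨x, y, hx, hy, hxy, e | e⟩ := S.hyp_or h4 hD <;> subst e
    · exact h v hv i x y hx hy hxy hc
    · rw [fac_neg, mul_neg, neg_mul, neg_inj] at hc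
      exact h v hv i x y hx hy hxy hc

theorem pl_conj {B : GL (Fin k) F} (hB : ∀ u v, f (mv B u) (mv B v) = f u v) {T : GL (Fin k) F} (hT : IsPl f T) :
    IsPl f (B * T * B⁻¹) :=
  ⟨fun u v => by rw [mv_mul, mv_mul, mv_mul, mv_mul, hB, hT.1, ← hB (mv B⁻¹ u) (mv B⁻¹ v), mv_mv_inv, mv_mv_inv],
    by rw [show B * T * B⁻¹ * (B * T * B⁻¹) = B * (T * T) * B⁻¹ by group, hT.2.1, mul_one, mul_inv_cancel],
    by rw [finrank_fixsp_conj]; exact hT.2.2⟩

/-- A plane of anisotropic vectors with a given orthogonal basis. -/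
theorem aniso_plane {x y v : Fin k → F} (hx : f x x = 1) {ε : F} (hε0 : ε ≠ 0) (hε : ¬ IsSquare ε) (hy : f y y = -ε)
    (hxy : f x y = 0) (hv : mv (mr S.hf x * mr S.hf y) v = -v) (hvv : f v v = 0) : v = 0 := by
  have hf := S.hf
  obtain ⟨s, r, hsr⟩ : ∃ s r : F, v = s • x + r • y := by
    refine ⟨f v x / f x x, f v y / f y y, smul_right_injective _ S.two ?_⟩
    have h := S.mm_apply (hx ▸ one_ne_zero) (hy ▸ neg_ne_zero.2 hε0) hxy v
    rw [hv] at h
    show (2 : F) • v = (2 : F) • _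
    linear_combination (norm := module) -h
  subst hsr
  simp only [hf.add_left, hf.add_right, hf.smul_left, hf.smul_right', hx, hy, hxy, hf.comm' y x, mul_zero, add_zero,
    zero_add] at hvv
  have hr : r = 0 := by
    by_contra hr
    exact hε ⟨s / r, by field_simp; linear_combination -hvv⟩
  subst hr
  have hs : s = 0 := mul_self_eq_zero.1 (by linear_combination hvv)
  rw [hs, zero_smul, zero_smul, add_zero]

/-- A fixed vector with an independent one: an involution that is a plane involution. -/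
theorem fix_span_le {D : GL (Fin k) F} {u : Fin k → F} (hu : u ∉ fixsp D) :
    Module.finrank F (fixsp D) + 1 ≤ Module.finrank F (fixsp D ⊔ Submodule.span F {u} : Submodule F (Fin k → F)) := by
  refine Submodule.finrank_lt_finrank_of_lt (lt_of_le_of_ne le_sup_left fun e => hu ?_)
  rw [e]
  exact Submodule.mem_sup_right (Submodule.mem_span_singleton_self u)

/-- Products of a plane involution with a reflection commuting with it are no plane involutions. -/
theorem pl_refl_false (h4 : k = 4) {D M : GL (Fin k) F} (hD : IsPl f D) (hM : M * M = 1)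
    (hMi : ∀ u v, f (mv M u) (mv M v) = f u v) (hc : D * M = M * D)
    (hM3 : Module.finrank F (fixsp M) = 3) : ¬ IsPl f (D * M) := by
  intro hP
  have hf := S.hf
  have hs := S.eig_sum hM
  obtain ⟨u, hu, huu⟩ := S.aniso_in (S.eig_nd (A := -M) (by rw [neg_mul_neg, hM]) (S.neg_isom hMi))
    (S.ne_bot_of (by omega))
  have hu0 : u ≠ 0 := fun e => huu (by rw [e, hf.zero_left])
  have hN : fixsp (-M) = Submodule.span F {u} :=
    (Submodule.eq_of_le_of_finrank_le ((Submodule.span_singleton_le_iff_mem _ _).2 hu)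
      (by rw [finrank_span_singleton hu0]; omega)).symm
  have hMu := mem_fixsp_neg.1 hu
  have hperp : ∀ w, f w u = 0 → mv M w = w := fun w hw => by
    have h1 : w - mv M w ∈ fixsp (-M) := mem_fixsp_neg.2 (by rw [mv_sub, ← mv_mul, hM, mv_one, neg_sub])
    rw [hN] at h1
    obtain ⟨a, ha⟩ := Submodule.mem_span_singleton.1 h1
    have e1 := congrArg (fun z => f z u) ha
    have e2 := hMi w u
    rw [hMu, hf.neg_right] at e2
    simp only [hf.smul_left, hf.sub_left, hw, show f (mv M w) u = 0 by rw [hw] at e2; linear_combination -e2,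
      sub_zero] at e1
    rw [(mul_eq_zero.1 e1).resolve_right huu, zero_smul] at ha
    exact (sub_eq_zero.1 ha.symm).symm
  have hDu : mv D u = u ∨ mv D u = -u := by
    have h1 : mv D u ∈ fixsp (-M) := mem_fixsp_neg.2 (by rw [← mv_mul, ← hc, mv_mul, hMu, mv_neg])
    rw [hN] at h1
    obtain ⟨a, ha⟩ := Submodule.mem_span_singleton.1 h1
    have e2 : mv D (mv D u) = u := by rw [← mv_mul, hD.2.1, mv_one]
    rw [← ha, mv_smul, ← ha, smul_smul] at e2
    rcases mul_self_eq_one_iff.1 (smul_left_injective F hu0 (e2.trans (one_smul F u).symm)) with e | e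
    · exact Or.inl (by rw [← ha, e, one_smul])
    · exact Or.inr (by rw [← ha, e, neg_one_smul])
  have hfD := S.eig_sum hD.2.1
  have hd1 := hD.2.2
  rcases hDu with hDu | hDu
  · -- the negated space of the product is too big
    have hle : fixsp (-D) ⊔ Submodule.span F {u} ≤ fixsp (-(D * M)) := sup_le (fun w hw => by
        have hw' := mem_fixsp_neg.1 hw
        rw [mem_fixsp_neg, mv_mul, hperp w (by rw [hf.comm']; exact S.eig_orth hD.1 hDu hw'), hw'])
      ((Submodule.span_singleton_le_iff_mem _ _).2 (mem_fixsp_neg.2 (by rw [mv_mul, hMu, mv_neg, hDu])))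
    have h1 := Submodule.finrank_mono hle
    have h2 := S.fix_span_le (D := -D) (u := u) fun h => hu0 (by
      rw [mem_fixsp_neg, hDu] at h
      exact (smul_eq_zero.1 (by linear_combination (norm := module) h : (2 : F) • u = 0)).resolve_left S.two)
    have h3 := S.isPl_fix hP
    omega
  · have hle : fixsp D ⊔ Submodule.span F {u} ≤ fixsp (D * M) := sup_le (fun w hw => by
        have hw' := mem_fixsp.1 hw
        rw [mem_fixsp, mv_mul, hperp w (S.eig_orth hD.1 hw' hDu), hw'])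
      ((Submodule.span_singleton_le_iff_mem _ _).2 (mem_fixsp.2 (by rw [mv_mul, hMu, mv_neg, hDu, neg_neg])))
    have h1 := Submodule.finrank_mono hle
    have h2 := S.fix_span_le (D := D) (u := u) fun h => hu0 (by
      rw [mem_fixsp, hDu] at h
      exact (smul_eq_zero.1 (by linear_combination (norm := module) -h : (2 : F) • u = 0)).resolve_left S.two)
    have h3 := hP.2.2
    omega

end Sl

variable {Q : ((J → Fin k) → F) → F} {X : Subgroup (GL (J → Fin k) F)}

namespace Ctx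

variable (C : Ctx f Q κ X) (hJ : 2 ≤ Fintype.card J) (hX : ¬ Geo.omegaGL Q ≤ X) (B : Base f Q κ) (IH : Ind f κ J)
include C hJ hX B IH

/-- Fusion of plane involutions inside the fixer of a line. -/
theorem gx_fus (h4 : k = 4) (hC : CentPl f X) {h : GL (J → Fin k) F} (hh : h ∈ X) {i : J} {x : Fin k → F}
    (hx : f x x ≠ 0) (hfix : ∀ u, mv h (ins i x u) = ins i x u) {D A : GL (Fin k) F} (hD : IsPl f D)
    (he : h * fac i D * h⁻¹ = fac i A) : Mono h := by
  have hf := C.hf
  have hk : 0 < k := by omega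
  obtain ⟨p, hp⟩ := CharP.exists F
  haveI := hp
  haveI : Fintype F := Fintype.ofFinite F
  have hpp : p.Prime := CharP.char_is_prime F p
  obtain ⟨m, hm⟩ := Fintype.exists_ne_of_one_lt_card (α := J) (by omega) i
  obtain ⟨c, -, w, -, hc0, hc, hwc, hw⟩ := C.toSl.root_in C.toSl.nd_top (by rw [C.toSl.finrank_top']; omega)
  set r := fac m (eA hf c w) with hr
  set e := h⁻¹ * r * h
  have hrX : r ∈ X := C.root m c w hc hwc
  have heX : e ∈ X := X.mul_mem (X.mul_mem (X.inv_mem hh) hrX) hh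
  have hed : e * fac i D = fac i D * e := by
    have hc1 : r * fac i A = fac i A * r := fac_comm hm _ _
    calc e * fac i D = h⁻¹ * (r * (h * fac i D * h⁻¹)) * h := by simp only [e]; group
      _ = h⁻¹ * (fac i A * r) * h := by rw [he, hc1]
      _ = fac i D * e := by rw [← he]; simp only [e]; group
  have hem : Mono e := hC e heX i D hD hed
  have hins : ∀ u, mv r (ins i x u) = ins i x (mv (fac (⟨m, hm⟩ : {j // j ≠ i}) (eA hf c w)) u) :=
    fun u => mv_fac_other hm _ _ _
  have hei : ∀ u, mv e (ins i x u) = mv r (ins i x u) := fun u => by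
    simp only [e, mv_mul, hfix, hins]
    rw [mv_eq_iff, inv_inv, hfix]
  obtain ⟨T, hT, -, hTi⟩ := fix_line_mono C.toSl (mono_mul (mono_inv ⟨1, monoOf_fac m _⟩) hem)
    (C.pres (C.iso (X.mul_mem (X.inv_mem hrX) heX))) (fun (e : x = 0) => hx (by rw [e, hf.zero_left])) fun u => by
      rw [mv_mul, hei, mv_inv_mv]
  have heT : e = r * fac i T := by rw [← hT, mul_inv_cancel_left]
  have hTp : T ^ p = 1 := by
    have h1 : e ^ p = 1 := by
      rw [show e = h⁻¹ * r * h⁻¹⁻¹ by simp only [e, inv_inv], conj_pow, hr, fac_pow,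
        eA_pow_char hf C.two p hc hwc, fac_one, mul_one, mul_inv_cancel]
    rw [heT, (show Commute r (fac i T) from fac_comm hm _ _).mul_pow, hr, fac_pow, fac_pow,
      eA_pow_char hf C.two p hc hwc, fac_one, one_mul, fac_one_iff hk] at h1
    exact h1
  have hTD : T * D = D * T := by
    refine fac_inj hk i (mul_left_cancel (a := r) ?_)
    calc r * fac i (T * D) = r * fac i T * fac i D := by rw [fac_mul i T D, mul_assoc]
      _ = fac i D * (r * fac i T) := by rw [← heT, hed]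
      _ = r * fac i (D * T) := by
        rw [fac_mul i D T, ← mul_assoc, show fac i D * r = r * fac i D from (fac_comm hm _ _).symm, mul_assoc]
  rw [C.toSl.unip_comm h4 hpp hTi hTp hD hTD, fac_one, mul_one] at heT
  exact C.root_cent_mono hJ hX B IH hh hc0 hc hwc hw (by
    show h * r = r * h
    calc h * r = h * e := by rw [heT]
      _ = r * h := by simp only [e]; group)

set_option maxHeartbeats 800000 in
/-- Members fixing an anisotropic line pointwise are monomial, in dimension four. -/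
theorem fixline_four (h4 : k = 4) (hC : CentPl f X) {v : GL (J → Fin k) F} (hv : v ∈ X) {i : J} {x : Fin k → F}
    (hx : f x x ≠ 0) (hfix : ∀ u, mv v (ins i x u) = ins i x u) : Mono v := by
  classical
  have hf := C.hf
  have hk : 0 < k := by omega
  haveI : Fintype F := Fintype.ofFinite F
  have hx0 : x ≠ 0 := fun e => hx (by rw [e, hf.zero_left])
  obtain ⟨hn, hd⟩ := C.toSl.perp_step C.toSl.nd_top Submodule.mem_top hx
  rw [C.toSl.finrank_top'] at hd
  obtain ⟨x₁, hx₁m, y₁, hy₁m, hx₁, hy₁, h₁⟩ := C.toSl.pair_in hn (by omega)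
  obtain ⟨ε, hε⟩ := FiniteField.exists_nonsquare (F := F) fun e => C.two (by
    haveI : CharP F 2 := ringChar.eq_iff.1 e
    exact CharP.cast_eq_zero F 2)
  have hε0 : ε ≠ 0 := fun e => hε ⟨0, by rw [e, mul_zero]⟩
  obtain ⟨hn1, hd1⟩ := C.toSl.perp_step hn hx₁m (hx₁ ▸ one_ne_zero)
  obtain ⟨y₂, hy₂m, hy₂⟩ := C.toSl.exists_value hn1 (by omega) (-ε)
  simp only [Submodule.mem_inf, mem_prp, Submodule.mem_top, true_and] at hx₁m hy₁m hy₂m
  obtain ⟨hy₂x, hy₂x₁⟩ := hy₂m
  have h₂ : f x₁ y₂ = 0 := by rw [hf.comm', hy₂x₁]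
  have hx₁0 : f x₁ x₁ ≠ 0 := hx₁ ▸ one_ne_zero
  have hy₁0 : f y₁ y₁ ≠ 0 := hy₁ ▸ neg_ne_zero.2 one_ne_zero
  have hy₂0 : f y₂ y₂ ≠ 0 := hy₂ ▸ neg_ne_zero.2 hε0
  set D := mr hf x₁ * mr hf y₁
  set D₁ := mr hf x₁ * mr hf y₂
  have hD : IsPl f D := C.toSl.isPl_mr hx₁0 hy₁0 h₁
  have hD₁ : IsPl f D₁ := C.toSl.isPl_mr hx₁0 hy₂0 h₂
  have hDx : mv D x = x :=
    C.toSl.mm_perp hx₁0 hy₁0 h₁ (by rw [hf.comm', hx₁m]) (by rw [hf.comm', hy₁m])
  have hD₁x : mv D₁ x = x :=
    C.toSl.mm_perp hx₁0 hy₂0 h₂ (by rw [hf.comm', hx₁m]) (by rw [hf.comm', hy₂x])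
  set t := fac (J := J) i D with htd
  set q := fac (J := J) i D₁ with hqd
  set s := v * q * v⁻¹ with hsd
  have htt : t * t = 1 := by rw [htd, ← fac_mul, hD.2.1, fac_one]
  have hqq : q * q = 1 := by rw [hqd, ← fac_mul, hD₁.2.1, fac_one]
  have hss : s * s = 1 := by
    rw [hsd, show v * q * v⁻¹ * (v * q * v⁻¹) = v * (q * q) * v⁻¹ by group, hqq, mul_one, mul_inv_cancel]
  have htX : t ∈ X := C.fac_pl hD i
  have hsX : s ∈ X := X.mul_mem (X.mul_mem hv (C.fac_pl hD₁ i)) (X.inv_mem hv)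
  have hst : ∀ u, mv s (ins i x u) = ins i x u := fun u => by
    rw [hsd, mv_mul, mv_mul, show mv v⁻¹ (ins i x u) = ins i x u by rw [mv_eq_iff, inv_inv, hfix], hqd, mv_fac_ins,
      hD₁x, hfix]
  have htf : ∀ u, mv t (ins i x u) = ins i x u := fun u => by rw [htd, mv_fac_ins, hDx]
  have hfixts : ∀ (n : ℕ) u, mv ((t * s) ^ n) (ins i x u) = ins i x u := fun n => by
    induction n with
    | zero => intro u; rw [pow_zero, mv_one]
    | succ n ih => intro u; rw [pow_succ, mv_mul, mv_mul, hst, htf, ih]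
  have hslot : ∀ w ∈ X, Mono w → (∀ u, mv w (ins i x u) = ins i x u) →
      ∃ A : GL (Fin k) F, w = fac i A ∧ mv A x = x ∧ ∀ u u', f (mv A u) (mv A u') = f u u' := fun w hw hm hfx =>
    fix_line_mono C.toSl hm (C.pres (C.iso hw)) hx0 hfx
  have hfixinv : ∀ w : GL (J → Fin k) F, (∀ u, mv w (ins i x u) = ins i x u) →
      ∀ u, mv w⁻¹ (ins i x u) = ins i x u := fun w hw u => by rw [mv_eq_iff, inv_inv, hw]
  obtain ⟨m, hs'', hτ, hw⟩ := desc monoSub htt hss ⟨1, monoOf_fac i D⟩ fun n hn => by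
    have hzX : (t * s) ^ n ∈ X := X.pow_mem (X.mul_mem htX hsX) n
    obtain ⟨A, hA, -, -⟩ := hslot _ (X.mul_mem (X.mul_mem (X.inv_mem hzX) htX) hzX) hn fun u => by
      rw [mv_mul, mv_mul, hfixts, htf, hfixinv _ (hfixts n)]
    have := C.gx_fus hJ hX B IH h4 hC (X.inv_mem hzX) hx (hfixinv _ (hfixts n)) hD (A := A) (by
      rw [inv_inv]; exact hA)
    show Mono _
    simpa using mono_inv this
  set h := ((t * s) ^ m)⁻¹ * v
  have hhX : h ∈ X := X.mul_mem (X.inv_mem (X.pow_mem (X.mul_mem htX hsX) m)) hv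
  have hhf : ∀ u, mv h (ins i x u) = ins i x u := fun u => by
    rw [mv_mul, hfix, hfixinv _ (hfixts m)]
  have hconj : ((t * s) ^ m)⁻¹ * s * (t * s) ^ m = h * q * h⁻¹ := by
    show ((t * s) ^ m)⁻¹ * s * (t * s) ^ m = ((t * s) ^ m)⁻¹ * v * q * (((t * s) ^ m)⁻¹ * v)⁻¹
    rw [hsd]; group
  obtain ⟨A, hA, hAx, -⟩ := hslot _ (X.mul_mem (X.mul_mem hhX (C.fac_pl hD₁ i)) (X.inv_mem hhX))
    (hconj ▸ hs'') fun u => by rw [mv_mul, mv_mul, hfixinv _ hhf, mv_fac_ins, hD₁x, hhf]
  have hhm := C.gx_fus hJ hX B IH h4 hC hhX hx hhf hD₁ hA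
  obtain ⟨B', hB', -, hBi⟩ := hslot h hhX hhm hhf
  have hAB : A = B' * D₁ * B'⁻¹ := fac_inj hk i (by rw [← hA, hB', fac_mul i (B' * D₁), fac_mul i B' D₁, fac_inv])
  have hApl : IsPl f A := hAB ▸ C.toSl.pl_conj hBi hD₁
  have hτe : (t * s) ^ (2 * m + 1) = fac i (D * A) := by
    rw [fac_mul, ← htd, ← hA, ← hqd, ← hconj, ← dih_succ htt hss, ← mul_assoc t t, htt, one_mul]
  have hτ1 : (t * s) ^ (2 * m + 1) ≠ 1 := fun e => by
    rw [hτe, fac_one_iff hk] at e
    have hAD : A = D := by rw [← one_mul A, ← hD.2.1, mul_assoc, e, mul_one]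
    rw [hAD] at hAB
    set z := mv B'⁻¹ (x₁ + y₁)
    have hz : mv D₁ z = -z := by
      refine mv_inj B' ?_
      rw [mv_neg, mv_mv_inv, ← mv_mul, ← mv_mul, ← hAB, mv_add, C.toSl.mm_left hx₁0 hy₁0 h₁,
        C.toSl.mm_right hx₁0 hy₁0 h₁]
      abel
    have hz0 : z = 0 := C.toSl.aniso_plane hx₁ hε0 hε hy₂ h₂ hz (by
      rw [← hBi, mv_mv_inv, hf.add_left, hf.add_right, hf.add_right, hx₁, hy₁, h₁, hf.comm' y₁ x₁, h₁]
      ring)
    have hxy0 : x₁ + y₁ = 0 := by rw [← mv_mv_inv B' (x₁ + y₁)]; show mv B' z = 0; rw [hz0, mv_zero]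
    have h1 := congrArg (fun v => f v x₁) hxy0
    simp only [hf.add_left, hx₁, hf.comm' y₁ x₁, h₁, hf.zero_left, add_zero] at h1
    exact one_ne_zero h1
  obtain ⟨n, hn1, hn2, hn3, hn4⟩ := hw.resolve_left hτ1
  rw [hτe, fac_pow] at hn1 hn2 hn3 hn4
  set N := D * A with hNd
  set M := N ^ n with hMd
  have hM1 : M ≠ 1 := fun e => hn1 (by rw [e, fac_one])
  have hMM : M * M = 1 := (fac_one_iff hk i).1 (by rw [fac_mul]; exact hn2)
  have hDM : D * M = M * D := fac_inj hk i (by rw [fac_mul i D M, fac_mul i M D]; exact hn3)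
  have hNi : ∀ u w, f (mv N u) (mv N w) = f u w := fun u w => by
    rw [hNd, mv_mul D A u, mv_mul D A w, hD.1, hApl.1]
  have hMi : ∀ u w, f (mv M u) (mv M w) = f u w := pow_isom hNi n
  have hMx : mv M x = x := pow_fixed (by rw [hNd, mv_mul, hAx, hDx]) n
  -- a second fixed vector
  obtain ⟨e, he, he0⟩ : ∃ e ∈ fixsp (-D) ⊓ fixsp (-A), e ≠ 0 := by
    refine Submodule.exists_mem_ne_zero_of_ne_bot fun e' => ?_
    have h1 := Submodule.finrank_sup_add_finrank_inf_eq (fixsp (-D)) (fixsp (-A))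
    have h2 : Module.finrank F (fixsp (-D) ⊔ fixsp (-A) : Submodule F (Fin k → F)) ≤ 3 := by
      have h3 : fixsp (-D) ⊔ fixsp (-A) ≤ LinearMap.ker (hf.formL x) := sup_le
        (fun u hu => (mem_prp hf).2 (by rw [hf.comm']; exact C.toSl.eig_orth hD.1 hDx (mem_fixsp_neg.1 hu)))
        (fun u hu => (mem_prp hf).2 (by rw [hf.comm']; exact C.toSl.eig_orth hApl.1 hAx (mem_fixsp_neg.1 hu)))
      have h4' : LinearMap.ker (hf.formL x) < ⊤ := lt_top_iff_ne_top.2 fun e => hx
        ((mem_prp hf).1 (e ▸ Submodule.mem_top : x ∈ LinearMap.ker (hf.formL x)))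
      have h5 := Submodule.finrank_lt h4'.ne
      rw [Module.finrank_fintype_fun_eq_card, Fintype.card_fin] at h5
      have := Submodule.finrank_mono h3
      omega
    rw [C.toSl.isPl_fix hD, C.toSl.isPl_fix hApl, e', finrank_bot] at h1
    omega
  obtain ⟨he1, he2⟩ := Submodule.mem_inf.1 he
  have hMe : mv M e = e := pow_fixed (by
    rw [hNd, mv_mul, mem_fixsp_neg.1 he2, mv_neg, mem_fixsp_neg.1 he1, neg_neg]) n
  have hM2 : 2 ≤ Module.finrank F (fixsp M) := by
    have hxe : f x e = 0 := C.toSl.eig_orth hD.1 hDx (mem_fixsp_neg.1 he1)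
    have hlt : Submodule.span F {e} < fixsp M := lt_of_le_of_ne
      ((Submodule.span_singleton_le_iff_mem _ _).2 (mem_fixsp.2 hMe)) fun e' => by
        have h1 : x ∈ Submodule.span F {e} := by rw [e']; exact mem_fixsp.2 hMx
        obtain ⟨a, rfl⟩ := Submodule.mem_span_singleton.1 h1
        exact hx (by rw [hf.smul_right', hxe, mul_zero])
    have := Submodule.finrank_lt_finrank_of_lt hlt
    rw [finrank_span_singleton he0] at this
    omega
  have hMpl : IsPl f M := by
    refine ⟨hMi, hMM, ?_⟩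
    have hle : Module.finrank F (fixsp M) ≤ k :=
      (Submodule.finrank_le _).trans (by rw [Module.finrank_fintype_fun_eq_card, Fintype.card_fin])
    have hne : Module.finrank F (fixsp M) ≠ k := fun e' => hM1 (ext_mv fun u => by
      have htop : fixsp M = ⊤ := Submodule.eq_top_of_finrank_eq (by
        rw [Module.finrank_fintype_fun_eq_card, Fintype.card_fin, e'])
      rw [mv_one]
      exact mem_fixsp.1 (htop ▸ Submodule.mem_top))
    suffices Module.finrank F (fixsp M) ≠ 3 by omega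
    intro h3
    obtain ⟨r, hr | hr⟩ := Nat.even_or_odd' n
    · -- squares are no reflections
      obtain ⟨u, hu, hu0⟩ := C.toSl.aniso_in (C.toSl.eig_nd (A := -M) (by rw [neg_mul_neg, hMM])
        (C.toSl.neg_isom hMi)) (C.toSl.ne_bot_of (by have := C.toSl.eig_sum hMM; omega))
      have hu' : u ≠ 0 := fun e' => hu0 (by rw [e', hf.zero_left])
      set R := N ^ r
      have hRR : R * R = M := by rw [hMd, hr, two_mul, pow_add]
      have hN1 : fixsp (-M) = Submodule.span F {u} :=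
        (Submodule.eq_of_le_of_finrank_le ((Submodule.span_singleton_le_iff_mem _ _).2 hu)
          (by rw [finrank_span_singleton hu']; have := C.toSl.eig_sum hMM; omega)).symm
      have hRu : mv R u ∈ fixsp (-M) := mem_fixsp_neg.2 (by
        rw [← mv_mul, ← hRR, mul_assoc, mv_mul, ← mv_neg, hRR, mem_fixsp_neg.1 hu])
      rw [hN1] at hRu
      obtain ⟨a, ha⟩ := Submodule.mem_span_singleton.1 hRu
      have e1 : mv M u = (a * a) • u := by rw [← hRR, mv_mul, ← ha, mv_smul, ← ha, smul_smul]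
      have e2 := pow_isom hNi r u u
      rw [show N ^ r = R from rfl, ← ha, hf.smul_left, hf.smul_right', ← mul_assoc] at e2
      rw [mem_fixsp_neg.1 hu] at e1
      rw [mul_right_cancel₀ hu0 (e2.trans (one_mul _).symm), one_smul] at e1
      exact hu' ((smul_eq_zero.1 (by linear_combination (norm := module) -e1 : (2 : F) • u = 0)).resolve_left C.two)
    · refine C.toSl.pl_refl_false h4 hD hMM hMi hDM h3 ?_
      rw [hMd, hr, hNd, dih_succ hD.2.1 hApl.2.1,
        show ((D * A) ^ r)⁻¹ * A * (D * A) ^ r = ((D * A) ^ r)⁻¹ * A * ((D * A) ^ r)⁻¹⁻¹ by rw [inv_inv]]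
      refine C.toSl.pl_conj (fun u w => ?_) hApl
      rw [← pow_isom (T := D * A) hNi r (mv ((D * A) ^ r)⁻¹ u) (mv ((D * A) ^ r)⁻¹ w), mv_mv_inv, mv_mv_inv]
  have hsm : Mono s := hC s hsX i M hMpl hn4
  obtain ⟨A₀, hA₀, -, -⟩ := hslot s hsX hsm hst
  exact C.gx_fus hJ hX B IH h4 hC hv hx hfix hD₁ (A := A₀) (by rw [← hqd, ← hsd]; exact hA₀)

end Ctx

end Cfsg.Agent.OrthEvenWreath
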