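/-
Tensor powers of a symmetric form: diagonal monomial elements of prime order.
-/
import Cfsg.Agent.Lib.OrthWreathEven.FourGx

set_option autoImplicit false
set_option linter.unusedSectionVars false

namespace Cfsg.Agent.OrthEvenWreath

open scoped Matrix
open Matrix Cfsg.Agent.Transvec Cfsg.Agent.TensorMax Cfsg.Agent.WreathMax
open Cfsg.Agent.FormWreath hiding up mv_up_ins
open Cfsg.Agent.OrthWreath hiding Sl Ctx Base Ind Inv Gd fixsp_mir small_mir split_sim rho_omega fix_line_mono
  exists_noncomm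
open Cfsg.Agent.UWreath (mono_mul mono_inv)

variable {F : Type*} [Field F] [Finite F] {k : ℕ} {J : Type} [Fintype J] [DecidableEq J]
variable {f : (Fin k → F) → (Fin k → F) → F} {κ : F}

local notation "σ₁" => RingEquiv.refl F

theorem monoOf_pow {π : Equiv.Perm J} {g : GL (J → Fin k) F} (hg : MonoOf π g) (n : ℕ) :
    MonoOf (π ^ n) (g ^ n) := by
  induction n with
  | zero => rw [pow_zero, pow_zero]; exact monoOf_one
  | succ n ih => rw [pow_succ g, pow_succ' π]; exact ih.mul hg

/-- For two slots, monomial elements of odd order move no slot. -/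
theorem monoOf_one_of_odd (hk : 2 ≤ k) (hJ2 : Fintype.card J = 2) {g : GL (J → Fin k) F} {n : ℕ} (hn : Odd n)
    (hg : g ^ n = 1) (hm : Mono g) : MonoOf 1 g := by
  obtain ⟨π, hπ⟩ := mono_iff.1 hm
  haveI : Nonempty J := Fintype.card_pos_iff.1 (by omega)
  have h1 : π ^ n = 1 := perm_of_monoOf hk (hg ▸ monoOf_pow hπ n) monoOf_one
  have h2 : π ^ 2 = 1 := by
    have := pow_card_eq_one (x := π)
    rwa [Fintype.card_perm, hJ2] at this
  obtain ⟨r, rfl⟩ := hn
  rw [pow_succ, pow_mul, h2, one_pow, one_mul] at h1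
  exact h1 ▸ hπ

/-- The slot maps of a diagonal element of finite order have scalar powers. -/
theorem slot_pow (hk : 0 < k) {g : GL (J → Fin k) F} {A : J → GL (Fin k) F}
    (hA : ∀ x, mv g (pten x) = pten fun j => mv (A j) (x j)) {n : ℕ} (hg : g ^ n = 1) (j : J) :
    ∃ μ : F, μ ≠ 0 ∧ ∀ v, mv (A j ^ n) v = μ • v := by
  haveI : NeZero k := ⟨by omega⟩
  have hpow : ∀ r : ℕ, ∀ x, mv (g ^ r) (pten x) = pten fun j => mv (A j ^ r) (x j) := fun r => by
    induction r with
    | zero => intro x; simp only [pow_zero, mv_one]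
    | succ r ih => intro x; simp only [pow_succ, mv_mul, hA, ih]
  refine slot_scalar (z := fun _ => Pi.single 0 1) (z' := fun i => mv (A i ^ n) (Pi.single 0 1)) (i := j) hk
    (fun i _ => Pi.single_ne_zero_iff.2 one_ne_zero) fun v => ?_
  have h := hpow n (Function.update (fun _ => Pi.single 0 1) j v)
  rw [hg, mv_one] at h
  refine Eq.trans (congrArg pten (funext fun i => ?_)) h.symm
  by_cases hi : i = j
  · subst hi; rw [Function.update_self, Function.update_self]
  · rw [Function.update_of_ne hi, Function.update_of_ne hi]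

namespace Sl

variable (S : Sl f κ)
include S

/-- For two slots, monomial isometries of an order prime to the scalars are products of two such isometries. -/
theorem pow_split {a b : J} (hab : a ≠ b) (hJ2 : Fintype.card J = 2) {p : ℕ} (hodd : Odd p)
    (hone : ∀ y : F, y ^ p = 1 → y = 1) (hfr : ∀ y : F, ∃ x : F, x ^ p = y)
    {h : GL (J → Fin k) F} (hiso : ∀ x y, Bt σ₁ f (mv h x) (mv h y) = Bt σ₁ f x y) (hhp : h ^ p = 1)
    (hm : Mono h) : ∃ T T' : GL (Fin k) F, h = fac a T * fac b T' ∧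
      (∀ u v, f (mv T u) (mv T v) = f u v) ∧ (∀ u v, f (mv T' u) (mv T' v) = f u v) ∧ T ^ p = 1 ∧ T' ^ p = 1 := by
  classical
  have hk := S.hk
  obtain ⟨A, hA⟩ := monoOf_one_of_odd (by omega) hJ2 hodd hhp hm
  simp only [Equiv.Perm.one_apply] at hA
  choose l hl hlA using fun j => S.slot_sim hiso (π := 1) (A := A) (by simpa using hA) j
  choose μ hμ hμA using fun j => slot_pow (by omega) hA hhp j
  choose ν hν using fun j => hfr (μ j)
  have hν0 : ∀ j, ν j ≠ 0 := fun j e => hμ j (by rw [← hν j, e, zero_pow hodd.pos.ne'])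
  choose L hL using fun j => exists_smul_gl (k := k) (ν j)⁻¹ (inv_ne_zero (hν0 j))
  set T : J → GL (Fin k) F := fun j => L j * A j
  have hTv : ∀ j v, mv (T j) v = (ν j)⁻¹ • mv (A j) v := fun j v => by rw [mv_mul, hL]
  have hTn : ∀ (j : J) (n : ℕ) (v : Fin k → F), mv (T j ^ n) v = ((ν j)⁻¹) ^ n • mv (A j ^ n) v := fun j n => by
    induction n with
    | zero => intro v; rw [pow_zero, pow_zero, pow_zero, mv_one, one_smul]
    | succ n ih => intro v; rw [pow_succ, mv_mul, hTv, mv_smul, ih, pow_succ (A j), mv_mul, smul_smul, pow_succ']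
  have hTp : ∀ j, T j ^ p = 1 := fun j => ext_mv fun v => by
    rw [hTn, hμA, smul_smul, inv_pow, hν, inv_mul_cancel₀ (hμ j), one_smul, mv_one]
  obtain ⟨e, he⟩ := S.exists_aniso
  have he0 : f e e ≠ 0 := he ▸ S.hκ
  have hTi : ∀ j u v, f (mv (T j) u) (mv (T j) v) = f u v := fun j => by
    set m := l j * ((ν j)⁻¹ * (ν j)⁻¹) with hmd
    have hmf : ∀ u v, f (mv (T j) u) (mv (T j) v) = m * f u v := fun u v => by
      rw [hTv, hTv, S.hf.smul_left, S.hf.smul_right', hlA, hmd]; ring
    have hmn : ∀ (n : ℕ) u v, f (mv (T j ^ n) u) (mv (T j ^ n) v) = m ^ n * f u v := fun n => by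
      induction n with
      | zero => intro u v; rw [pow_zero, pow_zero, mv_one, mv_one, one_mul]
      | succ n ih => intro u v; rw [pow_succ (T j), mv_mul (T j ^ n) (T j) u, mv_mul (T j ^ n) (T j) v, ih, hmf, pow_succ]; ring
    have h1 := hmn p e e
    rw [hTp, mv_one] at h1
    intro u v
    rw [hmf, hone m (mul_right_cancel₀ he0 (h1.symm.trans (one_mul _).symm)), one_mul]
  have hP : ∀ x, mv h (pten x) = (∏ j, ν j) • pten fun j => mv (T j) (x j) := fun x => by
    rw [hA]
    funext d
    simp only [pten, Pi.smul_apply, smul_eq_mul, hTv, ← Finset.prod_mul_distrib]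
    exact Finset.prod_congr rfl fun j _ => by rw [← mul_assoc, mul_inv_cancel₀ (hν0 j), one_mul]
  have hP1 : ∏ j, ν j = 1 := by
    have hn : ∀ (n : ℕ) x, mv (h ^ n) (pten x) = (∏ j, ν j) ^ n • pten fun j => mv (T j ^ n) (x j) := fun n => by
      induction n with
      | zero => intro x; simp only [pow_zero, mv_one, one_smul]
      | succ n ih => intro x; simp only [pow_succ, mv_mul, hP, mv_smul, ih, smul_smul, mul_comm]
    have h1 := hn p (fun _ => e)
    simp only [hhp, hTp, mv_one] at h1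
    refine hone _ (smul_left_injective F (pten_ne_zero fun _ e0 => he0 (by rw [e0, S.hf.zero_left]))
      (h1.symm.trans (one_smul F _).symm))
  have huniv : ∀ j : J, j = a ∨ j = b := fun j => by
    by_contra hc
    push Not at hc
    have h3 := Finset.card_le_univ ({a, b, j} : Finset J)
    rw [Finset.card_insert_of_notMem (by simp [hab, hc.1.symm]),
      Finset.card_pair hc.2.symm, hJ2] at h3
    omega
  refine ⟨T a, T b, ext_pten fun x => ?_, hTi a, hTi b, hTp a, hTp b⟩
  rw [hP, hP1, one_smul, mv_mul, mv_fac, mv_fac]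
  refine congrArg pten (funext fun j => ?_)
  rcases huniv j with rfl | rfl
  · rw [Function.update_self, Function.update_of_ne hab]
  · rw [Function.update_of_ne hab.symm, Function.update_self]

/-- For two slots, monomial isometries of order the characteristic are products of two such isometries. -/
theorem unip_split {a b : J} (hab : a ≠ b) (hJ2 : Fintype.card J = 2) {p : ℕ} [CharP F p] (hp : p.Prime)
    {h : GL (J → Fin k) F} (hiso : ∀ x y, Bt σ₁ f (mv h x) (mv h y) = Bt σ₁ f x y) (hhp : h ^ p = 1)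
    (hm : Mono h) : ∃ T T' : GL (Fin k) F, h = fac a T * fac b T' ∧
      (∀ u v, f (mv T u) (mv T v) = f u v) ∧ (∀ u v, f (mv T' u) (mv T' v) = f u v) ∧ T ^ p = 1 ∧ T' ^ p = 1 := by
  haveI : Fact p.Prime := ⟨hp⟩
  exact S.pow_split hab hJ2 (hp.odd_of_ne_two fun e => S.two (by subst e; exact CharP.cast_eq_zero F 2))
    (fun y hy => frobenius_inj F p (show y ^ p = (1 : F) ^ p by rw [hy, one_pow]))
    (fun y => Finite.surjective_of_injective (frobenius_inj F p) y) hiso hhp hm

/-- The pairing of the image under a root. -/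
theorem eA_pair {c w : Fin k → F} (hc : f c c = 0) (hw : f w c = 0) (u t : Fin k → F) :
    f (mv (eA S.hf c w) u) t = f u t + (f u c * f w t - f u w * f c t) - 2⁻¹ * f w w * f u c * f c t := by
  rw [mv_eA S.hf S.two hc hw, Elin_apply, Aop_Aop S.hf hc hw hw]
  simp only [S.hf.add_left, S.hf.smul_left, Aop_apply, S.hf.sub_left, Cop_apply]
  ring

omit S in
theorem finrank_sq_conj {ι : Type} [Fintype ι] [DecidableEq ι] (g h : GL ι F) :
    Module.finrank F (LinearMap.range ((mvLin (g * h * g⁻¹) - LinearMap.id) ∘ₗ (mvLin (g * h * g⁻¹) - LinearMap.id))) ≤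
      Module.finrank F (LinearMap.range ((mvLin h - LinearMap.id) ∘ₗ (mvLin h - LinearMap.id))) := by
  rw [← finrank_map_gl g (S := LinearMap.range ((mvLin h - LinearMap.id) ∘ₗ (mvLin h - LinearMap.id)))]
  refine Submodule.finrank_mono ?_
  rintro _ ⟨x, rfl⟩
  refine mem_map_gl.2 ⟨_, ⟨mv g⁻¹ x, rfl⟩, ?_⟩
  show mv g (mv h (mv h (mv g⁻¹ x) - mv g⁻¹ x) - (mv h (mv g⁻¹ x) - mv g⁻¹ x)) =
    mv (g * h * g⁻¹) (mv (g * h * g⁻¹) x - x) - (mv (g * h * g⁻¹) x - x)
  simp only [mv_mul, mv_sub, mv_inv_mv, mv_mv_inv]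

/-- The square of a root less one has values in the line of its vector. -/
theorem root_sq_rank (i : J) {c w : Fin k → F} (hc0 : c ≠ 0) (hc : f c c = 0) (hw : f w c = 0) :
    Module.finrank F (LinearMap.range ((mvLin (fac i (eA S.hf c w)) - LinearMap.id) ∘ₗ
      (mvLin (fac i (eA S.hf c w)) - LinearMap.id))) ≤ Fintype.card (Rest i k) := by
  rw [← finrank_Ln i hc0]
  refine Submodule.finrank_mono ?_
  set N := mvLin (fac i (eA S.hf c w)) - LinearMap.id with hN
  have key : ∀ z, N (N z) ∈ Ln i c := fun z => by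
    suffices h : (Ln i c).mkQ ∘ₗ N ∘ₗ N = 0 by
      exact (Submodule.Quotient.mk_eq_zero _).1 (LinearMap.congr_fun h z)
    refine ext_ins i fun x u => (Submodule.Quotient.mk_eq_zero _).2 ?_
    show mv (fac i (eA S.hf c w)) (mv (fac i (eA S.hf c w)) (ins i x u) - ins i x u) -
      (mv (fac i (eA S.hf c w)) (ins i x u) - ins i x u) ∈ Ln i c
    rw [mv_sub, mv_fac_ins, mv_fac_ins, ← mv_mul, eA_mul S.hf S.two hc hw hw,
      mv_eA S.hf S.two hc (by rw [S.hf.add_left, hw, add_zero]), mv_eA S.hf S.two hc hw, Elin_apply, Elin_apply,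
      Aop_Aop S.hf hc hw hw, Aop_Aop S.hf hc (by rw [S.hf.add_left, hw, add_zero])
        (by rw [S.hf.add_left, hw, add_zero]), Aop_add, LinearMap.add_apply, Cop_apply]
    simp only [← ins_sub_vec]
    rw [show ∀ A : Fin k → F, (x + (A + A) + (2⁻¹ : F) • -f (w + w) (w + w) • f x c • c) -
        (x + A + (2⁻¹ : F) • -f w w • f x c • c) - ((x + A + (2⁻¹ : F) • -f w w • f x c • c) - x) =
        ((2⁻¹ : F) * (-f (w + w) (w + w) + 2 * f w w) * f x c) • c from fun A => by module]
    rw [ins_smul_vec]; exact Submodule.smul_mem _ _ (ins_mem i c u)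
  rintro _ ⟨z, rfl⟩
  exact key z

end Sl

end Cfsg.Agent.OrthEvenWreath
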