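/-
Tensor powers of a symmetric form of even dimension at least six: all members are monomial.
-/
import Cfsg.Agent.Lib.OrthWreathEven.Slot
import Cfsg.Agent.Lib.OrthWreathEven.Desc

set_option autoImplicit false
set_option linter.unusedSectionVars false

namespace Cfsg.Agent.OrthEvenWreath

open scoped Matrix
open Matrix Cfsg.Agent.Transvec Cfsg.Agent.TensorMax Cfsg.Agent.WreathMax
open Cfsg.Agent.FormWreath hiding up mv_up_ins
open Cfsg.Agent.OrthWreath hiding Sl Ctx Base Ind Inv Gd fixsp_mir small_mir split_sim rho_omega fix_line_mono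
  exists_noncomm
open Cfsg.Agent.UWreath (mono_mul mono_inv)

variable {F : Type*} [Field F] [Finite F] {k : ℕ} {J : Type} [Fintype J] [DecidableEq J]
variable {f : (Fin k → F) → (Fin k → F) → F} {κ : F}

local notation "σ₁" => RingEquiv.refl F

variable {Q : ((J → Fin k) → F) → F} {X : Subgroup (GL (J → Fin k) F)}

namespace Ctx

variable (C : Ctx f Q κ X) (hJ : 2 ≤ Fintype.card J) (hX : ¬ Geo.omegaGL Q ≤ X) (B : Base f Q κ) (IH : Ind f κ J)
include C hJ hX B IH

omit hX B IH in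
/-- A root member of the fixed space fixes what is carried to the negated space. -/
theorem conj_fix {h : GL (J → Fin k) F} {i l : J} {A A' : GL (Fin k) F} (hA : A * A = 1)
    (hAi : ∀ u v, f (mv A u) (mv A v) = f u v) (hh : h * fac i A * h⁻¹ = fac l A')
    {c w : Fin k → F} (hc : f c c = 0) (hwc : f w c = 0) (hcA : mv A c = c) (hwA : mv A w = w)
    {x' : Fin k → F} (hx' : mv A' x' = -x') (u : Rest l k → F) :
    mv (fac i (eA C.hf c w)) (mv h⁻¹ (ins l x' u)) = mv h⁻¹ (ins l x' u) := by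
  have hf := C.hf
  refine fix_eig C.two i (A := -A) (by rw [neg_mul_neg, hA]) (fun v hv => ?_) ?_
  · have hv' : mv A v = -v := by rwa [mv_neg_gl, neg_eq_iff_eq_neg] at hv
    refine eA_fix hf C.two hc hwc ?_ ?_ <;> rw [hf.comm']
    exacts [C.toSl.eig_orth hAi hcA hv', C.toSl.eig_orth hAi hwA hv']
  · rw [fac_neg, mv_neg_gl, show fac i A = h⁻¹ * fac l A' * h by rw [← hh]; group, mv_mul, mv_mul, mv_mv_inv,
      mv_fac_ins, hx', ← neg_one_smul F x', ins_smul_vec, mv_smul, neg_one_smul, neg_neg]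

/-- Members commuting with a hyperbolic plane involution are monomial. -/
theorem cent_hyp (h6 : 6 ≤ k) {v : GL (J → Fin k) F} (hv : v ∈ X) {i : J} {x y : Fin k → F} (hx : f x x = 1)
    (hy : f y y = -1) (hxy : f x y = 0)
    (hcomm : v * fac i (mr C.hf x * mr C.hf y) = fac i (mr C.hf x * mr C.hf y) * v) : Mono v := by
  have hf := C.hf
  have hx0 : f x x ≠ 0 := hx ▸ one_ne_zero
  have hy0 : f y y ≠ 0 := hy ▸ neg_ne_zero.2 one_ne_zero
  set D := mr hf x * mr hf y
  obtain ⟨hDi, hDD, hDd⟩ := C.toSl.isPl_mr hx0 hy0 hxy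
  obtain ⟨c, hc, w, hw, hc0, hcc, hwc, hww⟩ := C.toSl.root_in (C.toSl.eig_nd hDD hDi) (by
    have : Module.finrank F (fixsp D) + 2 = k := hDd
    omega)
  have hxy0 : x + y ≠ 0 := fun e => by
    have := congrArg (fun v => f v x) e
    simp only [hf.add_left, hx, hf.comm' y x, hxy, hf.zero_left, add_zero] at this
    exact one_ne_zero this
  have hxyc : f (x + y) (x + y) = 0 := by
    rw [hf.add_left, hf.add_right, hf.add_right, hx, hy, hxy, hf.comm' y x, hxy]; ring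
  refine C.root_fix_iso hJ hX B IH hv (i := i) (l := i) hc0 hcc hwc hww hxy0 hxyc fun u =>
    C.conj_fix hJ (A' := D) hDD hDi (by rw [hcomm, mul_inv_cancel_right]) hcc hwc (mem_fixsp.1 hc)
      (mem_fixsp.1 hw) ?_ u
  rw [mv_add, C.toSl.mm_left hx0 hy0 hxy, C.toSl.mm_right hx0 hy0 hxy]
  abel

set_option maxHeartbeats 800000 in
/-- The image of a product of two plane involutions under a member fixing an anisotropic line. -/
theorem fixline_step (h6 : 6 ≤ k) {v : GL (J → Fin k) F} (hv : v ∈ X) {i b : J} (hbi : b ≠ i) {x : Fin k → F}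
    (hx : f x x ≠ 0) (hfix : ∀ u, mv v (ins i x u) = ins i x u) {x₀ y₀ : Fin k → F} (hx₀ : f x₀ x₀ = 1)
    (hy₀ : f y₀ y₀ = -1) (h₀ : f x₀ y₀ = 0) {x₁ y₁ : Fin k → F} (hx₁ : f x₁ x₁ = 1) (hy₁ : f y₁ y₁ = -1)
    (h₁ : f x₁ y₁ = 0) (hxx₁ : f x x₁ = 0) (hxy₁ : f x y₁ = 0) :
    ∃ T : GL (Fin k) F, v * (fac i (mr C.hf x₁ * mr C.hf y₁) * fac b (mr C.hf x₀ * mr C.hf y₀)) * v⁻¹ =
      fac b (mr C.hf x₀ * mr C.hf y₀) * fac i T := by
  classical
  have hf := C.hf
  have hk : 0 < k := by omega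
  haveI : Nonempty J := ⟨i⟩
  have hx0 : x ≠ 0 := fun e => hx (by rw [e, hf.zero_left])
  set D := mr hf x₀ * mr hf y₀
  set E := mr hf x₁ * mr hf y₁
  have hD : IsPl f D := C.toSl.isPl_mr (hx₀ ▸ one_ne_zero) (hy₀ ▸ neg_ne_zero.2 one_ne_zero) h₀
  have hE : IsPl f E := C.toSl.isPl_mr (hx₁ ▸ one_ne_zero) (hy₁ ▸ neg_ne_zero.2 one_ne_zero) h₁
  have hEx : mv E x = x := C.toSl.mm_perp (hx₁ ▸ one_ne_zero) (hy₁ ▸ neg_ne_zero.2 one_ne_zero) h₁ hxx₁ hxy₁
  set q := fac (J := J) b D with hqd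
  set e := fac i E * q with hed
  set s := v * e * v⁻¹ with hsd
  have hqX : q ∈ X := C.fac_pl hD b
  have heX : e ∈ X := X.mul_mem (C.fac_pl hE i) hqX
  have hsX : s ∈ X := X.mul_mem (X.mul_mem hv heX) (X.inv_mem hv)
  have hqq : q * q = 1 := by rw [hqd, ← fac_mul, hD.2.1, fac_one]
  have hee : e * e = 1 := by
    rw [hed, mul_assoc, ← mul_assoc q, show q * fac i E = fac i E * q from fac_comm hbi _ _, mul_assoc, hqq, mul_one,
      ← fac_mul, hE.2.1, fac_one]
  have hss : s * s = 1 := by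
    rw [hsd, show v * e * v⁻¹ * (v * e * v⁻¹) = v * (e * e) * v⁻¹ by group, hee, mul_one, mul_inv_cancel]
  have hqm : Mono q := ⟨1, monoOf_fac b _⟩
  set d := fac (⟨b, hbi⟩ : {j // j ≠ i}) D with hdd
  have hqi : ∀ u, mv q (ins i x u) = ins i x (mv d u) := fun u => mv_fac_other hbi _ _ _
  have hsi : ∀ u, mv s (ins i x u) = ins i x (mv d u) := fun u => by
    rw [hsd, mv_mul, mv_mul, show mv v⁻¹ (ins i x u) = ins i x u by rw [mv_eq_iff, inv_inv, hfix], hed, mv_mul, hqi,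
      mv_fac_ins, hEx, hfix]
  have hfixts : ∀ (n : ℕ) u, mv ((q * s) ^ n) (ins i x u) = ins i x u := fun n => by
    induction n with
    | zero => intro u; rw [pow_zero, mv_one]
    | succ n ih =>
      intro u
      rw [pow_succ, mv_mul, mv_mul, hsi, hqi, ← mv_mul d, hdd, ← fac_mul, hD.2.1, fac_one, mv_one, ih]
  have hslot : ∀ w ∈ X, Mono w → (∀ u, mv w (ins i x u) = ins i x u) →
      ∃ A : GL (Fin k) F, w = fac i A ∧ mv A x = x ∧ ∀ u u', f (mv A u) (mv A u') = f u u' := fun w hw hm hfx =>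
    fix_line_mono C.toSl hm (C.pres (C.iso hw)) hx0 hfx
  have hsq : ∀ A : GL (Fin k) F, q * fac i A * (q * fac i A) = 1 → A * A = 1 := fun A h => by
    rw [mul_assoc, ← mul_assoc (fac i A) q, show fac i A * q = q * fac i A from fac_comm hbi.symm _ _, ← mul_assoc,
      ← mul_assoc, hqq, one_mul, ← fac_mul] at h
    exact (fac_one_iff hk i).1 h
  have hsd2 : ∀ A : GL (Fin k) F, A * A = 1 →
      sgd (q * fac i A) * (k * k) = (k : ℤ) ^ Fintype.card J * (((k : ℤ) - 4) * sgd A) := fun A hA => by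
    rw [hqd, C.toSl.sgd_fac2 hbi hD.2.1 hA, C.toSl.sgd_pl hD]
  have hqs : sgd q * k = (k : ℤ) ^ Fintype.card J * ((k : ℤ) - 4) := by rw [C.toSl.sgd_fac b, C.toSl.sgd_pl hD]
  have hk4 : ((k : ℤ) - 4) ≠ 0 := by omega
  have hN : (k : ℤ) ^ Fintype.card J ≠ 0 := pow_ne_zero _ (by omega)
  obtain ⟨m, hs'', hτ, hw⟩ := desc monoSub hqq hss hqm fun n hn => by
    set z := (q * s) ^ n with hz
    have hzX : z ∈ X := X.pow_mem (X.mul_mem hqX hsX) n
    obtain ⟨A, hA, -, hAi⟩ := hslot (q * (z⁻¹ * q * z))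
      (X.mul_mem hqX (X.mul_mem (X.mul_mem (X.inv_mem hzX) hqX) hzX)) (mono_mul hqm hn) fun u => by
      rw [mv_mul, mv_mul, mv_mul, hfixts, hqi,
        show mv z⁻¹ (ins i x (mv d u)) = ins i x (mv d u) by rw [mv_eq_iff, inv_inv, hfixts], hqi, ← mv_mul d, hdd,
        ← fac_mul, hD.2.1, fac_one, mv_one]
    have hzq : z⁻¹ * q * z = q * fac i A := by rw [← hA, ← mul_assoc q q, hqq, one_mul]
    have hAA : A * A = 1 := hsq A (by
      rw [← hzq, show z⁻¹ * q * z * (z⁻¹ * q * z) = z⁻¹ * (q * q) * z by group, hqq, mul_one, inv_mul_cancel])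
    have h1 : sgd A = k := by
      have e1 := hsd2 A hAA
      rw [← hzq, show z⁻¹ * q * z = z⁻¹ * q * z⁻¹⁻¹ by rw [inv_inv], sgd_conj, ← mul_assoc, hqs] at e1
      have e2 : (k : ℤ) ^ Fintype.card J * ((k : ℤ) - 4) * (k : ℤ) =
          (k : ℤ) ^ Fintype.card J * ((k : ℤ) - 4) * sgd A := by linear_combination e1
      exact (mul_left_cancel₀ (mul_ne_zero hN hk4) e2).symm
    have hA1 : A = 1 := ext_mv fun w => by
      rw [sgd, Fintype.card_fin] at h1
      have htop : fixsp A = ⊤ := Submodule.eq_top_of_finrank_eq (by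
        rw [Module.finrank_fintype_fun_eq_card, Fintype.card_fin]; omega)
      rw [mv_one]
      exact mem_fixsp.1 (htop ▸ Submodule.mem_top)
    rw [hA1, fac_one, mul_one] at hzq
    refine C.cent_hyp hJ hX B IH h6 hzX hx₀ hy₀ h₀ (i := b) ?_
    calc z * q = z * (z⁻¹ * q * z) := by rw [hzq]
      _ = q * z := by group
  obtain ⟨A, hA, hAx, hAi⟩ := hslot _ (X.pow_mem (X.mul_mem hqX hsX) (2 * m + 1)) hτ (hfixts _)
  have hconj : q * fac i A = ((q * s) ^ m)⁻¹ * v * e * (((q * s) ^ m)⁻¹ * v)⁻¹ := by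
    rw [← hA, dih_succ hqq hss, hsd]; group
  have hAA : A * A = 1 := hsq A (by
    rw [hconj, show ∀ w : GL (J → Fin k) F, w * e * w⁻¹ * (w * e * w⁻¹) = w * (e * e) * w⁻¹ from fun w => by group,
      hee, mul_one, mul_inv_cancel])
  have hAs : sgd A = (k : ℤ) - 4 := by
    have e1 := hsd2 A hAA
    have e2 := hsd2 E hE.2.1
    rw [hconj, sgd_conj, hed, fac_comm hbi.symm] at e1
    rw [e1, C.toSl.sgd_pl hE] at e2
    exact mul_left_cancel₀ hk4 (mul_left_cancel₀ hN e2)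
  have hApl : IsPl f A := ⟨hAi, hAA, by rw [sgd, Fintype.card_fin] at hAs; omega⟩
  have hA1 : fac (J := J) i A ≠ 1 := fun e => (C.toSl.isPl_ne hApl).1 ((fac_one_iff hk i).1 e)
  have hsA : s * fac i A = fac i A * s := by
    rw [hA] at hw
    obtain ⟨n, hn1, -, -, hn4⟩ := hw.resolve_left hA1
    have hn : fac i A ^ n = fac i A := by
      have e2 : fac i A * fac i A = 1 := by rw [← fac_mul, hAA, fac_one]
      rcases Nat.even_or_odd n with ⟨r, rfl⟩ | ⟨r, rfl⟩
      · exact absurd (by rw [← two_mul, pow_mul, pow_two, e2, one_pow]) hn1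
      · rw [pow_succ, pow_mul, pow_two, e2, one_pow, one_mul]
    rwa [hn] at hn4
  -- roots in the space of x and of the negated plane
  set P := fixsp (-A) ⊔ Submodule.span F {x} with hPd
  have hPx : ∀ n ∈ fixsp (-A), f n x = 0 := fun n hn => by
    rw [hf.comm']; exact C.toSl.eig_orth hAi hAx (mem_fixsp_neg.1 hn)
  have hPn : Nd f P := fun u hu h => by
    obtain ⟨n, hn, z, hz, rfl⟩ := Submodule.mem_sup.1 hu
    obtain ⟨a, rfl⟩ := Submodule.mem_span_singleton.1 hz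
    have ha : a = 0 := by
      have := h x (Submodule.mem_sup_right (Submodule.mem_span_singleton_self x))
      rw [hf.add_right, hf.smul_right', hf.comm' x n, hPx n hn, zero_add] at this
      exact (mul_eq_zero.1 this).resolve_right hx
    rw [ha, zero_smul, add_zero] at h ⊢
    exact C.toSl.eig_nd (A := -A) (by rw [neg_mul_neg, hAA]) (C.toSl.neg_isom hAi) n hn fun w hw =>
      h w (Submodule.mem_sup_left hw)
  have hP3 : 3 ≤ Module.finrank F P := by
    have h1 := Submodule.finrank_sup_add_finrank_inf_eq (fixsp (-A)) (Submodule.span F {x})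
    rw [show fixsp (-A) ⊓ Submodule.span F {x} = ⊥ from (Submodule.eq_bot_iff _).2 fun u hu => by
        obtain ⟨hu1, hu2⟩ := Submodule.mem_inf.1 hu
        obtain ⟨a, rfl⟩ := Submodule.mem_span_singleton.1 hu2
        have := hPx _ hu1
        rw [hf.smul_left] at this
        rw [(mul_eq_zero.1 this).resolve_right hx, zero_smul],
      finrank_bot, finrank_span_singleton hx0, C.toSl.isPl_fix hApl, ← hPd] at h1
    omega
  obtain ⟨c, hc, w, hw', hc0, hcc, hwc, hww⟩ := C.toSl.root_in hPn hP3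
  have hU : ∀ z ∈ P, ∀ u, mv A u = u → f u x = 0 → f u z = 0 := fun z hzP u hu hux => by
    obtain ⟨n, hn, z', hz', rfl⟩ := Submodule.mem_sup.1 hzP
    obtain ⟨a, rfl⟩ := Submodule.mem_span_singleton.1 hz' 
    rw [hf.add_right, hf.smul_right', hux, mul_zero, add_zero]
    exact C.toSl.eig_orth hAi hu (mem_fixsp_neg.1 hn)
  obtain ⟨hn, hd⟩ := C.toSl.perp_step (C.toSl.eig_nd hAA hAi) (mem_fixsp.2 hAx) hx
  obtain ⟨c', hc', -, -, hc'0, hc'c, -, -⟩ := C.toSl.root_in hn (by have := hApl.2.2; omega)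
  obtain ⟨hc'1, hc'2⟩ := Submodule.mem_inf.1 hc'
  rw [mem_fixsp] at hc'1
  rw [mem_prp] at hc'2
  have hsm : Mono s := C.root_fix_iso hJ hX B IH hsX (i := i) (l := i) hc0 hcc hwc hww hc'0 hc'c fun u => by
    have hsinv : s⁻¹ = s := inv_eq_of_mul_eq_one_right hss
    rw [hsinv]
    refine fix_eig_perp hf C.two i hAA hAi hx hAx (fun z hz hzx => eA_fix hf C.two hcc hwc
      (hU c hc z hz hzx) (hU w hw' z hz hzx)) ?_ fun u' => ?_
    · rw [← mv_mul, ← hsA, mv_mul, mv_fac_ins, hc'1]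
    · have e1 := C.pres (C.iso hsX) (mv s (ins i c' u)) (ins i x u')
      rw [← mv_mul, hss, mv_one, hsi, Bt_ins_ins hf, hc'2, zero_mul] at e1
      exact e1.symm
  obtain ⟨T, hT, -, -⟩ := hslot (q * s) (X.mul_mem hqX hsX) (mono_mul hqm hsm) fun u => by
    have := hfixts 1 u
    rwa [pow_one] at this
  exact ⟨T, by rw [← hT, ← mul_assoc, hqq, one_mul]⟩

/-- Members fixing an anisotropic line pointwise are monomial. -/
theorem fixline_mono (h6 : 6 ≤ k) {v : GL (J → Fin k) F} (hv : v ∈ X) {i : J} {x : Fin k → F}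
    (hx : f x x ≠ 0) (hfix : ∀ u, mv v (ins i x u) = ins i x u) : Mono v := by
  classical
  have hf := C.hf
  have h2 := C.two
  obtain ⟨b, hbi⟩ := Fintype.exists_ne_of_one_lt_card (α := J) (by omega) i
  obtain ⟨x₀, -, y₀, -, hx₀, hy₀, h₀⟩ := C.toSl.pair_in C.toSl.nd_top (by rw [C.toSl.finrank_top']; omega)
  obtain ⟨hn, hd⟩ := C.toSl.perp_step C.toSl.nd_top Submodule.mem_top hx
  rw [C.toSl.finrank_top'] at hd
  obtain ⟨x₁, hx₁m, y₁, hy₁m, hx₁, hy₁, h₁⟩ := C.toSl.pair_in hn (by omega)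
  obtain ⟨hn1, hd1⟩ := C.toSl.perp_step hn hx₁m (hx₁ ▸ one_ne_zero)
  obtain ⟨hn2, hd2⟩ := C.toSl.perp_step hn1 (Submodule.mem_inf.2 ⟨hy₁m, (mem_prp hf).2 (by rw [hf.comm', h₁])⟩)
    (hy₁ ▸ neg_ne_zero.2 one_ne_zero)
  obtain ⟨w, hwm, hww⟩ := C.toSl.aniso_in hn2 (C.toSl.ne_bot_of (by omega))
  simp only [Submodule.mem_inf, mem_prp, Submodule.mem_top, true_and] at hx₁m hy₁m hwm
  obtain ⟨⟨hwx, hwx₁⟩, hwy₁⟩ := hwm
  set c := x₁ + y₁ with hcd
  have hc0 : c ≠ 0 := fun e => by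
    have := congrArg (fun v => f v x₁) e
    simp only [hcd, hf.add_left, hx₁, hf.comm' y₁ x₁, h₁, hf.zero_left, add_zero] at this
    exact one_ne_zero this
  have hcc : f c c = 0 := by
    rw [hcd, hf.add_left, hf.add_right, hf.add_right, hx₁, hy₁, h₁, hf.comm' y₁ x₁, h₁]; ring
  have hwc : f w c = 0 := by rw [hcd, hf.add_right, hwx₁, hwy₁, add_zero]
  set r := (-(2⁻¹ : F)) • w with hrd
  have hrc : f r c = 0 := by rw [hrd, hf.smul_left, hwc, mul_zero]
  set h := eA hf c r with hhd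
  have hhi : ∀ u u', f (mv h u) (mv h u') = f u u' := eA_isom hf h2 hcc hrc
  have hhx : mv h x = x := eA_fix hf h2 hcc hrc
    (by rw [hcd, hf.add_right, hf.comm' x x₁, hx₁m, hf.comm' x y₁, hy₁m, add_zero])
    (by rw [hrd, hf.smul_right', hf.comm' x w, hwx, mul_zero])
  have hx₁0 : f x₁ x₁ ≠ 0 := hx₁ ▸ one_ne_zero
  have hy₁0 : f y₁ y₁ ≠ 0 := hy₁ ▸ neg_ne_zero.2 one_ne_zero
  set E := mr hf x₁ * mr hf y₁ with hEd
  set E' := mr hf (mv h x₁) * mr hf (mv h y₁) with hE'd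
  obtain ⟨T, hT⟩ := C.fixline_step hJ hX B IH h6 hv hbi hx hfix hx₀ hy₀ h₀ hx₁ hy₁ h₁
    (by rw [hf.comm', hx₁m]) (by rw [hf.comm', hy₁m])
  obtain ⟨T', hT'⟩ := C.fixline_step hJ hX B IH h6 hv hbi hx hfix hx₀ hy₀ h₀ (x₁ := mv h x₁) (y₁ := mv h y₁)
    (by rw [hhi, hx₁]) (by rw [hhi, hy₁]) (by rw [hhi, h₁])
    (by rw [← hhx, hhi, hf.comm', hx₁m]) (by rw [← hhx, hhi, hf.comm', hy₁m])
  obtain ⟨hEi, hEE, -⟩ : IsPl f E := C.toSl.isPl_mr hx₁0 hy₁0 h₁
  have hEh : E * E' = eA hf c w := by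
    have hEc : mv E c = -c := by
      rw [hcd, mv_add, C.toSl.mm_left hx₁0 hy₁0 h₁, C.toSl.mm_right hx₁0 hy₁0 h₁]; abel
    have hEr : mv E r = r := by rw [hrd, mv_smul, C.toSl.mm_perp hx₁0 hy₁0 h₁ hwx₁ hwy₁]
    have hcon : E * h * E⁻¹ = h⁻¹ := by
      rw [hhd, eA_conj hf h2 hEi hcc hrc, hEc, hEr, eA_neg_left hf h2 hcc hrc, eA_inv hf h2 hcc hrc]
    have hE' : E' = h * E * h⁻¹ := by
      rw [hE'd, ← mr_conj hf hhi hx₁0, ← mr_conj hf hhi hy₁0, hEd]; group
    rw [hE', show E * (h * E * h⁻¹) = (E * h * E⁻¹) * (E * E) * h⁻¹ by group, hcon, hEE, mul_one,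
      eA_inv hf h2 hcc hrc, eA_mul hf h2 hcc (by rw [hf.neg_left, hrc, neg_zero])
        (by rw [hf.neg_left, hrc, neg_zero])]
    congr 1
    rw [hrd]
    match_scalars
    field_simp
    ring
  refine C.root_line hJ hX B IH hv (i := i) (l := i) (T := T * T') hc0 hcc hwc hww ?_
  show v * fac i (eA hf c w) * v⁻¹ = _
  rw [← hEh]
  set D := mr hf x₀ * mr hf y₀
  have hDD : fac (J := J) b D * fac b D = 1 := by
    rw [← fac_mul, (C.toSl.isPl_mr (hx₀ ▸ one_ne_zero) (hy₀ ▸ neg_ne_zero.2 one_ne_zero) h₀).2.1, fac_one]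
  calc v * fac i (E * E') * v⁻¹ = v * (fac i E * fac b D) * v⁻¹ * (v * (fac i E' * fac b D) * v⁻¹) := by
        rw [show v * (fac i E * fac b D) * v⁻¹ * (v * (fac i E' * fac b D) * v⁻¹) =
          v * (fac i E * (fac b D * fac i E') * fac b D) * v⁻¹ by group, fac_comm hbi,
          show fac i E * (fac i E' * fac b D) * fac b D = fac i E * fac i E' * (fac b D * fac b D) by group, hDD,
          mul_one, fac_mul]
    _ = fac b D * fac i T * (fac b D * fac i T') := by rw [hT, hT']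
    _ = fac i (T * T') := by
      rw [fac_comm hbi D T', ← mul_assoc, mul_assoc (fac b D), ← fac_mul i T, fac_comm hbi, mul_assoc, hDD, mul_one]

/-- Members conjugating an involution of a slot with big fixed space to one of a slot are monomial. -/
theorem conj_big (h6 : 6 ≤ k) {h : GL (J → Fin k) F} (hh : h ∈ X) {i l : J} {A A' : GL (Fin k) F} (hA : A * A = 1)
    (hAi : ∀ u v, f (mv A u) (mv A v) = f u v) (hA' : A' * A' = 1)
    (hA'i : ∀ u v, f (mv A' u) (mv A' v) = f u v) (hA'1 : A' ≠ 1) (h3 : 3 ≤ Module.finrank F (fixsp A))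
    (he : h * fac i A * h⁻¹ = fac l A') : Mono h := by
  have hf := C.hf
  obtain ⟨c, hc, w, hw, hc0, hcc, hwc, hww⟩ := C.toSl.root_in (C.toSl.eig_nd hA hAi) h3
  obtain ⟨x', hx', hx'x⟩ := C.toSl.exists_neg hA' hA'i hA'1
  have hfix := C.conj_fix hJ hA hAi he hcc hwc (mem_fixsp.1 hc) (mem_fixsp.1 hw) hx'
  refine C.root_fix hJ hX B IH hh (i := i) (l := l) hc0 hcc hwc hww (fun e => hx'x (by rw [e, hf.zero_left])) hfix
    (C.fixline_mono hJ hX B IH h6 (X.mul_mem (X.mul_mem hh (C.root i c w hcc hwc)) (X.inv_mem hh)) (i := l) hx'x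
      fun u => by rw [mv_mul, mv_mul, hfix, mv_mv_inv])

/-- Members conjugating an involution of a slot to one of a slot are monomial. -/
theorem conj_mono (h6 : 6 ≤ k) {h : GL (J → Fin k) F} (hh : h ∈ X) {i l : J} {A A' : GL (Fin k) F} (hA : A * A = 1)
    (hAi : ∀ u v, f (mv A u) (mv A v) = f u v) (hA' : A' * A' = 1)
    (hA'i : ∀ u v, f (mv A' u) (mv A' v) = f u v) (hA1 : A ≠ 1) (hA2 : A ≠ -1)
    (he : h * fac i A * h⁻¹ = fac l A') : Mono h := by
  have hk : 0 < k := by omega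
  have key : A' ≠ 1 ∧ A' ≠ -1 := by
    constructor <;> intro e <;> subst e
    · rw [fac_one, mul_inv_eq_one] at he
      exact hA1 ((fac_one_iff hk i).1 (mul_eq_left.1 he))
    · rw [fac_neg, fac_one, mul_inv_eq_iff_eq_mul, neg_mul, one_mul] at he
      have e2 : fac i A = -1 := mul_left_cancel (a := h) (by rw [he, mul_neg, mul_one])
      refine hA2 (fac_inj hk i ?_)
      rw [e2, fac_neg, fac_one]
  by_cases h3 : 3 ≤ Module.finrank F (fixsp A)
  · exact C.conj_big hJ hX B IH h6 hh hA hAi hA' hA'i key.1 h3 he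
  · refine C.conj_big hJ hX B IH h6 hh (A := -A) (A' := -A') (by rw [neg_mul_neg, hA]) (C.toSl.neg_isom hAi)
      (by rw [neg_mul_neg, hA']) (C.toSl.neg_isom hA'i) (fun e => key.2 (by rw [← e, neg_neg])) ?_ (i := i) (l := l) ?_
    · have := C.toSl.eig_sum hA
      omega
    · rw [fac_neg, fac_neg, mul_neg, neg_mul, he]

/-- The conjugates of plane involutions in the monomial group. -/
theorem pl_image (h6 : 6 ≤ k) {h : GL (J → Fin k) F} (hh : h ∈ X) {a : J} {D : GL (Fin k) F} (hD : IsPl f D)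
    (hm : Mono (h * fac a D * h⁻¹)) :
    ∃ (j : J) (T : GL (Fin k) F), IsPl f T ∧ h * fac a D * h⁻¹ = fac j T ∧ Mono h := by
  haveI : Nonempty J := ⟨a⟩
  obtain ⟨j, T, hT, e⟩ := C.toSl.plane_shape h6
    (C.pres (C.iso (X.mul_mem (X.mul_mem hh (C.fac_pl hD a)) (X.inv_mem hh))))
    (by rw [show h * fac a D * h⁻¹ * (h * fac a D * h⁻¹) = h * (fac a D * fac a D) * h⁻¹ by group, ← fac_mul, hD.2.1,
      fac_one, mul_one, mul_inv_cancel]) hm (by rw [sgd_conj, C.toSl.sgd_fac a, C.toSl.sgd_pl hD])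
  exact ⟨j, T, hT, e, C.conj_mono hJ hX B IH h6 hh hD.2.1 hD.1 hT.2.1 hT.1 (C.toSl.isPl_ne hD).1
    (C.toSl.isPl_ne hD).2 e⟩

/-- The step of the descent. -/
theorem pl_step (h6 : 6 ≤ k) {z : GL (J → Fin k) F} (hz : z ∈ X) {a : J} {D : GL (Fin k) F} (hD : IsPl f D)
    (hm : Mono (z⁻¹ * fac a D * z)) : Mono z := by
  obtain ⟨-, -, -, -, h⟩ := C.pl_image hJ hX B IH h6 (X.inv_mem hz) (a := a) hD (by rwa [inv_inv])
  simpa using mono_inv h

/-- Members commuting with a product of two plane involutions in two slots are monomial. -/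
theorem pair_cent (h6 : 6 ≤ k) {a c : J} (hac : a ≠ c) {D D' : GL (Fin k) F} (hD : IsPl f D) (hD' : IsPl f D')
    {v : GL (J → Fin k) F} (hv : v ∈ X) (hcomm : v * (fac a D * fac c D') = fac a D * fac c D' * v) : Mono v := by
  classical
  have hf := C.hf
  have hk : 0 < k := by omega
  obtain ⟨x, y, hx, hy, hxy, hDeq⟩ := C.toSl.isPl_exists_mr hD
  obtain ⟨x₂, hx₂, y₂, hy₂, hx₂v, hy₂v, h₂⟩ := C.toSl.pair_in (C.toSl.eig_nd hD.2.1 hD.1) (by
    have := hD.2.2; omega)
  have hx₂0 : f x₂ x₂ ≠ 0 := hx₂v ▸ one_ne_zero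
  have hy₂0 : f y₂ y₂ ≠ 0 := hy₂v ▸ neg_ne_zero.2 one_ne_zero
  set D2 := mr hf x₂ * mr hf y₂ with hD2d
  have hD2 : IsPl f D2 := C.toSl.isPl_mr hx₂0 hy₂0 h₂
  have hDx : mv D x = -x := by rw [hDeq]; exact C.toSl.mm_left hx hy hxy
  have hDy : mv D y = -y := by rw [hDeq]; exact C.toSl.mm_right hx hy hxy
  have ox : ∀ z ∈ fixsp D, f z x = 0 ∧ f z y = 0 := fun z hz =>
    ⟨C.toSl.eig_orth hD.1 (mem_fixsp.1 hz) hDx, C.toSl.eig_orth hD.1 (mem_fixsp.1 hz) hDy⟩
  have hDD2 : D2 * D = D * D2 := by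
    have c1 := C.toSl.mr_comm' hx₂0 hx (ox x₂ hx₂).1
    have c2 := C.toSl.mr_comm' hx₂0 hy (ox x₂ hx₂).2
    have c3 := C.toSl.mr_comm' hy₂0 hx (ox y₂ hy₂).1
    have c4 := C.toSl.mr_comm' hy₂0 hy (ox y₂ hy₂).2
    rw [hDeq, hD2d]
    exact Commute.mul_left (Commute.mul_right c1 c2) (Commute.mul_right c3 c4)
  have hprod : (D2 * D) * (D2 * D) = 1 := by
    rw [mul_assoc, ← mul_assoc D, ← hDD2, mul_assoc D2, hD.2.1, mul_one, hD2.2.1]
  have hprodi : ∀ u w, f (mv (D2 * D) u) (mv (D2 * D) w) = f u w := fun u w => by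
    rw [mv_mul D2 D u, mv_mul D2 D w, hD2.1, hD.1]
  have hP1 : D2 * D ≠ 1 := fun e => by
    have h1 := congrArg (fun g => mv g x₂) e
    simp only [mv_mul, mv_one, mem_fixsp.1 hx₂, hD2d] at h1
    rw [← mv_mul, C.toSl.mm_left hx₂0 hy₂0 h₂] at h1
    refine hx₂0 ?_
    rw [show x₂ = 0 from (smul_eq_zero.1 (by linear_combination (norm := module) -h1 : (2 : F) • x₂ = 0)).resolve_left
      C.two, hf.zero_left]
  have hP2 : D2 * D ≠ -1 := fun e => by
    have h1 : D2 = -D := by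
      have h2 := congrArg (· * D) e
      simp only [mul_assoc, hD.2.1, mul_one, neg_mul, one_mul] at h2
      exact h2
    have := hD2.2.2
    rw [h1, C.toSl.isPl_fix hD] at this
    omega
  have hnD := C.toSl.isPl_ctl hD
  have hnD2 := C.toSl.isPl_ctl hD2
  have hnD' := C.toSl.isPl_ctl hD'
  set u := fac a D * fac c D' with hud
  set t := fac (J := J) a D2 with htd
  set b := fac (J := J) a D with hbd
  set s := v * b * v⁻¹ with hsd
  have htt : t * t = 1 := by rw [htd, ← fac_mul, hD2.2.1, fac_one]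
  have hbb : b * b = 1 := by rw [hbd, ← fac_mul, hD.2.1, fac_one]
  have hss : s * s = 1 := by
    rw [hsd, show v * b * v⁻¹ * (v * b * v⁻¹) = v * (b * b) * v⁻¹ by group, hbb, mul_one, mul_inv_cancel]
  have htX : t ∈ X := C.fac_pl hD2 a
  have hsX : s ∈ X := X.mul_mem (X.mul_mem hv (C.fac_pl hD a)) (X.inv_mem hv)
  have htm : Mono t := ⟨1, monoOf_fac a D2⟩
  have hut : Commute u t := by
    show u * t = t * u
    rw [hud, htd, mul_assoc, fac_comm hac.symm, ← mul_assoc, ← fac_mul, ← hDD2, fac_mul, mul_assoc]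
  have hub : Commute u b := by
    show u * b = b * u
    rw [hud, hbd, mul_assoc, fac_comm hac.symm, ← mul_assoc]
  have huv : Commute u v := hcomm.symm
  have hus : Commute u s := (huv.mul_right hub).mul_right huv.inv_right
  obtain ⟨m, hs'', hτ, hw⟩ := desc monoSub htt hss htm fun n hn =>
    C.pl_step hJ hX B IH h6 (X.pow_mem (X.mul_mem htX hsX) n) hD2 hn
  set h := ((t * s) ^ m)⁻¹ * v
  have hhX : h ∈ X := X.mul_mem (X.inv_mem (X.pow_mem (X.mul_mem htX hsX) m)) hv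
  have huh : Commute u h := (((hut.mul_right hus).pow_right m).inv_right).mul_right huv
  have hconj : ((t * s) ^ m)⁻¹ * s * (t * s) ^ m = h * b * h⁻¹ := by
    show ((t * s) ^ m)⁻¹ * s * (t * s) ^ m = ((t * s) ^ m)⁻¹ * v * b * (((t * s) ^ m)⁻¹ * v)⁻¹
    rw [hsd]; group
  obtain ⟨p, P, hP, hpe, hhm⟩ := C.pl_image hJ hX B IH h6 hhX hD (hconj ▸ hs'')
  obtain ⟨p', P', hP', hpe', -⟩ := C.pl_image hJ hX B IH h6 hhX (a := c) hD'
    (mono_mul (mono_mul hhm ⟨1, monoOf_fac c D'⟩) (mono_inv hhm))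
  have huP : fac a D * fac c D' = fac p P * fac p' P' := by
    rw [← hpe, ← hpe', show h * b * h⁻¹ * (h * fac c D' * h⁻¹) = h * u * h⁻¹ by rw [hud, hbd]; group,
      ← huh.eq, mul_inv_cancel_right]
  have hpp : p ≠ p' := fun e => by
    subst e
    exact facs_ne hk hac hnD hnD' (huP.trans (fac_mul p P P').symm)
  have hcases : fac p P = b ∨ fac p P = fac c D' := by
    rcases facs_slot hk hac hnD huP with e | e
    · subst e
      exact Or.inl (by rw [hbd, C.toSl.facs_pl h6 hac hpp hD hP huP])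
    · subst e
      refine Or.inr ?_
      have h1 := huP
      rw [fac_comm hpp] at h1
      have h2 := C.toSl.facs_pl h6 hac hpp.symm hD hP' h1
      rw [h2] at h1
      exact (mul_left_cancel h1).symm
  have hτe : (t * s) ^ (2 * m + 1) = t * fac p P := by
    rw [← hpe, ← hconj, ← dih_succ htt hss, ← mul_assoc t t, htt, one_mul]
  have hτb : ∀ M, fac p P = fac c M → M * M = 1 →
      (t * s) ^ (2 * m + 1) * (t * s) ^ (2 * m + 1) = 1 := fun M e hM => by
    rw [hτe, e, htd, mul_assoc, ← mul_assoc (fac c M), fac_comm hac.symm, mul_assoc, ← fac_mul, hM, fac_one, mul_one,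
      ← fac_mul, hD2.2.1, fac_one]
  have hτ1 : (t * s) ^ (2 * m + 1) ≠ 1 := fun e => by
    rw [hτe] at e
    rcases hcases with e' | e' <;> rw [e'] at e
    · rw [htd, hbd, ← fac_mul, fac_one_iff hk] at e
      exact hP1 e
    · refine hac (fac_slot hk hnD2 (B := D'⁻¹) ?_)
      rw [← htd, ← fac_inv]
      exact eq_inv_of_mul_eq_one_left e
  have hτ2 : (t * s) ^ (2 * m + 1) * (t * s) ^ (2 * m + 1) = 1 := by
    rcases hcases with e' | e'
    · rw [hτe, e', htd, hbd, ← fac_mul, ← fac_mul, hprod, fac_one]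
    · exact hτb D' e' hD'.2.1
  obtain ⟨n, hn1, -, -, hn4⟩ := hw.resolve_left hτ1
  have hn : ((t * s) ^ (2 * m + 1)) ^ n = (t * s) ^ (2 * m + 1) := by
    rcases Nat.even_or_odd n with ⟨r, rfl⟩ | ⟨r, rfl⟩
    · exact absurd (by rw [← two_mul, pow_mul, pow_two, hτ2, one_pow]) hn1
    · rw [pow_succ, pow_mul, pow_two, hτ2, one_pow, one_mul]
  rw [hn, hτe] at hn4
  have hsz : s * fac a (D2 * D) = fac a (D2 * D) * s := by
    rcases hcases with e' | e' <;> rw [e'] at hn4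
    · rwa [htd, hbd, ← fac_mul] at hn4
    · have h1 : u * (t * fac c D') = fac a (D2 * D) := by
        rw [hud, hbd, htd, mul_assoc, ← mul_assoc (fac c D'), fac_comm hac.symm, mul_assoc, ← fac_mul c, hD'.2.1,
          fac_one, mul_one, ← fac_mul, hDD2]
      rw [← h1]
      exact (Commute.mul_right hus.symm hn4).eq
  have hsm : Mono s := C.conj_mono hJ hX B IH h6 hsX hprod hprodi hprod hprodi hP1 hP2
    (i := a) (l := a) (by rw [hsz, mul_inv_cancel_right])
  obtain ⟨-, -, -, -, hvm⟩ := C.pl_image hJ hX B IH h6 hv hD (by rw [← hbd, ← hsd]; exact hsm)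
  exact hvm

/-- All members are monomial, in dimensions at least six. -/
theorem top_six (h6 : 6 ≤ k) : ∀ g ∈ X, Mono g := by
  classical
  intro g hg
  have hf := C.hf
  have hk : 0 < k := by omega
  haveI : Fintype F := Fintype.ofFinite F
  haveI : Nonempty J := Fintype.card_pos_iff.1 (by omega)
  obtain ⟨a⟩ := ‹Nonempty J›
  obtain ⟨x, -, y, -, hx, hy, hxy⟩ := C.toSl.pair_in C.toSl.nd_top (by rw [C.toSl.finrank_top']; omega)
  obtain ⟨ε, hε⟩ := FiniteField.exists_nonsquare (F := F) fun e => C.two (by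
    haveI : CharP F 2 := ringChar.eq_iff.1 e
    exact CharP.cast_eq_zero F 2)
  have hε0 : ε ≠ 0 := fun e => hε ⟨0, by rw [e, mul_zero]⟩
  obtain ⟨x₁, -, hx₁⟩ := C.toSl.exists_value C.toSl.nd_top (by rw [C.toSl.finrank_top']; omega) 1
  obtain ⟨hn1, hd1⟩ := C.toSl.perp_step C.toSl.nd_top Submodule.mem_top (hx₁ ▸ one_ne_zero)
  rw [C.toSl.finrank_top'] at hd1
  obtain ⟨y₁, hy₁m, hy₁⟩ := C.toSl.exists_value hn1 (by omega) (-ε)
  simp only [Submodule.mem_inf, mem_prp, Submodule.mem_top, true_and] at hy₁m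
  have h₁ : f x₁ y₁ = 0 := by rw [hf.comm', hy₁m]
  have hx0 : f x x ≠ 0 := hx ▸ one_ne_zero
  have hy0 : f y y ≠ 0 := hy ▸ neg_ne_zero.2 one_ne_zero
  have hx₁0 : f x₁ x₁ ≠ 0 := hx₁ ▸ one_ne_zero
  have hy₁0 : f y₁ y₁ ≠ 0 := hy₁ ▸ neg_ne_zero.2 hε0
  set D := mr hf x * mr hf y
  set D₁ := mr hf x₁ * mr hf y₁
  have hD : IsPl f D := C.toSl.isPl_mr hx0 hy0 hxy
  have hD₁ : IsPl f D₁ := C.toSl.isPl_mr hx₁0 hy₁0 h₁
  -- the plane of the second involution is anisotropic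
  have hani : ∀ v, mv D₁ v = -v → f v v = 0 → v = 0 := fun v hv hvv => by
    obtain ⟨s, r, hsr⟩ : ∃ s r : F, v = s • x₁ + r • y₁ := by
      refine ⟨f v x₁ / f x₁ x₁, f v y₁ / f y₁ y₁, smul_right_injective _ C.two ?_⟩
      have h := C.toSl.mm_apply hx₁0 hy₁0 h₁ v
      change mv D₁ v = _ at h
      rw [hv] at h
      show (2 : F) • v = (2 : F) • _
      linear_combination (norm := module) -h
    subst hsr
    simp only [hf.add_left, hf.add_right, hf.smul_left, hf.smul_right', hx₁, hy₁, h₁, hy₁m, mul_zero, add_zero,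
      zero_add] at hvv
    have hr : r = 0 := by
      by_contra hr
      exact hε ⟨s / r, by field_simp; linear_combination -hvv⟩
    subst hr
    have hs : s = 0 := mul_self_eq_zero.1 (by linear_combination hvv)
    rw [hs, zero_smul, zero_smul, add_zero]
  set t := fac (J := J) a D with htd
  set q := fac (J := J) a D₁ with hqd
  set s := g * q * g⁻¹ with hsd
  have htt : t * t = 1 := by rw [htd, ← fac_mul, hD.2.1, fac_one]
  have hqq : q * q = 1 := by rw [hqd, ← fac_mul, hD₁.2.1, fac_one]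
  have hss : s * s = 1 := by
    rw [hsd, show g * q * g⁻¹ * (g * q * g⁻¹) = g * (q * q) * g⁻¹ by group, hqq, mul_one, mul_inv_cancel]
  have htX : t ∈ X := C.fac_pl hD a
  have hsX : s ∈ X := X.mul_mem (X.mul_mem hg (C.fac_pl hD₁ a)) (X.inv_mem hg)
  have htm : Mono t := ⟨1, monoOf_fac a D⟩
  obtain ⟨m, hs'', hτ, hw⟩ := desc monoSub htt hss htm fun n hn =>
    C.pl_step hJ hX B IH h6 (X.pow_mem (X.mul_mem htX hsX) n) hD hn
  set h := ((t * s) ^ m)⁻¹ * g
  have hhX : h ∈ X := X.mul_mem (X.inv_mem (X.pow_mem (X.mul_mem htX hsX) m)) hg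
  have hconj : ((t * s) ^ m)⁻¹ * s * (t * s) ^ m = h * q * h⁻¹ := by
    show ((t * s) ^ m)⁻¹ * s * (t * s) ^ m = ((t * s) ^ m)⁻¹ * g * q * (((t * s) ^ m)⁻¹ * g)⁻¹
    rw [hsd]; group
  obtain ⟨j, D'', hD'', hje, hhm⟩ := C.pl_image hJ hX B IH h6 hhX hD₁ (hconj ▸ hs'')
  have hτe : (t * s) ^ (2 * m + 1) = t * fac j D'' := by
    rw [← hje, ← hconj, ← dih_succ htt hss, ← mul_assoc t t, htt, one_mul]
  have hτ1 : (t * s) ^ (2 * m + 1) ≠ 1 := fun e => by
    rw [hτe] at e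
    have he : h * q * h⁻¹ = t := by rw [hje, eq_inv_of_mul_eq_one_right e, inv_eq_of_mul_eq_one_right htt]
    obtain ⟨π, A, hA⟩ := id hhm
    rw [hqd, conj_slot hA, htd] at he
    obtain ⟨l, hl, hlA⟩ := C.toSl.slot_sim (C.pres (C.iso hhX)) hA a
    have hla : π⁻¹ a = a := (fac_slot hk (C.toSl.isPl_ctl hD) he.symm).symm
    rw [hla] at he
    have hDe := fac_inj hk a he
    set z := mv (A a)⁻¹ (x + y)
    have hz : mv D₁ z = -z := by
      refine mv_inj (A a) ?_
      rw [mv_neg, mv_mv_inv, ← mv_mul, ← mv_mul, hDe, mv_add, C.toSl.mm_left hx0 hy0 hxy,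
        C.toSl.mm_right hx0 hy0 hxy]
      abel
    have hz0 : z = 0 := hani z hz (mul_left_cancel₀ hl (by
      rw [mul_zero, ← hlA, mv_mv_inv, hf.add_left, hf.add_right, hf.add_right, hx, hy, hxy, hf.comm' y x, hxy]
      ring))
    have hxy0 : x + y = 0 := by rw [← mv_mv_inv (A a) (x + y)]; show mv (A a) z = 0; rw [hz0, mv_zero]
    have h1 := congrArg (fun v => f v x) hxy0
    simp only [hf.add_left, hx, hf.comm' y x, hxy, hf.zero_left, add_zero] at h1
    exact one_ne_zero h1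
  obtain ⟨n, hn1, hn2, -, hn4⟩ := hw.resolve_left hτ1
  rw [hτe] at hn1 hn2 hn4
  have hsm : Mono s := by
    by_cases hja : j = a
    · subst hja
      rw [htd, ← fac_mul, fac_pow] at hn1 hn2 hn4
      set M := (D * D'') ^ n
      have hM1 : M ≠ 1 := fun e => hn1 (by rw [e, fac_one])
      have hM2 : M * M = 1 := (fac_one_iff hk j).1 (by rw [fac_mul]; exact hn2)
      have hMi : ∀ u v, f (mv M u) (mv M v) = f u v := by
        have : ∀ r : ℕ, ∀ u v, f (mv ((D * D'') ^ r) u) (mv ((D * D'') ^ r) v) = f u v := fun r => by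
          induction r with
          | zero => intro u v; rw [pow_zero, mv_one, mv_one]
          | succ r ih => intro u v; rw [pow_succ, mv_mul _ (D * D'') u, mv_mul _ (D * D'') v, ih, mv_mul D D'' u, mv_mul D D'' v, hD.1, hD''.1]
        exact this n
      have hMn : M ≠ -1 := fun e => by
        have h1 := Submodule.finrank_sup_add_finrank_inf_eq (fixsp D) (fixsp D'')
        have h2 : Module.finrank F (fixsp D ⊔ fixsp D'' : Submodule F (Fin k → F)) ≤ k :=
          (Submodule.finrank_le _).trans (by rw [Module.finrank_fintype_fun_eq_card, Fintype.card_fin])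
        have h3 : Module.finrank F (fixsp D) + 2 = k := hD.2.2
        have h4 := hD''.2.2
        obtain ⟨v, hv, hv0⟩ := Submodule.exists_mem_ne_zero_of_ne_bot (p := fixsp D ⊓ fixsp D'') fun e' => by
          rw [e', finrank_bot] at h1
          omega
        obtain ⟨hv1, hv2⟩ := Submodule.mem_inf.1 hv
        have hr : ∀ r : ℕ, mv ((D * D'') ^ r) v = v := fun r => by
          induction r with
          | zero => rw [pow_zero, mv_one]
          | succ r ih => rw [pow_succ, mv_mul, mv_mul, mem_fixsp.1 hv2, mem_fixsp.1 hv1, ih]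
        have := hr n
        rw [show (D * D'') ^ n = -1 from e, mv_neg_gl, mv_one] at this
        exact hv0 ((smul_eq_zero.1 (by linear_combination (norm := module) -this : (2 : F) • v = 0)).resolve_left
          C.two)
      exact C.conj_mono hJ hX B IH h6 hsX hM2 hMi hM2 hMi hM1 hMn (i := j) (l := j)
        (by rw [hn4, mul_inv_cancel_right])
    · have hτ2 : t * fac j D'' * (t * fac j D'') = 1 := by
        rw [htd, mul_assoc, ← mul_assoc (fac j D''), fac_comm hja, mul_assoc, ← fac_mul, hD''.2.1, fac_one, mul_one,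
          ← fac_mul, hD.2.1, fac_one]
      have hn : (t * fac j D'') ^ n = t * fac j D'' := by
        rcases Nat.even_or_odd n with ⟨r, rfl⟩ | ⟨r, rfl⟩
        · exact absurd (by rw [← two_mul, pow_mul, pow_two, hτ2, one_pow]) hn1
        · rw [pow_succ, pow_mul, pow_two, hτ2, one_pow, one_mul]
      rw [hn] at hn4
      exact C.pair_cent hJ hX B IH h6 (Ne.symm hja) hD hD'' hsX hn4
  obtain ⟨-, -, -, -, hgm⟩ := C.pl_image hJ hX B IH h6 hg hD₁ (by rw [← hqd, ← hsd]; exact hsm)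
  exact hgm

end Ctx

end Cfsg.Agent.OrthEvenWreath
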