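/-
Tensor powers of a symmetric form of dimension four: fusion of roots and of involutions of one slot.
-/
import Cfsg.Agent.Lib.OrthWreathEven.FourPow
import Cfsg.Agent.Lib.OrthWreathEven.Six

set_option autoImplicit false
set_option linter.unusedSectionVars false

namespace Cfsg.Agent.OrthEvenWreath

open scoped Matrix
open Matrix Cfsg.Agent.Transvec Cfsg.Agent.TensorMax Cfsg.Agent.WreathMax
open Cfsg.Agent.FormWreath hiding up mv_up_ins
open Cfsg.Agent.OrthWreath hiding Sl Ctx Base Ind Inv Gd fixsp_mir small_mir split_sim rho_omega fix_line_mono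
  exists_noncomm
open Cfsg.Agent.UWreath (mono_mul mono_inv)

variable {F : Type*} [Field F] [Finite F] {k : ℕ} {J : Type} [Fintype J] [DecidableEq J]
variable {f : (Fin k → F) → (Fin k → F) → F} {κ : F}

local notation "σ₁" => RingEquiv.refl F

namespace Sl

variable (S : Sl f κ)
include S

set_option maxHeartbeats 1600000 in
/-- A product of two roots of two slots is no root. -/
theorem roots_big (h4 : k = 4) {a b : J} (hab : a ≠ b) (hJ2 : Fintype.card J = 2) {c w c' w' : Fin k → F}
    (hc0 : c ≠ 0) (hc : f c c = 0) (hwc : f w c = 0) (hw : f w w ≠ 0)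
    (hc0' : c' ≠ 0) (hc' : f c' c' = 0) (hwc' : f w' c' = 0) (hw' : f w' w' ≠ 0) :
    5 ≤ Module.finrank F (LinearMap.range ((mvLin (fac a (eA S.hf c w) * fac b (eA S.hf c' w')) - LinearMap.id) ∘ₗ
      (mvLin (fac a (eA S.hf c w) * fac b (eA S.hf c' w')) - LinearMap.id))) := by
  classical
  have hf := S.hf
  have h2 := S.two
  obtain ⟨d, z, hd, hcd, hwd, hzc, hzd, hzw, hz, -⟩ := S.frame_four h4 hc0 hc hwc hw
  obtain ⟨d', z', hd', hcd', hwd', hzc', hzd', hzw', hz', -⟩ := S.frame_four h4 hc0' hc' hwc' hw'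
  set E := eA hf c w with hE
  set E' := eA hf c' w' with hE'
  set h := fac a E * fac b E' with hh
  set N := (mvLin h - LinearMap.id) ∘ₗ (mvLin h - LinearMap.id) with hN
  set P : (Fin k → F) → (Fin k → F) → (J → Fin k) → F := fun u v =>
    pten (Function.update (fun _ => v) a u) with hP
  have her : ∀ j : J, j ∈ Finset.univ.erase a → j = b := fun j hj => by
    by_contra hc
    have h3 := Finset.card_le_univ ({a, b, j} : Finset J)
    rw [Finset.card_insert_of_notMem (by simp [hab, (Finset.ne_of_mem_erase hj).symm]),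
      Finset.card_pair (Ne.symm hc), hJ2] at h3
    omega
  have herase : Finset.univ.erase a = {b} :=
    Finset.eq_singleton_iff_unique_mem.2 ⟨Finset.mem_erase.2 ⟨hab.symm, Finset.mem_univ b⟩, her⟩
  have hBP : ∀ u v t s, Bt σ₁ f (P u v) (P t s) = f u t * f v s := fun u v t s => by
    rw [hP, Bt_pten hf, ← Finset.mul_prod_erase Finset.univ _ (Finset.mem_univ a), herase, Finset.prod_singleton,
      Function.update_self, Function.update_self, Function.update_of_ne hab.symm, Function.update_of_ne hab.symm]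
  have hhP : ∀ u v, mv h (P u v) = P (mv E u) (mv E' v) := fun u v => by
    rw [hh, hP, mv_mul, mv_fac, mv_fac]
    refine congrArg pten (funext fun j => ?_)
    by_cases hj : j = a
    · subst hj
      rw [Function.update_self, Function.update_of_ne hab, Function.update_self, Function.update_self]
    · rw [Function.update_of_ne hj, Function.update_of_ne hj,
        her j (Finset.mem_erase.2 ⟨hj, Finset.mem_univ j⟩), Function.update_self, Function.update_of_ne hab.symm]
  have hww : f (w + w) c = 0 := by rw [hf.add_left, hwc, add_zero]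
  have hww' : f (w' + w') c' = 0 := by rw [hf.add_left, hwc', add_zero]
  have hNP : ∀ u v t s, Bt σ₁ f (N (P u v)) (P t s) =
      f (mv (eA hf c (w + w)) u) t * f (mv (eA hf c' (w' + w')) v) s - 2 * (f (mv E u) t * f (mv E' v) s) +
        f u t * f v s := fun u v t s => by
    show Bt σ₁ f (mv h (mv h (P u v) - P u v) - (mv h (P u v) - P u v)) (P t s) = _
    rw [mv_sub, (Bt_sym hf).sub_left, (Bt_sym hf).sub_left, (Bt_sym hf).sub_left, hhP, hhP, hBP, hBP, hBP,
      ← mv_mul, ← mv_mul, hE, hE', eA_mul hf h2 hc hwc hwc, eA_mul hf h2 hc' hwc' hwc']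
    ring
  let inp : Fin 5 → (J → Fin k) → F := ![P d z', P z d', P d c', P d w', P d d']
  have hlin : LinearIndependent F fun j => N (inp j) := by
    rw [Fintype.linearIndependent_iff]
    intro g hg
    have key : ∀ t s, g 0 * Bt σ₁ f (N (P d z')) (P t s) + g 1 * Bt σ₁ f (N (P z d')) (P t s) +
        g 2 * Bt σ₁ f (N (P d c')) (P t s) + g 3 * Bt σ₁ f (N (P d w')) (P t s) +
        g 4 * Bt σ₁ f (N (P d d')) (P t s) = 0 := fun t s => by
      have := congrArg (fun z => Bt σ₁ f z (P t s)) hg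
      simpa [inp, Fin.sum_univ_five, (Bt_sym hf).add_left, (Bt_sym hf).smul_left, (Bt_sym hf).zero_left] using this
    simp only [hNP, hE, hE', S.eA_pair hc hww, S.eA_pair hc hwc, S.eA_pair hc' hww', S.eA_pair hc' hwc'] at key
    have k5 := key w w'
    have k4 := key d w'
    have k3 := key d d'
    have k1 := key d z'
    have k2 := key z d'
    simp only [hf.add_left, hf.add_right, hc, hd, hcd, hwc, hwd, hzc, hzd, hzw, hc', hd', hcd', hwc', hwd', hzc',
      hzd', hzw', hf.comm' d c, hf.comm' c w, hf.comm' d w, hf.comm' c z, hf.comm' d z, hf.comm' w z, hf.comm' d' c',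
      hf.comm' c' w', hf.comm' d' w', hf.comm' c' z', hf.comm' d' z', hf.comm' w' z'] at k1 k2 k3 k4 k5
    field_simp at k1 k2 k3 k4 k5
    ring_nf at k1 k2 k3 k4 k5
    have h22 : (4 : F) ≠ 0 := by rw [show (4 : F) = 2 * 2 by norm_num]; exact mul_ne_zero h2 h2
    have h23 : (8 : F) ≠ 0 := by rw [show (8 : F) = 4 * 2 by norm_num]; exact mul_ne_zero h22 h2
    have g4 : g 4 = 0 := by simpa [h2, h22, h23, hw, hw', hz, hz'] using k5
    simp only [g4, zero_mul, mul_zero, add_zero, zero_add, sub_zero, zero_sub] at k1 k2 k3 k4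
    have g3 : g 3 = 0 := by simpa [h2, h22, h23, hw, hw', hz, hz'] using k4
    simp only [g3, zero_mul, mul_zero, add_zero, zero_add, sub_zero, zero_sub] at k1 k2 k3
    have g2 : g 2 = 0 := by simpa [h2, h22, h23, hw, hw', hz, hz'] using k3
    have g0 : g 0 = 0 := by simpa [h2, h22, h23, hw, hw', hz, hz'] using k1
    have g1 : g 1 = 0 := by simpa [h2, h22, h23, hw, hw', hz, hz'] using k2
    intro j
    fin_cases j <;> assumption
  have hle : Submodule.span F (Set.range fun j => N (inp j)) ≤ LinearMap.range N :=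
    Submodule.span_le.2 (Set.range_subset_iff.2 fun j => ⟨inp j, rfl⟩)
  have := Submodule.finrank_mono hle
  rwa [finrank_span_eq_card hlin, Fintype.card_fin] at this

end Sl

variable {Q : ((J → Fin k) → F) → F} {X : Subgroup (GL (J → Fin k) F)}

namespace Ctx

variable (C : Ctx f Q κ X) (hJ : 2 ≤ Fintype.card J) (hX : ¬ Geo.omegaGL Q ≤ X) (B : Base f Q κ) (IH : Ind f κ J)
include C hJ hX B IH

/-- Fusion of roots, for two slots. -/
theorem root_fus2 (h4 : k = 4) (hJ2 : Fintype.card J = 2) {g : GL (J → Fin k) F} (hg : g ∈ X) {i : J}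
    {c w : Fin k → F} (hc0 : c ≠ 0) (hc : f c c = 0) (hwc : f w c = 0) (hw : f w w ≠ 0)
    (hm : Mono (g * fac i (eA C.hf c w) * g⁻¹)) : Mono g := by
  classical
  have hf := C.hf
  obtain ⟨p, hp⟩ := CharP.exists F
  haveI := hp
  haveI : Fintype F := Fintype.ofFinite F
  have hpp : p.Prime := CharP.char_is_prime F p
  set r := fac i (eA hf c w) with hr
  obtain ⟨b, hb⟩ := Fintype.exists_ne_of_one_lt_card (α := J) (by omega) i
  obtain ⟨T, T', he, hTi, hT'i, hTp, hT'p⟩ := C.toSl.unip_split hb.symm hJ2 hpp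
    (C.pres (C.iso (X.mul_mem (X.mul_mem hg (C.root i c w hc hwc)) (X.inv_mem hg))))
    (by rw [conj_pow, fac_pow, eA_pow_char hf C.two p hc hwc, fac_one, mul_one, mul_inv_cancel]) hm
  by_cases h1 : T = 1
  · subst h1
    rw [fac_one, one_mul] at he
    exact C.root_line hJ hX B IH hg hc0 hc hwc hw he
  by_cases h1' : T' = 1
  · subst h1'
    rw [fac_one, mul_one] at he
    exact C.root_line hJ hX B IH hg hc0 hc hwc hw he
  exfalso
  obtain ⟨c₁, w₁, hc₁0, hc₁, hwc₁, hw₁, rfl⟩ := C.toSl.unip_root h4 hpp hTi hTp h1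
  obtain ⟨c₂, w₂, hc₂0, hc₂, hwc₂, hw₂, rfl⟩ := C.toSl.unip_root h4 hpp hT'i hT'p h1'
  have e1 := C.toSl.roots_big h4 hb.symm hJ2 hc₁0 hc₁ hwc₁ hw₁ hc₂0 hc₂ hwc₂ hw₂
  rw [← he] at e1
  have e2 := (e1.trans (Sl.finrank_sq_conj g r)).trans (C.toSl.root_sq_rank i hc0 hc hwc)
  have e3 := card_rest (m := k) i
  rw [hJ2, h4] at e3
  rw [h4] at e2
  omega

/-- Members conjugating an involution with three dimensional fixed space to one of a slot. -/
theorem conj_three (h4 : k = 4) (hC : CentPl f X) {h : GL (J → Fin k) F} (hh : h ∈ X) {i l : J}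
    {A A' : GL (Fin k) F} (hA : A * A = 1) (hAi : ∀ u v, f (mv A u) (mv A v) = f u v) (hA' : A' * A' = 1)
    (hA'i : ∀ u v, f (mv A' u) (mv A' v) = f u v) (h3 : Module.finrank F (fixsp A) = 3)
    (he : h * fac i A * h⁻¹ = fac l A') : Mono h := by
  have hf := C.hf
  have hA'1 : A' ≠ 1 := fun e => by
    subst e
    rw [fac_one, mul_inv_eq_one] at he
    rw [(fac_one_iff (by omega) i).1 (mul_eq_left.1 he), C.toSl.fixsp_one] at h3
    omega
  obtain ⟨c, hc, w, hw, hc0, hcc, hwc, hww⟩ := C.toSl.root_in (C.toSl.eig_nd hA hAi) (by omega)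
  obtain ⟨x', hx', hx'x⟩ := C.toSl.exists_neg hA' hA'i hA'1
  have hfix := C.conj_fix hJ hA hAi he hcc hwc (mem_fixsp.1 hc) (mem_fixsp.1 hw) hx'
  refine C.root_fix hJ hX B IH hh (i := i) (l := l) hc0 hcc hwc hww (fun e => hx'x (by rw [e, hf.zero_left])) hfix
    (C.fixline_four hJ hX B IH h4 hC (X.mul_mem (X.mul_mem hh (C.root i c w hcc hwc)) (X.inv_mem hh)) (i := l) hx'x
      fun u => by rw [mv_mul, mv_mul, hfix, mv_mv_inv])

/-- Fusion of mirrors, for at least three slots. -/
theorem mirror_fus (h4 : k = 4) (hC : CentPl f X) {h : GL (J → Fin k) F} (hh : h ∈ X)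
    (hJ3 : 3 ≤ Fintype.card J) {i : J} {x : Fin k → F} (hx : f x x ≠ 0)
    (hm : Mono (h * fac i (mr C.hf x) * h⁻¹)) : Mono h := by
  have hf := C.hf
  haveI : Nonempty J := ⟨i⟩
  obtain ⟨j, y, hy, he⟩ := C.toSl.trc_even
    (C.pres (C.iso (X.mul_mem (X.mul_mem hh (C.mir hJ3 i x hx)) (X.inv_mem hh))))
    (by rw [show h * fac i (mr hf x) * h⁻¹ * (h * fac i (mr hf x) * h⁻¹) =
      h * (fac i (mr hf x) * fac i (mr hf x)) * h⁻¹ by group, ← fac_mul, mr_sq hf hx, fac_one, mul_one,
      mul_inv_cancel]) hm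
    (by rw [OrthWreath.Small, finrank_fixsp_conj]; exact small_mir C.toSl i hx)
  refine C.conj_three hJ hX B IH h4 hC hh (A := -mr hf x) (A' := -mr hf y) (by rw [neg_mul_neg, mr_sq hf hx])
    (C.toSl.neg_isom (mr_isom hf hx)) (by rw [neg_mul_neg, mr_sq hf hy]) (C.toSl.neg_isom (mr_isom hf hy)) ?_
    (i := i) (l := j) (by rw [fac_neg, fac_neg, mul_neg, neg_mul, he])
  have e1 := fixsp_mir C.toSl i hx
  have e2 := C.toSl.eig_sum (mr_sq hf hx)
  have hx0 : x ≠ 0 := fun e => hx (by rw [e, hf.zero_left])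
  have e3 := finrank_fixsp_fac i (mr hf x)
  rw [e1, finrank_Ln i hx0] at e3
  have : 0 < Fintype.card (Rest i k) := by
    haveI : NeZero k := ⟨by omega⟩
    exact Fintype.card_pos
  have : Module.finrank F (fixsp (mr hf x)) = 1 := by nlinarith
  omega

/-- Members conjugating an involution of a slot to one of a slot are monomial. -/
theorem conj_four (h4 : k = 4) (hC : CentPl f X) {h : GL (J → Fin k) F} (hh : h ∈ X) {i l : J}
    {A A' : GL (Fin k) F} (hA : A * A = 1) (hAi : ∀ u v, f (mv A u) (mv A v) = f u v) (hA' : A' * A' = 1)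
    (hA'i : ∀ u v, f (mv A' u) (mv A' v) = f u v) (hA1 : A ≠ 1) (hA2 : A ≠ -1)
    (he : h * fac i A * h⁻¹ = fac l A') : Mono h := by
  have hf := C.hf
  have hk : 0 < k := by omega
  have hsum := C.toSl.eig_sum hA
  have htop : ∀ T : GL (Fin k) F, Module.finrank F (fixsp T) = k → T = 1 := fun T e => ext_mv fun v => by
    have htop : fixsp T = ⊤ := Submodule.eq_top_of_finrank_eq (by
      rw [Module.finrank_fintype_fun_eq_card, Fintype.card_fin, e])
    rw [mv_one]
    exact mem_fixsp.1 (htop ▸ Submodule.mem_top)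
  have h4' : Module.finrank F (fixsp A) ≠ 4 := fun e => hA1 (htop A (by omega))
  have h0 : Module.finrank F (fixsp (-A)) ≠ 4 := fun e => hA2 (by
    rw [← neg_neg A, htop (-A) (by omega)])
  rcases (by omega : Module.finrank F (fixsp A) = 3 ∨ Module.finrank F (fixsp (-A)) = 3 ∨
      Module.finrank F (fixsp A) = 2) with h3 | h3 | h2
  · exact C.conj_three hJ hX B IH h4 hC hh hA hAi hA' hA'i h3 he
  · exact C.conj_three hJ hX B IH h4 hC hh (A := -A) (A' := -A') (by rw [neg_mul_neg, hA]) (C.toSl.neg_isom hAi)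
      (by rw [neg_mul_neg, hA']) (C.toSl.neg_isom hA'i) h3 (i := i) (l := l)
      (by rw [fac_neg, fac_neg, mul_neg, neg_mul, he])
  have hP' : IsPl f A' := by
    refine ⟨hA'i, hA', ?_⟩
    have e1 := finrank_fixsp_conj h (fac i A)
    rw [he, finrank_fixsp_fac, finrank_fixsp_fac] at e1
    have e2 : Fintype.card (Rest l k) = Fintype.card (Rest i k) :=
      Nat.eq_of_mul_eq_mul_right hk ((card_rest l).trans (card_rest i).symm)
    have : 0 < Fintype.card (Rest i k) := by
      haveI : NeZero k := ⟨by omega⟩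
      exact Fintype.card_pos
    rw [e2, h2] at e1
    have := Nat.eq_of_mul_eq_mul_left this e1
    omega
  obtain ⟨j, hj⟩ := Fintype.exists_ne_of_one_lt_card (α := J) (by omega) i
  have hcomm : ∀ T : GL (Fin k) F, h * fac j T * h⁻¹ * fac l A' = fac l A' * (h * fac j T * h⁻¹) := fun T => by
    rw [← he, show h * fac j T * h⁻¹ * (h * fac i A * h⁻¹) = h * (fac j T * fac i A) * h⁻¹ by group,
      show h * fac i A * h⁻¹ * (h * fac j T * h⁻¹) = h * (fac i A * fac j T) * h⁻¹ by group, fac_comm hj]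
  by_cases hJ3 : 3 ≤ Fintype.card J
  · obtain ⟨x, -, hx⟩ := C.toSl.aniso_in C.toSl.nd_top (C.toSl.ne_bot_of (by rw [C.toSl.finrank_top']; omega))
    exact C.mirror_fus hJ hX B IH h4 hC hh hJ3 (i := j) hx
      (hC _ (X.mul_mem (X.mul_mem hh (C.mir hJ3 j x hx)) (X.inv_mem hh)) l A' hP' (hcomm _))
  · obtain ⟨c, -, w, -, hc0, hc, hwc, hw⟩ := C.toSl.root_in C.toSl.nd_top (by rw [C.toSl.finrank_top']; omega)
    exact C.root_fus2 hJ hX B IH h4 (by omega) hh hc0 hc hwc hw
      (hC _ (X.mul_mem (X.mul_mem hh (C.root j c w hc hwc)) (X.inv_mem hh)) l A' hP' (hcomm _))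

end Ctx

end Cfsg.Agent.OrthEvenWreath
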