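/-
Similitudes of a symmetric form of minus type in dimension four with scalar square; isometries of large prime order.
-/
import Cfsg.Agent.Lib.OrthWreathEven.FourPlane

set_option autoImplicit false
set_option linter.unusedSectionVars false

namespace Cfsg.Agent.OrthEvenWreath

open scoped Matrix
open Matrix Cfsg.Agent.Transvec Cfsg.Agent.TensorMax Cfsg.Agent.WreathMax
open Cfsg.Agent.FormWreath hiding up mv_up_ins
open Cfsg.Agent.OrthWreath hiding Sl Ctx Base Ind Inv Gd fixsp_mir small_mir split_sim rho_omega fix_line_mono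
  exists_noncomm

variable {F : Type*} [Field F] [Finite F] {k : ℕ}
variable {f : (Fin k → F) → (Fin k → F) → F} {κ : F}

/-- A prime dividing the square of the order plus one. -/
def Big (F : Type*) (r : ℕ) : Prop :=
  r.Prime ∧ r ≠ 2 ∧ r ∣ Nat.card F ^ 2 + 1

theorem exists_big (h2 : (2 : F) ≠ 0) : ∃ r, Big F r := by
  haveI : Fintype F := Fintype.ofFinite F
  obtain ⟨m, hm⟩ : Odd (Nat.card F) := by
    rw [Nat.card_eq_fintype_card]
    exact Nat.odd_iff.2 (FiniteField.odd_card_of_char_ne_two fun h => h2 (by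
      haveI : CharP F 2 := ringChar.eq_iff.1 h
      exact CharP.cast_eq_zero F 2))
  have h1 : 1 < Nat.card F := Finite.one_lt_card
  set n := 2 * (m * m + m) + 1 with hn
  have e : Nat.card F ^ 2 + 1 = 2 * n := by rw [hm, hn]; ring
  have hn1 : n ≠ 1 := by
    have : 1 ≤ m := by omega
    have : 0 < m * m := by positivity
    omega
  refine ⟨n.minFac, Nat.minFac_prime hn1, fun e2 => ?_, (Nat.minFac_dvd n).trans ⟨2, by rw [e]; ring⟩⟩
  have := Nat.minFac_dvd n
  rw [e2] at this
  omega

namespace Big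

variable {r : ℕ} (hr : Big F r)
include hr

theorem not_dvd_q : ¬ r ∣ Nat.card F := fun h => by
  have h1 := hr.2.2
  rw [Nat.dvd_add_right (dvd_pow h two_ne_zero)] at h1
  exact hr.1.not_dvd_one h1

theorem not_dvd (d : ℕ) (h1 : 1 ≤ d) (h3 : d ≤ 3) : ¬ r ∣ Nat.card F ^ d - 1 := fun h => by
  haveI : Fact r.Prime := ⟨hr.1⟩
  have hq : 1 ≤ Nat.card F ^ d := Nat.one_le_pow _ _ Nat.card_pos
  have e1 : ((Nat.card F : ZMod r)) ^ d = 1 := by
    have e := congrArg (Nat.cast : ℕ → ZMod r) (Nat.sub_add_cancel hq)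
    push_cast at e
    rw [← e, (ZMod.natCast_eq_zero_iff _ _).2 h, zero_add]
  have e2 : ((Nat.card F : ZMod r)) ^ 2 = -1 := by
    have e := (ZMod.natCast_eq_zero_iff _ _).2 hr.2.2
    push_cast at e
    linear_combination e
  have h0 : (2 : ZMod r) ≠ 0 := fun e => by
    have h' := (ZMod.natCast_eq_zero_iff 2 r).1 (by exact_mod_cast e)
    exact hr.2.1 ((Nat.prime_dvd_prime_iff_eq hr.1 Nat.prime_two).1 h')
  set x := (Nat.card F : ZMod r)
  interval_cases d
  · rw [pow_one] at e1; rw [e1, one_pow] at e2; exact h0 (by linear_combination e2)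
  · rw [e1] at e2; exact h0 (by linear_combination e2)
  · have e3 : x = -1 := by linear_combination x * e2 - e1
    rw [e3] at e2; exact h0 (by linear_combination e2)

/-- Taking powers is injective on the scalars. -/
theorem scalar_one {x : F} (h : x ^ r = 1) : x = 1 := by
  haveI : Fintype F := Fintype.ofFinite F
  have hx : x ≠ 0 := fun e => by rw [e, zero_pow hr.1.ne_zero] at h; exact zero_ne_one h
  have h1 : x ^ (Nat.card F - 1) = 1 := by rw [Nat.card_eq_fintype_card]; exact FiniteField.pow_card_sub_one_eq_one x hx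
  have hco : Nat.Coprime r (Nat.card F - 1) := (Nat.Prime.coprime_iff_not_dvd hr.1).2 (by
    have := hr.not_dvd 1 le_rfl (by norm_num)
    rwa [pow_one] at this)
  have := pow_gcd_eq_one.2 ⟨h, h1⟩
  rwa [hco.gcd_eq_one, pow_one] at this

theorem scalar_surj (y : F) : ∃ x : F, x ^ r = y := by
  rcases eq_or_ne y 0 with rfl | hy
  · exact ⟨0, zero_pow hr.1.ne_zero⟩
  refine Finite.surjective_of_injective (f := fun x : F => x ^ r) (fun a b e => ?_) y
  simp only at e
  rcases eq_or_ne b 0 with rfl | hb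
  · rw [zero_pow hr.1.ne_zero] at e; exact eq_zero_of_pow_eq_zero e
  · have := hr.scalar_one (x := a / b) (by rw [div_pow, e, div_self (pow_ne_zero _ hb)])
    rwa [div_eq_one_iff_eq hb] at this

/-- Invariant spaces of small codimension over their fixed part are fixed. -/
theorem fixed_of_small {V : Type*} [AddCommGroup V] [Module F V] [Finite V] (L : V →ₗ[F] V) (hL : L ^ r = 1)
    (W : Submodule F V) (hW : ∀ w ∈ W, L w ∈ W)
    (hd : Module.finrank F W ≤ Module.finrank F (W ⊓ LinearMap.ker (L - 1) : Submodule F V) + 3) :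
    ∀ w ∈ W, L w = w := by
  classical
  haveI : Fact r.Prime := ⟨hr.1⟩
  haveI : Fintype F := Fintype.ofFinite F
  set U : Submodule F V := W ⊓ LinearMap.ker (L - 1) with hU
  haveI : Fintype W := Fintype.ofFinite W
  let φ : Function.End W := fun w => ⟨L w.1, hW _ w.2⟩
  have hφ : φ ^ r ^ 1 = 1 := by
    rw [pow_one]
    have h : ∀ (n : ℕ) (w : W), ((φ ^ n) w).1 = (L ^ n) w.1 := fun n => by
      induction n with
      | zero => exact fun w => rfl
      | succ n ih =>
        intro w
        rw [pow_succ, pow_succ]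
        exact ih (φ w)
    funext w
    refine Subtype.ext ?_
    rw [h, hL]
    rfl
  have h := Equiv.Perm.card_fixedPoints_modEq hφ
  have hfix : Fintype.card (Function.fixedPoints φ) = Nat.card U := by
    rw [← Nat.card_eq_fintype_card]
    refine Nat.card_congr
      { toFun := fun w => ⟨w.1.1, Submodule.mem_inf.2 ⟨w.1.2, by
          have := congrArg Subtype.val w.2
          rw [LinearMap.mem_ker, LinearMap.sub_apply, Module.End.one_apply, sub_eq_zero]
          exact this⟩⟩
        invFun := fun u => ⟨⟨u.1, (Submodule.mem_inf.1 u.2).1⟩, Subtype.ext (by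
          have h := (Submodule.mem_inf.1 u.2).2
          rw [LinearMap.mem_ker, LinearMap.sub_apply, Module.End.one_apply, sub_eq_zero] at h
          exact h)⟩
        left_inv := fun w => rfl
        right_inv := fun u => rfl }
  rw [hfix, ← Nat.card_eq_fintype_card (α := W), Module.natCard_eq_pow_finrank (K := F),
    Module.natCard_eq_pow_finrank (K := F) (V := U)] at h
  have hle : Module.finrank F U ≤ Module.finrank F W := Submodule.finrank_mono inf_le_left
  have heq : Module.finrank F U = Module.finrank F W := by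
    by_contra hne
    obtain ⟨d, hde⟩ : ∃ d, Module.finrank F W = Module.finrank F U + d := ⟨_, (Nat.add_sub_cancel' hle).symm⟩
    refine hr.not_dvd d (by omega) (by omega) ?_
    have h1 := (Nat.modEq_iff_dvd' (Nat.pow_le_pow_right Nat.card_pos hle)).1 h.symm
    rw [hde, pow_add, ← Nat.mul_sub_one] at h1
    exact ((Nat.Coprime.pow_right _ ((Nat.Prime.coprime_iff_not_dvd hr.1).2 hr.not_dvd_q)).dvd_of_dvd_mul_left h1)
  intro w hw
  have : w ∈ U := (SetLike.ext_iff.1 (Submodule.eq_of_le_of_finrank_le (inf_le_left : U ≤ W) heq.ge) w).2 hw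
  have := (Submodule.mem_inf.1 this).2
  rwa [LinearMap.mem_ker, LinearMap.sub_apply, Module.End.one_apply, sub_eq_zero] at this

variable (h4 : k = 4)
include h4

/-- Proper nonzero invariant spaces do not occur. -/
theorem inv_bot {L : Module.End F (Fin k → F)} (hL : L ^ r = 1) (h1 : L ≠ 1) (W : Submodule F (Fin k → F))
    (hW : ∀ w ∈ W, L w ∈ W) (hne : W ≠ ⊤) : W = ⊥ := by
  rw [Submodule.eq_bot_iff]
  intro w hw
  by_contra hw0
  have hd : Module.finrank F W ≤ 3 := by
    have := Submodule.finrank_lt hne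
    rw [Module.finrank_fintype_fun_eq_card, Fintype.card_fin] at this
    omega
  have hfix := hr.fixed_of_small L hL W hW (by omega) w hw
  refine h1 (LinearMap.ext fun v => hr.fixed_of_small L hL ⊤ (fun _ _ => Submodule.mem_top) ?_ v Submodule.mem_top)
  rw [finrank_top, Module.finrank_fintype_fun_eq_card, Fintype.card_fin, top_inf_eq]
  have : LinearMap.ker (L - 1) ≠ ⊥ := fun e => hw0 (by
    rw [← Submodule.mem_bot F, ← e, LinearMap.mem_ker, LinearMap.sub_apply, Module.End.one_apply, hfix, sub_self])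
  have := Submodule.one_le_finrank_iff.2 this
  omega

/-- Commuting maps of the same large prime order generate the same group. -/
theorem comm_pow {Z Y : GL (Fin k) F} (hZ : Z ^ r = 1) (hY : Y ^ r = 1) (hZ1 : Z ≠ 1) (hc : Commute Z Y) :
    ∃ i, Y = Z ^ i := by
  classical
  haveI : Nonempty (Fin k) := ⟨⟨0, by omega⟩⟩
  haveI : NeZero r := ⟨hr.1.ne_zero⟩
  have hmv : ∀ (T : GL (Fin k) F) (n : ℕ), mvLin (T ^ n) = (mvLin T : Module.End F (Fin k → F)) ^ n := fun T n => by
    induction n with
    | zero => exact LinearMap.ext fun v => by rw [pow_zero, pow_zero]; exact mv_one v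
    | succ n ih => exact LinearMap.ext fun v => by
                    rw [pow_succ, pow_succ, ← ih]; exact mv_mul (T ^ n) T v
  set e : Module.End F (Fin k → F) := mvLin Z with he
  have her : e ^ r = 1 := by rw [he, ← hmv, hZ]; exact LinearMap.ext fun v => mv_one v
  have he1 : e ≠ 1 := fun h => hZ1 (ext_mv fun v => (LinearMap.congr_fun h v).trans (mv_one v).symm)
  set K := Algebra.adjoin F ({e} : Set (Module.End F (Fin k → F))) with hK
  have hcent : ∀ x : K, (x : Module.End F (Fin k → F)) ∈ Subalgebra.centralizer F ({e} : Set _) := fun x =>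
    Algebra.adjoin_le (by
      intro y hy
      rw [Set.mem_singleton_iff.1 hy, SetLike.mem_coe, Subalgebra.mem_centralizer_iff]
      intro g hg; rw [Set.mem_singleton_iff.1 hg]) x.2
  have hinj : ∀ x : Module.End F (Fin k → F), e * x = x * e → ∀ v, v ≠ 0 → x v = 0 → x = 0 := by
    intro x hx v hv hxv
    have := hr.inv_bot h4 her he1 (LinearMap.ker x) (fun w hw => by
      rw [LinearMap.mem_ker] at hw ⊢
      rw [← Module.End.mul_apply, ← hx, Module.End.mul_apply, hw, map_zero])
    by_contra h0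
    exact hv ((Submodule.eq_bot_iff _).1 (this fun e' => h0 (LinearMap.ker_eq_top.1 e')) v hxv)
  let ψ : Polynomial F →ₐ[F] Module.End F (Fin k → F) := Polynomial.aeval e
  have hKψ : K = ψ.range := Algebra.adjoin_singleton_eq_range_aeval F e
  letI : CommRing K := { (inferInstance : Ring K) with
    mul_comm := fun x y => Subtype.ext (by
      obtain ⟨P, hP⟩ : (x : Module.End F (Fin k → F)) ∈ ψ.range := hKψ ▸ x.2
      obtain ⟨P', hP'⟩ : (y : Module.End F (Fin k → F)) ∈ ψ.range := hKψ ▸ y.2
      show (x : Module.End F (Fin k → F)) * y = y * x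
      rw [← hP, ← hP', ← map_mul, mul_comm, map_mul]) }
  obtain ⟨v, hv⟩ : ∃ v : Fin k → F, v ≠ 0 := exists_ne 0
  haveI : Nontrivial K := ⟨⟨0, 1, fun h => hv (LinearMap.congr_fun (congrArg Subtype.val h) v).symm⟩⟩
  haveI : NoZeroDivisors K := ⟨fun {x y} h => by
    refine or_iff_not_imp_right.2 fun hy => ?_
    obtain ⟨w, hw⟩ : ∃ w, (y : Module.End F (Fin k → F)) w ≠ 0 := by
      by_contra hcon
      push Not at hcon
      exact hy (Subtype.ext (LinearMap.ext hcon))
    exact Subtype.ext (hinj x ((Subalgebra.mem_centralizer_iff F).1 (hcent x) e rfl) _ hw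
      (LinearMap.congr_fun (congrArg Subtype.val h) w))⟩
  haveI : IsDomain K := NoZeroDivisors.to_isDomain K
  -- the second map lies in the algebra of the first
  have hy : (mvLin Y : Module.End F (Fin k → F)) ∈ K := by
    set S : Submodule F (Fin k → F) := LinearMap.range ((LinearMap.applyₗ v).comp K.toSubmodule.subtype) with hS
    have hST : S = ⊤ := by
      by_contra hne
      have := hr.inv_bot h4 her he1 S (fun w hw => by
        obtain ⟨x, rfl⟩ := hw
        exact ⟨⟨e * x.1, K.mul_mem (Algebra.self_mem_adjoin_singleton F e) x.2⟩, rfl⟩) hne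
      exact hv ((Submodule.eq_bot_iff _).1 this v ⟨⟨1, K.one_mem⟩, rfl⟩)
    obtain ⟨x, hx⟩ : mv Y v ∈ S := hST ▸ Submodule.mem_top
    have hYe : e * mvLin Y = mvLin Y * e := LinearMap.ext fun w => by
      show mv Z (mv Y w) = mv Y (mv Z w)
      rw [← mv_mul, ← mv_mul, hc.eq]
    have h0 : (mvLin Y : Module.End F (Fin k → F)) - x.1 = 0 :=
      hinj _ (by rw [mul_sub, sub_mul, hYe, (Subalgebra.mem_centralizer_iff F).1 (hcent ⟨x.1, x.2⟩) e rfl]) v hv (by
        rw [LinearMap.sub_apply, sub_eq_zero]; exact hx.symm)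
    rw [sub_eq_zero.1 h0]
    exact x.2
  set ζ : K := ⟨e, Algebra.self_mem_adjoin_singleton F e⟩
  set ξ : K := ⟨mvLin Y, hy⟩
  have hζ : IsPrimitiveRoot ζ r := by
    rw [IsPrimitiveRoot.iff_orderOf]
    haveI : Fact r.Prime := ⟨hr.1⟩
    exact orderOf_eq_prime (Subtype.ext (by rw [SubmonoidClass.coe_pow]; exact her))
      fun h => he1 (congrArg Subtype.val h)
  obtain ⟨i, -, hi⟩ := hζ.eq_pow_of_pow_eq_one (ξ := ξ) (Subtype.ext (by
    rw [SubmonoidClass.coe_pow]
    show (mvLin Y : Module.End F (Fin k → F)) ^ r = 1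
    rw [← hmv, hY]; exact LinearMap.ext fun v => mv_one v))
  refine ⟨i, ext_mv fun w => ?_⟩
  have h := LinearMap.congr_fun (congrArg Subtype.val hi) w
  rw [SubmonoidClass.coe_pow] at h
  show mvLin Y w = mvLin (Z ^ i) w
  rw [hmv]; exact h.symm

end Big

namespace Sl

variable (S : Sl f κ)
include S

/-- A map of scalar square is never skew. -/
theorem no_skew (h4 : k = 4) {T : GL (Fin k) F} {μ : F} (hμ : μ ≠ 0) (hT : ∀ v, mv T (mv T v) = μ • v)
    (hs : ∀ u v, f (mv T u) v = -f u (mv T v)) : False := by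
  have hf := S.hf
  have hself : ∀ u, f (mv T u) u = 0 := fun u => by
    have := hs u u
    rw [hf.comm' u] at this
    exact (mul_eq_zero.1 (by linear_combination this : (2 : F) * f (mv T u) u = 0)).resolve_left S.two
  have hTT : ∀ u v, f (mv T u) (mv T v) = -μ * f u v := fun u v => by
    rw [hs, hT, hf.smul_right']; ring
  have hline : ∀ c : Fin k → F, c ≠ 0 → f c c = 0 → ∃ a : F, mv T c = a • c := fun c hc0 hc =>
    S.perp_iso h4 hc0 hc (hself c) (by rw [hTT, hc, mul_zero])
  obtain ⟨c, -, w, -, hc0, hc, hwc, hw⟩ := S.root_in S.nd_top (by rw [S.finrank_top']; omega)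
  obtain ⟨d, z, hd, hcd, hwd, -, -, -, -, -⟩ := S.frame_four h4 hc0 hc hwc hw
  have hd0 : d ≠ 0 := fun e => one_ne_zero (α := F) (by rw [← hcd, e, hf.zero_right])
  obtain ⟨a, ha⟩ := hline c hc0 hc
  obtain ⟨b, hb⟩ := hline d hd0 hd
  have hab : b = -a := by
    have := hs c d
    rw [ha, hb, hf.smul_left, hf.smul_right', hcd] at this
    linear_combination this
  set x := c + (-f w w / 2) • d + w with hxd
  have hx : f x x = 0 := by
    simp only [hxd, hf.add_left, hf.add_right, hf.smul_left, hf.smul_right', hc, hd, hcd, hwc, hwd, hf.comm' d c,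
      hf.comm' c w, hf.comm' d w]
    field_simp [S.two]
    ring
  have hxd1 : f x d = 1 := by
    simp only [hxd, hf.add_left, hf.smul_left, hd, hcd, hwd, mul_zero, add_zero]
  have hxc : f x c = -f w w / 2 := by
    simp only [hxd, hf.add_left, hf.smul_left, hc, hf.comm' d c, hcd, hwc, mul_one, add_zero, zero_add]
  obtain ⟨e, he⟩ := hline x (fun e => one_ne_zero (α := F) (by rw [← hxd1, e, hf.zero_left])) hx
  have h1 := hs x c
  rw [he, ha, hf.smul_left, hf.smul_right', hxc] at h1
  have h2 := hs x d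
  rw [he, hb, hf.smul_left, hf.smul_right', hxd1, hab] at h2
  have ha0 : a ≠ 0 := fun e0 => by
    have := hT c
    rw [ha, e0, zero_smul, mv_zero] at this
    exact hc0 ((smul_eq_zero.1 this.symm).resolve_left hμ)
  have h3 : (2 : F) * a * (-f w w / 2) = 0 := by linear_combination h1 - (-f w w / 2) * h2
  exact mul_ne_zero (mul_ne_zero S.two ha0) (div_ne_zero (neg_ne_zero.2 hw) S.two) h3

/-- Similitudes of scalar square are self-adjoint, and their multiplier is the scalar. -/
theorem sim_sq (h4 : k = 4) {A : GL (Fin k) F} {μ l : F} (hμ : μ ≠ 0) (hA : ∀ v, mv A (mv A v) = μ • v)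
    (hl : ∀ u v, f (mv A u) (mv A v) = l * f u v) : l = μ ∧ ∀ u v, f (mv A u) v = f u (mv A v) := by
  obtain ⟨e, he⟩ := S.exists_aniso
  have h1 : f (mv A (mv A e)) (mv A (mv A e)) = l * (l * f e e) := by rw [hl, hl]
  rw [hA, S.hf.smul_left, S.hf.smul_right', he] at h1
  have h2 : l * l = μ * μ := mul_right_cancel₀ S.hκ (by linear_combination -h1)
  have key : ∀ u v, μ * f (mv A u) v = l * f u (mv A v) := fun u v => by
    have := hl u (mv A v)
    rwa [hA, S.hf.smul_right'] at this
  rcases mul_self_eq_mul_self_iff.1 h2 with e1 | e1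
  · subst e1
    exact ⟨rfl, fun u v => mul_left_cancel₀ hμ (key u v)⟩
  · exact (S.no_skew h4 hμ hA fun u v => mul_left_cancel₀ hμ (by rw [key, e1]; ring)).elim

/-- Similitudes of square scalar square are multiples of involutory isometries. -/
theorem sim_inv (h4 : k = 4) {A : GL (Fin k) F} {α l : F} (hα : α ≠ 0) (hA : ∀ v, mv A (mv A v) = (α * α) • v)
    (hl : ∀ u v, f (mv A u) (mv A v) = l * f u v) :
    ∃ B : GL (Fin k) F, B * B = 1 ∧ (∀ u v, f (mv B u) (mv B v) = f u v) ∧ ∀ v, mv A v = α • mv B v := by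
  obtain ⟨rfl, -⟩ := S.sim_sq h4 (mul_ne_zero hα hα) hA hl
  obtain ⟨L, hL⟩ := exists_smul_gl (k := k) α⁻¹ (inv_ne_zero hα)
  refine ⟨L * A, ext_mv fun v => ?_, fun u v => ?_, fun v => ?_⟩
  · rw [mv_mul, mv_mul, mv_mul, hL, hL, mv_smul, hA, smul_smul, smul_smul, mv_one,
      show α⁻¹ * α⁻¹ * (α * α) = 1 by field_simp, one_smul]
  · rw [mv_mul, mv_mul, hL, hL, S.hf.smul_left, S.hf.smul_right', hl]
    field_simp
  · rw [mv_mul, hL, smul_smul, mul_inv_cancel₀ hα, one_smul]

/-- A frame of a self-adjoint map of nonsquare scalar square. -/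
theorem sa_frame (h4 : k = 4) {A : GL (Fin k) F} {μ : F} (hns : ¬ IsSquare μ)
    (hA : ∀ v, mv A (mv A v) = μ • v) (hsa : ∀ u v, f (mv A u) v = f u (mv A v)) :
    ∃ v u, f v v ≠ 0 ∧ f (mv A v) v = 0 ∧ f u u ≠ 0 ∧ f u v = 0 ∧ f u (mv A v) = 0 ∧
      μ * f u u * f u u - f (mv A u) u * f (mv A u) u ≠ 0 ∧
      ∀ x, ∃ c₀ c₁ c₂ c₃ : F, x = c₀ • v + c₁ • mv A v + c₂ • u + c₃ • mv A u := by
  have hf := S.hf
  have hμ : μ ≠ 0 := fun e => hns ⟨0, by rw [e, mul_zero]⟩
  have hAA : ∀ u v, f (mv A u) (mv A v) = μ * f u v := fun u v => by rw [hsa, hA, hf.smul_right']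
  obtain ⟨v, hv0, hv⟩ : ∃ v : Fin k → F, v ≠ 0 ∧ f (mv A v) v = 0 := by
    haveI : Nonempty (Fin k) := ⟨⟨0, by omega⟩⟩
    obtain ⟨u₀, hu₀⟩ := exists_ne (0 : Fin k → F)
    by_cases ha : f (mv A u₀) u₀ = 0
    · exact ⟨u₀, hu₀, ha⟩
    set W := LinearMap.ker (hf.formL (mv A u₀)) with hW
    have hW3 : 3 ≤ Module.finrank F W := by
      have h1 := LinearMap.finrank_range_add_finrank_ker (hf.formL (mv A u₀))
      have h2 := Submodule.finrank_le (LinearMap.range (hf.formL (mv A u₀)))
      rw [Module.finrank_fintype_fun_eq_card, Fintype.card_fin] at h1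
      rw [Module.finrank_self] at h2
      rw [hW]
      omega
    obtain ⟨u₁, hu₁m, hu₁⟩ := Submodule.exists_mem_ne_zero_of_ne_bot (S.ne_bot_of (P := W) (by omega))
    by_cases hb : f (mv A u₁) u₁ = 0
    · exact ⟨u₁, hu₁, hb⟩
    have hW2 : W ⊓ LinearMap.ker (hf.formL (mv A u₁)) ≠ ⊥ := fun e => by
      have h1 := Submodule.finrank_sup_add_finrank_inf_eq W (LinearMap.ker (hf.formL (mv A u₁)))
      have h2 := LinearMap.finrank_range_add_finrank_ker (hf.formL (mv A u₁))
      have h3 := Submodule.finrank_le (LinearMap.range (hf.formL (mv A u₁)))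
      have h5 := Submodule.finrank_le (W ⊔ LinearMap.ker (hf.formL (mv A u₁)))
      rw [e, finrank_bot] at h1
      rw [Module.finrank_fintype_fun_eq_card, Fintype.card_fin] at h2 h5
      rw [Module.finrank_self] at h3
      omega
    obtain ⟨u₂, hu₂m, hu₂⟩ := Submodule.exists_mem_ne_zero_of_ne_bot hW2
    rw [Submodule.mem_inf, mem_prp, mem_prp] at hu₂m
    rw [mem_prp] at hu₁m
    by_cases hc : f (mv A u₂) u₂ = 0
    · exact ⟨u₂, hu₂, hc⟩
    haveI : Fintype F := Fintype.ofFinite F
    obtain ⟨X, Y, hXY⟩ : ∃ X Y : F,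
        X * X * f (mv A u₀) u₀ + Y * Y * f (mv A u₁) u₁ + f (mv A u₂) u₂ = 0 := by
      obtain ⟨X, Y, h⟩ := FiniteField.exists_root_sum_quadratic
        (f := Polynomial.C (f (mv A u₀) u₀) * Polynomial.X ^ 2 + Polynomial.C (f (mv A u₂) u₂))
        (g := Polynomial.C (f (mv A u₁) u₁) * Polynomial.X ^ 2)
        (by rw [Polynomial.degree_add_C (by rw [Polynomial.degree_C_mul_X_pow 2 ha]; exact two_pos),
          Polynomial.degree_C_mul_X_pow 2 ha]; rfl)
        (by rw [Polynomial.degree_C_mul_X_pow 2 hb]; rfl)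
        (FiniteField.odd_card_of_char_ne_two fun h => S.two (by
          haveI : CharP F 2 := ringChar.eq_iff.1 h
          exact CharP.cast_eq_zero F 2))
      simp only [Polynomial.eval_add, Polynomial.eval_mul, Polynomial.eval_pow, Polynomial.eval_X,
        Polynomial.eval_C] at h
      exact ⟨X, Y, by linear_combination h⟩
    have e10 : f (mv A u₀) u₁ = 0 := by rw [hf.comm']; exact hu₁m
    have e01 : f (mv A u₁) u₀ = 0 := by rw [hsa, hf.comm']; exact e10
    have e20 : f (mv A u₀) u₂ = 0 := by rw [hf.comm']; exact hu₂m.1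
    have e02 : f (mv A u₂) u₀ = 0 := by rw [hsa, hf.comm']; exact e20
    have e21 : f (mv A u₁) u₂ = 0 := by rw [hf.comm']; exact hu₂m.2
    have e12 : f (mv A u₂) u₁ = 0 := by rw [hsa, hf.comm']; exact e21
    refine ⟨X • u₀ + Y • u₁ + u₂, fun e => hc ?_, ?_⟩
    · have := congrArg (f (mv A u₂)) e
      rwa [hf.add_right, hf.add_right, hf.smul_right', hf.smul_right', e02, e12, mul_zero, mul_zero, zero_add,
        zero_add, hf.zero_right] at this
    · simp only [mv_add, mv_smul, hf.add_left, hf.add_right, hf.smul_left, hf.smul_right', e10, e01, e20, e02, e21,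
        e12]
      linear_combination hXY
  have hvv : f v v ≠ 0 := fun e => by
    obtain ⟨a, ha⟩ := S.perp_iso h4 hv0 e hv (by rw [hAA, e, mul_zero])
    have h1 := hA v
    rw [ha, mv_smul, ha, smul_smul] at h1
    exact hns ⟨a, (smul_left_injective F hv0 h1).symm⟩
  have hAv : f (mv A v) (mv A v) ≠ 0 := by rw [hAA]; exact mul_ne_zero hμ hvv
  obtain ⟨hn1, hd1⟩ := S.perp_step S.nd_top Submodule.mem_top hvv
  obtain ⟨hn2, hd2⟩ := S.perp_step hn1 (Submodule.mem_inf.2 ⟨Submodule.mem_top, (mem_prp hf).2 hv⟩) hAv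
  rw [S.finrank_top'] at hd1
  obtain ⟨u, hum, huu⟩ := S.aniso_in hn2 (S.ne_bot_of (by omega))
  simp only [Submodule.mem_inf, mem_prp, Submodule.mem_top, true_and] at hum
  obtain ⟨huv, huAv⟩ := hum
  have hΔ : μ * f u u * f u u - f (mv A u) u * f (mv A u) u ≠ 0 := fun e =>
    hns ⟨f (mv A u) u / f u u, by field_simp; linear_combination e⟩
  refine ⟨v, u, hvv, hv, huu, huv, huAv, hΔ, ?_⟩
  have hli : LinearIndependent F ![v, mv A v, u, mv A u] := by
    rw [Fintype.linearIndependent_iff]
    intro g hg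
    have key : ∀ y, g 0 * f v y + g 1 * f (mv A v) y + g 2 * f u y + g 3 * f (mv A u) y = 0 := fun y => by
      have := congrArg (fun z => f z y) hg
      simpa [Fin.sum_univ_four, hf.add_left, hf.smul_left, hf.zero_left] using this
    have k0 := key v
    have k1 := key (mv A v)
    have k2 := key u
    have k3 := key (mv A u)
    rw [hv, huv, show f (mv A u) v = 0 by rw [hsa, huAv]] at k0
    rw [hf.comm' v, hv, huAv, hAA u v, huv] at k1
    rw [hf.comm' v u, huv, hf.comm' (mv A v) u, huAv] at k2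
    rw [hf.comm' v, show f (mv A u) v = 0 by rw [hsa, huAv], hAA v u, hf.comm' v u, huv, hAA u u,
      hf.comm' u (mv A u)] at k3
    have g0 : g 0 = 0 := (mul_eq_zero.1 (by linear_combination k0)).resolve_right hvv
    have g1 : g 1 = 0 := (mul_eq_zero.1 (by linear_combination k1)).resolve_right hAv
    have g2 : g 2 = 0 := (mul_eq_zero.1 (by linear_combination (μ * f u u) * k2 - f (mv A u) u * k3)).resolve_right hΔ
    have g3 : g 3 = 0 := (mul_eq_zero.1 (by linear_combination f u u * k3 - f (mv A u) u * k2)).resolve_right hΔ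
    intro j
    fin_cases j <;> assumption
  intro x
  have hspan := hli.span_eq_top_of_card_eq_finrank' (by
    rw [Fintype.card_fin, Module.finrank_fintype_fun_eq_card, Fintype.card_fin, h4])
  obtain ⟨g, hg⟩ := (Submodule.mem_span_range_iff_exists_fun F).1 (hspan ▸ Submodule.mem_top (x := x))
  exact ⟨g 0, g 1, g 2, g 3, by rw [← hg, Fin.sum_univ_four]; rfl⟩

end Sl

end Cfsg.Agent.OrthEvenWreath
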