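/-
Isometries of large prime order commuting with a self-adjoint map of nonsquare scalar square.
-/
import Cfsg.Agent.Lib.OrthWreathEven.FourSim

set_option autoImplicit false
set_option linter.unusedSectionVars false

namespace Cfsg.Agent.OrthEvenWreath

open scoped Matrix
open Matrix Cfsg.Agent.Transvec Cfsg.Agent.TensorMax Cfsg.Agent.WreathMax
open Cfsg.Agent.FormWreath hiding up mv_up_ins
open Cfsg.Agent.OrthWreath hiding Sl Ctx Base Ind Inv Gd fixsp_mir small_mir split_sim rho_omega fix_line_mono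
  exists_noncomm

variable {F : Type*} [Field F] [Finite F] {k : ℕ}
variable {f : (Fin k → F) → (Fin k → F) → F} {κ : F}

namespace Sl

variable (S : Sl f κ)
include S

set_option maxHeartbeats 1600000 in
/-- An isometry of large prime order commuting with a given map. -/
theorem exists_rot (h4 : k = 4) {r : ℕ} (hr : Big F r) {A : GL (Fin k) F} {μ : F} (hns : ¬ IsSquare μ)
    (hA : ∀ v, mv A (mv A v) = μ • v) (hsa : ∀ u v, f (mv A u) v = f u (mv A v)) :
    ∃ Z : GL (Fin k) F, (∀ u v, f (mv Z u) (mv Z v) = f u v) ∧ Z * A = A * Z ∧ Z ^ r = 1 ∧ Z ≠ 1 := by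
  classical
  have hf := S.hf
  have h2 := S.two
  obtain ⟨v, u, hvv, hv, huu, huv, huAv, hΔ, hdec⟩ := S.sa_frame h4 hns hA hsa
  have hμ : μ ≠ 0 := fun e => hns ⟨0, by rw [e, mul_zero]⟩
  have hAA : ∀ x y, f (mv A x) (mv A y) = μ * f x y := fun x y => by rw [hsa, hA, hf.smul_right']
  set a : Module.End F (Fin k → F) := mvLin A with had
  have haa : ∀ x, a (a x) = μ • x := hA
  have has : ∀ x y, f (a x) y = f x (a y) := hsa
  set j : Module.End F (Fin k → F) :=
    av hf u v - av hf v u + μ⁻¹ • (av hf (a u) (a v) - av hf (a v) (a u)) with hjd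
  have hj : ∀ x, j x = f x v • u - f x u • v + μ⁻¹ • (f x (a v) • a u - f x (a u) • a v) := fun x => by
    simp only [hjd, LinearMap.add_apply, LinearMap.sub_apply, LinearMap.smul_apply, av_apply]
  have hcomm : ∀ x, a (j x) = j (a x) := fun x => by
    simp only [hj, map_add, map_sub, map_smul, haa, has x, hf.smul_right']
    match_scalars <;> field_simp <;> ring
  have hskew : ∀ x y, f (j x) y = -f x (j y) := fun x y => by
    simp only [hj, hf.add_left, hf.add_right, hf.sub_left, hf.sub_right, hf.smul_left, hf.smul_right', hf.comm' u y,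
      hf.comm' v y, hf.comm' (a u) y, hf.comm' (a v) y]
    ring
  have hv' : f v (a v) = 0 := by rw [← has]; exact hv
  have huAu : f (a u) v = 0 := by rw [has]; exact huAv
  have hvAu : f v (a u) = 0 := by rw [hf.comm']; exact huAu
  have hjv : j v = f v v • u := by
    rw [hj, hv', hf.comm' v u, huv, hvAu]
    simp
  have hjker : ∀ w, j w = 0 → w = 0 := fun w hw => hf.nondeg w fun y => by
    have hp : ∀ y, f (j w) y = 0 := fun y => by rw [hw, hf.zero_left]
    have hpA : ∀ y, f (j (a w)) y = 0 := fun y => by rw [← hcomm, hw, map_zero, hf.zero_left]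
    have p1 := hp u
    have p2 := hp (a u)
    have p3 := hp v
    have p4 := hp (a v)
    simp only [hj, hf.add_left, hf.sub_left, hf.smul_left, hf.comm' v u, huv, huAu, hvAu,
      show f u (a v) = 0 from huAv, show f (a v) v = 0 from hv, hv', show f (a v) (a v) = μ * f v v from hAA v v,
      show f (a u) (a u) = μ * f u u from hAA u u, show f (a v) u = 0 by rw [hf.comm']; exact huAv,
      show f (a v) (a u) = 0 by rw [show f (a v) (a u) = μ * f v u from hAA v u, hf.comm', huv, mul_zero],
      show f (a u) (a v) = 0 by rw [show f (a u) (a v) = μ * f u v from hAA u v, huv, mul_zero],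
      show f u (a u) = f (a u) u from (has u u).symm, mul_zero, sub_zero, zero_sub, add_zero, zero_add] at p1 p2 p3 p4
    field_simp at p1 p2 p3 p4
    have hΔ' : μ * f u u * f u u - f (a u) u * f (a u) u ≠ 0 := hΔ
    have e1 : f w v = 0 := (mul_eq_zero.1 (by linear_combination f u u * p1 - f (a u) u * p2)).resolve_right hΔ'
    have e2 : f w (a v) = 0 := (mul_eq_zero.1 (by
      linear_combination μ * f u u * p2 - f (a u) u * p1)).resolve_right hΔ'
    have e3 : f w u = 0 := (mul_eq_zero.1 (by linear_combination -p3)).resolve_right hvv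
    have e4 : f w (a u) = 0 := (mul_eq_zero.1 (by linear_combination -p4)).resolve_right hvv
    obtain ⟨c₀, c₁, c₂, c₃, rfl⟩ := hdec y
    simp only [hf.add_right, hf.smul_right', e1, e3, mul_zero, zero_add]
    rw [show f w (mv A v) = 0 from e2, show f w (mv A u) = 0 from e4]
    ring
  have hline : ∀ w, w ≠ 0 → ∀ c d : F, j w = c • w + d • a w → False := fun w hw0 c d e => by
    have s1 : f (j w) w = 0 := by
      have := hskew w w
      rw [hf.comm' w] at this
      exact (mul_eq_zero.1 (by linear_combination this : (2 : F) * f (j w) w = 0)).resolve_left h2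
    have s2 : f (j w) (a w) = 0 := by
      have h1 := hskew w (a w)
      rw [← hcomm, ← has w (j w), hf.comm' (a w) (j w)] at h1
      exact (mul_eq_zero.1 (by linear_combination h1 : (2 : F) * f (j w) (a w) = 0)).resolve_left h2
    have haw : f (a w) (a w) = μ * f w w := hAA w w
    rw [e, hf.add_left, hf.smul_left, hf.smul_left] at s1 s2
    rw [show f w (a w) = f (a w) w from (has w w).symm, haw] at s2
    by_cases hdet : μ * f w w * f w w - f (a w) w * f (a w) w = 0
    · have hww : f w w = 0 := by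
        by_contra h0
        exact hns ⟨f (a w) w / f w w, by field_simp; linear_combination hdet⟩
      have haw0 : f (a w) w = 0 := mul_self_eq_zero.1 (by rw [hww] at hdet; linear_combination -hdet)
      obtain ⟨b, hb⟩ := S.perp_iso h4 hw0 hww haw0 (by rw [haw, hww, mul_zero])
      have h1 := haa w
      rw [hb, map_smul, hb, smul_smul] at h1
      exact hns ⟨b, (smul_left_injective F hw0 h1).symm⟩
    · have hc : c = 0 := (mul_eq_zero.1 (by linear_combination (μ * f w w) * s1 - f (a w) w * s2)).resolve_right hdet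
      have hd : d = 0 := (mul_eq_zero.1 (by linear_combination f w w * s2 - f (a w) w * s1)).resolve_right hdet
      rw [hc, hd, zero_smul, zero_smul, add_zero] at e
      exact hw0 (hjker w e)
  have hinv : ∀ c d : F, (∃ e g : F, c * e + d * g * μ = 1 ∧ c * g + d * e = 0) ∨ (c = 0 ∧ d = 0) := fun c d => by
    by_cases hz : c * c - μ * (d * d) = 0
    · refine Or.inr ?_
      have hd : d = 0 := by
        by_contra h0
        exact hns ⟨c / d, by field_simp; linear_combination -hz⟩
      exact ⟨mul_self_eq_zero.1 (by rw [hd] at hz; linear_combination hz), hd⟩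
    · refine Or.inl ⟨c / (c * c - μ * (d * d)), -d / (c * c - μ * (d * d)), ?_, ?_⟩
      · rw [div_eq_mul_inv, div_eq_mul_inv]
        linear_combination mul_inv_cancel₀ hz
      · rw [div_eq_mul_inv, div_eq_mul_inv]
        ring
  have hindep : ∀ w, w ≠ 0 → LinearIndependent F ![w, a w, j w, a (j w)] := fun w hw0 => by
    rw [Fintype.linearIndependent_iff]
    intro g hg
    simp [Fin.sum_univ_four] at hg
    rcases hinv (g 2) (g 3) with ⟨e, d, h1, h2'⟩ | ⟨h2', h3⟩
    · refine (hline w hw0 (-(g 0 * e + g 1 * d * μ)) (-(g 0 * d + g 1 * e)) ?_).elim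
      have h3 : e • (g 0 • w + g 1 • a w + g 2 • j w + g 3 • a (j w)) +
          d • a (g 0 • w + g 1 • a w + g 2 • j w + g 3 • a (j w)) = 0 := by
        rw [hg, map_zero, smul_zero, smul_zero, add_zero]
      simp only [map_add, map_smul, haa] at h3
      linear_combination (norm := skip) h3
      match_scalars <;>
        first
          | linear_combination (0 : F) * h1
          | linear_combination h1
          | linear_combination -h1
          | linear_combination h2'
          | linear_combination -h2'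
    · simp only [h2', h3, zero_smul, add_zero] at hg
      have h1 : g 1 = 0 := by
        by_contra h0
        have e : a w = (-(g 0 / g 1)) • w := smul_right_injective _ h0 (by
          show g 1 • a w = g 1 • _
          rw [smul_smul, show g 1 * -(g 0 / g 1) = -g 0 by field_simp, neg_smul]
          exact eq_neg_of_add_eq_zero_right hg)
        have h1 := haa w
        rw [e, map_smul, e, smul_smul] at h1
        exact hns ⟨_, (smul_left_injective F hw0 h1).symm⟩
      have h0 : g 0 = 0 := by
        rw [h1, zero_smul, add_zero] at hg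
        exact (smul_eq_zero.1 hg).resolve_right hw0
      intro i
      fin_cases i <;> assumption
  have hv0 : v ≠ 0 := fun e => hvv (by rw [e, hf.zero_left])
  have hspan : ∀ w, w ≠ 0 → ∀ y, ∃ c₀ c₁ c₂ c₃ : F, y = c₀ • w + c₁ • a w + c₂ • j w + c₃ • a (j w) :=
    fun w hw0 y => by
      have hs := (hindep w hw0).span_eq_top_of_card_eq_finrank' (by
        rw [Fintype.card_fin, Module.finrank_fintype_fun_eq_card, Fintype.card_fin, h4])
      obtain ⟨g, hg⟩ := (Submodule.mem_span_range_iff_exists_fun F).1 (hs ▸ Submodule.mem_top (x := y))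
      exact ⟨g 0, g 1, g 2, g 3, by rw [← hg, Fin.sum_univ_four]; rfl⟩
  -- the algebra of maps commuting with both
  set K := Subalgebra.centralizer F ({a, j} : Set (Module.End F (Fin k → F))) with hK
  let P : F → F → F → F → Module.End F (Fin k → F) := fun c₀ c₁ c₂ c₃ =>
    c₀ • 1 + c₁ • a + c₂ • j + c₃ • (a * j)
  have hPv : ∀ c₀ c₁ c₂ c₃ w, P c₀ c₁ c₂ c₃ w = c₀ • w + c₁ • a w + c₂ • j w + c₃ • a (j w) :=
    fun _ _ _ _ _ => rfl
  have hmem : ∀ x : Module.End F (Fin k → F), x ∈ K ↔ (∀ w, a (x w) = x (a w)) ∧ ∀ w, j (x w) = x (j w) :=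
    fun x => by
      rw [hK, Subalgebra.mem_centralizer_iff]
      constructor
      · intro h
        exact ⟨fun w => LinearMap.congr_fun (h a (Set.mem_insert _ _)) w,
          fun w => LinearMap.congr_fun (h j (Set.mem_insert_of_mem _ rfl)) w⟩
      · rintro ⟨h1, h2⟩ g (rfl | rfl)
        exacts [LinearMap.ext h1, LinearMap.ext h2]
  have hKv : ∀ x : K, ∀ w, w ≠ 0 → x.1 w = 0 → x = 0 := fun x w hw0 hx => Subtype.ext (LinearMap.ext fun y => by
    obtain ⟨c₀, c₁, c₂, c₃, rfl⟩ := hspan w hw0 y
    obtain ⟨ha, hj'⟩ := (hmem x.1).1 x.2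
    rw [map_add, map_add, map_add, map_smul, map_smul, map_smul, map_smul, ← ha, ← hj', ← ha, ← hj', hx, map_zero,
      map_zero, map_zero, smul_zero, smul_zero, smul_zero, smul_zero, add_zero, add_zero, add_zero]
    rfl)
  have haK : a ∈ K := (hmem a).2 ⟨fun w => rfl, fun w => (hcomm w).symm⟩
  have hjK : j ∈ K := (hmem j).2 ⟨fun w => hcomm w, fun w => rfl⟩
  have hPK : ∀ c₀ c₁ c₂ c₃, P c₀ c₁ c₂ c₃ ∈ K := fun c₀ c₁ c₂ c₃ =>
    K.add_mem (K.add_mem (K.add_mem (K.smul_mem K.one_mem _) (K.smul_mem haK _)) (K.smul_mem hjK _))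
      (K.smul_mem (K.mul_mem haK hjK) _)
  have hrep : ∀ x : K, ∃ c₀ c₁ c₂ c₃, x.1 = P c₀ c₁ c₂ c₃ := fun x => by
    obtain ⟨c₀, c₁, c₂, c₃, e⟩ := hspan v hv0 (x.1 v)
    refine ⟨c₀, c₁, c₂, c₃, sub_eq_zero.1 (congrArg Subtype.val (hKv (x - ⟨_, hPK c₀ c₁ c₂ c₃⟩) v hv0 ?_))⟩
    show x.1 v - P c₀ c₁ c₂ c₃ v = 0
    rw [hPv, ← e, sub_self]
  letI : CommRing K := { (inferInstance : Ring K) with
    mul_comm := fun x y => Subtype.ext (LinearMap.ext fun w => by
      obtain ⟨c₀, c₁, c₂, c₃, e⟩ := hrep x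
      obtain ⟨ha, hj'⟩ := (hmem y.1).1 y.2
      show x.1 (y.1 w) = y.1 (x.1 w)
      rw [e, hPv, hPv, map_add, map_add, map_add, map_smul, map_smul, map_smul, map_smul, ← ha, ← hj', ← ha, ← hj']) }
  haveI : Nontrivial K := ⟨⟨0, 1, fun h => hv0 (LinearMap.congr_fun (congrArg Subtype.val h) v).symm⟩⟩
  haveI : NoZeroDivisors K := ⟨fun {x y} h => by
    refine or_iff_not_imp_right.2 fun hy => hKv x (y.1 v) (fun e => hy (hKv y v hv0 e)) ?_
    exact LinearMap.congr_fun (congrArg Subtype.val h) v⟩
  haveI : IsDomain K := NoZeroDivisors.to_isDomain K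
  haveI : Finite K := Finite.of_injective (fun x : K => x.1 v) fun x y e => sub_eq_zero.1 (hKv (x - y) v hv0 (by
    show x.1 v - y.1 v = 0
    rw [sub_eq_zero]; exact e))
  haveI : Fintype K := Fintype.ofFinite K
  have hcard : Nat.card K = Nat.card F ^ 4 := by
    rw [Nat.card_congr (Equiv.ofBijective (fun x : K => x.1 v)
      ⟨fun x y e => sub_eq_zero.1 (hKv (x - y) v hv0 (by show x.1 v - y.1 v = 0; rw [sub_eq_zero]; exact e)),
        fun y => by
          obtain ⟨c₀, c₁, c₂, c₃, e⟩ := hspan v hv0 y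
          exact ⟨⟨_, hPK c₀ c₁ c₂ c₃⟩, e.symm⟩⟩), Module.natCard_eq_pow_finrank (K := F),
      Module.finrank_fintype_fun_eq_card, Fintype.card_fin, h4]
  haveI : Fact r.Prime := ⟨hr.1⟩
  letI : Field K := Fintype.fieldOfDomain K
  haveI : Fintype Kˣ := Fintype.ofFinite Kˣ
  obtain ⟨z, hz⟩ := exists_prime_orderOf_dvd_card (G := Kˣ) r (by
    rw [← Nat.card_eq_fintype_card, Nat.card_units, hcard]
    refine hr.2.2.trans ⟨Nat.card F ^ 2 - 1, ?_⟩
    rw [mul_comm, ← Nat.sq_sub_sq (Nat.card F ^ 2) 1 |>.trans (mul_comm _ _)]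
    ring_nf)
  have hzr : (z : K).1 ^ r = 1 := by
    rw [← SubmonoidClass.coe_pow, ← Units.val_pow_eq_pow_val, orderOf_dvd_iff_pow_eq_one.1 hz.dvd]
    rfl
  have hz1 : (z : K).1 ≠ 1 := fun e => by
    rw [show z = 1 from Units.ext (Subtype.ext e), orderOf_one] at hz
    exact hr.1.one_lt.ne hz
  obtain ⟨c₀, c₁, c₂, c₃, hze⟩ := hrep z
  set ζ := (z : K).1
  set ζ' := P c₀ c₁ (-c₂) (-c₃)
  have hadj : ∀ x y, f (ζ x) y = f x (ζ' y) := fun x y => by
    rw [hze, hPv, hPv]
    simp only [hf.add_left, hf.add_right, hf.smul_left, hf.smul_right', hskew x, has x, has (j x), ← hcomm]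
    ring
  have hzr' : ζ' ^ r = 1 := by
    have hn : ∀ (n : ℕ) x y, f ((ζ ^ n) x) y = f x ((ζ' ^ n) y) := fun n => by
      induction n with
      | zero => exact fun x y => rfl
      | succ n ih =>
        intro x y
        rw [pow_succ, pow_succ']
        show f ((ζ ^ n) (ζ x)) y = f x (ζ' ((ζ' ^ n) y))
        rw [ih, hadj]
    refine LinearMap.ext fun y => sub_eq_zero.1 (hf.nondeg _ fun x => ?_)
    rw [hf.sub_left, hf.comm', ← hn, hzr]
    show f x y - f y x = 0
    rw [hf.comm', sub_self]
  set w' : K := ⟨ζ', hPK _ _ _ _⟩ * (z : K) with hwd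
  have hw1 : w'.1 = 1 := by
    have hwr : w'.1 ^ r = 1 := by
      rw [← SubmonoidClass.coe_pow, hwd, mul_pow, MulMemClass.coe_mul, SubmonoidClass.coe_pow, SubmonoidClass.coe_pow]
      show ζ' ^ r * ζ ^ r = 1
      rw [hzr, hzr', one_mul]
    have hws : ∀ x y, f (w'.1 x) y = f x (w'.1 y) := fun x y => by
      show f (ζ' (ζ x)) y = f x (ζ' (ζ y))
      rw [hf.comm', ← hadj, hf.comm', hadj]
    obtain ⟨b₀, b₁, b₂, b₃, hwe⟩ := hrep w'
    by_contra hne
    have hW := hr.inv_bot h4 hwr hne (Submodule.span F {v, a v}) ?_ ?_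
    · exact hv0 ((Submodule.eq_bot_iff _).1 hW v (Submodule.subset_span (Set.mem_insert _ _)))
    · have hskewz : ∀ y, P 0 0 b₂ b₃ y = 0 := fun y => by
        refine hf.nondeg _ fun x => ?_
        have e1 := hws y x
        rw [hwe, hPv, hPv] at e1
        simp only [hf.add_left, hf.add_right, hf.smul_left, hf.smul_right', has (j y), has y] at e1
        rw [hskew y, hskew y, ← hcomm] at e1
        rw [hPv]
        simp only [zero_smul, zero_add, hf.add_left, hf.smul_left, has (j y)]
        rw [hskew y, hskew y, ← hcomm]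
        exact (mul_eq_zero.1 (by linear_combination e1 :
          (2 : F) * (b₂ * -f y (j x) + b₃ * -f y (a (j x))) = 0)).resolve_left h2
      have hw2 : ∀ y, w'.1 y = b₀ • y + b₁ • a y := fun y => by
        have := hskewz y
        rw [hPv, zero_smul, zero_smul, zero_add, zero_add] at this
        rw [hwe, hPv, add_assoc, this, add_zero]
      intro w hw
      obtain ⟨c, d, rfl⟩ := Submodule.mem_span_pair.1 hw
      refine Submodule.mem_span_pair.2 ⟨c * b₀ + d * b₁ * μ, c * b₁ + d * b₀, ?_⟩
      rw [map_add, map_smul, map_smul, hw2, hw2, haa]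
      module
    · intro e
      have h1 := finrank_span_le_card (R := F) ({v, a v} : Set (Fin k → F))
      rw [e, finrank_top, Module.finrank_fintype_fun_eq_card, Fintype.card_fin] at h1
      have h2' : ({v, a v} : Set (Fin k → F)).toFinset.card ≤ 2 := by
        rw [Set.toFinset_insert, Set.toFinset_singleton]; exact Finset.card_le_two
      omega
  have hiso : ∀ x y, f (ζ x) (ζ y) = f x y := fun x y => by
    rw [hadj]
    show f x (w'.1 y) = f x y
    rw [hw1]; rfl
  obtain ⟨Z, hZ⟩ := exists_gl_of_injective ζ fun x y e =>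
    sub_eq_zero.1 (hf.nondeg _ fun t => by rw [hf.sub_left, ← hiso x, ← hiso y, e, sub_self])
  have hZn : ∀ (n : ℕ) x, mv (Z ^ n) x = (ζ ^ n) x := fun n => by
    induction n with
    | zero => intro x; rw [pow_zero, pow_zero, mv_one]; rfl
    | succ n ih => intro x; rw [pow_succ, pow_succ, mv_mul, hZ, ih]; rfl
  refine ⟨Z, fun x y => by rw [hZ, hZ, hiso], ext_mv fun x => ?_, ext_mv fun x => ?_, fun e => hz1 ?_⟩
  · rw [mv_mul, mv_mul, hZ, hZ]; exact (((hmem ζ).1 (z : K).2).1 x).symm
  · rw [hZn, hzr, mv_one]; rfl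
  · exact LinearMap.ext fun x => (hZ x).symm.trans (by rw [e, mv_one]; rfl)

end Sl

end Cfsg.Agent.OrthEvenWreath
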