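/-
Tensor powers of a symmetric form of dimension four: slots of monomial involutions of trace zero.
-/
import Cfsg.Agent.Lib.OrthWreathEven.FourPow
import Cfsg.Agent.Lib.OrthWreathEven.FourSim

set_option autoImplicit false
set_option linter.unusedSectionVars false

namespace Cfsg.Agent.OrthEvenWreath

open scoped Matrix
open Matrix Cfsg.Agent.Transvec Cfsg.Agent.TensorMax Cfsg.Agent.WreathMax
open Cfsg.Agent.FormWreath hiding up mv_up_ins
open Cfsg.Agent.OrthWreath hiding Sl Ctx Base Ind Inv Gd fixsp_mir small_mir split_sim rho_omega fix_line_mono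
  exists_noncomm

variable {F : Type*} [Field F] [Finite F] {k : ℕ} {J : Type} [Fintype J] [DecidableEq J]
variable {f : (Fin k → F) → (Fin k → F) → F} {κ : F}

local notation "σ₁" => RingEquiv.refl F

/-- The trace of an involution is its signature. -/
theorem trace_inv {ι : Type} [Fintype ι] [DecidableEq ι] (h2 : (2 : F) ≠ 0) {h : GL ι F} (h1 : h * h = 1) :
    Matrix.trace (h : Matrix ι ι F) = ((sgd h : ℤ) : F) := by
  set P : (ι → F) →ₗ[F] ι → F := (2⁻¹ : F) • (LinearMap.id + mvLin h) with hP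
  have hPv : ∀ v, P v = (2⁻¹ : F) • (v + mv h v) := fun v => rfl
  have hproj : LinearMap.IsProj (fixsp h) P := by
    refine ⟨fun v => mem_fixsp.2 ?_, fun v hv => ?_⟩
    · rw [hPv, mv_smul, mv_add, ← mv_mul, h1, mv_one, add_comm]
    · rw [hPv, mem_fixsp.1 hv, ← two_smul F v, smul_smul, inv_mul_cancel₀ h2, one_smul]
  have e := hproj.trace
  have e0 : LinearMap.trace F (ι → F) (mvLin h) = Matrix.trace (h : Matrix ι ι F) := by
    have : mvLin h = Matrix.toLin' (h : Matrix ι ι F) := LinearMap.ext fun v => (Matrix.toLin'_apply _ v).symm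
    rw [this, Matrix.trace_toLin'_eq]
  rw [hP, map_smul, map_add, LinearMap.trace_id, Module.finrank_fintype_fun_eq_card, e0, smul_eq_mul] at e
  rw [sgd]
  push_cast
  rw [← e]
  field_simp
  ring

theorem mono_entry (hA0 : 0 < k) {g : GL (J → Fin k) F} {π : Equiv.Perm J} {A : J → GL (Fin k) F}
    (hA : ∀ x, mv g (pten x) = pten fun j => mv (A j) (x (π j))) (m d : J → Fin k) :
    (g : Matrix (J → Fin k) (J → Fin k) F) m d =
      ∏ j, (A j : Matrix (Fin k) (Fin k) F) (m j) (d (π j)) := by
  refine (congrFun (Matrix.mulVec_single_one (g : Matrix (J → Fin k) (J → Fin k) F) d) m).symm.trans ?_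
  refine (congrFun (congrArg (mv g) (pten_single d).symm) m).trans ((congrFun (hA _) m).trans ?_)
  show ∏ j, _ = _
  exact Finset.prod_congr rfl fun j _ =>
    congrFun (Matrix.mulVec_single_one (A j : Matrix (Fin k) (Fin k) F) (d (π j))) (m j)

/-- The trace of a monomial map moving slots in pairs. -/
theorem trace_mono (hA0 : 0 < k) {g : GL (J → Fin k) F} {π : Equiv.Perm J} {A : J → GL (Fin k) F}
    (hA : ∀ x, mv g (pten x) = pten fun j => mv (A j) (x (π j))) (hπ : ∀ j, π (π j) = j)
    (hfix : ∀ j, π j = j → Matrix.trace (A j : Matrix (Fin k) (Fin k) F) ≠ 0)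
    (hmov : ∀ j, π j ≠ j →
      Matrix.trace ((A j : Matrix (Fin k) (Fin k) F) * (A (π j) : Matrix (Fin k) (Fin k) F)) ≠ 0) :
    Matrix.trace (g : Matrix (J → Fin k) (J → Fin k) F) ≠ 0 := by
  classical
  set e := Fintype.equivFin J
  set R := Finset.univ.filter fun j => e j ≤ e (π j) with hR
  have hRm : ∀ j, j ∈ R ↔ e j ≤ e (π j) := fun j => by simp [hR]
  have hor : ∀ j, j ∉ R → π j ∈ R ∧ π j ≠ j := fun j hj => by
    rw [hRm, not_le] at hj
    exact ⟨(hRm _).2 (by rw [hπ]; exact hj.le), fun e0 => by rw [e0] at hj; exact lt_irrefl _ hj⟩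
  have hout : ∀ j ∈ R, π j ≠ j → π j ∉ R := fun j hj hne h => by
    rw [hRm] at hj
    rw [hRm, hπ] at h
    exact hne (e.injective (le_antisymm h hj))
  let T : R → Finset (Fin k × Fin k) := fun r =>
    Finset.univ.filter fun pq : Fin k × Fin k => π r.1 = r.1 → pq.1 = pq.2
  let G : R → Fin k × Fin k → F := fun r pq =>
    if π r.1 = r.1 then (A r.1 : Matrix (Fin k) (Fin k) F) pq.1 pq.2
    else (A r.1 : Matrix (Fin k) (Fin k) F) pq.1 pq.2 * (A (π r.1) : Matrix (Fin k) (Fin k) F) pq.2 pq.1
  have hsum : Matrix.trace (g : Matrix (J → Fin k) (J → Fin k) F) = ∏ r, ∑ pq ∈ T r, G r pq := by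
    rw [Finset.prod_sum]
    show ∑ m, (g : Matrix (J → Fin k) (J → Fin k) F) m m = _
    refine Finset.sum_bij' (fun m _ => fun r _ => (m r.1, m (π r.1)))
      (fun p _ => fun j => if hj : j ∈ R then (p ⟨j, hj⟩ (Finset.mem_univ _)).1
        else (p ⟨π j, (hor j hj).1⟩ (Finset.mem_univ _)).2) (fun m _ => ?_) (fun p _ => Finset.mem_univ _)
      (fun m _ => ?_) (fun p hp => ?_) fun m _ => ?_
    · refine Finset.mem_pi.2 fun r _ => Finset.mem_filter.2 ⟨Finset.mem_univ _, fun h => ?_⟩
      show m r.1 = m (π r.1)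
      rw [h]
    · funext j
      show (if hj : j ∈ R then m j else m (π (π j))) = m j
      rw [hπ]
      split <;> rfl
    · funext r _
      have hp2 := (Finset.mem_filter.1 (Finset.mem_pi.1 hp r (Finset.mem_univ _))).2
      show (_, _) = p r _
      refine Prod.ext ?_ ?_
      · show dite _ _ _ = _
        rw [dif_pos r.2]
      · by_cases hf' : π r.1 = r.1
        · show dite _ _ _ = _
          rw [dif_pos (hf'.symm ▸ r.2)]
          have : (⟨π r.1, hf'.symm ▸ r.2⟩ : R) = r := Subtype.ext hf'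
          simp only [this]
          exact hp2 hf'
        · show dite _ _ _ = _
          rw [dif_neg (hout r.1 r.2 hf')]
          have : ∀ h, (⟨π (π r.1), h⟩ : R) = r := fun h => Subtype.ext (hπ r.1)
          simp only [this]
    · rw [mono_entry hA0 hA]
      show _ = ∏ x ∈ Finset.univ.attach, (fun r : R => G r (m r.1, m (π r.1))) x.1
      rw [Finset.prod_attach Finset.univ fun r : R => G r (m r.1, m (π r.1))]
      rw [← Finset.prod_mul_prod_compl R, ← Finset.prod_coe_sort R,
        ← Finset.prod_filter_mul_prod_filter_not (Finset.univ : Finset R) (fun r => π r.1 = r.1),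
        ← Finset.prod_filter_mul_prod_filter_not (Finset.univ : Finset R) (fun r => π r.1 = r.1)
          (fun r => G r (m r.1, m (π r.1))), mul_assoc]
      congr 1
      · exact Finset.prod_congr rfl fun r hr => by
          simp only [G, if_pos (Finset.mem_filter.1 hr).2, (Finset.mem_filter.1 hr).2]
      rw [Finset.prod_bij' (s := Rᶜ)
        (t := Finset.univ.filter fun r : R => ¬ π r.1 = r.1)
        (g := fun r => (A (π r.1) : Matrix (Fin k) (Fin k) F) (m (π r.1)) (m r.1))
        (fun j hj => ⟨π j, (hor j (Finset.mem_compl.1 hj)).1⟩) (fun r _ => π r.1)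
        (fun j hj => Finset.mem_filter.2 ⟨Finset.mem_univ _, fun h => (hor j (Finset.mem_compl.1 hj)).2 (by
          rw [hπ] at h; exact h.symm)⟩)
        (fun r hr => Finset.mem_compl.2 (hout r.1 r.2 (Finset.mem_filter.1 hr).2))
        (fun j _ => hπ j) (fun r _ => Subtype.ext (hπ r.1)) (fun j _ => by simp only [hπ]),
        ← Finset.prod_mul_distrib]
      exact Finset.prod_congr rfl fun r hr => by simp only [G, if_neg (Finset.mem_filter.1 hr).2]
  rw [hsum]
  refine Finset.prod_ne_zero_iff.2 fun r _ => ?_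
  by_cases hr : π r.1 = r.1
  · convert hfix r.1 hr using 1
    refine Finset.sum_bij' (fun pq _ => pq.1) (fun p _ => (p, p)) (fun _ _ => Finset.mem_univ _)
      (fun p _ => Finset.mem_filter.2 ⟨Finset.mem_univ _, fun _ => rfl⟩) (fun pq hpq => ?_) (fun p _ => rfl)
      fun pq hpq => ?_
    · exact Prod.ext rfl ((Finset.mem_filter.1 hpq).2 hr)
    · simp only [G, if_pos hr, Matrix.diag_apply, (Finset.mem_filter.1 hpq).2 hr]
  · convert hmov r.1 hr using 1
    simp only [T, G, if_neg hr, hr, false_imp_iff, Finset.filter_true, Fintype.sum_prod_type, Matrix.trace,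
      Matrix.diag_apply, Matrix.mul_apply]

/-- A monomial map commutes past a factor of a fixed slot. -/
theorem fac_commute {g : GL (J → Fin k) F} {π : Equiv.Perm J} {A : J → GL (Fin k) F}
    (hA : ∀ x, mv g (pten x) = pten fun j => mv (A j) (x (π j))) {c : J} (hc : π c = c) {T T' : GL (Fin k) F}
    (h : A c * T = T' * A c) : g * fac c T = fac c T' * g :=
  ext_pten fun x => by
    rw [mv_mul, mv_mul, mv_fac, hA, hA, mv_fac]
    refine congrArg pten (funext fun j => ?_)
    by_cases hj : j = c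
    · subst hj
      rw [hc, Function.update_self, Function.update_self, ← mv_mul, h, mv_mul]
    · rw [Function.update_of_ne hj, Function.update_of_ne fun e => hj (π.injective (e.trans hc.symm))]

/-- For two slots. -/
theorem two_facs {a b : J} (hab : a ≠ b) (hJ2 : Fintype.card J = 2) {g : GL (J → Fin k) F}
    {A : J → GL (Fin k) F} (hA : ∀ x, mv g (pten x) = pten fun j => mv (A j) (x j)) :
    g = fac a (A a) * fac b (A b) := by
  have huniv : ∀ j : J, j = a ∨ j = b := fun j => by
    by_contra hc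
    push Not at hc
    have h3 := Finset.card_le_univ ({a, b, j} : Finset J)
    rw [Finset.card_insert_of_notMem (by simp [hab, hc.1.symm]), Finset.card_pair hc.2.symm, hJ2] at h3
    omega
  refine ext_pten fun x => ?_
  rw [hA, mv_mul, mv_fac, mv_fac]
  refine congrArg pten (funext fun j => ?_)
  rcases huniv j with rfl | rfl
  · rw [Function.update_self, Function.update_of_ne hab]
  · rw [Function.update_of_ne hab.symm, Function.update_self]

namespace Sl

variable (S : Sl f κ)
include S

/-- Slot factors of isometries are isometries. -/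
theorem fac_isom {i : J} {T : GL (Fin k) F}
    (h : ∀ x y, Bt σ₁ f (mv (fac i T) x) (mv (fac i T) y) = Bt σ₁ f x y) (u v : Fin k → F) :
    f (mv T u) (mv T v) = f u v := by
  obtain ⟨e, he⟩ := S.exists_aniso
  have hw : Bt σ₁ f (pten fun _ => e : Rest i k → F) (pten fun _ => e) ≠ 0 := by
    rw [Bt_pten S.hf]; exact Finset.prod_ne_zero_iff.2 fun _ _ => he ▸ S.hκ
  have := h (ins i u (pten fun _ => e)) (ins i v (pten fun _ => e))
  rw [mv_fac_ins, mv_fac_ins, Bt_ins_ins S.hf, Bt_ins_ins S.hf] at this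
  exact mul_right_cancel₀ hw this

/-- The slot maps of a monomial involution. -/
theorem slot_data {h : GL (J → Fin k) F} (hiso : ∀ x y, Bt σ₁ f (mv h x) (mv h y) = Bt σ₁ f x y) (h1 : h * h = 1)
    {π : Equiv.Perm J} {A : J → GL (Fin k) F} (hA : ∀ x, mv h (pten x) = pten fun j => mv (A j) (x (π j))) :
    (∀ j, π (π j) = j) ∧ ∀ j, ∃ μ l : F, μ ≠ 0 ∧ (∀ v, mv (A j) (mv (A (π j)) v) = μ • v) ∧
      ∀ u v, f (mv (A j) u) (mv (A j) v) = l * f u v := by
  have hk := S.hk
  haveI : NeZero k := ⟨by omega⟩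
  refine ⟨fun j => ?_, fun j => ?_⟩
  · haveI : Nonempty J := ⟨j⟩
    have hm : MonoOf π h := ⟨A, hA⟩
    exact Equiv.congr_fun (perm_of_monoOf (by omega) (h1 ▸ hm.mul hm) monoOf_one : π * π = 1) j
  haveI : Nonempty J := ⟨j⟩
  have hm : MonoOf π h := ⟨A, hA⟩
  have hπ2 : π * π = 1 := perm_of_monoOf (by omega) (h1 ▸ hm.mul hm) monoOf_one
  have hπ : ∀ i, π (π i) = i := fun i => Equiv.congr_fun hπ2 i
  obtain ⟨l, -, hl⟩ := S.slot_sim hiso hA j
  obtain ⟨μ, hμ, hμA⟩ : ∃ μ : F, μ ≠ 0 ∧ ∀ v, mv (A j) (mv (A (π j)) v) = μ • v := by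
    refine slot_scalar (z := fun _ => Pi.single 0 1) (z' := fun i => mv (A i) (mv (A (π i)) (Pi.single 0 1)))
      (i := j) (by omega) (fun i _ => Pi.single_ne_zero_iff.2 one_ne_zero) fun v => ?_
    have h0 : mv (h * h) (pten (Function.update (fun _ => Pi.single 0 1) j v)) =
        pten (Function.update (fun _ => Pi.single 0 1) j v) := by rw [h1, mv_one]
    rw [mv_mul, hA, hA] at h0
    rw [← h0]
    refine congrArg pten (funext fun i => ?_)
    rw [hπ]
    by_cases hi : i = j
    · subst hi; rw [Function.update_self, Function.update_self]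
    · rw [Function.update_of_ne hi, Function.update_of_ne hi]
  exact ⟨μ, l, hμ, hμA, hl⟩

/-- Monomial involutions of signature zero have a fixed slot of trace zero. -/
theorem exists_tr0 (h4 : k = 4) {h : GL (J → Fin k) F}
    (hiso : ∀ x y, Bt σ₁ f (mv h x) (mv h y) = Bt σ₁ f x y) (h1 : h * h = 1) {π : Equiv.Perm J}
    {A : J → GL (Fin k) F} (hA : ∀ x, mv h (pten x) = pten fun j => mv (A j) (x (π j))) (hs : sgd h = 0) :
    ∃ c, π c = c ∧ Matrix.trace (A c : Matrix (Fin k) (Fin k) F) = 0 := by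
  by_contra hcon
  push Not at hcon
  obtain ⟨hπ, hdat⟩ := S.slot_data hiso h1 hA
  refine trace_mono (by omega) hA hπ hcon (fun j _ => ?_) (by rw [trace_inv S.two h1, hs, Int.cast_zero])
  obtain ⟨μ, -, hμ, hμA, -⟩ := hdat j
  have e : (A j : Matrix (Fin k) (Fin k) F) * A (π j) = μ • (1 : Matrix (Fin k) (Fin k) F) := by
    refine Matrix.toLin'.injective (LinearMap.ext fun v => ?_)
    rw [Matrix.toLin'_apply, Matrix.toLin'_apply, ← Matrix.mulVec_mulVec, Matrix.smul_mulVec, Matrix.one_mulVec]
    exact hμA v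
  rw [e, Matrix.trace_smul, Matrix.trace_one, Fintype.card_fin, h4, smul_eq_mul]
  exact mul_ne_zero hμ (by rw [Nat.cast_ofNat, show (4 : F) = 2 * 2 by norm_num]; exact mul_ne_zero S.two S.two)

/-- Trace zero and square scalar square: a plane involution. -/
theorem pl_of_tr0 (h4 : k = 4) {A : GL (Fin k) F} {α l : F} (hα : α ≠ 0) (hA : ∀ v, mv A (mv A v) = (α * α) • v)
    (hl : ∀ u v, f (mv A u) (mv A v) = l * f u v) (htr : Matrix.trace (A : Matrix (Fin k) (Fin k) F) = 0) :
    ∃ B : GL (Fin k) F, IsPl f B ∧ ∀ v, mv A v = α • mv B v := by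
  obtain ⟨B, hB, hBi, hBA⟩ := S.sim_inv h4 hα hA hl
  refine ⟨B, ⟨hBi, hB, ?_⟩, hBA⟩
  have e : (A : Matrix (Fin k) (Fin k) F) = α • (B : Matrix (Fin k) (Fin k) F) := by
    refine Matrix.toLin'.injective (LinearMap.ext fun v => ?_)
    rw [Matrix.toLin'_apply, Matrix.toLin'_apply, Matrix.smul_mulVec]
    exact hBA v
  rw [e, Matrix.trace_smul, smul_eq_mul, trace_inv S.two hB, sgd, Fintype.card_fin] at htr
  have h0 := (mul_eq_zero.1 htr).resolve_left hα
  have hle : Module.finrank F (fixsp B) ≤ k :=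
    (Submodule.finrank_le _).trans (by rw [Module.finrank_fintype_fun_eq_card, Fintype.card_fin])
  have h22 : (2 : F) * 2 ≠ 0 := mul_ne_zero S.two S.two
  subst h4
  generalize hn : Module.finrank F (fixsp B) = n at h0 hle ⊢
  interval_cases n
  · exact absurd (by push_cast at h0; linear_combination -h0) h22
  · exact absurd (by push_cast at h0; linear_combination -h0) S.two
  · rfl
  · exact absurd (by push_cast at h0; linear_combination h0) S.two
  · exact absurd (by push_cast at h0; linear_combination h0) h22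

end Sl

end Cfsg.Agent.OrthEvenWreath
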