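/-
Symmetric forms of minus type in dimension four: quarter turns and anticommuting maps.
-/
import Cfsg.Agent.Lib.OrthWreathEven.FourFus
import Cfsg.Agent.Lib.OrthWreathEven.FourRot
import Cfsg.Agent.Lib.OrthWreathEven.FourSlot

set_option autoImplicit false
set_option linter.unusedSectionVars false

namespace Cfsg.Agent.OrthEvenWreath

open scoped Matrix
open Matrix Cfsg.Agent.Transvec Cfsg.Agent.TensorMax Cfsg.Agent.WreathMax
open Cfsg.Agent.FormWreath hiding up mv_up_ins
open Cfsg.Agent.OrthWreath hiding Sl Ctx Base Ind Inv Gd fixsp_mir small_mir split_sim rho_omega fix_line_mono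
  exists_noncomm
open Cfsg.Agent.UWreath (mono_mul mono_inv)

variable {F : Type*} [Field F] [Finite F] {k : ℕ} {J : Type} [Fintype J] [DecidableEq J]
variable {f : (Fin k → F) → (Fin k → F) → F} {κ : F}

local notation "σ₁" => RingEquiv.refl F

theorem fac_conj_eq (hk : 0 < k) {n : GL (J → Fin k) F} {π : Equiv.Perm J} {A : J → GL (Fin k) F}
    (hA : ∀ x, mv n (pten x) = pten fun j => mv (A j) (x (π j))) {a : J} {D D' : GL (Fin k) F} (hD : ¬ Ctl D')
    (h : n * fac a D * n⁻¹ = fac a D') : π a = a ∧ A a * D = D' * A a := by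
  rw [conj_slot hA] at h
  have e : π⁻¹ a = a := (fac_slot hk hD h.symm).symm
  rw [e] at h
  refine ⟨?_, ?_⟩
  · conv_lhs => rw [← e]
    simp
  · rw [← fac_inj hk a h, inv_mul_cancel_right]

namespace Sl

variable (S : Sl f κ)
include S

/-- A quarter turn whose square is a given plane involution, up to sign. -/
theorem exists_turn (h4 : k = 4) {E : GL (Fin k) F} (hE : IsPl f E) :
    ∃ x z, f x x ≠ 0 ∧ f z z ≠ 0 ∧ ((mr S.hf x * mr S.hf z) * (mr S.hf x * mr S.hf z) = E ∨
      (mr S.hf x * mr S.hf z) * (mr S.hf x * mr S.hf z) = -E) := by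
  have hf := S.hf
  obtain ⟨x, y, hx0, hy0, hxy, hsq, hEe⟩ : ∃ x y, f x x ≠ 0 ∧ f y y ≠ 0 ∧ f x y = 0 ∧
      IsSquare (f x x * f y y) ∧ (E = mr hf x * mr hf y ∨ E = -(mr hf x * mr hf y)) := by
    obtain ⟨x, y, hx, hy, hxy, hEe⟩ := S.hyp_or h4 hE
    have hx0 : f x x ≠ 0 := hx ▸ one_ne_zero
    have hy0 : f y y ≠ 0 := hy ▸ neg_ne_zero.2 one_ne_zero
    by_cases h1 : IsSquare (-1 : F)
    · exact ⟨x, y, hx0, hy0, hxy, by rwa [hx, hy, one_mul], hEe⟩
    obtain ⟨w, z, hw, hz, hwz, he⟩ := S.isPl_exists_mr (S.pl_neg h4 (S.isPl_mr hx0 hy0 hxy))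
    refine ⟨w, z, hw, hz, hwz, ?_, ?_⟩
    · have hn : ¬ IsSquare (-(f w w * f z z)) := by
        rintro ⟨g, hg⟩
        set v := (g / f w w) • w + z
        have hvz : f v z = f z z := by simp only [v, hf.add_left, hf.smul_left, hwz, mul_zero, zero_add]
        have hv : f v v = 0 := by
          simp only [v, hf.add_left, hf.add_right, hf.smul_left, hf.smul_right', hwz, hf.comm' z w]
          field_simp
          linear_combination -hg
        have hfixw : mv (mr hf x * mr hf y) w = w := by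
          have := congrArg (fun g => mv g w) he
          simp only [mv_neg_gl, S.mm_left hw hz hwz, neg_inj] at this
          exact this
        have hfixz : mv (mr hf x * mr hf y) z = z := by
          have := congrArg (fun g => mv g z) he
          simp only [mv_neg_gl, S.mm_right hw hz hwz, neg_inj] at this
          exact this
        have hi := (S.isPl_mr hx0 hy0 hxy).1
        have hfv : mv (mr hf x * mr hf y) v = v := by simp only [v, mv_add, mv_smul, hfixw, hfixz]
        have := S.hyp_fix_aniso h4 hx hy hxy (S.eig_orth hi hfv (S.mm_left hx0 hy0 hxy))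
          (S.eig_orth hi hfv (S.mm_right hx0 hy0 hxy)) hv
        rw [this, hf.zero_left] at hvz
        exact hz hvz.symm
      have := isSquare_mul S.two (neg_ne_zero.2 (mul_ne_zero hw hz)) (neg_ne_zero.2 one_ne_zero) hn h1
      rwa [neg_mul_neg, mul_one] at this
    · rcases hEe with e | e
      · exact Or.inr (by rw [e, ← he, neg_neg])
      · exact Or.inl (by rw [e, he])
  obtain ⟨g, hg⟩ := hsq
  have hg0 : g ≠ 0 := fun e => mul_ne_zero hx0 hy0 (by rw [hg, e, mul_zero])
  set y' := (g / f y y) • y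
  have hy'y' : f y' y' = f x x := by
    simp only [y', hf.smul_left, hf.smul_right']
    field_simp
    linear_combination -hg
  have hy'0 : f y' y' ≠ 0 := hy'y' ▸ hx0
  have hxy' : f x y' = 0 := by simp only [y', hf.smul_right', hxy, mul_zero]
  have hmy : mr hf y' = mr hf y := mr_smul hf hy0 (div_ne_zero hg0 hy0)
  set p := x + y'
  have hp : f p p = 2 * f x x := by
    simp only [p, hf.add_left, hf.add_right, hxy', hf.comm' y' x, hy'y']; ring
  have hp0 : f p p ≠ 0 := hp ▸ mul_ne_zero S.two hx0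
  refine ⟨x, p, hx0, hp0, ?_⟩
  set R := mr hf x * mr hf p
  have hxp : mv (mr hf p) x = y' := by
    rw [mv_mr hf hp0, hp, show f x p = f x x by simp only [p, hf.add_right, hxy', add_zero],
      div_self (mul_ne_zero S.two hx0), one_smul]
    simp [p]
  have hyp : mv (mr hf p) y' = x := by rw [← hxp, ← mv_mul, mr_sq hf hp0, mv_one]
  have hRx : mv R x = -y' := by
    rw [mv_mul, hxp, mr_perp hf hx0 (by rw [hf.comm', hxy'])]
  have hRy : mv R y' = x := by rw [mv_mul, hyp, mr_self hf hx0]
  have hRw : ∀ w, f w x = 0 → f w y' = 0 → mv R w = w := fun w h1 h2 => by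
    rw [mv_mul, mr_perp hf hp0 (by simp only [p, hf.add_right, h1, h2, add_zero]), mv_neg, mr_perp hf hx0 h1, neg_neg]
  have hRR : R * R = mr hf x * mr hf y := by
    rw [← hmy]
    refine ext_mv fun v => ?_
    set a := f v x / f x x
    set b := f v y' / f y' y'
    set w := v - a • x - b • y' with hw
    have hwx : f w x = 0 := by
      simp only [hw, hf.sub_left, hf.smul_left, hf.comm' y' x, hxy', mul_zero, sub_zero, a]
      field_simp
      ring
    have hwy : f w y' = 0 := by
      simp only [hw, hf.sub_left, hf.smul_left, hxy', mul_zero, sub_zero, b]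
      field_simp
      ring
    have h1 : mv (R * R) x = -x := by rw [mv_mul, hRx, mv_neg, hRy]
    have h2 : mv (R * R) y' = -y' := by rw [mv_mul, hRy, hRx]
    have h3 : mv (R * R) w = w := by rw [mv_mul, hRw w hwx hwy, hRw w hwx hwy]
    rw [show v = a • x + b • y' + w by rw [hw]; abel, mv_add, mv_add, mv_smul _ a x, mv_smul _ b y', mv_add, mv_add,
      mv_smul _ a x, mv_smul _ b y', h1, h2, h3, S.mm_perp hx0 hy'0 hxy' hwx hwy, S.mm_left hx0 hy'0 hxy',
      S.mm_right hx0 hy'0 hxy']
  rcases hEe with e | e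
  · exact Or.inl (by rw [hRR, e])
  · exact Or.inr (by rw [hRR, e, neg_neg])

/-- A similitude commuting with a plane involution whose square is a multiple of an involution. -/
theorem sq_plane (h4 : k = 4) {D A B : GL (Fin k) F} (hD : IsPl f D) {l : F} (hl : l ≠ 0)
    (hA : ∀ u v, f (mv A u) (mv A v) = l * f u v) (hB : B * B = 1)
    (hAD : A * D = D * A) (hAB : ∀ v, mv A (mv A v) = l • mv B v) : B = 1 ∨ B = -1 ∨ B = D ∨ B = -D := by
  have hf := S.hf
  have hcBA : ∀ v, mv B (mv A v) = mv A (mv B v) := fun v => smul_right_injective _ hl (by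
    show l • mv B (mv A v) = l • mv A (mv B v)
    rw [← hAB, ← mv_smul, ← hAB])
  have hcAD : ∀ v, mv A (mv D v) = mv D (mv A v) := fun v => by rw [← mv_mul, ← mv_mul, hAD]
  have hBi : ∀ u v, f (mv B u) (mv B v) = f u v := fun u v => mul_left_cancel₀ (mul_ne_zero hl hl) (by
    have h1 := hA (mv A u) (mv A v)
    rw [hA u v, hAB, hAB, hf.smul_left, hf.smul_right'] at h1
    linear_combination h1)
  have hcBD : ∀ v, mv B (mv D v) = mv D (mv B v) := fun v => smul_right_injective _ hl (by
    show l • mv B (mv D v) = l • mv D (mv B v)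
    rw [← hAB, ← mv_smul, ← hAB, hcAD, hcAD])
  -- the involution is scalar on the spaces of each eigenvalue
  have hscal : ∀ P : Submodule F (Fin k → F), Nd f P → (∀ v ∈ P, mv A v ∈ P) → Module.finrank F P = 2 →
      (∀ v ∈ P, mv B v = v) ∨ ∀ v ∈ P, mv B v = -v := by
    intro P hP hPA hP2
    have hPB : ∀ v ∈ P, mv B v ∈ P := fun v hv => by
      have := P.smul_mem l⁻¹ (hPA _ (hPA v hv))
      rwa [hAB, smul_smul, inv_mul_cancel₀ hl, one_smul] at this
    by_contra hcon
    push Not at hcon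
    obtain ⟨⟨v, hv, hv'⟩, v', hv'm, hv''⟩ := hcon
    set w' := v - mv B v with hw'
    set w := v' + mv B v' with hw
    have hw'0 : w' ≠ 0 := fun e => hv' (sub_eq_zero.1 e).symm
    have hw0 : w ≠ 0 := fun e => hv'' (eq_neg_of_add_eq_zero_right e)
    have hwB : mv B w = w := by rw [hw, mv_add, ← mv_mul, hB, mv_one, add_comm]
    have hw'B : mv B w' = -w' := by rw [hw', mv_sub, ← mv_mul, hB, mv_one, neg_sub]
    have hwP : w ∈ P := P.add_mem hv'm (hPB _ hv'm)
    have hw'P : w' ∈ P := P.sub_mem hv (hPB _ hv)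
    have horth : f w w' = 0 := S.eig_orth hBi hwB hw'B
    have hnin : w' ∉ Submodule.span F {w} := fun h => by
      obtain ⟨c, hc⟩ := Submodule.mem_span_singleton.1 h
      rw [← hc, mv_smul, hwB] at hw'B
      exact hw'0 (hc ▸ (smul_eq_zero.1 (by linear_combination (norm := module) hw'B :
        (2 : F) • c • w = 0)).resolve_left S.two)
    have hli : LinearIndependent F ![w, w'] := LinearIndependent.pair_iff.2 fun s t hst => by
      have ht : t = 0 := by
        by_contra ht
        exact hnin (Submodule.mem_span_singleton.2 ⟨-(s / t), smul_right_injective _ ht (by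
          show t • _ = t • w'
          rw [smul_smul, show t * -(s / t) = -s by field_simp, neg_smul]
          exact (eq_neg_of_add_eq_zero_right hst).symm)⟩)
      exact ⟨(smul_eq_zero.1 (by simpa [ht] using hst)).resolve_right hw0, ht⟩
    have hdec : ∀ z ∈ P, ∃ s t : F, z = s • w + t • w' := fun z hz => by
      have hle : Submodule.span F (Set.range ![w, w']) ≤ P := Submodule.span_le.2 (by
        rintro _ ⟨i, rfl⟩; fin_cases i <;> assumption)
      have heq := Submodule.eq_of_le_of_finrank_le hle (by rw [finrank_span_eq_card hli, Fintype.card_fin, hP2])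
      obtain ⟨g, hg⟩ := (Submodule.mem_span_range_iff_exists_fun F).1 (heq.symm ▸ hz)
      exact ⟨g 0, g 1, by rw [← hg, Fin.sum_univ_two]; rfl⟩
    have hww : f w w ≠ 0 := fun e => hw0 (hP w hwP fun z hz => by
      obtain ⟨s, t, rfl⟩ := hdec z hz
      rw [hf.add_left, hf.smul_left, hf.smul_left, e, hf.comm' w' w, horth, mul_zero, mul_zero, add_zero])
    have hw'w' : f w' w' ≠ 0 := fun e => hw'0 (hP w' hw'P fun z hz => by
      obtain ⟨s, t, rfl⟩ := hdec z hz
      rw [hf.add_left, hf.smul_left, hf.smul_left, e, horth, mul_zero, mul_zero, add_zero])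
    obtain ⟨a, ha⟩ : ∃ a : F, mv A w = a • w := by
      obtain ⟨s, t, e⟩ := hdec _ (hPA w hwP)
      have h1 : mv B (mv A w) = mv A w := by rw [hcBA, hwB]
      rw [e, mv_add, mv_smul, mv_smul, hwB, hw'B] at h1
      have h0 : t • w' = 0 := (smul_eq_zero.1 (by linear_combination (norm := module) -h1 : (2 : F) • t • w' = 0)).resolve_left S.two
      exact ⟨s, by rw [e, h0, add_zero]⟩
    obtain ⟨b, hb⟩ : ∃ b : F, mv A w' = b • w' := by
      obtain ⟨s, t, e⟩ := hdec _ (hPA w' hw'P)
      have h1 : mv B (mv A w') = -mv A w' := by rw [hcBA, hw'B, mv_neg]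
      rw [e, mv_add, mv_smul, mv_smul, hwB, hw'B] at h1
      have h0 : s • w = 0 := (smul_eq_zero.1 (by linear_combination (norm := module) h1 : (2 : F) • s • w = 0)).resolve_left S.two
      exact ⟨t, by rw [e, h0, zero_add]⟩
    have hla : a * a = l := mul_right_cancel₀ hww (by
      rw [← hA w w, ha, hf.smul_left, hf.smul_right', mul_assoc])
    have hlb : b * b = l := mul_right_cancel₀ hw'w' (by
      rw [← hA w' w', hb, hf.smul_left, hf.smul_right', mul_assoc])
    have e2 := hAB w'
    rw [hb, mv_smul, hb, smul_smul, hlb, hw'B] at e2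
    exact hw'0 ((smul_eq_zero.1 (by linear_combination (norm := module) e2 :
      ((2 : F) * l) • w' = 0)).resolve_left (mul_ne_zero S.two hl))
  have hinvp : ∀ v ∈ fixsp D, mv A v ∈ fixsp D := fun v hv => mem_fixsp.2 (by rw [← hcAD, mem_fixsp.1 hv])
  have hinvn : ∀ v ∈ fixsp (-D), mv A v ∈ fixsp (-D) := fun v hv =>
    mem_fixsp_neg.2 (by rw [← hcAD, mem_fixsp_neg.1 hv, mv_neg])
  have h1 := hscal _ (S.eig_nd hD.2.1 hD.1) hinvp (by have := hD.2.2; omega)
  have h2 := hscal _ (S.eig_nd (A := -D) (by rw [neg_mul_neg, hD.2.1]) (S.neg_isom hD.1)) hinvn (S.isPl_fix hD)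
  have hext : ∀ T : GL (Fin k) F, (∀ v ∈ fixsp D, mv B v = mv T v) → (∀ v ∈ fixsp (-D), mv B v = mv T v) → B = T :=
    fun T p q => ext_mv fun v => smul_right_injective _ S.two (by
      show (2 : F) • mv B v = (2 : F) • mv T v
      have hD2 : mv D (mv D v) = v := by rw [← mv_mul, hD.2.1, mv_one]
      have p' := p (v + mv D v) (mem_fixsp.2 (by rw [mv_add, hD2, add_comm]))
      have q' := q (v - mv D v) (mem_fixsp_neg.2 (by rw [mv_sub, hD2, neg_sub]))
      rw [mv_add, mv_add] at p'
      rw [mv_sub, mv_sub] at q'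
      linear_combination (norm := module) p' + q')
  rcases h1 with p | p <;> rcases h2 with q | q
  · exact Or.inl (hext 1 (fun v hv => by rw [p v hv, mv_one]) fun v hv => by rw [q v hv, mv_one])
  · exact Or.inr (Or.inr (Or.inl (hext D (fun v hv => by rw [p v hv, mem_fixsp.1 hv])
      fun v hv => by rw [q v hv, mem_fixsp_neg.1 hv])))
  · exact Or.inr (Or.inr (Or.inr (hext (-D) (fun v hv => by rw [p v hv, mv_neg_gl, mem_fixsp.1 hv])
      fun v hv => by rw [q v hv, mv_neg_gl, mem_fixsp_neg.1 hv, neg_neg])))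
  · exact Or.inr (Or.inl (hext (-1) (fun v hv => by rw [p v hv, mv_neg_gl, mv_one])
      fun v hv => by rw [q v hv, mv_neg_gl, mv_one]))

/-- An anticommuting product of three mirrors. -/
theorem exists_anti3 (h4 : k = 4) {A : GL (Fin k) F} {μ : F} (hns : ¬ IsSquare μ)
    (hA : ∀ v, mv A (mv A v) = μ • v) (hsa : ∀ u v, f (mv A u) v = f u (mv A v)) :
    ∃ x y z, f x x ≠ 0 ∧ f y y ≠ 0 ∧ f z z ≠ 0 ∧
      ∀ v, mv A (mv (mr S.hf x * (mr S.hf y * mr S.hf z)) v) =
        -mv (mr S.hf x * (mr S.hf y * mr S.hf z)) (mv A v) := by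
  have hf := S.hf
  obtain ⟨v, u, hvv, hv, huu, huv, huAv, hΔ, hdec⟩ := S.sa_frame h4 hns hA hsa
  have hμ : μ ≠ 0 := fun e => hns ⟨0, by rw [e, mul_zero]⟩
  have hAA : ∀ x y, f (mv A x) (mv A y) = μ * f x y := fun x y => by rw [hsa, hA, hf.smul_right']
  have hti : ∀ w : Fin k → F, w ≠ 0 → f w w = 0 → f (mv A w) w = 0 → False := fun w hw0 h1 h2 => by
    obtain ⟨b, hb⟩ := S.perp_iso h4 hw0 h1 h2 (by rw [hAA, h1, mul_zero])
    have e := hA w
    rw [hb, mv_smul, hb, smul_smul] at e
    exact hns ⟨b, (smul_left_injective F hw0 e).symm⟩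
  set r := f u u with hrd
  set s := f (mv A u) u with hsd
  obtain ⟨γ, hγ⟩ : IsSquare (μ * r * r - s * s) := by
    by_contra hn
    obtain ⟨g, hg⟩ := isSquare_mul S.two hμ hΔ hns hn
    obtain ⟨w, hwv, hwAv, hw0, hwA⟩ : ∃ w, f w v = 0 ∧ f w (mv A v) = 0 ∧ w ≠ 0 ∧ f (mv A w) w = 0 := by
      by_cases hs0 : s = 0
      · exact ⟨u, huv, huAv, fun e => huu (show f u u = 0 by rw [e, hf.zero_left]), hs0⟩
      · set x := (-(μ * r) + g) / s
        refine ⟨x • u + mv A u, ?_, ?_, fun e => ?_, ?_⟩
        · rw [hf.add_left, hf.smul_left, huv, hsa, huAv, mul_zero, add_zero]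
        · rw [hf.add_left, hf.smul_left, huAv, hAA, huv, mul_zero, mul_zero, add_zero]
        · have e1 : mv A u = (-x) • u := by rw [neg_smul]; exact eq_neg_of_add_eq_zero_right e
          have e2 := hA u
          rw [e1, mv_smul, e1, smul_smul] at e2
          exact hns ⟨-x, (smul_left_injective F (fun e0 => huu (show f u u = 0 by rw [e0, hf.zero_left])) e2).symm⟩
        · rw [mv_add, mv_smul, hA]
          simp only [hf.add_left, hf.add_right, hf.smul_left, hf.smul_right', hAA, hf.comm' u (mv A u), ← hrd, ← hsd]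
          simp only [x]
          field_simp
          linear_combination -hg
    have hww : f w w ≠ 0 := fun e => hti w hw0 e hwA
    obtain ⟨w₁, hw₁v, hw₁Av, hw₁A, c, hc⟩ : ∃ w₁, f w₁ v = 0 ∧ f w₁ (mv A v) = 0 ∧ f (mv A w₁) w₁ = 0 ∧
        ∃ c : F, c * c * f w₁ w₁ = -f v v := by
      by_cases hsq : IsSquare (-f v v / f w w)
      · obtain ⟨c, hc⟩ := hsq
        exact ⟨w, hwv, hwAv, hwA, c, by rw [← hc, div_mul_cancel₀ _ hww]⟩
      · obtain ⟨c, hc⟩ := isSquare_mul S.two hμ (div_ne_zero (neg_ne_zero.2 hvv) hww) hns hsq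
        refine ⟨mv A w, by rw [hsa]; exact hwAv, by rw [hAA, hwv, mul_zero],
          by rw [hA, hf.smul_left, hf.comm', hwA, mul_zero], c / μ, ?_⟩
        rw [hAA, div_mul_div_comm, ← hc]
        field_simp
    set e := v + c • w₁
    refine hti e (fun e0 => hvv ?_) ?_ ?_
    · have := congrArg (fun z => f z v) e0
      simp only [e, hf.add_left, hf.smul_left, hw₁v, mul_zero, add_zero, hf.zero_left] at this
      exact this
    · simp only [e, hf.add_left, hf.add_right, hf.smul_left, hf.smul_right', hw₁v, hf.comm' v w₁]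
      linear_combination hc
    · simp only [e, mv_add, mv_smul, hf.add_left, hf.add_right, hf.smul_left, hf.smul_right', hv, hw₁A,
        hsa w₁ v, hw₁Av, hf.comm' (mv A v) w₁]
      ring
  have hγ0 : γ ≠ 0 := fun e => hΔ (by rw [hγ, e, mul_zero])
  set u' := (r / γ) • mv A u - (s / γ) • u with hu'
  have hu'u : f u' u = 0 := by
    rw [hu', hf.sub_left, hf.smul_left, hf.smul_left, ← hrd, ← hsd]; ring
  have hu'u' : f u' u' = r := by
    rw [hu']
    simp only [hf.sub_left, hf.sub_right, hf.smul_left, hf.smul_right', hAA, hf.comm' u (mv A u), ← hrd, ← hsd]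
    field_simp
    first | linear_combination hγ | linear_combination r * hγ
  have hu'v : f u' v = 0 := by
    rw [hu', hf.sub_left, hf.smul_left, hf.smul_left, huv, hsa, huAv, mul_zero, mul_zero, sub_zero]
  have hu'Av : f u' (mv A v) = 0 := by
    rw [hu', hf.sub_left, hf.smul_left, hf.smul_left, huAv, hAA, huv, mul_zero, mul_zero, mul_zero, sub_zero]
  set p := u - u' with hpd
  have hpp : f p p = 2 * r := by
    rw [hpd]
    simp only [hf.sub_left, hf.sub_right, hu'u, hf.comm' u u', hu'u', ← hrd]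
    ring
  have hp0 : f p p ≠ 0 := hpp ▸ mul_ne_zero S.two huu
  have hAv0 : f (mv A v) (mv A v) ≠ 0 := by rw [hAA]; exact mul_ne_zero hμ hvv
  refine ⟨mv A v, u, p, hAv0, huu, hp0, ?_⟩
  set T := mr hf (mv A v) * (mr hf u * mr hf p) with hTd
  have hvAv : f v (mv A v) = 0 := by rw [hf.comm']; exact hv
  have hpu : mv (mr hf p) u = -u' := by
    rw [mv_mr hf hp0, hpp, show f u p = r by rw [hpd, hf.sub_right, hf.comm' u u', hu'u, sub_zero],
      div_self (mul_ne_zero S.two huu), one_smul, hpd]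
    abel
  have hpu' : mv (mr hf p) u' = -u := by
    rw [← neg_neg u', ← hpu, mv_neg, ← mv_mul, mr_sq hf hp0, mv_one]
  have hTu : mv T u = -u' := by
    rw [mv_mul, mv_mul, hpu, mv_neg, mv_neg, mr_perp hf huu hu'u, mv_neg, neg_neg,
      mr_perp hf hAv0 hu'Av]
  have hTu' : mv T u' = u := by
    rw [mv_mul, mv_mul, hpu', mv_neg, mv_neg, mr_self hf huu, mr_perp hf hAv0 huAv, neg_neg]
  have hTv : mv T v = -v := by
    rw [mv_mul, mv_mul, mr_perp hf hp0 (by rw [hpd, hf.sub_right, hf.comm' v u, huv, hf.comm' v u', hu'v, sub_zero]),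
      mv_neg, mv_neg, mr_perp hf huu (by rw [hf.comm', huv]), mv_neg, neg_neg, mr_perp hf hAv0 hvAv]
  have hTAv : mv T (mv A v) = mv A v := by
    rw [mv_mul, mv_mul, mr_perp hf hp0 (by rw [hpd, hf.sub_right, hf.comm' (mv A v) u, huAv, hf.comm' (mv A v) u',
      hu'Av, sub_zero]), mv_neg, mv_neg, mr_perp hf huu (by rw [hf.comm', huAv]), mv_neg, neg_neg, mr_self hf hAv0]
  have hr0 : r / γ ≠ 0 := div_ne_zero huu hγ0
  have hTAu : mv T (mv A u) = mv A u' := by
    refine smul_right_injective _ hr0 ?_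
    show (r / γ) • mv T (mv A u) = (r / γ) • mv A u'
    have e1 : (r / γ) • mv A u = u' + (s / γ) • u := by rw [hu']; abel
    rw [← mv_smul, e1, mv_add, mv_smul, hTu', hTu, hu', mv_sub, mv_smul, mv_smul, hA]
    match_scalars <;> field_simp <;>
      (first
        | ring1
        | linear_combination hγ
        | linear_combination -hγ
        | linear_combination r * hγ
        | linear_combination -(r * hγ))
  intro x
  obtain ⟨c₀, c₁, c₂, c₃, rfl⟩ := hdec x
  have hAu' : mv A (mv A u') = μ • u' := hA u'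
  simp only [mv_add, mv_smul, hTv, hTu, hTAv, hTAu, mv_neg, hA]
  module

end Sl

end Cfsg.Agent.OrthEvenWreath
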