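/-
Tensor powers of a symmetric form of dimension four: fusion of plane involutions.
-/
import Cfsg.Agent.Lib.OrthWreathEven.FourTurn

set_option autoImplicit false
set_option linter.unusedSectionVars false

namespace Cfsg.Agent.OrthEvenWreath

open scoped Matrix
open Matrix Cfsg.Agent.Transvec Cfsg.Agent.TensorMax Cfsg.Agent.WreathMax
open Cfsg.Agent.FormWreath hiding up mv_up_ins
open Cfsg.Agent.OrthWreath hiding Sl Ctx Base Ind Inv Gd fixsp_mir small_mir split_sim rho_omega fix_line_mono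
  exists_noncomm
open Cfsg.Agent.UWreath (mono_mul mono_inv)

variable {F : Type*} [Field F] [Finite F] {k : ℕ} {J : Type} [Fintype J] [DecidableEq J]
variable {f : (Fin k → F) → (Fin k → F) → F} {κ : F}

local notation "σ₁" => RingEquiv.refl F

variable {Q : ((J → Fin k) → F) → F} {X : Subgroup (GL (J → Fin k) F)}

namespace Ctx

variable (C : Ctx f Q κ X) (hJ : 2 ≤ Fintype.card J) (hX : ¬ Geo.omegaGL Q ≤ X) (B : Base f Q κ) (IH : Ind f κ J)
include C hJ hX B IH

omit hJ hX B IH in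
theorem two_fixed (hJ2 : Fintype.card J = 2) {π : Equiv.Perm J} {a : J} (ha : π a = a) : π = 1 := by
  refine Equiv.ext fun j => ?_
  by_cases hj : j = a
  · subst hj; exact ha
  by_contra hne
  have h1 : π j ≠ a := fun e => hj (π.injective (e.trans ha.symm))
  have h3 := Finset.card_le_univ ({a, j, π j} : Finset J)
  rw [Finset.card_insert_of_notMem (by simp [Ne.symm hj, h1.symm]), Finset.card_pair (show j ≠ π j from fun e => hne e.symm), hJ2] at h3
  omega

/-- No member carries a hyperbolic plane involution to its negative. -/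
theorem neg_conj (h4 : k = 4) (hC : CentPl f X) {n : GL (J → Fin k) F} (hn : n ∈ X) {a : J} {x y : Fin k → F}
    (hx : f x x = 1) (hy : f y y = -1) (hxy : f x y = 0)
    (h : n * fac a (mr C.hf x * mr C.hf y) * n⁻¹ = -fac a (mr C.hf x * mr C.hf y)) : False := by
  have hf := C.hf
  have hx0 : f x x ≠ 0 := hx ▸ one_ne_zero
  have hy0 : f y y ≠ 0 := hy ▸ neg_ne_zero.2 one_ne_zero
  have hD : IsPl f (mr hf x * mr hf y) := C.toSl.isPl_mr hx0 hy0 hxy
  set D := mr hf x * mr hf y with hDd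
  rw [← fac_neg] at h
  have hnm : Mono n := C.conj_four hJ hX B IH h4 hC hn hD.2.1 hD.1 (C.toSl.pl_neg h4 hD).2.1
    (C.toSl.pl_neg h4 hD).1 (C.toSl.isPl_ne hD).1 (C.toSl.isPl_ne hD).2 h
  obtain ⟨π, A, hA⟩ := hnm
  obtain ⟨-, hAD⟩ := fac_conj_eq (by omega) hA (C.toSl.isPl_ctl (C.toSl.pl_neg h4 hD)) h
  obtain ⟨l, -, hlA⟩ := C.toSl.slot_sim (C.pres (C.iso hn)) hA a
  set z := x + y
  have hDz : mv D z = -z := by
    rw [show z = x + y from rfl, mv_add, C.toSl.mm_left hx0 hy0 hxy, C.toSl.mm_right hx0 hy0 hxy, neg_add]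
  have hDAz : mv D (mv (A a) z) = mv (A a) z := by
    have := congrArg (fun g => mv g z) hAD
    simp only [mv_mul (A a), mv_mul (-D), hDz, mv_neg_gl, mv_neg, neg_inj] at this
    exact this.symm
  have hzz : f z z = 0 := by
    rw [hf.add_left, hf.add_right, hf.add_right, hx, hy, hxy, hf.comm' y x, hxy]; ring
  have hz0 := C.toSl.hyp_fix_aniso h4 hx hy hxy (C.toSl.eig_orth hD.1 hDAz (C.toSl.mm_left hx0 hy0 hxy))
    (C.toSl.eig_orth hD.1 hDAz (C.toSl.mm_right hx0 hy0 hxy)) (by rw [hlA, hzz, mul_zero])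
  have hxy0 : z = 0 := mv_inj (A a) (hz0.trans (mv_zero _).symm)
  have h1 := congrArg (fun v => f v x) hxy0
  simp only [z, hf.add_left, hx, hf.comm' y x, hxy, hf.zero_left, add_zero] at h1
  exact one_ne_zero h1

/-- Fusion through a slot with a plane involution, for at least three slots. -/
theorem fus_square3 (h4 : k = 4) (hC : CentPl f X) (hJ3 : 3 ≤ Fintype.card J) {h : GL (J → Fin k) F} (hh : h ∈ X)
    {a : J} {D : GL (Fin k) F} (hD : IsPl f D) {π : Equiv.Perm J} {A : J → GL (Fin k) F}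
    (hA : ∀ x, mv (h * fac a D * h⁻¹) (pten x) = pten fun j => mv (A j) (x (π j))) {c : J} (hc : π c = c) {α : F}
    {E : GL (Fin k) F} (hE : IsPl f E) (hAE : ∀ v, mv (A c) v = α • mv E v) : Mono h := by
  have hf := C.hf
  obtain ⟨x, y, hx, hy, hxy, hEe⟩ := C.toSl.isPl_exists_mr hE
  have hcE : mr hf x * E = E * mr hf x := by
    rw [hEe]
    calc mr hf x * (mr hf x * mr hf y) = mr hf x * (mr hf y * mr hf x) := by rw [C.toSl.mr_comm' hx hy hxy]
      _ = mr hf x * mr hf y * mr hf x := (mul_assoc _ _ _).symm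
  have hcA : A c * mr hf x = mr hf x * A c := ext_mv fun v => by
    rw [mv_mul, mv_mul, hAE, hAE, mv_smul, ← mv_mul (mr hf x), hcE, mv_mul]
  have hcomm := fac_commute hA hc hcA
  set z := h * fac a D * h⁻¹ with hz
  set e := h⁻¹ * fac c (mr hf x) * h with he
  have heX : e ∈ X := X.mul_mem (X.mul_mem (X.inv_mem hh) (C.mir hJ3 c x hx)) hh
  have hey : e * fac a D = fac a D * e := by
    rw [show e * fac a D = h⁻¹ * (fac c (mr hf x) * z) * h by rw [he, hz]; group, ← hcomm]
    rw [he, hz]; group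
  have hem : Mono e := hC e heX a D hD hey
  have hm := C.mirror_fus hJ hX B IH h4 hC (X.inv_mem hh) hJ3 (i := c) hx (by rw [inv_inv]; exact hem)
  simpa using mono_inv hm

/-- A slot without a plane involution does not occur, for at least three slots. -/
theorem fus_ns3 (h4 : k = 4) (hC : CentPl f X) (hJ3 : 3 ≤ Fintype.card J) {h : GL (J → Fin k) F} (hh : h ∈ X)
    {a : J} {x y : Fin k → F} (hx : f x x = 1) (hy : f y y = -1) (hxy : f x y = 0)
    {π : Equiv.Perm J} {A : J → GL (Fin k) F}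
    (hA : ∀ z, mv (h * fac a (mr C.hf x * mr C.hf y) * h⁻¹) (pten z) = pten fun j => mv (A j) (z (π j))) {c : J}
    (hc : π c = c) {μ : F} (hns : ¬ IsSquare μ) (hμA : ∀ v, mv (A c) (mv (A c) v) = μ • v)
    (hsa : ∀ u v, f (mv (A c) u) v = f u (mv (A c) v)) : False := by
  have hf := C.hf
  obtain ⟨p, q, r, hp, hq, hr, hanti⟩ := C.toSl.exists_anti3 h4 hns hμA hsa
  set T := mr hf p * (mr hf q * mr hf r) with hT
  set D := mr hf x * mr hf y
  have hTX : fac c T ∈ X := by
    rw [hT, fac_mul c (mr hf p), fac_mul c (mr hf q)]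
    exact X.mul_mem (C.mir hJ3 c p hp) (X.mul_mem (C.mir hJ3 c q hq) (C.mir hJ3 c r hr))
  have hcomm := fac_commute hA hc (T := T) (T' := -T) (ext_mv fun v => by
    rw [mv_mul (A c) T, mv_mul (-T) (A c), mv_neg_gl, hanti])
  set z := h * fac a D * h⁻¹ with hz
  rw [fac_neg, neg_mul] at hcomm
  refine C.neg_conj hJ hX B IH h4 hC (n := h⁻¹ * fac c T * h) (X.mul_mem (X.mul_mem (X.inv_mem hh) hTX) hh) hx hy hxy
    (a := a) ?_
  calc h⁻¹ * fac c T * h * fac a D * (h⁻¹ * fac c T * h)⁻¹ = h⁻¹ * (fac c T * z) * (fac c T)⁻¹ * h := by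
        rw [hz]; group
    _ = h⁻¹ * -(z * fac c T) * (fac c T)⁻¹ * h := by rw [hcomm, neg_neg]
    _ = -fac a D := by
      rw [mul_neg, neg_mul, neg_mul, hz]
      congr 1
      group

/-- The pull back of an isometry of large prime order. -/
theorem rot_pull (h4 : k = 4) (hC : CentPl f X) (hJ2 : Fintype.card J = 2) {h : GL (J → Fin k) F} (hh : h ∈ X)
    {a b : J} (hab : a ≠ b) {D : GL (Fin k) F} (hD : IsPl f D) {r : ℕ} (hr : Big F r) {i : J} {Z : GL (Fin k) F}
    (hZi : ∀ u v, f (mv Z u) (mv Z v) = f u v) (hZr : Z ^ r = 1)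
    (hcomm : h * fac a D * h⁻¹ * fac i Z = fac i Z * (h * fac a D * h⁻¹)) :
    ∃ T : GL (Fin k) F, h⁻¹ * fac i Z * h = fac b T ∧ T ^ r = 1 := by
  have hk : 0 < k := by omega
  have hodd : Odd r := hr.1.odd_of_ne_two hr.2.1
  haveI : Fintype F := Fintype.ofFinite F
  have hZX : fac i Z ∈ X := by
    refine C.mono _ (OrthTensor.omega_of_odd B.hQ B.two (by have := B.card_ge; omega) (B.fac_iso i hZi)
      (hodd.of_dvd_nat (orderOf_dvd_of_pow_eq_one (by rw [fac_pow, hZr, fac_one])))) ⟨1, monoOf_fac i Z⟩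
  set n := h⁻¹ * fac i Z * h with hn
  have hnX : n ∈ X := X.mul_mem (X.mul_mem (X.inv_mem hh) hZX) hh
  have hny : n * fac a D = fac a D * n := by
    calc n * fac a D = h⁻¹ * (fac i Z * (h * fac a D * h⁻¹)) * h := by rw [hn]; group
      _ = fac a D * n := by rw [← hcomm, hn]; group
  have hnr : n ^ r = 1 := by
    rw [hn, show h⁻¹ * fac i Z * h = h⁻¹ * fac i Z * h⁻¹⁻¹ by rw [inv_inv], conj_pow, fac_pow, hZr, fac_one, mul_one,
      mul_inv_cancel]
  obtain ⟨T, T', he, hTi, -, hTr, hT'r⟩ := C.toSl.pow_split hab hJ2 hodd (fun y hy => hr.scalar_one hy)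
    hr.scalar_surj (C.pres (C.iso hnX)) hnr (hC n hnX a D hD hny)
  have hTD : T * D = D * T := by
    rw [he] at hny
    refine fac_inj hk a (mul_right_cancel (b := fac b T') ?_)
    rw [fac_mul a T D, fac_mul a D T]
    calc fac a T * fac a D * fac b T' = fac a T * fac b T' * fac a D := by
          rw [mul_assoc, fac_comm hab D T', ← mul_assoc]
      _ = fac a D * (fac a T * fac b T') := hny
      _ = fac a D * fac a T * fac b T' := (mul_assoc _ _ _).symm
  have hLr : (mvLin T : Module.End F (Fin k → F)) ^ r = 1 := by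
    have hn : ∀ m : ℕ, (mvLin T : Module.End F (Fin k → F)) ^ m = mvLin (T ^ m) := fun m => by
      induction m with
      | zero => exact LinearMap.ext fun v => by rw [pow_zero, pow_zero]; exact (mv_one v).symm
      | succ m ih => exact LinearMap.ext fun v => by rw [pow_succ, pow_succ, ih]; exact (mv_mul (T ^ m) T v).symm
    rw [hn, hTr]; exact LinearMap.ext fun v => mv_one v
  have h1 := hr.fixed_of_small (mvLin T) hLr (fixsp D) (fun w hw => mem_fixsp.2 (by
    show mv D (mv T w) = mv T w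
    rw [← mv_mul, ← hTD, mv_mul, mem_fixsp.1 hw])) (by have := hD.2.2; omega)
  have h2 := hr.fixed_of_small (mvLin T) hLr (fixsp (-D)) (fun w hw => mem_fixsp_neg.2 (by
    show mv D (mv T w) = -mv T w
    rw [← mv_mul, ← hTD, mv_mul, mem_fixsp_neg.1 hw, mv_neg])) (by have := C.toSl.isPl_fix hD; omega)
  have hT1 : T = 1 := ext_mv fun v => smul_right_injective _ C.two (by
    show (2 : F) • mv T v = (2 : F) • mv 1 v
    have hD2 : mv D (mv D v) = v := by rw [← mv_mul, hD.2.1, mv_one]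
    have p : mv T (v + mv D v) = v + mv D v := h1 _ (mem_fixsp.2 (by rw [mv_add, hD2, add_comm]))
    have q : mv T (v - mv D v) = v - mv D v := h2 _ (mem_fixsp_neg.2 (by rw [mv_sub, hD2, neg_sub]))
    rw [mv_add] at p
    rw [mv_sub] at q
    rw [mv_one]
    linear_combination (norm := module) p + q)
  exact ⟨T', by rw [he, hT1, fac_one, one_mul], hT'r⟩

/-- Two slots without plane involutions do not occur. -/
theorem fus_ns2 (h4 : k = 4) (hC : CentPl f X) (hJ2 : Fintype.card J = 2) {h : GL (J → Fin k) F} (hh : h ∈ X)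
    {a : J} {D : GL (Fin k) F} (hD : IsPl f D) {A : J → GL (Fin k) F}
    (hA : ∀ z, mv (h * fac a D * h⁻¹) (pten z) = pten fun j => mv (A j) (z j)) {c : J} {μ : F} (hns : ¬ IsSquare μ)
    (hμA : ∀ v, mv (A c) (mv (A c) v) = μ • v) : False := by
  classical
  have hf := C.hf
  have hk : 0 < k := by omega
  obtain ⟨d, hdc⟩ := Fintype.exists_ne_of_one_lt_card (α := J) (by omega) c
  obtain ⟨b, hba⟩ := Fintype.exists_ne_of_one_lt_card (α := J) (by omega) a
  set z := h * fac a D * h⁻¹ with hz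
  have hzX : z ∈ X := X.mul_mem (X.mul_mem hh (C.fac_pl hD a)) (X.inv_mem hh)
  have hzz : z * z = 1 := by
    rw [hz, show h * fac a D * h⁻¹ * (h * fac a D * h⁻¹) = h * (fac a D * fac a D) * h⁻¹ by group, ← fac_mul, hD.2.1,
      fac_one, mul_one, mul_inv_cancel]
  have hA' : ∀ x, mv z (pten x) = pten fun j => mv (A j) (x ((1 : Equiv.Perm J) j)) := fun x => by
    simpa using hA x
  obtain ⟨-, hdat⟩ := C.toSl.slot_data (C.pres (C.iso hzX)) hzz hA'
  obtain ⟨μc, lc, hμc, hc2, hlc⟩ := hdat c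
  obtain ⟨μd, ld, hμd, hd2, hld⟩ := hdat d
  simp only [Equiv.Perm.one_apply] at hc2 hd2
  obtain ⟨e, he⟩ := C.toSl.exists_aniso
  have he0 : e ≠ 0 := fun h0 => C.hκ (by rw [← he, h0, hf.zero_left])
  have hμe : μc = μ := smul_left_injective F he0 ((hc2 e).symm.trans (hμA e))
  subst hμe
  have hμμ : μc * μd = 1 := by
    have h0 : mv (z * z) (pten fun _ => e) = (pten fun _ => e : (J → Fin k) → F) := by rw [hzz, mv_one]
    have hzf : z = fac c (A c) * fac d (A d) := two_facs hdc.symm hJ2 hA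
    obtain ⟨L, hL⟩ := exists_smul_gl (k := k) μc hμc
    obtain ⟨M, hM⟩ := exists_smul_gl (k := k) μd hμd
    have hzL : z * z = fac c L * fac d M := by
      rw [hzf, show fac c (A c) * fac d (A d) * (fac c (A c) * fac d (A d)) =
        fac c (A c) * (fac d (A d) * fac c (A c)) * fac d (A d) by group, fac_comm hdc,
        show fac c (A c) * (fac c (A c) * fac d (A d)) * fac d (A d) =
          fac c (A c) * fac c (A c) * (fac d (A d) * fac d (A d)) by group, ← fac_mul, ← fac_mul,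
        show A c * A c = L from ext_mv fun v => by rw [mv_mul, hc2, hL],
        show A d * A d = M from ext_mv fun v => by rw [mv_mul, hd2, hM]]
    rw [hzL, mv_mul, mv_fac, mv_fac, hM] at h0
    simp only [Function.update_of_ne hdc.symm, hL] at h0
    rw [pten_update_smul, Function.update_comm hdc, pten_update_smul] at h0
    have hupd : ∀ i, Function.update (fun _ : J => e) i e = fun _ => e := fun i => Function.update_eq_self i _
    rw [hupd, hupd, smul_smul] at h0
    refine (smul_left_injective F (pten_ne_zero fun _ => he0) (h0.trans (one_smul F _).symm)).symm ▸ ?_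
    rfl
  have hnd : ¬ IsSquare μd := fun ⟨g, hg⟩ => hns ⟨g⁻¹, by
    rw [← mul_inv, ← hg]; exact eq_inv_of_mul_eq_one_left hμμ⟩
  obtain ⟨-, hsc⟩ := C.toSl.sim_sq h4 hμc hc2 hlc
  obtain ⟨-, hsd⟩ := C.toSl.sim_sq h4 hμd hd2 hld
  obtain ⟨r, hr⟩ := exists_big (F := F) C.two
  obtain ⟨Z, hZi, hZA, hZr, hZ1⟩ := C.toSl.exists_rot h4 hr hns hc2 hsc
  obtain ⟨Z', hZ'i, hZ'A, hZ'r, hZ'1⟩ := C.toSl.exists_rot h4 hr hnd hd2 hsd
  obtain ⟨T, hT, hTr⟩ := C.rot_pull hJ hX B IH h4 hC hJ2 hh hba.symm hD hr hZi hZr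
    (fac_commute hA' (c := c) rfl hZA.symm)
  obtain ⟨T', hT', hT'r⟩ := C.rot_pull hJ hX B IH h4 hC hJ2 hh hba.symm hD hr hZ'i hZ'r
    (fac_commute hA' (c := d) rfl hZ'A.symm)
  have hT1 : T ≠ 1 := fun e1 => hZ1 ((fac_one_iff hk c).1 (by
    rw [e1, fac_one] at hT
    calc fac c Z = h * (h⁻¹ * fac c Z * h) * h⁻¹ := by group
      _ = 1 := by rw [hT, mul_one, mul_inv_cancel]))
  have hTT : Commute T T' := fac_inj hk b (by
    rw [fac_mul b T T', fac_mul b T' T, ← hT, ← hT',
      show h⁻¹ * fac c Z * h * (h⁻¹ * fac d Z' * h) = h⁻¹ * (fac c Z * fac d Z') * h by group,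
      show h⁻¹ * fac d Z' * h * (h⁻¹ * fac c Z * h) = h⁻¹ * (fac d Z' * fac c Z) * h by group, fac_comm hdc])
  obtain ⟨i, hi⟩ := hr.comm_pow h4 hTr hT'r hT1 hTT
  have hcd : fac d Z' = fac c (Z ^ i) := by
    have h1 : fac b T' = fac b T ^ i := by rw [fac_pow, hi]
    rw [← hT, ← hT', show h⁻¹ * fac c Z * h = h⁻¹ * fac c Z * h⁻¹⁻¹ by rw [inv_inv], conj_pow, fac_pow, inv_inv]
      at h1
    exact mul_left_cancel (mul_right_cancel h1)
  refine hdc (fac_slot hk ?_ hcd)
  intro hctl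
  obtain ⟨x, -, hx⟩ := C.toSl.aniso_in C.toSl.nd_top (C.toSl.ne_bot_of (by rw [C.toSl.finrank_top']; omega))
  have hfx : mv (mr hf x) (mv Z' x) = mv Z' x := by rw [← mv_mul, ← hctl, mv_mul, mr_self hf hx]
  have hline : mv Z' x = (f (mv Z' x) x / f x x) • x := smul_right_injective _ C.two (by
    show (2 : F) • mv Z' x = (2 : F) • _
    rw [mv_mr hf hx] at hfx
    rw [smul_smul, ← mul_div_assoc]
    linear_combination (norm := module) -hfx)
  have hLr : (mvLin Z' : Module.End F (Fin k → F)) ^ r = 1 := by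
    have hn : ∀ m : ℕ, (mvLin Z' : Module.End F (Fin k → F)) ^ m = mvLin (Z' ^ m) := fun m => by
      induction m with
      | zero => exact LinearMap.ext fun v => by rw [pow_zero, pow_zero]; exact (mv_one v).symm
      | succ m ih => exact LinearMap.ext fun v => by rw [pow_succ, pow_succ, ih]; exact (mv_mul (Z' ^ m) Z' v).symm
    rw [hn, hZ'r]; exact LinearMap.ext fun v => mv_one v
  have hx0 : x ≠ 0 := fun e0 => hx (by rw [e0, hf.zero_left])
  have hW := hr.inv_bot h4 hLr (fun e1 => hZ'1 (ext_mv fun v => (LinearMap.congr_fun e1 v).trans (mv_one v).symm))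
    (Submodule.span F {x}) (fun w hw => by
      obtain ⟨s, rfl⟩ := Submodule.mem_span_singleton.1 hw
      show mv Z' (s • x) ∈ _
      rw [mv_smul, hline, smul_smul]
      exact Submodule.smul_mem _ _ (Submodule.mem_span_singleton_self x))
    (fun e1 => by
      have h1 := finrank_span_singleton (K := F) hx0
      rw [e1, C.toSl.finrank_top'] at h1
      omega)
  exact hx0 ((Submodule.eq_bot_iff _).1 hW x (Submodule.mem_span_singleton_self x))

set_option maxHeartbeats 800000 in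
/-- Fusion through slots with plane involutions, for two slots. -/
theorem fus_square2 (h4 : k = 4) (hC : CentPl f X) (hJ2 : Fintype.card J = 2) {h : GL (J → Fin k) F} (hh : h ∈ X)
    {a : J} {D : GL (Fin k) F} (hD : IsPl f D) {A : J → GL (Fin k) F}
    (hA : ∀ z, mv (h * fac a D * h⁻¹) (pten z) = pten fun j => mv (A j) (z j)) {c : J} {α : F} (hα : α ≠ 0)
    {E : GL (Fin k) F} (hE : IsPl f E) (hAE : ∀ v, mv (A c) v = α • mv E v) : Mono h := by
  classical
  have hf := C.hf
  have hk : 0 < k := by omega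
  obtain ⟨d, hdc⟩ := Fintype.exists_ne_of_one_lt_card (α := J) (by omega) c
  obtain ⟨b, hba⟩ := Fintype.exists_ne_of_one_lt_card (α := J) (by omega) a
  set y := fac a D with hy
  set z := h * y * h⁻¹ with hz
  have hzX : z ∈ X := X.mul_mem (X.mul_mem hh (C.fac_pl hD a)) (X.inv_mem hh)
  have hyy : y * y = 1 := by rw [hy, ← fac_mul, hD.2.1, fac_one]
  have hzz : z * z = 1 := by
    rw [hz, show h * y * h⁻¹ * (h * y * h⁻¹) = h * (y * y) * h⁻¹ by group, hyy, mul_one, mul_inv_cancel]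
  -- a quarter turn
  obtain ⟨x, p, hx, hp, hR⟩ := C.toSl.exists_turn h4 hE
  set R := mr hf x * mr hf p with hRd
  obtain ⟨E', β, hE', hRR, hAE'⟩ : ∃ (E' : GL (Fin k) F) (β : F), IsPl f E' ∧ R * R = E' ∧
      ∀ v, mv (A c) v = β • mv E' v := by
    rcases hR with e | e
    · exact ⟨E, α, hE, e, hAE⟩
    · exact ⟨-E, -α, C.toSl.pl_neg h4 hE, e, fun v => by rw [hAE, mv_neg_gl, smul_neg, neg_smul, neg_neg]⟩
  have hβ : β ≠ 0 := fun e0 => by
    obtain ⟨e, he⟩ := C.toSl.exists_aniso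
    have h1 := hAE' e
    rw [e0, zero_smul] at h1
    exact C.hκ (by rw [← he, mv_inj (A c) (h1.trans (mv_zero _).symm), hf.zero_left])
  obtain ⟨L, hL⟩ := exists_smul_gl (k := k) β hβ
  set B' := L * A d with hB'
  have hzf : z = fac c E' * fac d B' := by
    rw [two_facs hdc.symm hJ2 hA, show A c = L * E' from ext_mv fun v => by rw [mv_mul, hL, hAE']]
    refine ext_pten fun u => ?_
    rw [mv_mul, mv_mul, mv_fac, mv_fac, mv_fac, mv_fac, Function.update_of_ne hdc.symm,
      Function.update_of_ne hdc.symm, hB', mv_mul, mv_mul, hL, hL, pten_update_smul, Function.update_comm hdc,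
      Function.update_comm hdc, pten_update_smul]
  have hBi : ∀ u v, f (mv B' u) (mv B' v) = f u v := C.toSl.fac_isom (i := d) fun u v => by
    have e1 : fac d B' = fac c E' * z := by rw [hzf, ← mul_assoc, ← fac_mul, hE'.2.1, fac_one, one_mul]
    rw [e1]
    exact C.pres (C.iso (X.mul_mem (C.fac_pl hE' c) hzX)) u v
  have hB2 : B' * B' = 1 := by
    refine (fac_one_iff hk d).1 ?_
    have h1 := hzz
    rw [hzf, show fac c E' * fac d B' * (fac c E' * fac d B') = fac c E' * (fac d B' * fac c E') * fac d B' by group,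
      fac_comm hdc, show fac c E' * (fac c E' * fac d B') * fac d B' = fac c E' * fac c E' * (fac d B' * fac d B') by
        group, ← fac_mul, hE'.2.1, fac_one, one_mul] at h1
    rwa [fac_mul]
  by_cases hB1 : B' = 1
  · exact C.conj_four hJ hX B IH h4 hC hh hD.2.1 hD.1 hE'.2.1 hE'.1 (C.toSl.isPl_ne hD).1 (C.toSl.isPl_ne hD).2
      (l := c) (by rw [← hy, ← hz, hzf, hB1, fac_one, mul_one])
  by_cases hB1' : B' = -1
  · exact C.conj_four hJ hX B IH h4 hC hh hD.2.1 hD.1 (A' := -E') (C.toSl.pl_neg h4 hE').2.1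
      (C.toSl.pl_neg h4 hE').1 (C.toSl.isPl_ne hD).1 (C.toSl.isPl_ne hD).2 (l := c) (by
        rw [← hy, ← hz, hzf, hB1', fac_neg, fac_neg, fac_one, mul_neg, mul_one])
  -- the pull back of the turn
  have hRc : A c * R = R * A c := ext_mv fun v => by
    rw [mv_mul (A c) R, mv_mul R (A c), hAE', hAE', mv_smul, ← mv_mul E', ← mv_mul R, ← hRR, mul_assoc]
  have hcomm : z * fac c R = fac c R * z := fac_commute (π := 1) (by simpa using hA) rfl hRc
  set n := h⁻¹ * fac c R * h with hn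
  have hnX : n ∈ X := X.mul_mem (X.mul_mem (X.inv_mem hh) (C.mm c x p hx hp)) hh
  have hny : n * y = y * n := by
    calc n * y = h⁻¹ * (fac c R * z) * h := by rw [hn, hz]; group
      _ = y * n := by rw [← hcomm, hn, hz]; group
  obtain ⟨π, N, hN⟩ := hC n hnX a D hD hny
  obtain ⟨hπa, hND⟩ := fac_conj_eq hk hN (C.toSl.isPl_ctl hD) (D := D) (a := a) (by
    rw [← hy, hny, mul_inv_cancel_right])
  have hπ1 : π = 1 := C.two_fixed hJ2 hπa
  subst hπ1
  simp only [Equiv.Perm.one_apply] at hN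
  have hn4 : n ^ 4 = 1 := by
    rw [hn, show h⁻¹ * fac c R * h = h⁻¹ * fac c R * h⁻¹⁻¹ by rw [inv_inv], conj_pow, fac_pow,
      show R ^ 4 = (R * R) * (R * R) by simp only [pow_succ, pow_zero, one_mul, mul_assoc], hRR, hE'.2.1, fac_one, mul_one, mul_inv_cancel]
  obtain ⟨ν, hν, hNν⟩ := slot_pow hk hN hn4 a
  obtain ⟨l, hl, hlN⟩ := C.toSl.slot_sim (C.pres (C.iso hnX)) (π := 1) (A := N) (by simpa using hN) a
  set S := N a * N a with hS
  have hSS : ∀ v, mv S (mv S v) = ν • v := fun v => by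
    rw [← hNν, hS, ← mv_mul]
    congr 1
    simp only [pow_succ, pow_zero, one_mul, mul_assoc]
  have hSl : ∀ u v, f (mv S u) (mv S v) = (l * l) * f u v := fun u v => by
    rw [mv_mul (N a) (N a) u, mv_mul (N a) (N a) v, hlN, hlN, mul_assoc]
  obtain ⟨e1, -⟩ := C.toSl.sim_sq h4 hν hSS hSl
  obtain ⟨G, hG2, hGi, hGS⟩ := C.toSl.sim_inv h4 hl (A := S) (α := l) (fun v => by rw [hSS, e1]) hSl
  have hG := C.toSl.sq_plane h4 hD hl hlN hG2 hND fun v => by rw [← mv_mul, ← hS, hGS]
  obtain ⟨M, hM⟩ := exists_smul_gl (k := k) l hl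
  set G' := M * (N b * N b) with hG'
  have ha1 : n * n = fac a G * fac b G' := by
    rw [two_facs hba.symm hJ2 hN, show fac a (N a) * fac b (N b) * (fac a (N a) * fac b (N b)) =
      fac a (N a) * (fac b (N b) * fac a (N a)) * fac b (N b) by group, fac_comm hba,
      show fac a (N a) * (fac a (N a) * fac b (N b)) * fac b (N b) =
        fac a (N a) * fac a (N a) * (fac b (N b) * fac b (N b)) by group, ← fac_mul, ← fac_mul, ← hS,
      show S = M * G from ext_mv fun v => (hGS v).trans (by rw [mv_mul M G, hM])]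
    refine ext_pten fun u => ?_
    rw [mv_mul, mv_mul, mv_fac, mv_fac, mv_fac, mv_fac, Function.update_of_ne hba.symm,
      Function.update_of_ne hba.symm, hG', mv_mul M, mv_mul M, hM, hM, pten_update_smul,
      Function.update_comm hba, Function.update_comm hba, pten_update_smul]
  have hn2 : n * n = h⁻¹ * fac c E' * h := by
    rw [hn, ← hRR, fac_mul c R R]; group
  have hG'i : ∀ u v, f (mv G' u) (mv G' v) = f u v := C.toSl.fac_isom (i := b) fun u v => by
    have e1 : fac b G' = fac a G * (n * n) := by rw [ha1, ← mul_assoc, ← fac_mul, hG2, fac_one, one_mul]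
    rw [e1, mv_mul (fac a G) (n * n) u, mv_mul (fac a G) (n * n) v, C.pres (C.fac_iso a hGi),
      C.pres (C.iso (X.mul_mem hnX hnX))]
  have hG'2 : G' * G' = 1 := by
    refine (fac_one_iff hk b).1 ?_
    have h1 : n * n * (n * n) = 1 := by rw [← hn4]; simp only [pow_succ, pow_zero, one_mul, mul_assoc]
    rw [ha1, show fac a G * fac b G' * (fac a G * fac b G') = fac a G * (fac b G' * fac a G) * fac b G' by group,
      fac_comm hba, show fac a G * (fac a G * fac b G') * fac b G' = fac a G * fac a G * (fac b G' * fac b G') by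
        group, ← fac_mul, hG2, fac_one, one_mul] at h1
    rwa [fac_mul]
  have hne : ∀ T : GL (Fin k) F, T ≠ 1 → T ≠ -1 → (∀ u v, f (mv T u) (mv T v) = f u v) → T * T = 1 → ∀ i : J,
      ∀ T' : GL (Fin k) F, (∀ u v, f (mv T' u) (mv T' v) = f u v) → T' * T' = 1 →
      h⁻¹ * fac i T * h = fac b T' → Mono h := fun T hT1 hT2 hTi hTT i T' hT'i hT'T he => by
    have hm := C.conj_four hJ hX B IH h4 hC (X.inv_mem hh) hTT hTi hT'T hT'i hT1 hT2 (i := i) (l := b)
      (by rw [inv_inv, he])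
    simpa using mono_inv hm
  have hnB : ∀ u v, f (mv (-G') u) (mv (-G') v) = f u v := C.toSl.neg_isom hG'i
  have hnB2 : -G' * -G' = 1 := by rw [neg_mul_neg, hG'2]
  have hny2 : h⁻¹ * fac d B' * h = n * n * y := by
    have e1 : fac d B' = fac c E' * z := by rw [hzf, ← mul_assoc, ← fac_mul, hE'.2.1, fac_one, one_mul]
    rw [hn2, e1, hz]; group
  rcases hG with e | e | e | e
  · exact hne E' (C.toSl.isPl_ne hE').1 (C.toSl.isPl_ne hE').2 hE'.1 hE'.2.1 c G' hG'i hG'2
      (by rw [← hn2, ha1, e, fac_one, one_mul])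
  · exact hne E' (C.toSl.isPl_ne hE').1 (C.toSl.isPl_ne hE').2 hE'.1 hE'.2.1 c (-G') hnB hnB2
      (by rw [← hn2, ha1, e, fac_neg, fac_one, neg_mul, one_mul, fac_neg])
  · exact hne B' hB1 hB1' hBi hB2 d G' hG'i hG'2 (by
      rw [hny2, ha1, e, hy, mul_assoc, fac_comm hba, ← mul_assoc, ← fac_mul, hD.2.1, fac_one, one_mul])
  · exact hne B' hB1 hB1' hBi hB2 d (-G') hnB hnB2 (by
      rw [hny2, ha1, e, hy, fac_neg, neg_mul, neg_mul, mul_assoc, fac_comm hba, ← mul_assoc, ← fac_mul, hD.2.1,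
        fac_one, one_mul, fac_neg])

omit hJ hX B IH in
theorem mono_neg {g : GL (J → Fin k) F} (i : J) (hg : Mono g) : Mono (-g) := by
  have : Mono (fac i (-1 : GL (Fin k) F) * g) := mono_mul ⟨1, monoOf_fac i _⟩ hg
  rwa [fac_neg, fac_one, neg_mul, one_mul] at this

/-- Fusion of plane involutions. -/
theorem pl_fusion (h4 : k = 4) (hC : CentPl f X) {h : GL (J → Fin k) F} (hh : h ∈ X) {a : J} {D : GL (Fin k) F}
    (hD : IsPl f D) (hm : Mono (h * fac a D * h⁻¹)) : Mono h := by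
  classical
  have hf := C.hf
  haveI : Nonempty J := ⟨a⟩
  obtain ⟨x, y, hx, hy, hxy, hDe⟩ := C.toSl.hyp_or h4 hD
  have hD₀ : IsPl f (mr hf x * mr hf y) :=
    C.toSl.isPl_mr (hx ▸ one_ne_zero) (hy ▸ neg_ne_zero.2 one_ne_zero) hxy
  replace hm : Mono (h * fac a (mr hf x * mr hf y) * h⁻¹) := by
    rcases hDe with e | e <;> rw [e] at hm
    · exact hm
    · rw [fac_neg, mul_neg, neg_mul] at hm
      simpa using C.mono_neg a hm
  clear hDe
  set D₀ := mr hf x * mr hf y
  set z := h * fac a D₀ * h⁻¹ with hz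
  obtain ⟨π, A, hA⟩ := id hm
  have hzX : z ∈ X := X.mul_mem (X.mul_mem hh (C.fac_pl hD₀ a)) (X.inv_mem hh)
  have hzz : z * z = 1 := by
    rw [hz, show h * fac a D₀ * h⁻¹ * (h * fac a D₀ * h⁻¹) = h * (fac a D₀ * fac a D₀) * h⁻¹ by group, ← fac_mul,
      hD₀.2.1, fac_one, mul_one, mul_inv_cancel]
  have hs : sgd z = 0 := by
    rw [hz, sgd_conj]
    have e := C.toSl.sgd_fac (T := D₀) a
    rw [C.toSl.sgd_pl hD₀, show (k : ℤ) - 4 = 0 by omega, mul_zero] at e
    exact (mul_eq_zero.1 e).resolve_right (by omega)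
  obtain ⟨c, hc, htr⟩ := C.toSl.exists_tr0 h4 (C.pres (C.iso hzX)) hzz hA hs
  obtain ⟨-, hdat⟩ := C.toSl.slot_data (C.pres (C.iso hzX)) hzz hA
  obtain ⟨μ, l, hμ, hμA, hlA⟩ := hdat c
  rw [hc] at hμA
  by_cases hJ3 : 3 ≤ Fintype.card J
  · by_cases hsq : IsSquare μ
    · obtain ⟨α, rfl⟩ := hsq
      obtain ⟨E, hE, hAE⟩ := C.toSl.pl_of_tr0 h4 (fun e => hμ (by rw [e, mul_zero])) hμA hlA htr
      exact C.fus_square3 hJ hX B IH h4 hC hJ3 hh hD₀ hA hc hE hAE
    · exact (C.fus_ns3 hJ hX B IH h4 hC hJ3 hh hx hy hxy hA hc hsq hμA (C.toSl.sim_sq h4 hμ hμA hlA).2).elim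
  · have hJ2 : Fintype.card J = 2 := by omega
    have hπ1 := C.two_fixed hJ2 hc
    subst hπ1
    simp only [Equiv.Perm.one_apply] at hA
    by_cases hsq : IsSquare μ
    · obtain ⟨α, rfl⟩ := hsq
      have hα : α ≠ 0 := fun e => hμ (by rw [e, mul_zero])
      obtain ⟨E, hE, hAE⟩ := C.toSl.pl_of_tr0 h4 hα hμA hlA htr
      exact C.fus_square2 hJ hX B IH h4 hC hJ2 hh hD₀ hA hα hE hAE
    · exact (C.fus_ns2 hJ hX B IH h4 hC hJ2 hh hD₀ hA hsq hμA).elim

end Ctx

end Cfsg.Agent.OrthEvenWreath
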