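/-
Tensor powers of a symmetric form of dimension four: centralisers of involutions of two slots.
-/
import Cfsg.Agent.Lib.OrthWreathEven.FourPl

set_option autoImplicit false
set_option linter.unusedSectionVars false

namespace Cfsg.Agent.OrthEvenWreath

open scoped Matrix
open Matrix Cfsg.Agent.Transvec Cfsg.Agent.TensorMax Cfsg.Agent.WreathMax
open Cfsg.Agent.FormWreath hiding up mv_up_ins
open Cfsg.Agent.OrthWreath hiding Sl Ctx Base Ind Inv Gd fixsp_mir small_mir split_sim rho_omega fix_line_mono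
  exists_noncomm
open Cfsg.Agent.UWreath (mono_mul mono_inv)

variable {F : Type*} [Field F] [Finite F] {k : ℕ} {J : Type} [Fintype J] [DecidableEq J]
variable {f : (Fin k → F) → (Fin k → F) → F} {κ : F}

local notation "σ₁" => RingEquiv.refl F

/-- An involutory isometry with a line as fixed space. -/
def IsMir (f : (Fin k → F) → (Fin k → F) → F) (T : GL (Fin k) F) : Prop :=
  (∀ u v, f (mv T u) (mv T v) = f u v) ∧ T * T = 1 ∧ Module.finrank F (fixsp T) = 1

namespace Sl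

variable (S : Sl f κ)
include S

theorem sim_conj {B T : GL (Fin k) F} {l : F} (hB : ∀ u v, f (mv B u) (mv B v) = l * f u v)
    (hT : ∀ u v, f (mv T u) (mv T v) = f u v) (u v : Fin k → F) :
    f (mv (B * T * B⁻¹) u) (mv (B * T * B⁻¹) v) = f u v := by
  rw [mv_mul, mv_mul, mv_mul, mv_mul, hB, hT, ← hB (mv B⁻¹ u) (mv B⁻¹ v), mv_mv_inv, mv_mv_inv]

theorem pl_conj' {B T : GL (Fin k) F} {l : F} (hB : ∀ u v, f (mv B u) (mv B v) = l * f u v) (hT : IsPl f T) :
    IsPl f (B * T * B⁻¹) :=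
  ⟨S.sim_conj hB hT.1,
    by rw [show B * T * B⁻¹ * (B * T * B⁻¹) = B * (T * T) * B⁻¹ by group, hT.2.1, mul_one, mul_inv_cancel],
    by rw [finrank_fixsp_conj]; exact hT.2.2⟩

theorem mir_conj {B T : GL (Fin k) F} {l : F} (hB : ∀ u v, f (mv B u) (mv B v) = l * f u v) (hT : IsMir f T) :
    IsMir f (B * T * B⁻¹) :=
  ⟨S.sim_conj hB hT.1,
    by rw [show B * T * B⁻¹ * (B * T * B⁻¹) = B * (T * T) * B⁻¹ by group, hT.2.1, mul_one, mul_inv_cancel],
    by rw [finrank_fixsp_conj]; exact hT.2.2⟩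

theorem mir_ne {T : GL (Fin k) F} (hT : IsMir f T) : T ≠ 1 ∧ T ≠ -1 := by
  have hk := S.hk
  have hd := hT.2.2
  constructor <;> rintro rfl
  · rw [S.fixsp_one] at hd; omega
  · rw [S.fixsp_neg_one] at hd; omega

theorem mir_ctl {T : GL (Fin k) F} (hT : IsMir f T) : ¬ Ctl T :=
  S.not_ctl hT.2.1 hT.1 (S.mir_ne hT).1 (S.mir_ne hT).2

/-- The axis of a mirror. -/
theorem mir_axis {T : GL (Fin k) F} (hT : IsMir f T) :
    ∃ x, f x x ≠ 0 ∧ mv T x = x ∧ (∀ u, mv T u = u → ∃ a : F, u = a • x) ∧ ∀ u, f u x = 0 → mv T u = -u := by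
  have hf := S.hf
  obtain ⟨x, hx, hxx⟩ := S.aniso_in (S.eig_nd hT.2.1 hT.1) (S.ne_bot_of (by rw [hT.2.2]; exact one_pos))
  have hx0 : x ≠ 0 := fun e => hxx (by rw [e, hf.zero_left])
  have hfix : ∀ u, mv T u = u → ∃ a : F, u = a • x := fun u hu => by
    have heq := Submodule.eq_of_le_of_finrank_le ((Submodule.span_singleton_le_iff_mem _ _).2 hx)
      (by rw [finrank_span_singleton hx0, hT.2.2])
    have h1 : u ∈ Submodule.span F {x} := by rw [heq]; exact mem_fixsp.2 hu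
    obtain ⟨a, ha⟩ := Submodule.mem_span_singleton.1 h1
    exact ⟨a, ha.symm⟩
  refine ⟨x, hxx, mem_fixsp.1 hx, hfix, fun u hu => ?_⟩
  obtain ⟨a, ha⟩ := hfix (u + mv T u) (by rw [mv_add, ← mv_mul, hT.2.1, mv_one, add_comm])
  have h1 := congrArg (fun z => f z x) ha
  have h2 := hT.1 u x
  rw [mem_fixsp.1 hx] at h2
  simp only [hf.add_left, hf.smul_left, hu, h2, add_zero] at h1
  rw [(mul_eq_zero.1 h1.symm).resolve_right hxx, zero_smul] at ha
  exact eq_neg_of_add_eq_zero_right ha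

/-- Planes through orthogonal vectors avoiding an axis commute with the mirror. -/
theorem mir_comm {T : GL (Fin k) F} (hT : IsMir f T) {y z : Fin k → F} (hy : f y y ≠ 0) (hz : f z z ≠ 0)
    (hTy : mv T y = -y) (hTz : mv T z = -z) : T * (mr S.hf y * mr S.hf z) = mr S.hf y * mr S.hf z * T := by
  have key : ∀ w, f w w ≠ 0 → mv T w = -w → T * mr S.hf w = mr S.hf w * T := fun w hw hTw => by
    have h := mr_conj S.hf hT.1 hw
    rwa [hTw, ← neg_one_smul F w, mr_smul S.hf hw (neg_ne_zero.2 one_ne_zero), mul_inv_eq_iff_eq_mul] at h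
  rw [← mul_assoc, key y hy hTy, mul_assoc, key z hz hTz, mul_assoc]

/-- The first factors of equal products of two slots agree up to sign. -/
theorem facs_sign {a c p' : J} (hac : a ≠ c) (hap : a ≠ p') {A B P P' : GL (Fin k) F} (hAA : A * A = 1)
    (hAi : ∀ u v, f (mv A u) (mv A v) = f u v) (hPP : P * P = 1) (hPi : ∀ u v, f (mv P u) (mv P v) = f u v)
    (h : fac a A * fac c B = fac a P * fac p' P') : P = A ∨ P = -A := by
  have hk : 0 < k := by have := S.hk; omega
  have hC : Ctl (P⁻¹ * A) := facs_central hk hac hap h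
  have hP' : P⁻¹ = P := inv_eq_of_mul_eq_one_right hPP
  set T := P⁻¹ * A
  have hAT : A = P * T := by rw [mul_inv_cancel_left]
  have hTT : T * T = 1 := by
    have h1 := hAA
    rw [hAT, mul_assoc, ← mul_assoc T, hC P, mul_assoc P T, ← mul_assoc P, hPP, one_mul] at h1
    exact h1
  have hTi : ∀ u v, f (mv T u) (mv T v) = f u v := fun u v => by
    show f (mv (P⁻¹ * A) u) (mv (P⁻¹ * A) v) = _
    rw [hP', mv_mul, mv_mul, hPi, hAi]
  by_cases h1 : T = 1
  · exact Or.inl (by rw [hAT, h1, mul_one])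
  by_cases h2 : T = -1
  · exact Or.inr (by rw [hAT, h2, mul_neg, mul_one, neg_neg])
  exact absurd hC (S.not_ctl hTT hTi h1 h2)

end Sl

variable {Q : ((J → Fin k) → F) → F} {X : Subgroup (GL (J → Fin k) F)}

namespace Ctx

variable (C : Ctx f Q κ X) (hJ : 2 ≤ Fintype.card J) (hX : ¬ Geo.omegaGL Q ≤ X) (B : Base f Q κ) (IH : Ind f κ J)
include C hJ hX B IH

omit hJ hX B IH in
/-- The dihedral descent inside a centraliser. -/
theorem engine {u t q v : GL (J → Fin k) F} (htX : t ∈ X) (hqX : q ∈ X) (hv : v ∈ X) (htt : t * t = 1)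
    (hqq : q * q = 1) (htm : Mono t) (hut : Commute u t) (huq : Commute u q) (huv : Commute u v)
    (hstep : ∀ z ∈ X, Mono (z⁻¹ * t * z) → Mono z) :
    ∃ h ∈ X, Commute u h ∧ Mono (h * q * h⁻¹) ∧ Commute u (v * q * v⁻¹) ∧ (t * (h * q * h⁻¹) = 1 ∨
      ∃ n : ℕ, (t * (h * q * h⁻¹)) ^ n ≠ 1 ∧ (t * (h * q * h⁻¹)) ^ n * (t * (h * q * h⁻¹)) ^ n = 1 ∧
        t * (t * (h * q * h⁻¹)) ^ n = (t * (h * q * h⁻¹)) ^ n * t ∧
        (v * q * v⁻¹) * (t * (h * q * h⁻¹)) ^ n = (t * (h * q * h⁻¹)) ^ n * (v * q * v⁻¹)) := by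
  set s := v * q * v⁻¹ with hsd
  have hsX : s ∈ X := X.mul_mem (X.mul_mem hv hqX) (X.inv_mem hv)
  have hss : s * s = 1 := by
    rw [hsd, show v * q * v⁻¹ * (v * q * v⁻¹) = v * (q * q) * v⁻¹ by group, hqq, mul_one, mul_inv_cancel]
  have hus : Commute u s := (huv.mul_right huq).mul_right huv.inv_right
  obtain ⟨m, hs'', -, hw⟩ := desc monoSub htt hss htm fun n hn =>
    hstep _ (X.pow_mem (X.mul_mem htX hsX) n) hn
  have e : t * (((t * s) ^ m)⁻¹ * v * q * (((t * s) ^ m)⁻¹ * v)⁻¹) = (t * s) ^ (2 * m + 1) := by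
    rw [show ((t * s) ^ m)⁻¹ * v * q * (((t * s) ^ m)⁻¹ * v)⁻¹ = ((t * s) ^ m)⁻¹ * s * (t * s) ^ m by rw [hsd]; group,
      ← dih_succ htt hss, ← mul_assoc t t, htt, one_mul]
  refine ⟨((t * s) ^ m)⁻¹ * v, X.mul_mem (X.inv_mem (X.pow_mem (X.mul_mem htX hsX) m)) hv,
    (((hut.mul_right hus).pow_right m).inv_right).mul_right huv, ?_, hus, ?_⟩
  · have e' : ((t * s) ^ m)⁻¹ * s * (t * s) ^ m = ((t * s) ^ m)⁻¹ * v * q * (((t * s) ^ m)⁻¹ * v)⁻¹ := by
      rw [hsd]; group
    exact e' ▸ hs''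
  · rw [e]; exact hw

/-- The conjugates of plane involutions in the monomial group. -/
theorem pl_image4 (h4 : k = 4) (hC : CentPl f X) {h : GL (J → Fin k) F} (hh : h ∈ X) {a : J} {D : GL (Fin k) F}
    (hD : IsPl f D) (hm : Mono (h * fac a D * h⁻¹)) :
    ∃ (j : J) (T : GL (Fin k) F), IsPl f T ∧ h * fac a D * h⁻¹ = fac j T ∧ Mono h := by
  have hhm := C.pl_fusion hJ hX B IH h4 hC hh hD hm
  obtain ⟨π, A, hA⟩ := id hhm
  obtain ⟨l, -, hlA⟩ := C.toSl.slot_sim (C.pres (C.iso hh)) hA (π⁻¹ a)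
  exact ⟨_, _, C.toSl.pl_conj' hlA hD, conj_slot hA a D, hhm⟩

/-- The step of the descent. -/
theorem pl_step4 (h4 : k = 4) (hC : CentPl f X) {a : J} {D : GL (Fin k) F} (hD : IsPl f D)
    {z : GL (J → Fin k) F} (hz : z ∈ X) (hm : Mono (z⁻¹ * fac a D * z)) : Mono z := by
  have := C.pl_fusion hJ hX B IH h4 hC (X.inv_mem hz) (a := a) hD (by rwa [inv_inv])
  simpa using mono_inv this

/-- Members commuting with a product of two plane involutions in two slots are monomial. -/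
theorem pair_cent4 (h4 : k = 4) (hC : CentPl f X) {a c : J} (hac : a ≠ c) {D D' : GL (Fin k) F} (hD : IsPl f D)
    (hD' : IsPl f D') {v : GL (J → Fin k) F} (hv : v ∈ X)
    (hcomm : v * (fac a D * fac c D') = fac a D * fac c D' * v) : Mono v := by
  classical
  have hf := C.hf
  have hk : 0 < k := by omega
  obtain ⟨x, y, hx, hy, hxy, hDe⟩ := C.toSl.isPl_exists_mr hD
  obtain ⟨z, hzm, hz⟩ := C.toSl.aniso_in (C.toSl.eig_nd hD.2.1 hD.1) (C.toSl.ne_bot_of (by have := hD.2.2; omega))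
  have hDx : mv D x = -x := by rw [hDe]; exact C.toSl.mm_left hx hy hxy
  have hDy : mv D y = -y := by rw [hDe]; exact C.toSl.mm_right hx hy hxy
  have hzx : f z x = 0 := C.toSl.eig_orth hD.1 (mem_fixsp.1 hzm) hDx
  have hzy : f z y = 0 := C.toSl.eig_orth hD.1 (mem_fixsp.1 hzm) hDy
  set D2 := mr hf x * mr hf z with hD2d
  have hD2 : IsPl f D2 := C.toSl.isPl_mr hx hz (by rw [hf.comm', hzx])
  have hprod : D2 * D = mr hf z * mr hf y := by
    rw [hDe, hD2d, C.toSl.mr_comm' hx hz (by rw [hf.comm', hzx]),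
      show mr hf z * mr hf x * (mr hf x * mr hf y) = mr hf z * (mr hf x * mr hf x) * mr hf y by group, mr_sq hf hx,
      mul_one]
  have hP : IsPl f (D2 * D) := hprod ▸ C.toSl.isPl_mr hz hy hzy
  have hDD2 : D * D2 = D2 * D := by
    calc D * D2 = D * D2 * ((D2 * D) * (D2 * D)) := by rw [hP.2.1, mul_one]
      _ = D * (D2 * D2) * D * (D2 * D) := by group
      _ = D2 * D := by rw [hD2.2.1, mul_one, hD.2.1, one_mul]
  set u := fac a D * fac c D' with hud
  have hut : Commute u (fac a D2) := by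
    show u * fac a D2 = fac a D2 * u
    rw [hud, mul_assoc, fac_comm hac.symm, ← mul_assoc, ← fac_mul, hDD2, fac_mul, mul_assoc]
  have hub : Commute u (fac a D) := by
    show u * fac a D = fac a D * u
    rw [hud, mul_assoc, fac_comm hac.symm, ← mul_assoc]
  obtain ⟨h, hhX, huh, hm, hus, hw⟩ := C.engine (u := u) (t := fac a D2) (q := fac a D) (C.fac_pl hD2 a) (C.fac_pl hD a)
    hv (by rw [← fac_mul, hD2.2.1, fac_one]) (by rw [← fac_mul, hD.2.1, fac_one]) ⟨1, monoOf_fac a D2⟩ hut hub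
    hcomm.symm fun z hz => C.pl_step4 hJ hX B IH h4 hC hD2 hz
  obtain ⟨p, P, hPp, hpe, hhm⟩ := C.pl_image4 hJ hX B IH h4 hC hhX hD hm
  obtain ⟨p', P', hP', hpe', -⟩ := C.pl_image4 hJ hX B IH h4 hC hhX (a := c) hD'
    (mono_mul (mono_mul hhm ⟨1, monoOf_fac c D'⟩) (mono_inv hhm))
  have huP : fac a D * fac c D' = fac p P * fac p' P' := by
    rw [← hpe, ← hpe', show h * fac a D * h⁻¹ * (h * fac c D' * h⁻¹) = h * u * h⁻¹ by rw [hud]; group,
      ← huh.eq, mul_inv_cancel_right]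
  have hpp : p ≠ p' := fun e => by
    subst e
    exact facs_ne hk hac (C.toSl.isPl_ctl hD) (C.toSl.isPl_ctl hD') (huP.trans (fac_mul p P P').symm)
  have hcases : fac p P = fac a D ∨ fac p P = -fac a D ∨ fac p P = fac c D' ∨ fac p P = -fac c D' := by
    rcases facs_slot hk hac (C.toSl.isPl_ctl hD) huP with e | e
    · subst e
      rcases C.toSl.facs_sign hac hpp hD.2.1 hD.1 hPp.2.1 hPp.1 huP with e | e <;> rw [e]
      · exact Or.inl rfl
      · exact Or.inr (Or.inl (fac_neg _ _))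
    · subst e
      have h1 := huP
      rw [fac_comm hpp] at h1
      rcases C.toSl.facs_sign hac hpp.symm hD.2.1 hD.1 hP'.2.1 hP'.1 h1 with e | e <;> rw [e] at h1
      · exact Or.inr (Or.inr (Or.inl (mul_left_cancel h1).symm))
      · rw [fac_neg, neg_mul, ← mul_neg] at h1
        refine Or.inr (Or.inr (Or.inr ?_))
        rw [mul_left_cancel h1, neg_neg]
  have hτ1 : fac a D2 * (h * fac a D * h⁻¹) ≠ 1 := fun e => by
    rw [hpe] at e
    have e1 : fac p P = fac a D2 := by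
      rw [eq_inv_of_mul_eq_one_right e, fac_inv, inv_eq_of_mul_eq_one_right hD2.2.1]
    have hne := C.toSl.isPl_ne hP
    rcases hcases with e' | e' | e' | e' <;> rw [e'] at e1
    · rw [fac_inj hk a e1, hD2.2.1] at hne; exact hne.1 rfl
    · rw [← fac_neg] at e1
      rw [← fac_inj hk a e1, neg_mul, hD.2.1] at hne; exact hne.2 rfl
    · exact hac (fac_slot hk (C.toSl.isPl_ctl hD') e1).symm
    · rw [← fac_neg] at e1
      exact hac (fac_slot hk (C.toSl.isPl_ctl (C.toSl.pl_neg h4 hD')) e1).symm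
  obtain ⟨n, hn1, -, -, hn4⟩ := hw.resolve_left hτ1
  have hsq : fac a D2 * fac p P * (fac a D2 * fac p P) = 1 := by
    have hco : fac p P * fac a D2 = fac a D2 * fac p P := by
      rcases hcases with e' | e' | e' | e' <;> rw [e']
      · rw [← fac_mul, hDD2, fac_mul]
      · rw [neg_mul, mul_neg, ← fac_mul, hDD2, fac_mul]
      · rw [fac_comm hac.symm]
      · rw [neg_mul, mul_neg, fac_comm hac.symm]
    rw [mul_assoc, ← mul_assoc (fac p P), hco, mul_assoc (fac a D2), ← fac_mul p, hPp.2.1, fac_one, mul_one,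
      ← fac_mul, hD2.2.1, fac_one]
  rw [hpe] at hn1 hn4
  have hn : (fac a D2 * fac p P) ^ n = fac a D2 * fac p P := by
    rcases Nat.even_or_odd n with ⟨r, rfl⟩ | ⟨r, rfl⟩
    · exact absurd (by rw [← two_mul, pow_mul, pow_two, hsq, one_pow]) hn1
    · rw [pow_succ, pow_mul, pow_two, hsq, one_pow, one_mul]
  rw [hn] at hn4
  set s := v * fac a D * v⁻¹ with hs
  have hsm : Mono s := by
    refine hC s (X.mul_mem (X.mul_mem hv (C.fac_pl hD a)) (X.inv_mem hv)) a (D2 * D) hP ?_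
    have h1 : Commute s (fac a D2 * fac p P) := hn4
    have h2 : Commute s u := hus.symm
    have e0 : u * (fac a D2 * fac c D') = fac a (D2 * D) := by
      rw [hud, mul_assoc, ← mul_assoc (fac c D'), fac_comm hac.symm, mul_assoc, ← fac_mul c, hD'.2.1, fac_one,
        mul_one, ← fac_mul, hDD2]
    show Commute s (fac a (D2 * D))
    rcases hcases with e' | e' | e' | e' <;> rw [e'] at h1
    · rwa [← fac_mul] at h1
    · rw [mul_neg, ← fac_mul] at h1
      simpa using h1.neg_right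
    · rw [← e0]; exact h2.mul_right h1
    · rw [mul_neg] at h1
      rw [← e0]; exact h2.mul_right (by simpa using h1.neg_right)
  exact C.pl_fusion hJ hX B IH h4 hC hv hD hsm

/-- Members commuting with a mirror and a plane involution in two slots, for at least three slots. -/
theorem mp_cent (h4 : k = 4) (hC : CentPl f X) (hJ3 : 3 ≤ Fintype.card J) {a j : J} (haj : a ≠ j) {x : Fin k → F}
    (hx : f x x ≠ 0) {D : GL (Fin k) F} (hD : IsPl f D) {v : GL (J → Fin k) F} (hv : v ∈ X)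
    (hcomm : v * (fac a (mr C.hf x) * fac j D) = fac a (mr C.hf x) * fac j D * v) : Mono v := by
  classical
  have hf := C.hf
  have hk : 0 < k := by omega
  obtain ⟨hn, hd⟩ := C.toSl.perp_step C.toSl.nd_top Submodule.mem_top hx
  rw [C.toSl.finrank_top'] at hd
  obtain ⟨y, hym, hy⟩ := C.toSl.aniso_in hn (C.toSl.ne_bot_of (by omega))
  simp only [Submodule.mem_inf, mem_prp, Submodule.mem_top, true_and] at hym
  have hxy : f x y = 0 := by rw [hf.comm', hym]
  set m := mr hf x with hmd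
  set m' := mr hf y with hm'd
  have hmi := mr_isom hf hx
  have hmm := mr_sq hf hx
  have hP : IsPl f (m' * m) := C.toSl.isPl_mr hy hx hym
  have hcm : m' * m = m * m' := C.toSl.mr_comm' hy hx hym
  have hmir : ∀ w, f w w ≠ 0 → IsMir f (mr hf w) := fun w hw => by
    refine ⟨mr_isom hf hw, mr_sq hf hw, ?_⟩
    have e1 := finrank_fixsp_fac a (mr hf w)
    rw [fixsp_mir C.toSl a hw, finrank_Ln a fun e => hw (by rw [e, hf.zero_left])] at e1
    haveI : NeZero k := ⟨by omega⟩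
    exact (Nat.eq_of_mul_eq_mul_left Fintype.card_pos ((mul_one _).trans e1)).symm
  set u := fac a m * fac j D with hud
  have hut : Commute u (fac a m') := by
    show u * fac a m' = fac a m' * u
    rw [hud, mul_assoc, fac_comm haj.symm, ← mul_assoc, ← fac_mul, ← hcm, fac_mul, mul_assoc]
  have hub : Commute u (fac a m) := by
    show u * fac a m = fac a m * u
    rw [hud, mul_assoc, fac_comm haj.symm, ← mul_assoc]
  obtain ⟨h, hhX, huh, hm, hus, hw⟩ := C.engine (u := u) (t := fac a m') (q := fac a m) (C.mir hJ3 a y hy)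
    (C.mir hJ3 a x hx) hv (by rw [← fac_mul, mr_sq hf hy, fac_one]) (by rw [← fac_mul, hmm, fac_one])
    ⟨1, monoOf_fac a m'⟩ hut hub hcomm.symm fun z hz hzm => by
      have := C.mirror_fus hJ hX B IH h4 hC (X.inv_mem hz) hJ3 (i := a) hy (by rwa [inv_inv])
      simpa using mono_inv this
  have hhm := C.mirror_fus hJ hX B IH h4 hC hhX hJ3 hx hm
  obtain ⟨π, A, hA⟩ := id hhm
  obtain ⟨l, -, hlA⟩ := C.toSl.slot_sim (C.pres (C.iso hhX)) hA (π⁻¹ a)
  have hpe : h * fac a m * h⁻¹ = fac (π⁻¹ a) (A (π⁻¹ a) * m * (A (π⁻¹ a))⁻¹) := conj_slot hA a m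
  have hMm := C.toSl.mir_conj hlA (hmir x hx)
  rw [← hmd] at hMm
  obtain ⟨l', -, hlA'⟩ := C.toSl.slot_sim (C.pres (C.iso hhX)) hA (π⁻¹ j)
  have hpe' : h * fac j D * h⁻¹ = fac (π⁻¹ j) (A (π⁻¹ j) * D * (A (π⁻¹ j))⁻¹) := conj_slot hA j D
  have hP' := C.toSl.pl_conj' hlA' hD
  set p := π⁻¹ a with hpd
  set M := A p * m * (A p)⁻¹
  set p' := π⁻¹ j with hp'd
  set P' := A p' * D * (A p')⁻¹
  have huP : fac a m * fac j D = fac p M * fac p' P' := by
    rw [← hpe, ← hpe', show h * fac a m * h⁻¹ * (h * fac j D * h⁻¹) = h * u * h⁻¹ by rw [hud]; group, ← huh.eq,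
      mul_inv_cancel_right]
  have hpp : p ≠ p' := fun e => haj (π⁻¹.injective e)
  have hpa : p = a := by
    rcases facs_slot hk haj (C.toSl.mir_ctl (hmir x hx)) huP with e | e
    · exact e
    · exfalso
      have h1 := huP
      rw [fac_comm hpp, e] at h1
      have hd := hP'.2.2
      have hd' := C.toSl.isPl_fix hP'
      have hd1 := (hmir x hx).2.2
      rcases C.toSl.facs_sign haj (Ne.symm (e ▸ hpp)) hmm hmi hP'.2.1 hP'.1 h1 with e' | e'
      · rw [e'] at hd; omega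
      · rw [e', neg_neg] at hd'; omega
  have hsgn : M = m ∨ M = -m := by
    have h1 := huP
    rw [hpa] at h1
    exact C.toSl.facs_sign haj (hpa ▸ hpp) hmm hmi hMm.2.1 hMm.1 h1
  have hPM : IsPl f (m' * M) := by
    rcases hsgn with e | e <;> rw [e]
    · exact hP
    · rw [mul_neg]; exact C.toSl.pl_neg h4 hP
  rw [hpe, hpa, ← fac_mul] at hw
  obtain ⟨n, hn1, -, -, hn4⟩ := hw.resolve_left fun e => (C.toSl.isPl_ne hPM).1 ((fac_one_iff hk a).1 e)
  have hn : fac a (m' * M) ^ n = fac a (m' * M) := by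
    have hsq : fac a (m' * M) * fac a (m' * M) = (1 : GL (J → Fin k) F) := by rw [← fac_mul, hPM.2.1, fac_one]
    rcases Nat.even_or_odd n with ⟨r, rfl⟩ | ⟨r, rfl⟩
    · exact absurd (by rw [← two_mul, pow_mul, pow_two, hsq, one_pow]) hn1
    · rw [pow_succ, pow_mul, pow_two, hsq, one_pow, one_mul]
  rw [hn] at hn4
  exact C.mirror_fus hJ hX B IH h4 hC hv hJ3 hx
    (hC _ (X.mul_mem (X.mul_mem hv (C.mir hJ3 a x hx)) (X.inv_mem hv)) a _ hPM hn4)

end Ctx

end Cfsg.Agent.OrthEvenWreath
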