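/-
Tensor powers of a symmetric form of even dimension: members carrying the lines of an orthogonal basis of one slot to lines.
-/
import Cfsg.Agent.Lib.OrthWreathEven.FourPlane

set_option autoImplicit false
set_option linter.unusedSectionVars false

namespace Cfsg.Agent.OrthEvenWreath

open scoped Matrix
open Matrix Cfsg.Agent.Transvec Cfsg.Agent.TensorMax Cfsg.Agent.WreathMax
open Cfsg.Agent.FormWreath hiding up mv_up_ins
open Cfsg.Agent.OrthWreath hiding Sl Ctx Base Ind Inv Gd fixsp_mir small_mir split_sim rho_omega fix_line_mono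
  exists_noncomm
open Cfsg.Agent.UWreath (mono_mul mono_inv)

variable {F : Type*} [Field F] [Finite F] {k : ℕ} {J : Type} [Fintype J] [DecidableEq J]
variable {f : (Fin k → F) → (Fin k → F) → F} {κ : F}

local notation "σ₁" => RingEquiv.refl F

variable {Q : ((J → Fin k) → F) → F} {X : Subgroup (GL (J → Fin k) F)}

namespace Ctx

variable (C : Ctx f Q κ X) (hJ : 2 ≤ Fintype.card J) (hX : ¬ Geo.omegaGL Q ≤ X) (B : Base f Q κ) (IH : Ind f κ J)
include C hJ hX B IH

/-- Members carrying the roots of the other slots to the other slots are monomial. -/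
theorem mono_of_roots {g : GL (J → Fin k) F} (hg : g ∈ X) {i l : J}
    (h : ∀ (j : J) (a w : Fin k → F), j ≠ i → f a a = 0 → f w a = 0 →
      ∃ b, g * fac j (eA C.hf a w) * g⁻¹ = up l b) : Mono g := by
  have hf := C.hf
  have hk : 0 < k := by have := C.hk; omega
  have h' : ∀ T' : (Fin k → F) →ₗ[F] Fin k → F, ∃ T,
      op l LinearMap.id T' ∘ₗ mvLin g = mvLin g ∘ₗ op i LinearMap.id T := fun T' => by
    obtain ⟨T₀, hT₀⟩ := C.toSl.comm_roots i (L := mvLin g⁻¹ ∘ₗ op l LinearMap.id T' ∘ₗ mvLin g)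
      fun j a w hj ha hw => LinearMap.ext fun x => by
        obtain ⟨b, hb⟩ := h j a w hj ha hw
        rw [mul_inv_eq_iff_eq_mul] at hb
        have hcomm : ∀ y, op l LinearMap.id T' (mv (up l b) y) = mv (up l b) (op l LinearMap.id T' y) := fun y => by
          have := LinearMap.congr_fun (show op l LinearMap.id T' ∘ₗ mvLin (up l b) =
            mvLin (up l b) ∘ₗ op l LinearMap.id T' by
              rw [mvLin_up, op_comp, op_comp, LinearMap.id_comp, LinearMap.comp_id, LinearMap.id_comp,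
                LinearMap.comp_id]) y
          exact this
        show mv g⁻¹ (op l LinearMap.id T' (mv g (mv (fac j (eA C.hf a w)) x))) =
          mv (fac j (eA C.hf a w)) (mv g⁻¹ (op l LinearMap.id T' (mv g x)))
        rw [← mv_mul g, hb, mv_mul (up l b), hcomm, ← mv_mul g⁻¹, ← mv_mul (fac j _) g⁻¹]
        congr 1
        rw [eq_inv_mul_iff_mul_eq.2 hb]
        group
    refine ⟨T₀, ?_⟩
    rw [← hT₀]
    exact LinearMap.ext fun x => (mv_mv_inv g _).symm
  obtain ⟨c, hc0, hc⟩ := C.toSl.exists_isotropic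
  obtain ⟨c', hc'0, hmap⟩ := lines_of_slot hf hk (fun T => slot_onto hk h' T) hc0
  refine C.stab hJ hX B IH hg hc0 hc hc'0 ?_ hmap
  obtain ⟨e, he⟩ := C.toSl.exists_aniso
  set w : Rest l k → F := pten fun _ => e
  have hw : Bt σ₁ f w w ≠ 0 := by rw [Bt_pten hf]; exact Finset.prod_ne_zero_iff.2 fun _ _ => he ▸ C.hκ
  obtain ⟨y, hy, hgy⟩ := mem_map_gl.1 (hmap ▸ ins_mem l c' w : ins l c' w ∈ (Ln i c).map (mvLin g))
  obtain ⟨u, rfl⟩ := mem_Ln_ins hy
  have := C.pres (C.iso hg) (ins i c u) (ins i c u)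
  rw [hgy, Bt_ins_ins hf, Bt_ins_ins hf, hc, zero_mul] at this
  exact (mul_eq_zero.1 this).resolve_right hw

omit hX B IH in
/-- The members fixing one line of a frame pointwise and preserving all of them. -/
theorem frame_group (l : J) (y : Fin k → Fin k → F) (a₀ : Fin k) :
    ∃ G : Subgroup (GL (J → Fin k) F), ∀ u, u ∈ G ↔ u ∈ X ∧ (∀ w, mv u (ins l (y a₀) w) = ins l (y a₀) w) ∧
      ∀ a, (Ln l (y a)).map (mvLin u) = Ln l (y a) := by
  have hmap : ∀ (u v : GL (J → Fin k) F) (S : Submodule F ((J → Fin k) → F)),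
      S.map (mvLin (u * v)) = (S.map (mvLin v)).map (mvLin u) := fun u v S => by
    rw [← Submodule.map_comp]
    congr 1
    exact LinearMap.ext fun z => mv_mul u v z
  refine ⟨{ carrier := {u | u ∈ X ∧ (∀ w, mv u (ins l (y a₀) w) = ins l (y a₀) w) ∧
              ∀ a, (Ln l (y a)).map (mvLin u) = Ln l (y a)}
            one_mem' := ⟨X.one_mem, fun w => mv_one _, fun a => ?_⟩
            mul_mem' := fun {u v} hu hv => ⟨X.mul_mem hu.1 hv.1, fun w => by rw [mv_mul, hv.2.1, hu.2.1],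
              fun a => by rw [hmap, hv.2.2, hu.2.2]⟩
            inv_mem' := fun {u} hu => ⟨X.inv_mem hu.1, fun w => by rw [mv_eq_iff, inv_inv, hu.2.1],
              fun a => ?_⟩ }, fun u => Iff.rfl⟩
  · rw [show mvLin (1 : GL (J → Fin k) F) = LinearMap.id from LinearMap.ext fun z => mv_one z, Submodule.map_id]
  · conv_lhs => rw [← hu.2.2 a, map_gl_inv]

/-- Members fixing a line of a frame pointwise and preserving all its lines are sign changes in the slot. -/
theorem frame_fix {l : J} {y : Fin k → Fin k → F} (horth : ∀ a b, a ≠ b → f (y a) (y b) = 0)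
    (hy : ∀ a, f (y a) (y a) ≠ 0) (a₀ : Fin k) {u : GL (J → Fin k) F} (hu : u ∈ X)
    (hfix : ∀ w, mv u (ins l (y a₀) w) = ins l (y a₀) w) (hmap : ∀ a, (Ln l (y a)).map (mvLin u) = Ln l (y a)) :
    ∃ T : GL (Fin k) F, u = fac l T ∧ T * T = 1 := by
  classical
  have hf := C.hf
  have hk : 0 < k := by have := C.hk; omega
  have hy0 : ∀ a, y a ≠ 0 := fun a e => hy a (by rw [e, hf.zero_left])
  obtain ⟨G, hG⟩ := C.frame_group hJ l y a₀
  have key : ∀ v ∈ G, Mono v → ∃ T : GL (Fin k) F, v = fac l T ∧ T * T = 1 := by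
    intro v hv hmono
    obtain ⟨hvX, hvfix, hvmap⟩ := (hG v).1 hv
    obtain ⟨T, rfl, hTx, hTf⟩ := fix_line_mono C.toSl hmono (C.pres (C.iso hvX)) (hy0 a₀) hvfix
    refine ⟨T, rfl, ext_frame hf horth hy fun a => ?_⟩
    obtain ⟨w₁, hw₁⟩ := rest_vec_ne (F := F) hk l
    obtain ⟨τ, hτ⟩ := line_scalar (hy0 a) hw₁ (by
      rw [← mv_fac_ins, ← hvmap a]
      exact mem_map_gl.2 ⟨_, ins_mem l (y a) w₁, rfl⟩ : ins l (mv T (y a)) w₁ ∈ Ln l (y a))
    have h1 := hTf (y a) (y a)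
    rw [hτ, hf.smul_left, hf.smul_right', ← mul_assoc] at h1
    have h2 : τ * τ = 1 := mul_right_cancel₀ (hy a) (by rw [h1, one_mul])
    rw [mv_mul, hτ, mv_smul, hτ, smul_smul, h2, one_smul, mv_one]
  obtain ⟨m, hm⟩ := Fintype.exists_ne_of_one_lt_card (α := J) (by omega) l
  obtain ⟨p, hp⟩ := CharP.exists F
  haveI := hp
  refine key u ((hG u).2 ⟨hu, hfix, hmap⟩) (C.gp hJ hX B IH G (fun v hv => ((hG v).1 hv).1) m
    (fun c w hc hw v hv => ?_) p (fun v hv hmono hvp => ?_) u ((hG u).2 ⟨hu, hfix, hmap⟩))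
  · obtain ⟨hvX, hvfix, hvmap⟩ := (hG v).1 hv
    set e := fac m (eA hf c w) with he
    have hins : ∀ (z : Fin k → F) r, mv e (ins l z r) =
        ins l z (mv (fac (⟨m, hm⟩ : {j // j ≠ l}) (eA hf c w)) r) := fun z r => mv_fac_other hm _ z r
    have hins' : ∀ (z : Fin k → F) r, mv e⁻¹ (ins l z r) =
        ins l z (mv (fac (⟨m, hm⟩ : {j // j ≠ l}) (eA hf c w)⁻¹) r) := fun z r => by
      rw [he, fac_inv]; exact mv_fac_other hm _ z r
    refine (hG _).2 ⟨X.mul_mem (X.mul_mem (C.root m c w hc hw) hvX) (X.inv_mem (C.root m c w hc hw)), fun r => ?_,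
      fun a => ?_⟩
    · rw [mv_mul, mv_mul, hins', hvfix, hins, ← mv_mul, ← fac_mul, mul_inv_cancel, fac_one, mv_one]
    · refine Submodule.eq_of_le_of_finrank_le (fun z hz => ?_) (by rw [finrank_map_gl])
      obtain ⟨z', hz', rfl⟩ := mem_map_gl.1 hz
      obtain ⟨r, rfl⟩ := mem_Ln_ins hz'
      rw [mv_mul, mv_mul, hins']
      obtain ⟨r', hr'⟩ := mem_Ln_ins ((hvmap a) ▸ mem_map_gl.2 ⟨_, ins_mem l (y a) _, rfl⟩ :
        mv v (ins l (y a) (mv (fac (⟨m, hm⟩ : {j // j ≠ l}) (eA hf c w)⁻¹) r)) ∈ Ln l (y a))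
      rw [← hr', hins]
      exact ins_mem l (y a) _
  · obtain ⟨T, rfl, hT⟩ := key v hv hmono
    haveI : Fintype F := Fintype.ofFinite F
    have hodd : Odd p := (CharP.char_is_prime F p).odd_of_ne_two fun e => C.two (by
      subst e; exact CharP.cast_eq_zero F 2)
    obtain ⟨n, rfl⟩ := hodd
    rwa [pow_succ, pow_mul, show (fac l T) ^ 2 = 1 by rw [fac_pow, pow_two, hT, fac_one], one_pow, one_mul] at hvp

set_option maxHeartbeats 800000 in
/-- A member carrying the lines of an orthogonal basis of one slot to lines is monomial. -/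
theorem frame_mono {g : GL (J → Fin k) F} (hg : g ∈ X) {i l : J} {y y' : Fin k → Fin k → F}
    (horth : ∀ a b, a ≠ b → f (y a) (y b) = 0) (hy : ∀ a, f (y a) (y a) ≠ 0)
    (hmap : ∀ a, (Ln i (y a)).map (mvLin g) = Ln l (y' a)) : Mono g := by
  classical
  have hf := C.hf
  have h2 := C.two
  have hk : 0 < k := by have := C.hk; omega
  obtain ⟨p, hp⟩ := CharP.exists F
  haveI := hp
  haveI : Fintype F := Fintype.ofFinite F
  have hodd : Odd p := (CharP.char_is_prime F p).odd_of_ne_two fun e => h2 (by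
    subst e; exact CharP.cast_eq_zero F 2)
  obtain ⟨e₁, he₁⟩ := C.toSl.exists_aniso
  set u₀ : Rest i k → F := pten fun _ => e₁
  set v₀ : Rest l k → F := pten fun _ => e₁
  have hu₀ : Bt σ₁ f u₀ u₀ ≠ 0 := by rw [Bt_pten hf]; exact Finset.prod_ne_zero_iff.2 fun _ _ => he₁ ▸ C.hκ
  have hv₀ : Bt σ₁ f v₀ v₀ ≠ 0 := by rw [Bt_pten hf]; exact Finset.prod_ne_zero_iff.2 fun _ _ => he₁ ▸ C.hκ
  have himg : ∀ a w, ∃ w', mv g (ins i (y a) w) = ins l (y' a) w' := fun a w => by
    obtain ⟨w', hw'⟩ := mem_Ln_ins (hmap a ▸ mem_map_gl.2 ⟨_, ins_mem i (y a) w, rfl⟩ :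
      mv g (ins i (y a) w) ∈ Ln l (y' a))
    exact ⟨w', hw'.symm⟩
  have hpre : ∀ a w', ∃ w, mv g (ins i (y a) w) = ins l (y' a) w' := fun a w' => by
    obtain ⟨z, hz, hzw⟩ := mem_map_gl.1 ((hmap a).symm ▸ ins_mem l (y' a) w' :
      ins l (y' a) w' ∈ (Ln i (y a)).map (mvLin g))
    obtain ⟨w, rfl⟩ := mem_Ln_ins hz
    exact ⟨w, hzw⟩
  have hy' : ∀ a, f (y' a) (y' a) ≠ 0 := fun a h0 => by
    obtain ⟨w', hw'⟩ := himg a u₀
    have := C.pres (C.iso hg) (ins i (y a) u₀) (ins i (y a) u₀)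
    rw [hw', Bt_ins_ins hf, Bt_ins_ins hf, h0, zero_mul] at this
    exact mul_ne_zero (hy a) hu₀ this.symm
  have horth' : ∀ a b, a ≠ b → f (y' a) (y' b) = 0 := fun a b hab => by
    obtain ⟨w₁, hw₁⟩ := hpre a v₀
    obtain ⟨w₂, hw₂⟩ := hpre b v₀
    have := C.pres (C.iso hg) (ins i (y a) w₁) (ins i (y b) w₂)
    rw [hw₁, hw₂, Bt_ins_ins hf, Bt_ins_ins hf, horth a b hab, zero_mul] at this
    exact (mul_eq_zero.1 this).resolve_right hv₀
  set a₀ : Fin k := ⟨0, hk⟩
  set x := y a₀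
  set x' := y' a₀
  have hx0 : x ≠ 0 := fun e => hy a₀ (by rw [show y a₀ = x from rfl, e, hf.zero_left])
  have hx'0 : x' ≠ 0 := fun e => hy' a₀ (by rw [show y' a₀ = x' from rfl, e, hf.zero_left])
  obtain ⟨φ, hφ⟩ := exists_dot_one hx'0
  set R₀ : (Rest i k → F) →ₗ[F] Rest l k → F := cr l φ ∘ₗ mvLin g ∘ₗ ins i x
  have hR₀ : ∀ w, mv g (ins i x w) = ins l x' (R₀ w) := fun w => by
    obtain ⟨w', hw'⟩ := himg a₀ w
    show _ = ins l x' (cr l φ (mv g (ins i x w)))
    rw [hw', cr_ins, hφ, one_smul]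
  have hinj : Function.Injective R₀ := fun a b e => ins_injective i hx0 (mv_inj g (by rw [hR₀, hR₀, e]))
  set R : (Rest i k → F) ≃ₗ[F] (Rest l k → F) := LinearEquiv.ofInjectiveOfFinrankEq R₀ hinj (by
    rw [Module.finrank_fintype_fun_eq_card, Module.finrank_fintype_fun_eq_card, card_rest_same i l hk])
  have hR : ∀ w, mv g (ins i x w) = ins l x' (R w) := hR₀
  have hsim : ∀ u u', Bt σ₁ f (R u) (R u') = f x x / f x' x' * Bt σ₁ f u u' := fun u u' => by
    have := C.pres (C.iso hg) (ins i x u) (ins i x u')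
    rw [hR, hR, Bt_ins_ins hf, Bt_ins_ins hf] at this
    rw [div_mul_eq_mul_div, eq_div_iff (hy' a₀), ← this, mul_comm]
  -- members preserving the lines of the new frame
  have hupl : ∀ (β : GL (Rest l k) F) a, (Ln l (y' a)).map (mvLin (up l β)) = Ln l (y' a) := fun β a => by
    refine Submodule.eq_of_le_of_finrank_le (fun z hz => ?_) (by rw [finrank_map_gl])
    obtain ⟨z', hz', rfl⟩ := mem_map_gl.1 hz
    obtain ⟨r, rfl⟩ := mem_Ln_ins hz'
    rw [mv_up_ins]; exact ins_mem l _ _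
  have hmm : ∀ (u v : GL (J → Fin k) F) (S : Submodule F ((J → Fin k) → F)),
      S.map (mvLin (u * v)) = (S.map (mvLin v)).map (mvLin u) := fun u v S => by
    rw [← Submodule.map_comp]
    congr 1
    exact LinearMap.ext fun z => mv_mul u v z
  let P : GL (Rest l k) F → GL (J → Fin k) F → Prop := fun β u =>
    u ∈ X ∧ (∀ a, (Ln l (y' a)).map (mvLin u) = Ln l (y' a)) ∧ ∀ w, mv u (ins l x' w) = ins l x' (mv β w)
  let I : Subgroup (GL (Rest l k) F) :=
    { carrier := {β | β ∈ Geo.omegaGL (qf (Bt (J := {j // j ≠ l}) σ₁ f)) ∧ ∃ u, P β u}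
      one_mem' := ⟨Subgroup.one_mem _, 1, X.one_mem, fun a => by rw [← map_one (up l)]; exact hupl 1 a,
        fun w => by rw [mv_one, mv_one]⟩
      mul_mem' := fun {β β'} ⟨hβ, u, hu, hul, huc⟩ ⟨hβ', u', hu', hul', huc'⟩ =>
        ⟨Subgroup.mul_mem _ hβ hβ', u * u', X.mul_mem hu hu', fun a => by rw [hmm, hul', hul],
          fun w => by rw [mv_mul, huc', huc, mv_mul]⟩
      inv_mem' := fun {β} ⟨hβ, u, hu, hul, huc⟩ =>
        ⟨Subgroup.inv_mem _ hβ, u⁻¹, X.inv_mem hu, fun a => by conv_lhs => rw [← hul a, map_gl_inv],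
          fun w => by rw [mv_eq_iff, inv_inv, huc, mv_mv_inv]⟩ }
  -- quotient of two members with the same component
  have hquot : ∀ {β u u'}, P β u → P β u' → ∃ T, u = u' * fac l T ∧ T * T = 1 := fun {β u u'} h h' => by
    obtain ⟨T, hT, hT1⟩ := C.frame_fix hJ hX B IH horth' hy' a₀ (X.mul_mem (X.inv_mem h'.1) h.1)
      (fun w => by
        show mv (u'⁻¹ * u) (ins l x' w) = ins l x' w
        rw [mv_mul, h.2.2, mv_eq_iff, inv_inv, h'.2.2]) (fun a => by
        rw [hmm, h.2.1]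
        conv_lhs => rw [← h'.2.1 a, map_gl_inv])
    exact ⟨T, by rw [← hT, mul_inv_cancel_left], hT1⟩
  have hcard : 1 ≤ Fintype.card {j // j ≠ l} := by
    rw [Fintype.card_subtype_compl, Fintype.card_subtype_eq]; omega
  have hI : ∀ β ∈ I, Mono β := by
    intro β hβ
    refine B.rest_mono IH l (X' := I) (fun b hb => hb.1) (fun b hb hm => ⟨hb, up l b,
      C.mono _ (B.up_omega l hb) (up_mono l hm), hupl b, fun w => mv_up_ins l b x' w⟩) (fun h2' hle => ?_) hβ
    obtain ⟨c, hc0, hc⟩ := C.toSl.exists_isotropic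
    obtain ⟨d, hd, hcd⟩ := C.toSl.exists_pair hc0 hc
    obtain ⟨z, hzc, -, hz⟩ := C.toSl.exists_W_aniso hc hd hcd
    obtain ⟨j, m, hjm⟩ := Fintype.exists_pair_of_one_lt_card (α := {j // j ≠ l}) (by omega)
    set ρ := rho hf hjm hc z
    obtain ⟨-, u, hu⟩ := hle (rho_omega (B.rest l h2') hjm hc z)
    set e := fac (j : J) (eA hf c z) with he
    have heX : e ∈ X := C.root _ c z hc hzc
    have hρe : fac j (eA hf c z) * ρ = ρ * fac j (eA hf c z) :=
      rho_fac_comm hf hjm hc z (fun _ => eA_Cop hf h2 hc hzc) (fun h => absurd h hjm)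
    have hPe : P (fac j (eA hf c z)) e := ⟨heX, fun a => by rw [he, ← up_fac]; exact hupl _ a,
      fun w => by rw [he, ← up_fac, mv_up_ins]⟩
    have hPc : P (fac j (eA hf c z)) (u * e * u⁻¹) := ⟨X.mul_mem (X.mul_mem hu.1 heX) (X.inv_mem hu.1), fun a => by
        rw [hmm, hmm]
        conv_lhs => rw [← hu.2.1 a, map_gl_inv]
        rw [hPe.2.1, hu.2.1],
      fun w => by
        rw [mv_mul, mv_mul, show mv u⁻¹ (ins l x' w) = ins l x' (mv ρ⁻¹ w) by
          rw [mv_eq_iff, inv_inv, hu.2.2, mv_mv_inv], hPe.2.2, hu.2.2, ← mv_mul, ← mv_mul, ← hρe,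
          mul_inv_cancel_right]⟩
    obtain ⟨T, hT, hT1⟩ := hquot hPc hPe
    have hep : e ^ p = 1 := by rw [he, fac_pow, eA_pow_char hf h2 p hc hzc, fac_one]
    have hT' : T = 1 := by
      have h1 : (u * e * u⁻¹) ^ p = 1 := by rw [conj_pow, hep, mul_one, mul_inv_cancel]
      rw [hT, (show Commute e (fac l T) from by rw [he]; exact fac_comm j.2 _ _).mul_pow, hep, one_mul, fac_pow,
        fac_one_iff hk] at h1
      obtain ⟨n, rfl⟩ := hodd
      rwa [pow_succ, pow_mul, pow_two, hT1, one_pow, one_mul] at h1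
    subst hT'
    rw [fac_one, mul_one, mul_inv_eq_iff_eq_mul] at hT
    have hum : Mono u := C.root_cent_mono hJ hX B IH hu.1 hc0 hc hzc hz hT
    have hρm : Mono ρ := mono_component (by have := C.hk; omega) hum hx'0 hu.2.2 ⟨j, j.2⟩
    exact C.up_rho_not_mem hJ hX l hjm hc0 hc hzc hz
      (C.mono _ (B.up_omega l (rho_omega (B.rest l h2') hjm hc z)) (up_mono l hρm))
  refine C.mono_of_roots hJ hX B IH hg (i := i) (l := l) fun j a w hj ha hw => ?_
  set β := conjGL R (fac (⟨j, hj⟩ : {m // m ≠ i}) (eA hf a w)) with hβ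
  set e := fac j (eA hf a w) with he
  have heX : e ∈ X := C.root j a w ha hw
  have hins : ∀ (z : Fin k → F) r, mv e (ins i z r) =
      ins i z (mv (fac (⟨j, hj⟩ : {m // m ≠ i}) (eA hf a w)) r) := fun z r => mv_fac_other hj _ z r
  have hmapi : ∀ b, (Ln l (y' b)).map (mvLin g⁻¹) = Ln i (y b) := fun b => by rw [← hmap b, map_gl_inv]
  have hPu : P β (g * e * g⁻¹) := ⟨X.mul_mem (X.mul_mem hg heX) (X.inv_mem hg), fun b => by
      rw [hmm, hmm, hmapi]
      rw [show (Ln i (y b)).map (mvLin e) = Ln i (y b) from Submodule.eq_of_le_of_finrank_le (fun z hz => by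
        obtain ⟨z', hz', rfl⟩ := mem_map_gl.1 hz
        obtain ⟨r, rfl⟩ := mem_Ln_ins hz'
        rw [hins]; exact ins_mem i _ _) (by rw [finrank_map_gl]), hmap],
    fun r => by
      rw [mv_mul, mv_mul, show mv g⁻¹ (ins l x' r) = ins i x (R.symm r) by
        rw [mv_eq_iff, inv_inv, hR, R.apply_symm_apply], hins, hR, hβ, mv_conjGL]⟩
  have hβΩ : β ∈ Geo.omegaGL (qf (Bt (J := {m // m ≠ l}) σ₁ f)) := by
    refine conjGL_omega hf h2 hsim ?_
    haveI : Fintype F := Fintype.ofFinite F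
    have hq : fac (⟨j, hj⟩ : {m // m ≠ i}) (eA hf a w) ^ p = 1 := by
      rw [fac_pow, eA_pow_char hf h2 p ha hw, fac_one]
    refine OrthTensor.omega_of_odd (qf_nondeg (Bt_sym hf) h2) h2 ?_
      (B.rest_iso.2 (fac_pres' hf _ (eA_isom hf h2 ha hw))) (hodd.of_dvd_nat (orderOf_dvd_of_pow_eq_one hq))
    rw [Fintype.card_fun, Fintype.card_fin]
    calc 2 ≤ k ^ 1 := by rw [pow_one]; have := C.hk; omega
      _ ≤ k ^ Fintype.card {m // m ≠ i} := Nat.pow_le_pow_right hk (by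
        rw [Fintype.card_subtype_compl, Fintype.card_subtype_eq]; omega)
  have hm : Mono β := hI β ⟨hβΩ, _, hPu⟩
  have hPup : P β (up l β) := ⟨C.mono _ (B.up_omega l hβΩ) (up_mono l hm), hupl β, fun r => mv_up_ins l β x' r⟩
  obtain ⟨T, hT, hT1⟩ := hquot hPu hPup
  refine ⟨β, ?_⟩
  have hβp : β ^ p = 1 := by
    rw [hβ, ← map_pow, fac_pow, eA_pow_char hf h2 p ha hw, fac_one, map_one]
  have h1 : (g * e * g⁻¹) ^ p = 1 := by
    rw [conj_pow, he, fac_pow, eA_pow_char hf h2 p ha hw, fac_one, mul_one, mul_inv_cancel]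
  rw [hT, (show Commute (up l β) (fac l T) from (fac_up_comm l T β).symm).mul_pow, ← map_pow, hβp, map_one, one_mul,
    fac_pow, fac_one_iff hk] at h1
  obtain ⟨n, rfl⟩ := hodd
  rw [pow_succ, pow_mul, pow_two, hT1, one_pow, one_mul] at h1
  rw [hT, h1, fac_one, mul_one]

end Ctx

end Cfsg.Agent.OrthEvenWreath
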