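/-
Tensor powers of a symmetric form of dimension four over three elements: standard frames, rotations, several slots.
-/
import Cfsg.Agent.Lib.OrthWreathEven.FourPlane
import Cfsg.Agent.Lib.OrthWreathEven.FourGx
import Cfsg.Agent.Lib.OrthWreathEven.Frame

set_option autoImplicit false
set_option linter.unusedSectionVars false

namespace Cfsg.Agent.OrthEvenWreath

open scoped Matrix
open Matrix Cfsg.Agent.Transvec Cfsg.Agent.TensorMax Cfsg.Agent.WreathMax
open Cfsg.Agent.FormWreath hiding up mv_up_ins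
open Cfsg.Agent.OrthWreath hiding Sl Ctx Base Ind Inv Gd fixsp_mir small_mir split_sim rho_omega fix_line_mono
  exists_noncomm
open Cfsg.Agent.UWreath (mono_mul mono_inv)

variable {F : Type*} [Field F] [Finite F] {k : ℕ} {J : Type} [Fintype J] [DecidableEq J]
variable {f : (Fin k → F) → (Fin k → F) → F} {κ : F}

local notation "σ₁" => RingEquiv.refl F

/-- An orthogonal basis of values one, minus one, one, one. -/
structure Std (f : (Fin k → F) → (Fin k → F) → F) where
  x : Fin k → F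
  y : Fin k → F
  a : Fin k → F
  b : Fin k → F
  xx : f x x = 1
  yy : f y y = -1
  aa : f a a = 1
  bb : f b b = 1
  xy : f x y = 0
  xa : f x a = 0
  xb : f x b = 0
  ya : f y a = 0
  yb : f y b = 0
  ab : f a b = 0
  three : Nat.card F = 3
  dec : ∀ v, v = f v x • x - f v y • y + f v a • a + f v b • b

theorem three_elems (h : Nat.card F = 3) (r : F) : r = 0 ∨ r = 1 ∨ r = -1 := by
  haveI : Fintype F := Fintype.ofFinite F
  rcases eq_or_ne r 0 with hr | hr
  · exact Or.inl hr
  · have := FiniteField.pow_card_sub_one_eq_one r hr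
    rw [← Nat.card_eq_fintype_card, h] at this
    exact Or.inr (mul_self_eq_one_iff.1 (by rw [← pow_two]; exact this))

theorem three_zero (h : Nat.card F = 3) : (3 : F) = 0 := by
  haveI : Fintype F := Fintype.ofFinite F
  have := FiniteField.cast_card_eq_zero F
  rw [← Nat.card_eq_fintype_card, h] at this
  exact_mod_cast this

namespace Sl

variable (S : Sl f κ)
include S

theorem exists_std (h4 : k = 4) (h3 : Nat.card F = 3) {x y : Fin k → F} (hx : f x x = 1) (hy : f y y = -1)
    (hxy : f x y = 0) : ∃ E : Std f, E.x = x ∧ E.y = y := by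
  have hf := S.hf
  have h2 := S.two
  have h30 := three_zero h3
  have hx0 : f x x ≠ 0 := hx ▸ one_ne_zero
  have hy0 : f y y ≠ 0 := hy ▸ neg_ne_zero.2 one_ne_zero
  obtain ⟨hn, hd⟩ := S.perp_step S.nd_top Submodule.mem_top hx0
  rw [S.finrank_top'] at hd
  have hym : y ∈ ⊤ ⊓ LinearMap.ker (hf.formL x) :=
    Submodule.mem_inf.2 ⟨Submodule.mem_top, (mem_prp hf).2 (by rw [hf.comm', hxy])⟩
  obtain ⟨hn', hd'⟩ := S.perp_step hn hym hy0
  obtain ⟨a, ham, ha⟩ := S.exists_value hn' (by omega) 1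
  obtain ⟨hn'', hd''⟩ := S.perp_step hn' ham (ha ▸ one_ne_zero)
  obtain ⟨b, hbm, hb⟩ := S.aniso_in hn'' (S.ne_bot_of (by omega))
  simp only [Submodule.mem_inf, mem_prp, Submodule.mem_top, true_and] at ham hbm
  obtain ⟨hax, hay⟩ := ham
  obtain ⟨⟨hbx, hby⟩, hba⟩ := hbm
  have hxa : f x a = 0 := by rw [hf.comm', hax]
  have hya : f y a = 0 := by rw [hf.comm', hay]
  have hxb : f x b = 0 := by rw [hf.comm', hbx]
  have hyb : f y b = 0 := by rw [hf.comm', hby]
  have hab : f a b = 0 := by rw [hf.comm', hba]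
  have han : ∀ v, f v x = 0 → f v y = 0 → f v v = 0 → v = 0 := fun v => S.hyp_fix_aniso h4 hx hy hxy
  have hb1 : f b b = 1 := by
    rcases three_elems h3 (f b b) with e | e | e
    · exact absurd e hb
    · exact e
    · have h0 := han (a + b) (by rw [hf.add_left, hax, hbx, add_zero]) (by rw [hf.add_left, hay, hby, add_zero])
        (by simp only [hf.add_left, hf.add_right, ha, e, hab, hba]; ring)
      have h1 := congrArg (fun v => f v a) h0
      simp only [hf.add_left, ha, hba, add_zero, hf.zero_left] at h1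
      exact absurd h1 one_ne_zero
  refine ⟨⟨x, y, a, b, hx, hy, ha, hb1, hxy, hxa, hxb, hya, hyb, hab, h3, fun v => ?_⟩, rfl, rfl⟩
  set r := v - (f v x • x - f v y • y + f v a • a + f v b • b) with hr
  have hyx : f y x = 0 := by rw [hf.comm', hxy]
  have e1 : f r x = 0 := by
    simp only [hr, hf.sub_left, hf.add_left, hf.smul_left, hx, hyx, hax, hbx]; ring
  have e2 : f r y = 0 := by
    simp only [hr, hf.sub_left, hf.add_left, hf.smul_left, hy, hxy, hay, hby]; ring
  have e3 : f r a = 0 := by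
    simp only [hr, hf.sub_left, hf.add_left, hf.smul_left, ha, hxa, hya, hba]; ring
  have e4 : f r b = 0 := by
    simp only [hr, hf.sub_left, hf.add_left, hf.smul_left, hb1, hxb, hyb, hab]; ring
  suffices r = 0 from sub_eq_zero.1 this
  rcases three_elems h3 (f r r) with e | e | e
  · exact han r e1 e2 e
  · exfalso
    have h0 := han (r + a + b) (by simp only [hf.add_left, e1, hax, hbx, add_zero])
      (by simp only [hf.add_left, e2, hay, hby, add_zero]) (by
        simp only [hf.add_left, hf.add_right, e, ha, hb1, hab, hba, e3, e4, hf.comm' a r, hf.comm' b r]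
        linear_combination h30)
    have h1 := congrArg (fun v => f v a) h0
    simp only [hf.add_left, e3, ha, hba, zero_add, add_zero, hf.zero_left] at h1
    exact one_ne_zero h1
  · exfalso
    have h0 := han (r + a) (by simp only [hf.add_left, e1, hax, add_zero])
      (by simp only [hf.add_left, e2, hay, add_zero]) (by
        simp only [hf.add_left, hf.add_right, e, ha, e3, hf.comm' a r]
        ring)
    have h1 := congrArg (fun v => f v a) h0
    simp only [hf.add_left, e3, ha, zero_add, hf.zero_left] at h1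
    exact one_ne_zero h1

end Sl

namespace Std

variable (E : Std f) (hf : Sym f)
include E

theorem x0 : f E.x E.x ≠ 0 := E.xx ▸ one_ne_zero
theorem y0 : f E.y E.y ≠ 0 := E.yy ▸ neg_ne_zero.2 one_ne_zero
theorem a0 : f E.a E.a ≠ 0 := E.aa ▸ one_ne_zero
theorem b0 : f E.b E.b ≠ 0 := E.bb ▸ one_ne_zero

theorem two : (2 : F) ≠ 0 := fun h => one_ne_zero (α := F) (by linear_combination three_zero E.three - h)

include hf

theorem yx : f E.y E.x = 0 := by rw [hf.comm', E.xy]
theorem ax : f E.a E.x = 0 := by rw [hf.comm', E.xa]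
theorem bx : f E.b E.x = 0 := by rw [hf.comm', E.xb]
theorem ay : f E.a E.y = 0 := by rw [hf.comm', E.ya]
theorem by' : f E.b E.y = 0 := by rw [hf.comm', E.yb]
theorem ba : f E.b E.a = 0 := by rw [hf.comm', E.ab]

theorem apb : f (E.a + E.b) (E.a + E.b) ≠ 0 := by
  rw [hf.add_left, hf.add_right, hf.add_right, E.aa, E.bb, E.ab, E.ba hf]
  norm_num
  exact E.two

theorem ext4 {T T' : GL (Fin k) F} (h1 : mv T E.x = mv T' E.x) (h2 : mv T E.y = mv T' E.y)
    (h3 : mv T E.a = mv T' E.a) (h4 : mv T E.b = mv T' E.b) : T = T' := ext_mv fun v => by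
  rw [E.dec v]
  simp only [mv_add, mv_sub, mv_smul, h1, h2, h3, h4]

/-- The plane involution of the hyperbolic plane. -/
noncomputable def D : GL (Fin k) F := mr hf E.x * mr hf E.y

/-- The rotation of the anisotropic plane. -/
noncomputable def R : GL (Fin k) F := mr hf (E.a + E.b) * mr hf E.a

theorem Dx : mv (E.D hf) E.x = -E.x := by
  rw [D, mv_mul, mr_perp hf E.y0 E.xy, mv_neg, mr_self hf E.x0]

theorem Dy : mv (E.D hf) E.y = -E.y := by
  rw [D, mv_mul, mr_self hf E.y0, mr_perp hf E.x0 (E.yx hf)]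

theorem Da : mv (E.D hf) E.a = E.a := by
  rw [D, mv_mul, mr_perp hf E.y0 (E.ay hf), mv_neg, mr_perp hf E.x0 (E.ax hf), neg_neg]

theorem Db : mv (E.D hf) E.b = E.b := by
  rw [D, mv_mul, mr_perp hf E.y0 (E.by' hf), mv_neg, mr_perp hf E.x0 (E.bx hf), neg_neg]

theorem D_sq : E.D hf * E.D hf = 1 := E.ext4 hf (by simp [mv_mul, E.Dx hf, mv_neg, mv_one])
  (by simp [mv_mul, E.Dy hf, mv_neg, mv_one]) (by simp [mv_mul, E.Da hf, mv_one])
  (by simp [mv_mul, E.Db hf, mv_one])

theorem D_fix {v : Fin k → F} (h : mv (E.D hf) v = v) : f v E.x = 0 ∧ f v E.y = 0 := by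
  have hv := E.dec v
  rw [hv, mv_add, mv_add, mv_sub, mv_smul, mv_smul, mv_smul, mv_smul, E.Dx hf, E.Dy hf, E.Da hf, E.Db hf] at h
  have e : (2 : F) • (f v E.x • E.x - f v E.y • E.y) = 0 := by linear_combination (norm := module) -h
  have e' := (smul_eq_zero.1 e).resolve_left E.two
  have e1 := congrArg (fun w => f w E.x) e'
  have e2 := congrArg (fun w => f w E.y) e'
  simp only [hf.sub_left, hf.smul_left, E.xx, E.xy, E.yy, E.yx hf, hf.zero_left, mul_zero, mul_one, sub_zero,
    zero_sub, mul_neg, neg_neg] at e1 e2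
  exact ⟨e1, e2⟩

theorem R_isom (u v : Fin k → F) : f (mv (E.R hf) u) (mv (E.R hf) v) = f u v := by
  rw [R, mv_mul, mv_mul, mr_isom hf (E.apb hf), mr_isom hf E.a0]

theorem Rx : mv (E.R hf) E.x = E.x := by
  rw [R, mv_mul, mr_perp hf E.a0 E.xa, mv_neg, mr_perp hf (E.apb hf) (by rw [hf.add_right, E.xa, E.xb, add_zero]),
    neg_neg]

theorem Ry : mv (E.R hf) E.y = E.y := by
  rw [R, mv_mul, mr_perp hf E.a0 E.ya, mv_neg, mr_perp hf (E.apb hf) (by rw [hf.add_right, E.ya, E.yb, add_zero]),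
    neg_neg]

theorem Ra : mv (E.R hf) E.a = E.b := by
  rw [R, mv_mul, mr_self hf E.a0, mv_mr hf (E.apb hf)]
  simp only [hf.add_left, hf.add_right, E.aa, E.bb, E.ab, E.ba hf, add_zero, zero_add]
  rw [one_add_one_eq_two]
  have h22 := inv_mul_cancel₀ E.two
  match_scalars <;> first
    | ring1
    | linear_combination h22
    | linear_combination -h22
    | linear_combination (-1 : F) * h22
    | field_simp [E.two]

theorem Rb : mv (E.R hf) E.b = -E.a := by
  rw [R, mv_mul, mr_perp hf E.a0 (E.ba hf), mv_neg, mv_mr hf (E.apb hf)]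
  simp only [hf.add_left, hf.add_right, E.aa, E.bb, E.ab, E.ba hf, add_zero, zero_add]
  rw [one_add_one_eq_two]
  have h22 := inv_mul_cancel₀ E.two
  match_scalars <;> first
    | ring1
    | linear_combination h22
    | linear_combination -h22
    | linear_combination (-1 : F) * h22
    | field_simp [E.two]

theorem Rinv_a : mv (E.R hf)⁻¹ E.a = -E.b := by rw [mv_eq_iff, inv_inv, mv_neg, E.Rb hf, neg_neg]

theorem Rinv_b : mv (E.R hf)⁻¹ E.b = E.a := by rw [mv_eq_iff, inv_inv, E.Ra hf]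

theorem R_sq : E.R hf * E.R hf = -E.D hf := E.ext4 hf (by simp [mv_mul, E.Rx hf, mv_neg_gl, E.Dx hf])
  (by simp [mv_mul, E.Ry hf, mv_neg_gl, E.Dy hf]) (by simp [mv_mul, E.Ra hf, E.Rb hf, mv_neg_gl, E.Da hf])
  (by simp [mv_mul, E.Ra hf, E.Rb hf, mv_neg, mv_neg_gl, E.Db hf])

theorem R_inv_of {T : GL (Fin k) F} (hT : ∀ u v, f (mv T u) (mv T v) = f u v) (hx : mv T E.x = E.x)
    (hy : mv T E.y = E.y) (hTT : T * T = -E.D hf) : T = E.R hf ∨ T = (E.R hf)⁻¹ := by
  have h3 := three_elems E.three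
  have hx' : f (mv T E.a) E.x = 0 := by rw [← hx, hT, E.ax hf]
  have hy' : f (mv T E.a) E.y = 0 := by rw [← hy, hT, E.ay hf]
  have hd := E.dec (mv T E.a)
  rw [hx', hy', zero_smul, zero_smul, sub_zero, zero_add] at hd
  set p := f (mv T E.a) E.a
  set q := f (mv T E.a) E.b
  have hn := hT E.a E.a
  rw [hd, E.aa] at hn
  simp only [hf.add_left, hf.add_right, hf.smul_left, hf.smul_right', E.aa, E.bb, E.ab, E.ba hf, mul_zero, add_zero,
    zero_add, mul_one] at hn
  have hTTa : mv T (mv T E.a) = -E.a := by rw [← mv_mul, hTT, mv_neg_gl, E.Da hf]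
  have hone : (1 : F) ≠ 0 := one_ne_zero
  have hq0 : q ≠ 0 := fun e => by
    rw [e, zero_smul, add_zero] at hd
    rw [hd, mv_smul, hd, smul_smul] at hTTa
    have e1 := congrArg (fun v => f v E.a) hTTa
    simp only [hf.smul_left, hf.neg_left, E.aa, mul_one] at e1
    rw [e, mul_zero, add_zero, e1] at hn
    exact E.two (by linear_combination -hn)
  have hp0 : p = 0 := by
    rcases h3 p with e | e | e
    · exact e
    all_goals
      exfalso
      rw [e] at hn
      exact hq0 (mul_self_eq_zero.1 (by linear_combination hn))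
  rw [hp0, zero_smul, zero_add] at hd
  have hTb : mv T E.b = (-q) • E.a := by
    have e1 := hTTa
    rw [hd, mv_smul] at e1
    have e2 : q * q = 1 := by rw [hp0, mul_zero, zero_add] at hn; exact hn
    rw [← one_smul F (mv T E.b), ← e2, ← smul_smul, e1, smul_neg, neg_smul]
  rcases h3 q with e | e | e
  · exact absurd e hq0
  · left
    refine E.ext4 hf (by rw [hx, E.Rx hf]) (by rw [hy, E.Ry hf]) (by rw [hd, e, one_smul, E.Ra hf]) ?_
    rw [hTb, e, neg_one_smul, E.Rb hf]
  · right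
    refine E.ext4 hf ?_ ?_ (by rw [hd, e, neg_one_smul, E.Rinv_a hf]) (by rw [hTb, e, neg_neg, one_smul, E.Rinv_b hf])
    · rw [hx, eq_comm, mv_eq_iff, inv_inv, E.Rx hf]
    · rw [hy, eq_comm, mv_eq_iff, inv_inv, E.Ry hf]

end Std

variable {Q : ((J → Fin k) → F) → F} {X : Subgroup (GL (J → Fin k) F)}

namespace Ctx

variable (C : Ctx f Q κ X) (hJ : 2 ≤ Fintype.card J) (hX : ¬ Geo.omegaGL Q ≤ X) (B : Base f Q κ) (IH : Ind f κ J)
include C hJ hX B IH

/-- Conjugates of maps of one slot that are one on an eigenspace. -/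
theorem eig_conj (h4 : k = 4) {v : GL (J → Fin k) F} (hv : v ∈ X) {i : J} {A M : GL (Fin k) F} (hA : A * A = 1)
    (hcomm : v * fac i A = fac i A * v) (hMX : fac i M ∈ X) (hM : ∀ w, mv A w = w → mv M w = w)
    {p q : Fin k → F} (hp : f p p ≠ 0) (hq : f q q ≠ 0) (hpq : f p q = 0) (hAp : mv A p = p) (hAq : mv A q = q) :
    ∃ T, v * fac i M * v⁻¹ = fac i T ∧ (∀ u w, f (mv T u) (mv T w) = f u w) ∧ mv T p = p ∧ mv T q = q := by
  have hf := C.hf
  set u := v * fac i M * v⁻¹
  have huX : u ∈ X := X.mul_mem (X.mul_mem hv hMX) (X.inv_mem hv)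
  have hfix : ∀ w, mv A w = w → ∀ r, mv u (ins i w r) = ins i w r := fun w hw r => by
    rw [mv_mul, mv_mul, fix_eig C.two i hA hM (z := mv v⁻¹ (ins i w r)) ?_, mv_mv_inv]
    rw [← mv_mul, show fac i A * v⁻¹ = v⁻¹ * fac i A from
      (show Commute v (fac i A) from hcomm).inv_left.symm.eq, mv_mul, mv_fac_ins, hw]
  obtain ⟨T, hT, hTp, hTi⟩ := fix_line_mono C.toSl (C.plane_group hJ hX B IH h4 huX hp hq hpq (hfix p hAp)
    (hfix q hAq)) (C.pres (C.iso huX)) (fun e => hp (by rw [e, hf.zero_left])) (hfix p hAp)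
  obtain ⟨u₀, hu₀⟩ := rest_vec_ne (F := F) (k := k) (by omega) i
  have := hfix q hAq u₀
  rw [hT, mv_fac_ins] at this
  exact ⟨T, hT, hTi, hTp, ins_vec_inj hu₀ this⟩

/-- A member commuting with the involution of the hyperbolic plane conjugates the rotation to itself or its inverse. -/
theorem rot_conj (h4 : k = 4) (E : Std f) {v : GL (J → Fin k) F} (hv : v ∈ X) {i : J}
    (hcomm : v * fac i (E.D C.hf) = fac i (E.D C.hf) * v) :
    v * fac i (E.R C.hf) * v⁻¹ = fac i (E.R C.hf) ∨ v * fac i (E.R C.hf) * v⁻¹ = fac i (E.R C.hf)⁻¹ := by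
  have hf := C.hf
  have hk : 0 < k := by omega
  have hD2 : -E.D hf * -E.D hf = 1 := by rw [neg_mul_neg, E.D_sq hf]
  obtain ⟨T, hT, hTi, hTx, hTy⟩ := C.eig_conj hJ hX B IH h4 hv (A := -E.D hf) (M := E.R hf) hD2
    (by rw [fac_neg, mul_neg, neg_mul, hcomm]) (C.mm i _ _ (E.apb hf) E.a0) (fun w hw => by
      rw [mv_neg_gl, neg_eq_iff_eq_neg] at hw
      have h := E.dec w
      have ha : f w E.a = 0 := by
        have e := congrArg (fun z => f z E.a) hw
        rw [E.dec w] at e
        simp only [mv_add, mv_sub, mv_smul, E.Dx hf, E.Dy hf, E.Da hf, E.Db hf, hf.add_left, hf.sub_left,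
          hf.neg_left, hf.smul_left, E.xa, E.ya, E.aa, E.ba hf] at e
        exact (mul_eq_zero.1 (by linear_combination e : (2 : F) * f w E.a = 0)).resolve_left E.two
      have hb : f w E.b = 0 := by
        have e := congrArg (fun z => f z E.b) hw
        rw [E.dec w] at e
        simp only [mv_add, mv_sub, mv_smul, E.Dx hf, E.Dy hf, E.Da hf, E.Db hf, hf.add_left, hf.sub_left,
          hf.neg_left, hf.smul_left, E.xb, E.yb, E.ab, E.bb] at e
        exact (mul_eq_zero.1 (by linear_combination e : (2 : F) * f w E.b = 0)).resolve_left E.two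
      rw [ha, hb, zero_smul, zero_smul, add_zero, add_zero] at h
      rw [h, mv_sub, mv_smul, mv_smul, E.Rx hf, E.Ry hf])
    E.x0 E.y0 E.xy (by rw [mv_neg_gl, E.Dx hf, neg_neg]) (by rw [mv_neg_gl, E.Dy hf, neg_neg])
  have hTT : T * T = -E.D hf := fac_inj hk i (by
    rw [fac_mul, ← hT, show v * fac i (E.R hf) * v⁻¹ * (v * fac i (E.R hf) * v⁻¹) =
      v * (fac i (E.R hf) * fac i (E.R hf)) * v⁻¹ by group, ← fac_mul, E.R_sq hf, fac_neg, mul_neg, neg_mul, hcomm,
      mul_inv_cancel_right])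
  rw [hT]
  rcases E.R_inv_of hf hTi hTx hTy hTT with e | e <;> rw [e]
  · exact Or.inl rfl
  · exact Or.inr rfl

/-- Lines of eigenvectors go to lines, for at least three slots. -/
theorem mir_map (h4 : k = 4) (hJ3 : 3 ≤ Fintype.card J) {v : GL (J → Fin k) F} (hv : v ∈ X) {i : J}
    {A : GL (Fin k) F} (hA : A * A = 1) (hcomm : v * fac i A = fac i A * v) {w p q : Fin k → F}
    (hw : f w w ≠ 0) (hAw : ∀ z, mv A z = z → f z w = 0)
    (hp : f p p ≠ 0) (hq : f q q ≠ 0) (hpq : f p q = 0) (hAp : mv A p = p) (hAq : mv A q = q) :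
    ∃ w', (Ln i w).map (mvLin v) = Ln i w' := by
  have hf := C.hf
  have hk : 0 < k := by omega
  have hw0 : w ≠ 0 := fun e => hw (by rw [e, hf.zero_left])
  have hMX : fac i (mr hf w) ∈ X := C.mir hJ3 i w hw
  -- the mirror negated
  have hfix : ∀ z, mv A z = z → ∀ r, mv (v * fac i (mr hf w) * v⁻¹) (ins i z r) = -ins i z r := fun z hz r => by
    rw [mv_mul, mv_mul]
    have h := fix_eig C.two i hA (T := -mr hf w) (fun z' hz' => by
      rw [mv_neg_gl, mr_perp hf hw (hAw z' hz'), neg_neg]) (z := mv v⁻¹ (ins i z r)) (by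
      rw [← mv_mul, show fac i A * v⁻¹ = v⁻¹ * fac i A from
        (show Commute v (fac i A) from hcomm).inv_left.symm.eq, mv_mul, mv_fac_ins, hz])
    rw [fac_neg, mv_neg_gl, neg_eq_iff_eq_neg] at h
    rw [h, mv_neg, mv_mv_inv]
  set u := fac i (mr hf w) * (v * fac i (mr hf w) * v⁻¹)
  have huX : u ∈ X := X.mul_mem hMX (X.mul_mem (X.mul_mem hv hMX) (X.inv_mem hv))
  have hufix : ∀ z, mv A z = z → ∀ r, mv u (ins i z r) = ins i z r := fun z hz r => by
    rw [mv_mul, hfix z hz, mv_neg, mv_fac_ins, mr_perp hf hw (hAw z hz), ← neg_one_smul F z, ins_smul_vec,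
      neg_one_smul, neg_neg]
  obtain ⟨T, hT, -, -⟩ := fix_line_mono C.toSl (C.plane_group hJ hX B IH h4 huX hp hq hpq (hufix p hAp)
    (hufix q hAq)) (C.pres (C.iso huX)) (fun e => hp (by rw [e, hf.zero_left])) (hufix p hAp)
  have hconj : v * fac i (mr hf w) * v⁻¹ = fac i (mr hf w * T) := by
    rw [fac_mul, ← hT, ← mul_assoc (fac i (mr hf w)), ← fac_mul, mr_sq hf hw, fac_one, one_mul]
  have hfw : fixsp (mr hf w) = Submodule.span F {w} := by
    refine le_antisymm (fun z hz => ?_) ((Submodule.span_singleton_le_iff_mem _ _).2 (mem_fixsp.2 (mr_self hf hw)))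
    rw [mem_fixsp, mv_mr hf hw] at hz
    refine Submodule.mem_span_singleton.2 ⟨f z w / f w w, smul_right_injective _ C.two ?_⟩
    show (2 : F) • (f z w / f w w) • w = (2 : F) • z
    rw [smul_smul, ← mul_div_assoc]
    linear_combination (norm := module) hz
  have hdim : Module.finrank F (fixsp (mr hf w * T)) = 1 := by
    have := finrank_fixsp_conj v (fac i (mr hf w))
    rw [hconj, finrank_fixsp_fac, finrank_fixsp_fac, hfw, finrank_span_singleton hw0] at this
    haveI hne : NeZero k := ⟨by omega⟩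
    exact Nat.eq_of_mul_eq_mul_left Fintype.card_pos this
  obtain ⟨w', hw'm, hw'0⟩ := Submodule.exists_mem_ne_zero_of_ne_bot (C.toSl.ne_bot_of (P := fixsp (mr hf w * T))
    (by omega))
  refine ⟨w', Submodule.eq_of_le_of_finrank_le (fun z hz => ?_)
    (by rw [finrank_map_gl, finrank_Ln i hw0, finrank_Ln i hw'0])⟩
  have hle : Ln i w' ≤ fixsp (fac i (mr hf w * T)) := fun z hz => by
    obtain ⟨r, rfl⟩ := mem_Ln_ins hz
    rw [mem_fixsp, mv_fac_ins, mem_fixsp.1 hw'm]
  rw [Submodule.eq_of_le_of_finrank_le hle (by rw [finrank_fixsp_fac, hdim, mul_one, finrank_Ln i hw'0]), mem_fixsp,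
    ← hconj]
  obtain ⟨z', hz', rfl⟩ := mem_map_gl.1 hz
  obtain ⟨r, rfl⟩ := mem_Ln_ins hz'
  rw [mv_mul, mv_mul, mv_inv_mv, mv_fac_ins, mr_self hf hw]

/-- Centralisers of hyperbolic plane involutions, three elements and at least three slots. -/
theorem cent_three (h4 : k = 4) (hJ3 : 3 ≤ Fintype.card J) (E : Std f) {v : GL (J → Fin k) F} (hv : v ∈ X) {i : J}
    (hcomm : v * fac i (E.D C.hf) = fac i (E.D C.hf) * v) : Mono v := by
  subst h4
  have hf := C.hf
  have hD2 : -E.D hf * -E.D hf = 1 := by rw [neg_mul_neg, E.D_sq hf]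
  have hc' : v * fac i (-E.D hf) = fac i (-E.D hf) * v := by rw [fac_neg, mul_neg, neg_mul, hcomm]
  have hP : ∀ z, mv (-E.D hf) z = z → f z E.a = 0 ∧ f z E.b = 0 := fun z hz => by
    rw [mv_neg_gl, neg_eq_iff_eq_neg] at hz
    have hR : ∀ w, mv (E.D hf) w = w → f z w = 0 := fun w hw => by
      rw [hf.comm']
      exact C.toSl.eig_orth (C.toSl.isPl_mr E.x0 E.y0 E.xy).1 hw hz
    exact ⟨hR _ (E.Da hf), hR _ (E.Db hf)⟩
  have hl : ∀ c : Fin 4, ∃ w', (Ln i (![E.x, E.y, E.a, E.b] c)).map (mvLin v) = Ln i w' := fun c => by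
    fin_cases c
    · exact C.mir_map hJ hX B IH rfl hJ3 hv (E.D_sq hf) hcomm E.x0 (fun z hz => (E.D_fix hf hz).1) E.a0 E.b0 E.ab
        (E.Da hf) (E.Db hf)
    · exact C.mir_map hJ hX B IH rfl hJ3 hv (E.D_sq hf) hcomm E.y0 (fun z hz => (E.D_fix hf hz).2) E.a0 E.b0 E.ab
        (E.Da hf) (E.Db hf)
    · exact C.mir_map hJ hX B IH rfl hJ3 hv hD2 hc' E.a0 (fun z hz => (hP z hz).1) E.x0 E.y0 E.xy
        (by rw [mv_neg_gl, E.Dx hf, neg_neg]) (by rw [mv_neg_gl, E.Dy hf, neg_neg])
    · exact C.mir_map hJ hX B IH rfl hJ3 hv hD2 hc' E.b0 (fun z hz => (hP z hz).2) E.x0 E.y0 E.xy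
        (by rw [mv_neg_gl, E.Dx hf, neg_neg]) (by rw [mv_neg_gl, E.Dy hf, neg_neg])
  choose w' hw' using hl
  refine C.frame_mono hJ hX B IH hv (i := i) (l := i) (y := ![E.x, E.y, E.a, E.b]) (y' := w') (fun c d hcd => ?_)
    (fun c => ?_) hw'
  · fin_cases c <;> fin_cases d <;>
      first
      | exact absurd rfl hcd
      | exact E.xy | exact E.xa | exact E.xb | exact E.ya | exact E.yb | exact E.ab
      | exact E.yx hf | exact E.ax hf | exact E.bx hf | exact E.ay hf | exact E.by' hf | exact E.ba hf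
  · fin_cases c
    · exact E.x0
    · exact E.y0
    · exact E.a0
    · exact E.b0

end Ctx

end Cfsg.Agent.OrthEvenWreath
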