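/-
Tensor powers of a symmetric form of dimension four over three elements: coordinates, counts of null vectors, orbits.
-/
import Cfsg.Agent.Lib.OrthWreathEven.FourThree
import Mathlib.LinearAlgebra.Matrix.GeneralLinearGroup.Card

set_option autoImplicit false
set_option linter.unusedSectionVars false

namespace Cfsg.Agent.OrthEvenWreath

open scoped Matrix
open Matrix Cfsg.Agent.Transvec Cfsg.Agent.TensorMax Cfsg.Agent.WreathMax
open Cfsg.Agent.FormWreath hiding up mv_up_ins
open Cfsg.Agent.OrthWreath hiding Sl Ctx Base Ind Inv Gd fixsp_mir small_mir split_sim rho_omega fix_line_mono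
  exists_noncomm

section Groups

/-- When all stabilisers coincide their index divides the number of points. -/
theorem orbit_dvd {G α : Type*} [Group G] [MulAction G α] [Finite α] (H : Subgroup G)
    (h : ∀ a : α, MulAction.stabilizer G a = H) : H.index ∣ Nat.card α := by
  classical
  have e := MulAction.selfEquivSigmaOrbitsQuotientStabilizer G α
  haveI : Fintype (MulAction.orbitRel.Quotient G α) := Fintype.ofFinite _
  haveI : ∀ ω : MulAction.orbitRel.Quotient G α, Finite (G ⧸ MulAction.stabilizer G ω.out) := fun ω =>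
    Finite.of_equiv _ (MulAction.orbitEquivQuotientStabilizer G ω.out)
  rw [Nat.card_congr e, Nat.card_sigma]
  exact Finset.dvd_sum fun ω _ => by rw [h, Subgroup.index]

/-- A group fixing one point and semiregular on the others. -/
theorem semireg_dvd {G α : Type*} [Group G] [MulAction G α] [Finite α] (o : α) (ho : ∀ g : G, g • o = o)
    (h : ∀ a, a ≠ o → ∀ g : G, g • a = a → g = 1) : Nat.card G ∣ Nat.card α - 1 := by
  classical
  haveI : Fintype α := Fintype.ofFinite α
  let S : SubMulAction G α :=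
    { carrier := {a | a ≠ o}
      smul_mem' := fun g a ha e => ha (smul_left_cancel g (e.trans (ho g).symm)) }
  have h1 := orbit_dvd (α := S) (⊥ : Subgroup G) fun a => by
    refine le_antisymm (fun g hg => Subgroup.mem_bot.2 (h a.1 a.2 g ?_)) bot_le
    exact congrArg Subtype.val (MulAction.mem_stabilizer_iff.1 hg)
  rw [Subgroup.index_bot] at h1
  have h2 : Nat.card S = Nat.card α - 1 := by
    show Nat.card {a : α // a ≠ o} = _
    simp [Nat.card_eq_fintype_card, Fintype.card_subtype_compl]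
  rwa [h2] at h1

/-- When five divides the order only once, subgroups of order five are conjugate. -/
theorem conj_five {G : Type*} [Group G] [Finite G] (h : ¬ 25 ∣ Nat.card G) {a b : G} (ha : a ^ 5 = 1) (ha1 : a ≠ 1)
    (hb : b ^ 5 = 1) : ∃ (g : G) (n : ℕ), g * b * g⁻¹ = a ^ n := by
  haveI : Fact (Nat.Prime 5) := ⟨by norm_num⟩
  have hpg : ∀ c : G, c ^ 5 = 1 → IsPGroup 5 (Subgroup.zpowers c) := fun c hc => by
    rintro ⟨_, n, rfl⟩
    refine ⟨1, Subtype.ext ?_⟩
    show (c ^ n) ^ (5 ^ 1) = 1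
    rw [pow_one, ← zpow_natCast, ← _root_.zpow_mul, mul_comm, _root_.zpow_mul, zpow_natCast, hc, _root_.one_zpow]
  obtain ⟨P, hP⟩ := (hpg a ha).exists_le_sylow
  obtain ⟨P', hP'⟩ := (hpg b hb).exists_le_sylow
  have hcP : Nat.card (P : Subgroup G) ≤ Nat.card (Subgroup.zpowers a) := by
    rw [Nat.card_zpowers, orderOf_eq_prime ha ha1]
    obtain ⟨j, hj⟩ := IsPGroup.iff_card.1 P.2
    rw [hj]
    by_contra hc
    refine h (dvd_trans ?_ (hj ▸ Subgroup.card_subgroup_dvd_card (P : Subgroup G)))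
    have : 2 ≤ j := by
      by_contra hj2
      interval_cases j <;> simp_all
    exact dvd_trans (by norm_num) (pow_dvd_pow 5 this)
  have hPa : Subgroup.zpowers a = (P : Subgroup G) := Subgroup.eq_of_le_of_card_ge hP hcP
  obtain ⟨g, hg⟩ := MulAction.exists_smul_eq G P' P
  have hm : g * b * g⁻¹ ∈ (P : Subgroup G) := by
    rw [← hg, Sylow.coe_subgroup_smul]
    exact Subgroup.smul_mem_pointwise_smul b (MulAut.conj g) _ (hP' (Subgroup.mem_zpowers b))
  rw [← hPa] at hm
  obtain ⟨n, hn⟩ := mem_powers_iff_mem_zpowers.2 hm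
  exact ⟨g, n, hn.symm⟩

end Groups

section Quad

/-- The standard quadratic form of minus type in four coordinates. -/
def q4 (u : Fin 4 → ZMod 3) : ZMod 3 := u 0 * u 0 - u 1 * u 1 + u 2 * u 2 + u 3 * u 3

set_option maxRecDepth 100000 in
theorem q4_count : ∀ c : ZMod 3, Fintype.card {u : Fin 4 → ZMod 3 // q4 u = c} = if c = 0 then 21 else 30 := by
  decide +kernel

set_option maxRecDepth 100000 in
theorem q4_sum : (∑ u : Fin 4 → ZMod 3, if -q4 u = 0 then 21 else 30) = 2241 := by
  decide +kernel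

theorem q4_pairs : Nat.card {p : (Fin 4 → ZMod 3) × (Fin 4 → ZMod 3) // q4 p.1 + q4 p.2 = 0} = 2241 := by
  let e : {p : (Fin 4 → ZMod 3) × (Fin 4 → ZMod 3) // q4 p.1 + q4 p.2 = 0} ≃
      (u : Fin 4 → ZMod 3) × {v : Fin 4 → ZMod 3 // q4 v = -q4 u} :=
    { toFun := fun p => ⟨p.1.1, p.1.2, eq_neg_of_add_eq_zero_right p.2⟩
      invFun := fun s => ⟨(s.1, s.2.1), by rw [s.2.2, add_neg_cancel]⟩
      left_inv := fun p => rfl
      right_inv := fun s => rfl }
  rw [Nat.card_congr e, Nat.card_eq_fintype_card, Fintype.card_sigma]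
  simp only [q4_count]
  exact q4_sum

/-- Ten null lines. -/
def line10 : Fin 10 → Fin 4 → ZMod 3 :=
  ![![1, 1, 0, 0], ![2, 1, 0, 0], ![0, 1, 1, 0], ![0, 1, 2, 0], ![0, 1, 0, 1], ![0, 1, 0, 2], ![1, 0, 1, 1],
    ![1, 0, 1, 2], ![1, 0, 2, 1], ![1, 0, 2, 2]]

theorem line10_null : ∀ j, q4 (line10 j) = 0 ∧ line10 j ≠ 0 := by decide +kernel

theorem line10_inj : ∀ (j l : Fin 10) (r : ZMod 3), line10 j = r • line10 l → j = l := by decide +kernel

end Quad

variable {F : Type*} [Field F] [Finite F] {k : ℕ} {J : Type} [Fintype J] [DecidableEq J]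
variable {f : (Fin k → F) → (Fin k → F) → F}

/-- The numbers in the field of three elements. -/
theorem exists_iso3 (h : Nat.card F = 3) : Nonempty (ZMod 3 ≃+* F) := by
  haveI : Fintype F := Fintype.ofFinite F
  rw [Nat.card_eq_fintype_card] at h
  exact ⟨ZMod.ringEquivOfPrime F (by norm_num) h⟩

namespace Std

variable (E : Std f) (hf : Sym f)
include E hf

/-- Coordinates in a standard frame. -/
theorem exists_coord : ∃ ψ : (Fin 4 → ZMod 3) ≃ (Fin k → F), ∃ φ : ZMod 3 ≃+* F,
    (∀ u, f (ψ u) (ψ u) = φ (q4 u)) ∧ ψ 0 = 0 ∧ ∀ (r : ZMod 3) u, ψ (r • u) = φ r • ψ u := by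
  obtain ⟨φ⟩ := exists_iso3 E.three
  let g : (Fin 4 → ZMod 3) → Fin k → F := fun u =>
    φ (u 0) • E.x + φ (u 1) • E.y + φ (u 2) • E.a + φ (u 3) • E.b
  have hx : ∀ u, f (g u) E.x = φ (u 0) := fun u => by
    simp [g, hf.add_left, hf.smul_left, E.xx, E.yx hf, E.ax hf, E.bx hf]
  have hy : ∀ u, f (g u) E.y = -φ (u 1) := fun u => by
    simp [g, hf.add_left, hf.smul_left, E.xy, E.yy, E.ay hf, E.by' hf]
  have ha : ∀ u, f (g u) E.a = φ (u 2) := fun u => by
    simp [g, hf.add_left, hf.smul_left, E.xa, E.ya, E.aa, E.ba hf]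
  have hb : ∀ u, f (g u) E.b = φ (u 3) := fun u => by
    simp [g, hf.add_left, hf.smul_left, E.xb, E.yb, E.ab, E.bb]
  have hbij : Function.Bijective g := by
    refine ⟨fun u v e => funext fun c => ?_, fun v => ⟨fun c => φ.symm (![f v E.x, -f v E.y, f v E.a, f v E.b] c), ?_⟩⟩
    · match c with
      | 0 => exact φ.injective (by rw [← hx, e, hx])
      | 1 => exact φ.injective (neg_injective (by rw [← hy, e, hy]))
      | 2 => exact φ.injective (by rw [← ha, e, ha])
      | 3 => exact φ.injective (by rw [← hb, e, hb])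
    · conv_rhs => rw [E.dec v]
      simp [g, sub_eq_add_neg]
  refine ⟨Equiv.ofBijective g hbij, φ, fun u => ?_, ?_, fun r u => ?_⟩
  · show f (g u) (g u) = _
    nth_rw 2 [show g u = φ (u 0) • E.x + φ (u 1) • E.y + φ (u 2) • E.a + φ (u 3) • E.b from rfl]
    simp only [hf.add_right, hf.smul_right', hx, hy, ha, hb, q4, map_add, map_sub, map_mul]
    ring
  · show g 0 = 0
    simp [g]
  · show g (r • u) = φ r • g u
    simp [g, smul_add, smul_smul]

/-- The number of nonzero null pairs. -/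
theorem null_pairs : Nat.card {p : (Fin k → F) × (Fin k → F) // p ≠ 0 ∧ f p.1 p.1 + f p.2 p.2 = 0} = 2240 := by
  classical
  haveI : Fintype F := Fintype.ofFinite F
  obtain ⟨ψ, φ, hq, h0, -⟩ := E.exists_coord hf
  let e : {p : (Fin 4 → ZMod 3) × (Fin 4 → ZMod 3) // q4 p.1 + q4 p.2 = 0} ≃
      {p : (Fin k → F) × (Fin k → F) // f p.1 p.1 + f p.2 p.2 = 0} :=
    Equiv.subtypeEquiv (ψ.prodCongr ψ) fun p => by
      simp only [Equiv.prodCongr_apply, Prod.map_fst, Prod.map_snd, hq, ← map_add]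
      exact ⟨fun h => by rw [h, map_zero], fun h => φ.injective (h.trans (map_zero φ).symm)⟩
  have h1 : Nat.card {p : (Fin k → F) × (Fin k → F) // f p.1 p.1 + f p.2 p.2 = 0} = 2241 := by
    rw [← Nat.card_congr e, q4_pairs]
  have h2 : ({p : (Fin k → F) × (Fin k → F) | p ≠ 0 ∧ f p.1 p.1 + f p.2 p.2 = 0}) =
      {p | f p.1 p.1 + f p.2 p.2 = 0} \ {0} := by
    ext p; simp [and_comm]
  show Nat.card ({p : (Fin k → F) × (Fin k → F) | p ≠ 0 ∧ f p.1 p.1 + f p.2 p.2 = 0} : Set _) = 2240
  rw [h2, Nat.card_coe_set_eq, Set.ncard_sdiff_singleton_of_mem (by simp [hf.zero_left]), ← Nat.card_coe_set_eq]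
  exact (congrArg (· - 1) h1).trans rfl

end Std

/-- No element of order twenty-five in dimension four. -/
theorem gl_four_five (h4 : k = 4) (h3 : Nat.card F = 3) : ¬ 25 ∣ Nat.card (GL (Fin k) F) := by
  subst h4
  haveI : Fintype F := Fintype.ofFinite F
  rw [Matrix.card_GL_field, ← Nat.card_eq_fintype_card, h3]
  simp [Fin.prod_univ_four]

/-- No element of order nineteen in dimension sixteen. -/
theorem gl_sixteen (h3 : Nat.card F = 3) {ι : Type} [Fintype ι] [DecidableEq ι] (hι : Fintype.card ι = 16) :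
    ¬ 19 ∣ Nat.card (GL ι F) := by
  haveI : Fintype F := Fintype.ofFinite F
  rw [Nat.card_congr (Geo.glReindex (F := F) (Fintype.equivFinOfCardEq hι)).toEquiv, Matrix.card_GL_field,
    ← Nat.card_eq_fintype_card, h3, (Nat.prime_iff.1 (by norm_num : Nat.Prime 19)).dvd_finset_prod_iff]
  rintro ⟨c, -, hc⟩
  fin_cases c <;> norm_num at hc

end Cfsg.Agent.OrthEvenWreath
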