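/-
Tensor powers of a symmetric form of dimension four over three elements: five vectors summing to zero, a five-cycle.
-/
import Cfsg.Agent.Lib.OrthWreathEven.FourThree

set_option autoImplicit false
set_option linter.unusedSectionVars false

namespace Cfsg.Agent.OrthEvenWreath

open scoped Matrix
open Matrix Cfsg.Agent.Transvec Cfsg.Agent.TensorMax Cfsg.Agent.WreathMax
open Cfsg.Agent.FormWreath hiding up mv_up_ins
open Cfsg.Agent.OrthWreath hiding Sl Ctx Base Ind Inv Gd fixsp_mir small_mir split_sim rho_omega fix_line_mono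
  exists_noncomm
open Cfsg.Agent.UWreath (mono_mul mono_inv)

variable {F : Type*} [Field F] [Finite F] {k : ℕ} {J : Type} [Fintype J] [DecidableEq J]
variable {f : (Fin k → F) → (Fin k → F) → F} {κ : F}

local notation "σ₁" => RingEquiv.refl F

namespace Std

variable (E : Std f)
include E

/-- Five vectors of value minus one with mutual values one. -/
noncomputable def v5 : Fin 5 → Fin k → F :=
  ![E.y, E.x - E.y + E.a + E.b, E.x - E.y - E.a - E.b, -E.x - E.y + E.a - E.b, -E.x - E.y - E.a + E.b]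

variable (hf : Sym f)
include hf

theorem v5_gram (j l : Fin 5) : f (E.v5 j) (E.v5 l) = if j = l then -1 else 1 := by
  have h30 := three_zero E.three
  fin_cases j <;> fin_cases l <;>
    simp [v5, hf.add_left, hf.add_right, hf.sub_left, hf.sub_right, hf.neg_left, hf.neg_right, E.xx, E.yy, E.aa, E.bb,
      E.xy, E.xa, E.xb, E.ya, E.yb, E.ab, E.yx hf, E.ax hf, E.bx hf, E.ay hf, E.by' hf, E.ba hf] <;>
    first
    | linear_combination h30
    | linear_combination -h30
    | ring1

theorem v5_sum (l : Fin 5) : E.v5 l + E.v5 (l + 1) + E.v5 (l + 2) + E.v5 (l + 3) + E.v5 (l + 4) = 0 := by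
  have h30 := three_zero E.three
  have e : (-3 : F) • E.y = 0 := by rw [h30, neg_zero, zero_smul]
  fin_cases l <;> (simp [v5]; linear_combination (norm := module) e)

theorem ext5 {L L' : (Fin k → F) →ₗ[F] Fin k → F} (h : ∀ l, L (E.v5 l) = L' (E.v5 l)) : L = L' := by
  have h2 := E.two
  have hy : L E.y = L' E.y := h 0
  have key : ∀ (s : Fin k → F) (p q : Fin 5), (2 : F) • s = E.v5 p + E.v5 q + (2 : F) • E.y → L s = L' s :=
    fun s p q hs => smul_right_injective (Fin k → F) h2 (by
      show (2 : F) • L s = (2 : F) • L' s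
      rw [← map_smul, ← map_smul, hs, map_add, map_add, map_add, map_add, h, h, map_smul, map_smul, hy])
  have hx := key E.x 1 2 (by simp [v5]; module)
  have ha := key E.a 1 3 (by simp [v5]; module)
  have hb := key E.b 1 4 (by simp [v5]; module)
  refine LinearMap.ext fun v => ?_
  rw [E.dec v]
  simp only [map_add, map_sub, map_smul, hx, ha, hb, hy]

theorem ext5_gl {T T' : GL (Fin k) F} (h : ∀ l, mv T (E.v5 l) = mv T' (E.v5 l)) : T = T' :=
  ext_mv fun v => LinearMap.congr_fun (E.ext5 hf (L := mvLin T) (L' := mvLin T') h) v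

theorem v5_diff {p q : Fin 5} (hpq : p ≠ q) : f (E.v5 p - E.v5 q) (E.v5 p - E.v5 q) ≠ 0 := by
  simp only [hf.sub_left, hf.sub_right, E.v5_gram hf, if_pos, if_neg hpq, if_neg hpq.symm]
  intro e
  exact E.two (by linear_combination e + 2 * three_zero E.three)

/-- The negative of a transposition. -/
noncomputable def tr (p q : Fin 5) : GL (Fin k) F := mr hf (E.v5 p - E.v5 q)

theorem tr_apply {p q : Fin 5} (hpq : p ≠ q) (l : Fin 5) :
    mv (E.tr hf p q) (E.v5 l) = -E.v5 (Equiv.swap p q l) := by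
  have h30 := three_zero E.three
  have hd := E.v5_diff hf hpq
  have h2 := E.two
  rcases eq_or_ne l p with rfl | hlp
  · rw [Equiv.swap_apply_left, tr, mv_mr hf hd]
    simp only [hf.sub_left, hf.sub_right, E.v5_gram hf, if_pos, if_neg hpq, if_neg hpq.symm] at hd ⊢
    match_scalars <;> field_simp <;> first | ring1 | linear_combination h30 | linear_combination -h30
  rcases eq_or_ne l q with rfl | hlq
  · rw [Equiv.swap_apply_right, tr, mv_mr hf hd]
    simp only [hf.sub_left, hf.sub_right, E.v5_gram hf, if_pos, if_neg hpq, if_neg hpq.symm] at hd ⊢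
    match_scalars <;> field_simp <;> first | ring1 | linear_combination h30 | linear_combination -h30
  rw [Equiv.swap_apply_of_ne_of_ne hlp hlq, tr,
    mr_perp hf hd (by rw [hf.sub_right, E.v5_gram hf, E.v5_gram hf, if_neg hlp, if_neg hlq, sub_self])]

theorem tr_isom {p q : Fin 5} (hpq : p ≠ q) (u v : Fin k → F) :
    f (mv (E.tr hf p q) u) (mv (E.tr hf p q) v) = f u v := mr_isom hf (E.v5_diff hf hpq) u v

/-- A five-cycle. -/
noncomputable def Z : GL (Fin k) F := E.tr hf 0 1 * E.tr hf 1 2 * (E.tr hf 2 3 * E.tr hf 3 4)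

/-- The negative of a four-cycle normalising the five-cycle. -/
noncomputable def B : GL (Fin k) F := E.tr hf 1 2 * (E.tr hf 2 4 * E.tr hf 4 3)

theorem Z_apply (l : Fin 5) : mv (E.Z hf) (E.v5 l) = E.v5 (l + 1) := by
  simp only [Z, mv_mul, mv_neg, E.tr_apply hf (show (0 : Fin 5) ≠ 1 by decide),
    E.tr_apply hf (show (1 : Fin 5) ≠ 2 by decide), E.tr_apply hf (show (2 : Fin 5) ≠ 3 by decide),
    E.tr_apply hf (show (3 : Fin 5) ≠ 4 by decide), neg_neg]
  congr 1
  revert l; decide

theorem B_apply (l : Fin 5) : mv (E.B hf) (E.v5 l) = -E.v5 (l + l) := by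
  simp only [B, mv_mul, mv_neg, E.tr_apply hf (show (1 : Fin 5) ≠ 2 by decide),
    E.tr_apply hf (show (2 : Fin 5) ≠ 4 by decide), E.tr_apply hf (show (4 : Fin 5) ≠ 3 by decide), neg_neg]
  congr 2
  revert l; decide

theorem Z_isom (u v : Fin k → F) : f (mv (E.Z hf) u) (mv (E.Z hf) v) = f u v := by
  simp only [Z, mv_mul]
  rw [E.tr_isom hf (by decide), E.tr_isom hf (by decide), E.tr_isom hf (by decide), E.tr_isom hf (by decide)]

theorem Z_five : E.Z hf ^ 5 = 1 := E.ext5_gl hf fun l => by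
  simp only [pow_succ, pow_zero, one_mul, mv_mul, E.Z_apply hf, mv_one]
  congr 1
  revert l; decide

theorem Z_inv_apply (l : Fin 5) : mv (E.Z hf)⁻¹ (E.v5 l) = E.v5 (l + 4) := by
  rw [mv_eq_iff, inv_inv, E.Z_apply hf]
  congr 1
  revert l; decide

theorem Z_ne : E.Z hf ≠ 1 := fun h => by
  have e := E.Z_apply hf 0
  rw [h, mv_one] at e
  have := congrArg (fun v => f v (E.v5 0)) e
  simp [E.v5_gram hf] at this
  exact E.two (by linear_combination -this)

theorem BZ : E.B hf * E.Z hf = E.Z hf ^ 2 * E.B hf := E.ext5_gl hf fun l => by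
  simp only [pow_two, mv_mul, E.Z_apply hf, E.B_apply hf, mv_neg]
  congr 2
  revert l; decide

/-- A root of minus one in the algebra of the five-cycle. -/
noncomputable def T5 : (Fin k → F) →ₗ[F] Fin k → F := mvLin (E.Z hf) + mvLin (E.Z hf)⁻¹ - LinearMap.id

theorem T5_apply (v : Fin k → F) : E.T5 hf v = mv (E.Z hf) v + mv (E.Z hf)⁻¹ v - v := rfl

theorem T5_sq (v : Fin k → F) : E.T5 hf (E.T5 hf v) = -v := by
  suffices E.T5 hf ∘ₗ E.T5 hf = -LinearMap.id from LinearMap.congr_fun this v
  refine E.ext5 hf fun l => ?_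
  show E.T5 hf (E.T5 hf (E.v5 l)) = -E.v5 l
  simp only [T5_apply, mv_add, mv_sub, E.Z_apply hf, E.Z_inv_apply hf]
  rw [show l + 1 + 1 = l + 2 by revert l; decide, show l + 1 + 4 = l by revert l; decide,
    show l + 4 + 1 = l by revert l; decide, show l + 4 + 4 = l + 3 by revert l; decide]
  have hs := E.v5_sum hf l
  have e : (3 : F) • (E.v5 l - E.v5 (l + 1) - E.v5 (l + 4)) = 0 := by rw [three_zero E.three, zero_smul]
  linear_combination (norm := module) hs + e

theorem T5_adj (u v : Fin k → F) : f (E.T5 hf u) v = f u (E.T5 hf v) := by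
  rw [T5_apply, T5_apply, hf.sub_left, hf.add_left, hf.sub_right, hf.add_right]
  rw [← E.Z_isom hf u (mv (E.Z hf)⁻¹ v), mv_mv_inv, ← E.Z_isom hf (mv (E.Z hf)⁻¹ u) v, mv_mv_inv]
  ring

end Std

variable {Q : ((J → Fin k) → F) → F} {X : Subgroup (GL (J → Fin k) F)}

namespace Ctx

variable (C : Ctx f Q κ X)
include C

theorem Z_mem (E : Std f) (b : J) : fac b (E.Z C.hf) ∈ X := by
  rw [Std.Z, fac_mul]
  exact X.mul_mem (C.mm b _ _ (E.v5_diff C.hf (by decide)) (E.v5_diff C.hf (by decide)))
    (C.mm b _ _ (E.v5_diff C.hf (by decide)) (E.v5_diff C.hf (by decide)))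

theorem B_mem (E : Std f) {i b : J} (hib : i ≠ b) : fac i (mr C.hf E.x) * fac b (E.B C.hf) ∈ X := by
  rw [Std.B, fac_mul, ← mul_assoc]
  exact X.mul_mem (C.pair i b _ _ hib E.x0 (E.v5_diff C.hf (by decide)))
    (C.mm b _ _ (E.v5_diff C.hf (by decide)) (E.v5_diff C.hf (by decide)))

end Ctx

end Cfsg.Agent.OrthEvenWreath
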