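/-
Tensor powers of a symmetric form of dimension four over three elements, two slots: the fixed space of a plane involution.
-/
import Cfsg.Agent.Lib.OrthWreathEven.FourFive
import Cfsg.Agent.Lib.OrthWreathEven.FourFus

set_option autoImplicit false
set_option linter.unusedSectionVars false

namespace Cfsg.Agent.OrthEvenWreath

open scoped Matrix
open Matrix Cfsg.Agent.Transvec Cfsg.Agent.TensorMax Cfsg.Agent.WreathMax
open Cfsg.Agent.FormWreath hiding up mv_up_ins
open Cfsg.Agent.OrthWreath hiding Sl Ctx Base Ind Inv Gd fixsp_mir small_mir split_sim rho_omega fix_line_mono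
  exists_noncomm
open Cfsg.Agent.UWreath (mono_mul mono_inv)

variable {F : Type*} [Field F] [Finite F] {k : ℕ} {J : Type} [Fintype J] [DecidableEq J]
variable {f : (Fin k → F) → (Fin k → F) → F} {κ : F}

local notation "σ₁" => RingEquiv.refl F

/-- A frame and two slots. -/
structure Two (f : (Fin k → F) → (Fin k → F) → F) (J : Type) [Fintype J] where
  E : Std f
  i : J
  m : J
  him : i ≠ m
  card2 : Fintype.card J = 2

namespace Two

variable (P : Two f J)
include P

omit [DecidableEq J] in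
theorem eq_i {j : J} (hj : j ≠ P.m) : j = P.i := by
  classical
  by_contra hc
  have h3 := Finset.card_le_univ ({P.i, P.m, j} : Finset J)
  rw [Finset.card_insert_of_notMem (by simp [P.him, Ne.symm hc]), Finset.card_pair (Ne.symm hj), P.card2] at h3
  omega

/-- A vector of the first slot. -/
def om (w : Fin k → F) : Rest P.m k → F := pten fun _ => w

theorem univ_m : (Finset.univ : Finset {j // j ≠ P.m}) = {⟨P.i, P.him⟩} :=
  Finset.eq_singleton_iff_unique_mem.2 ⟨Finset.mem_univ _, fun j _ => Subtype.ext (P.eq_i j.2)⟩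

theorem om_fac (T : GL (Fin k) F) (w : Fin k → F) :
    mv (fac (⟨P.i, P.him⟩ : {j // j ≠ P.m}) T) (P.om w) = P.om (mv T w) := by
  rw [om, om, mv_fac]
  refine congrArg pten (funext fun j => ?_)
  rw [show j = ⟨P.i, P.him⟩ from Subtype.ext (P.eq_i j.2), Function.update_self]

theorem om_smul (r : F) (w : Fin k → F) : P.om (r • w) = r • P.om w := by
  funext d
  simp only [om, pten, P.univ_m, Finset.prod_singleton, Pi.smul_apply, smul_eq_mul]

theorem om_neg (w : Fin k → F) : P.om (-w) = -P.om w := by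
  rw [← neg_one_smul F w, P.om_smul, neg_one_smul]

/-- The fixed space of the plane involution as pairs of vectors. -/
def io : (Fin k → F) × (Fin k → F) →ₗ[F] (J → Fin k) → F where
  toFun p := ins P.m p.1 (P.om P.E.a) + ins P.m p.2 (P.om P.E.b)
  map_add' p q := by rw [Prod.fst_add, Prod.snd_add, ins_add_vec, ins_add_vec]; abel
  map_smul' r p := by rw [Prod.smul_fst, Prod.smul_snd, ins_smul_vec, ins_smul_vec, RingHom.id_apply, smul_add]

theorem io_apply (p : (Fin k → F) × (Fin k → F)) :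
    P.io p = ins P.m p.1 (P.om P.E.a) + ins P.m p.2 (P.om P.E.b) := rfl

variable (hf : Sym f)
include hf

theorem Bt_om (w w' : Fin k → F) : Bt σ₁ f (P.om w) (P.om w') = f w w' := by
  rw [om, om, Bt_pten hf, P.univ_m, Finset.prod_singleton]

theorem Bt_io (p q : (Fin k → F) × (Fin k → F)) :
    Bt σ₁ f (P.io p) (P.io q) = f p.1 q.1 + f p.2 q.2 := by
  have hB := Bt_sym (J := J) hf
  simp only [io_apply, hB.add_left, hB.add_right, Bt_ins_ins hf, P.Bt_om hf, P.E.aa, P.E.bb, P.E.ab, P.E.ba hf]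
  ring

theorem io_inj : Function.Injective (P.io) := by
  refine (injective_iff_map_eq_zero _).2 fun p hp => ?_
  have h : ∀ q, f p.1 (Prod.fst q) + f p.2 (Prod.snd q) = 0 := fun q => by
    rw [← P.Bt_io hf, hp, (Bt_sym hf).zero_left]
  refine Prod.ext (hf.nondeg _ fun v => ?_) (hf.nondeg _ fun v => ?_)
  · have := h (v, 0); simpa [hf.zero_right] using this
  · have := h (0, v); simpa [hf.zero_right] using this

theorem fac_m_io (T : GL (Fin k) F) (p : (Fin k → F) × (Fin k → F)) :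
    mv (fac P.m T) (P.io p) = P.io (mv T p.1, mv T p.2) := by
  rw [io_apply, io_apply, mv_add, mv_fac_ins, mv_fac_ins]

theorem fac_i_io (T : GL (Fin k) F) (p : (Fin k → F) × (Fin k → F)) :
    mv (fac P.i T) (P.io p) = ins P.m p.1 (P.om (mv T P.E.a)) + ins P.m p.2 (P.om (mv T P.E.b)) := by
  rw [io_apply, mv_add, mv_fac_other P.him, mv_fac_other P.him, P.om_fac, P.om_fac]

theorem D_io (p : (Fin k → F) × (Fin k → F)) : mv (fac P.i (P.E.D hf)) (P.io p) = P.io p := by
  rw [P.fac_i_io hf, P.E.Da hf, P.E.Db hf, io_apply]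

theorem R_io (p : (Fin k → F) × (Fin k → F)) : mv (fac P.i (P.E.R hf)) (P.io p) = P.io (-p.2, p.1) := by
  rw [P.fac_i_io hf, P.E.Ra hf, P.E.Rb hf, P.om_neg, map_neg, io_apply, ← neg_one_smul F p.2, ins_smul_vec,
    neg_one_smul, add_comm]

variable (S : Sl f κ) (h4 : k = 4)
include S h4

theorem fix_iff {z : (J → Fin k) → F} : mv (fac P.i (P.E.D hf)) z = z ↔ ∃ p, P.io p = z := by
  refine ⟨fun hz => ?_, fun ⟨p, hp⟩ => by rw [← hp, P.D_io hf]⟩
  suffices e : LinearMap.range (P.io) = fixsp (fac P.i (P.E.D hf)) by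
    have : z ∈ LinearMap.range (P.io) := by rw [e]; exact mem_fixsp.2 hz
    exact this
  refine Submodule.eq_of_le_of_finrank_le (by rintro _ ⟨p, rfl⟩; exact mem_fixsp.2 (P.D_io hf p)) ?_
  rw [LinearMap.finrank_range_of_inj (P.io_inj hf), Module.finrank_prod, finrank_fixsp_fac,
    show Module.finrank F (fixsp (P.E.D hf)) = 2 from by
      have := (S.isPl_mr P.E.x0 P.E.y0 P.E.xy).2.2
      show Module.finrank F (fixsp (mr S.hf P.E.x * mr S.hf P.E.y)) = 2
      omega,
    Module.finrank_fintype_fun_eq_card, Fintype.card_fin]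
  have := card_rest (m := k) P.i
  rw [P.card2] at this
  subst h4
  omega

/-- Members commuting with the plane involution act on pairs. -/
theorem act {g : GL (J → Fin k) F} (hg : Commute g (fac P.i (P.E.D hf))) (p : (Fin k → F) × (Fin k → F)) :
    ∃ q, mv g (P.io p) = P.io q := by
  obtain ⟨q, hq⟩ := (P.fix_iff hf S h4 (z := mv g (P.io p))).1 (by rw [← mv_mul, ← hg.eq, mv_mul, P.D_io hf])
  exact ⟨q, hq.symm⟩

end Two

variable {Q : ((J → Fin k) → F) → F} {X : Subgroup (GL (J → Fin k) F)}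

namespace Ctx

variable (C : Ctx f Q κ X) (hJ : 2 ≤ Fintype.card J) (hX : ¬ Geo.omegaGL Q ≤ X) (B : Base f Q κ) (IH : Ind f κ J)
include C hJ hX B IH

/-- Members fixing the fixed space of the plane involution are monomial. -/
theorem pair_fix_mono (h4 : k = 4) (P : Two f J) {g : GL (J → Fin k) F} (hg : g ∈ X)
    (hfix : ∀ p, mv g (P.io p) = P.io p) : Mono g := by
  have hf := C.hf
  have hins : ∀ w, mv (P.E.D hf) w = w → ∀ r, mv g (ins P.i w r) = ins P.i w r := fun w hw r => by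
    obtain ⟨p, hp⟩ := (P.fix_iff hf C.toSl h4 (z := ins P.i w r)).1 (by rw [mv_fac_ins, hw])
    rw [← hp, hfix]
  exact C.plane_group hJ hX B IH h4 hg P.E.a0 P.E.b0 P.E.ab (hins _ (P.E.Da hf)) (hins _ (P.E.Db hf))

set_option maxHeartbeats 800000 in
/-- Members keeping the pairs of one isotropic line are monomial. -/
theorem pair_line_mono (h4 : k = 4) (P : Two f J) {g : GL (J → Fin k) F} (hg : g ∈ X)
    (hcomm : Commute g (fac P.i (P.E.D C.hf))) {e : Fin k → F} (he0 : e ≠ 0) (he : f e e = 0)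
    (hline : ∀ r t : F, ∃ r' t' : F, mv g (P.io (r • e, t • e)) = P.io (r' • e, t' • e)) : Mono g := by
  classical
  have hf := C.hf
  have hB := Bt_sym (J := J) hf
  obtain ⟨d, hd, hed⟩ := C.toSl.exists_pair he0 he
  obtain ⟨w, hwe, -, hw⟩ := C.toSl.exists_W_aniso he hd hed
  set L : Submodule F ((J → Fin k) → F) :=
    ((Submodule.span F {e}).prod (Submodule.span F {e})).map (P.io) with hL
  have memL : ∀ r t : F, P.io (r • e, t • e) ∈ L := fun r t =>
    Submodule.mem_map_of_mem ⟨Submodule.smul_mem _ _ (Submodule.mem_span_singleton_self e),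
      Submodule.smul_mem _ _ (Submodule.mem_span_singleton_self e)⟩
  have memL' : ∀ l ∈ L, ∃ r t : F, l = P.io (r • e, t • e) := by
    rintro _ ⟨⟨p1, p2⟩, ⟨h1, h2⟩, rfl⟩
    obtain ⟨r, rfl⟩ := Submodule.mem_span_singleton.1 h1
    obtain ⟨t, rfl⟩ := Submodule.mem_span_singleton.1 h2
    exact ⟨r, t, rfl⟩
  have hgL : L.map (mvLin g) = L := by
    refine Submodule.eq_of_le_of_finrank_le (fun z hz => ?_) (by rw [finrank_map_gl])
    obtain ⟨l, hl, rfl⟩ := mem_map_gl.1 hz
    obtain ⟨r, t, rfl⟩ := memL' l hl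
    obtain ⟨r', t', e'⟩ := hline r t
    rw [e']; exact memL r' t'
  have hgL' : L.map (mvLin g⁻¹) = L := by conv_lhs => rw [← hgL, map_gl_inv]
  have hginv : ∀ l ∈ L, mv g⁻¹ l ∈ L := fun l hl => hgL' ▸ mem_map_gl.2 ⟨l, hl, rfl⟩
  have hgfwd : ∀ l ∈ L, mv g l ∈ L := fun l hl => hgL ▸ mem_map_gl.2 ⟨l, hl, rfl⟩
  let inU : ((J → Fin k) → F) → Prop := fun z => mv (fac P.i (P.E.D hf)) z = z
  let inP : ((J → Fin k) → F) → Prop := fun z => inU z ∧ ∀ l ∈ L, Bt σ₁ f z l = 0
  have hiso : ∀ v ∈ X, ∀ a b, Bt σ₁ f (mv v a) (mv v b) = Bt σ₁ f a b := fun v hv => C.pres (C.iso hv)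
  have hU : ∀ v : GL (J → Fin k) F, Commute v (fac P.i (P.E.D hf)) → ∀ z, inU z → inU (mv v z) := fun v hv z hz => by
    show mv _ (mv v z) = mv v z
    rw [← mv_mul, ← hv.eq, mv_mul, hz]
  have hPmap : ∀ v ∈ X, Commute v (fac P.i (P.E.D hf)) → (∀ l ∈ L, mv v⁻¹ l ∈ L) → ∀ z, inP z → inP (mv v z) :=
    fun v hvX hv hvL z hz => ⟨hU v hv z hz.1, fun l hl => by
      rw [← mv_mv_inv v l, hiso v hvX]; exact hz.2 _ (hvL l hl)⟩
  set r := fac P.m (eA hf e w) with hr
  have hrX : r ∈ X := C.root _ e w he hwe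
  have hrD : Commute r (fac P.i (P.E.D hf)) := fac_comm P.him.symm _ _
  have hrL : ∀ l ∈ L, mv r l = l := fun l hl => by
    obtain ⟨a, b, rfl⟩ := memL' l hl
    rw [hr, P.fac_m_io hf]
    simp only [mv_smul, eA_fix_perp hf C.two he hwe he, hf.comm' e w, hwe, zero_smul, sub_zero]
  have hrL' : ∀ l ∈ L, mv r⁻¹ l = l := fun l hl => by rw [mv_eq_iff, inv_inv, hrL l hl]
  have hrP : ∀ z, inP z → mv r z - z ∈ L := fun z hz => by
    obtain ⟨⟨p1, p2⟩, rfl⟩ := (P.fix_iff hf C.toSl h4).1 hz.1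
    have h1 := hz.2 _ (memL 1 0)
    have h2 := hz.2 _ (memL 0 1)
    rw [P.Bt_io hf] at h1 h2
    simp only [zero_smul, one_smul, hf.zero_right, add_zero, zero_add] at h1 h2
    rw [hr, P.fac_m_io hf, eA_fix_perp hf C.two he hwe h1, eA_fix_perp hf C.two he hwe h2, ← map_sub, Prod.mk_sub_mk,
      sub_sub_cancel_left, sub_sub_cancel_left, ← neg_smul, ← neg_smul]
    exact memL _ _
  set r' := g * r * g⁻¹ with hr'
  have hr'X : r' ∈ X := X.mul_mem (X.mul_mem hg hrX) (X.inv_mem hg)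
  have hr'D : Commute r' (fac P.i (P.E.D hf)) :=
    ((hcomm.mul_left hrD).mul_left hcomm.inv_left)
  have hr'L : ∀ l ∈ L, mv r' l = l := fun l hl => by
    rw [hr', mv_mul, mv_mul, hrL _ (hginv l hl), mv_mv_inv]
  have hr'P : ∀ z, inP z → mv r' z - z ∈ L := fun z hz => by
    have h := hrP _ (hPmap g⁻¹ (X.inv_mem hg) hcomm.inv_left (fun l hl => by rw [inv_inv]; exact hgfwd l hl) z hz)
    rw [show mv r' z - z = mv g (mv r (mv g⁻¹ z) - mv g⁻¹ z) by rw [mv_sub, mv_mv_inv, hr', mv_mul, mv_mul]]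
    exact hgfwd _ h
  have hr'inv : ∀ l ∈ L, mv r'⁻¹ l = l := fun l hl => by rw [mv_eq_iff, inv_inv, hr'L l hl]
  set c0 := r * r' * r⁻¹ * r'⁻¹ with hc0
  have hc0X : c0 ∈ X := X.mul_mem (X.mul_mem (X.mul_mem hrX hr'X) (X.inv_mem hrX)) (X.inv_mem hr'X)
  have hc0D : Commute c0 (fac P.i (P.E.D hf)) :=
    ((hrD.mul_left hr'D).mul_left hrD.inv_left).mul_left hr'D.inv_left
  have hc0P : ∀ z, inP z → mv c0 z = z := fun z hz => by
    set u := mv r⁻¹ (mv r'⁻¹ z) with hu
    have huP : inP u := hPmap _ (X.inv_mem hrX) hrD.inv_left (fun l hl => by rw [inv_inv, hrL l hl]; exact hl) _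
      (hPmap _ (X.inv_mem hr'X) hr'D.inv_left (fun l hl => by rw [inv_inv, hr'L l hl]; exact hl) z hz)
    have e1 : mv r (mv r' u) = mv r' (mv r u) := by
      have a1 := hrP u huP
      have a2 := hr'P u huP
      have b1 : mv r (mv r' u) = mv r u + (mv r' u - u) := by
        conv_lhs => rw [show mv r' u = u + (mv r' u - u) by abel, mv_add, hrL _ a2]
      have b2 : mv r' (mv r u) = mv r' u + (mv r u - u) := by
        conv_lhs => rw [show mv r u = u + (mv r u - u) by abel, mv_add, hr'L _ a1]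
      rw [b1, b2]; abel
    rw [hc0, mv_mul, mv_mul, mv_mul, ← hu, e1, hu, mv_mv_inv, mv_mv_inv]
  have hmono : Mono (c0 * r * c0⁻¹ * r⁻¹) := by
    have hcr : ∀ z, inU z → mv (r * c0 * r⁻¹) z = mv c0 z := fun z hz => by
      set u := mv r⁻¹ z with hu
      have hd : inP (u - z) := by
        refine ⟨?_, fun l hl => ?_⟩
        · show mv _ (u - z) = u - z
          rw [mv_sub, hU r⁻¹ hrD.inv_left z hz, hz]
        · rw [hB.sub_left, ← hrL' l hl, hiso _ (X.inv_mem hrX), hrL' l hl, sub_self]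
      have hl : mv c0 z - z ∈ L := by
        obtain ⟨⟨q1, q2⟩, hq⟩ := (P.fix_iff hf C.toSl h4 (z := mv c0 z - z)).1 (by
          rw [mv_sub, hU c0 hc0D z hz, hz])
        have hperp : ∀ x, inP x → Bt σ₁ f (mv c0 z - z) x = 0 := fun x hx => by
          rw [hB.sub_left]
          nth_rw 1 [← hc0P x hx]
          rw [hiso c0 hc0X, sub_self]
        have key : ∀ v : Fin k → F, f v e = 0 → f q1 v = 0 ∧ f q2 v = 0 := fun v hv => by
          have h1 := hperp (P.io (v, 0)) ⟨P.D_io hf _, fun l hl => by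
            obtain ⟨a, b, rfl⟩ := memL' l hl
            rw [P.Bt_io hf, hf.smul_right', hv, hf.zero_left]; ring⟩
          have h2 := hperp (P.io (0, v)) ⟨P.D_io hf _, fun l hl => by
            obtain ⟨a, b, rfl⟩ := memL' l hl
            rw [P.Bt_io hf, hf.smul_right', hf.smul_right', hv, hf.zero_left]; ring⟩
          rw [← hq, P.Bt_io hf] at h1 h2
          simp only [hf.zero_right, add_zero, zero_add] at h1 h2
          exact ⟨h1, h2⟩
        have hspan : ∀ q : Fin k → F, (∀ v, f v e = 0 → f q v = 0) → q = f q d • e := fun q hq' => by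
          refine sub_eq_zero.1 (hf.nondeg _ fun v => ?_)
          have h := hq' (v - f v e • d) (by
            rw [hf.sub_left, hf.smul_left, hf.comm' d e, hed, mul_one, sub_self])
          rw [hf.sub_right, hf.smul_right'] at h
          rw [hf.sub_left, hf.smul_left, hf.comm' e v]
          linear_combination h
        rw [← hq, hspan q1 fun v hv => (key v hv).1, hspan q2 fun v hv => (key v hv).2]
        exact memL _ _
      have h1 : mv c0 u = u + (mv c0 z - z) := by
        have e2 := hc0P _ hd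
        rw [mv_sub] at e2
        rw [sub_eq_iff_eq_add.1 e2]; abel
      rw [mv_mul, mv_mul, ← hu, h1, mv_add, hrL _ hl, hu, mv_mv_inv]
      abel
    refine C.pair_fix_mono hJ hX B IH h4 P (X.mul_mem (X.mul_mem (X.mul_mem hc0X hrX) (X.inv_mem hc0X))
      (X.inv_mem hrX)) fun p => ?_
    set z := P.io p
    have hz : inU z := P.D_io hf p
    set u := mv c0⁻¹ (mv r⁻¹ z) with hu
    have e3 := hcr (mv r u) (hU r hrD _ (hU c0⁻¹ hc0D.inv_left _ (hU r⁻¹ hrD.inv_left z hz)))
    rw [mv_mul, mv_mul, mv_inv_mv] at e3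
    show mv (c0 * r * c0⁻¹ * r⁻¹) z = z
    rw [mv_mul, mv_mul, mv_mul, ← hu, ← e3, hu, mv_mv_inv, mv_mv_inv]
  have hrm : Mono r := ⟨1, monoOf_fac _ _⟩
  have h1 : Mono (c0 * r * c0⁻¹) := by
    have := mono_mul hmono hrm
    rwa [inv_mul_cancel_right] at this
  have hc0m : Mono c0 := C.root_fus2 hJ hX B IH h4 P.card2 hc0X he0 he hwe hw h1
  have h2 : Mono (r' * r * r'⁻¹) := by
    have := mono_inv (mono_mul (mono_inv hrm) hc0m)
    rwa [show (r⁻¹ * c0)⁻¹ = r' * r * r'⁻¹ by rw [hc0]; group] at this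
  exact C.root_fus2 hJ hX B IH h4 P.card2 hg he0 he hwe hw
    (C.root_fus2 hJ hX B IH h4 P.card2 hr'X he0 he hwe hw h2)

end Ctx

end Cfsg.Agent.OrthEvenWreath
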