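/-
Tensor powers of a symmetric form of dimension four over three elements, two slots: counting cosets.
-/
import Cfsg.Agent.Lib.OrthWreathEven.FourPair
import Cfsg.Agent.Lib.OrthWreathEven.FourCoord

set_option autoImplicit false
set_option linter.unusedSectionVars false

namespace Cfsg.Agent.OrthEvenWreath

open scoped Matrix
open Matrix Cfsg.Agent.Transvec Cfsg.Agent.TensorMax Cfsg.Agent.WreathMax
open Cfsg.Agent.FormWreath hiding up mv_up_ins
open Cfsg.Agent.OrthWreath hiding Sl Ctx Base Ind Inv Gd fixsp_mir small_mir split_sim rho_omega fix_line_mono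
  exists_noncomm
open Cfsg.Agent.UWreath (mono_mul mono_inv)

variable {F : Type*} [Field F] [Finite F] {k : ℕ} {J : Type} [Fintype J] [DecidableEq J]
variable {f : (Fin k → F) → (Fin k → F) → F} {κ : F}

local notation "σ₁" => RingEquiv.refl F

theorem sq_sum_ne (h3 : Nat.card F = 3) {r t : F} (h : (r, t) ≠ 0) : r * r + t * t ≠ 0 := by
  intro e
  have h0 : (2 : F) ≠ 0 := fun e2 => one_ne_zero (α := F) (by linear_combination three_zero h3 - e2)
  rcases three_elems h3 r with rfl | rfl | rfl <;> rcases three_elems h3 t with rfl | rfl | rfl <;>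
    first
    | exact h rfl
    | (norm_num at e; done)
    | exact h0 (by linear_combination e)
    | exact one_ne_zero (α := F) (by linear_combination e)

namespace Two

variable (P : Two f J)
include P

/-- The members commuting with the plane involution and the rotation. -/
def K (hf : Sym f) (X : Subgroup (GL (J → Fin k) F)) : Subgroup (GL (J → Fin k) F) :=
  X ⊓ Subgroup.centralizer {fac P.i (P.E.D hf), fac P.i (P.E.R hf)}

/-- The monomial members among them. -/
def HK (hf : Sym f) (X : Subgroup (GL (J → Fin k) F)) : Subgroup (P.K hf X) := monoSub.subgroupOf (P.K hf X)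

theorem mem_K {hf : Sym f} {X : Subgroup (GL (J → Fin k) F)} {g : GL (J → Fin k) F} :
    g ∈ P.K hf X ↔ g ∈ X ∧ Commute g (fac P.i (P.E.D hf)) ∧ Commute g (fac P.i (P.E.R hf)) := by
  rw [K, Subgroup.mem_inf, Subgroup.mem_centralizer_iff]
  refine and_congr_right fun _ => ⟨fun h => ⟨(h _ (Set.mem_insert _ _)).symm, (h _ (Set.mem_insert_of_mem _ rfl)).symm⟩,
    fun h z hz => ?_⟩
  rcases hz with rfl | rfl
  · exact h.1.eq.symm
  · exact h.2.eq.symm

theorem mem_HK {hf : Sym f} {X : Subgroup (GL (J → Fin k) F)} {g : P.K hf X} :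
    g ∈ P.HK hf X ↔ Mono (g : GL (J → Fin k) F) := Iff.rfl

variable (hf : Sym f)
include hf

theorem T5_io (p : (Fin k → F) × (Fin k → F)) :
    mv (fac P.m (P.E.Z hf)) (P.io p) + mv (fac P.m (P.E.Z hf))⁻¹ (P.io p) - P.io p =
      P.io (P.E.T5 hf p.1, P.E.T5 hf p.2) := by
  rw [fac_inv, P.fac_m_io hf, P.fac_m_io hf, ← map_add, ← map_sub]
  rfl

end Two

variable {Q : ((J → Fin k) → F) → F} {X : Subgroup (GL (J → Fin k) F)}

namespace Ctx

variable (C : Ctx f Q κ X) (hJ : 2 ≤ Fintype.card J) (hX : ¬ Geo.omegaGL Q ≤ X) (B : Base f Q κ) (IH : Ind f κ J)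
include C hJ hX B IH

omit hJ hX B IH in
theorem slot_mem_K (P : Two f J) {T : GL (Fin k) F} (hT : fac P.m T ∈ X) : fac P.m T ∈ P.K C.hf X :=
  P.mem_K.2 ⟨hT, fac_comm P.him.symm _ _, fac_comm P.him.symm _ _⟩

/-- Few cosets of the monomial members. -/
theorem pair_bound (h4 : k = 4) (P : Two f J) : (P.HK C.hf X).index * 80 ≤ 2240 := by
  classical
  have hf := C.hf
  haveI : Fintype F := Fintype.ofFinite F
  have h3 := P.E.three
  obtain ⟨ψ, φ, hq, hψ0, hψs⟩ := P.E.exists_coord hf
  set K := P.K C.hf X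
  set H := P.HK C.hf X
  set e : Fin 10 → Fin k → F := fun j => ψ (line10 j) with he
  have he0 : ∀ j, f (e j) (e j) = 0 := fun j => by rw [he]; simp only [hq, (line10_null j).1, map_zero]
  have hene : ∀ j, e j ≠ 0 := fun j h => (line10_null j).2 (ψ.injective (h.trans hψ0.symm))
  have hK : ∀ g : K, (g : GL (J → Fin k) F) ∈ X ∧ Commute (g : GL (J → Fin k) F) (fac P.i (P.E.D hf)) ∧
      Commute (g : GL (J → Fin k) F) (fac P.i (P.E.R hf)) := fun g => P.mem_K.1 g.2
  choose q hqe using fun (g : K) p => P.act hf C.toSl h4 (hK g).2.1 p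
  let D := (K ⧸ H) × Fin 10 × {rt : F × F // rt ≠ 0}
  let img : D → (Fin k → F) × (Fin k → F) := fun d =>
    q (Quotient.out d.1) (d.2.2.1.1 • e d.2.1, d.2.2.1.2 • e d.2.1)
  have hne : ∀ (r t : F) (j : Fin 10), (r, t) ≠ 0 → (r • e j, t • e j) ≠ (0 : (Fin k → F) × (Fin k → F)) :=
    fun r t j h h' => by
      rw [Prod.mk_eq_zero, smul_eq_zero, smul_eq_zero] at h'
      exact h (Prod.mk_eq_zero.2 ⟨h'.1.resolve_right (hene j), h'.2.resolve_right (hene j)⟩)
  have himg : ∀ d, img d ≠ 0 ∧ f (img d).1 (img d).1 + f (img d).2 (img d).2 = 0 := fun d => by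
    obtain ⟨ω, j, ⟨r, t⟩, hrt⟩ := d
    have h := hqe (Quotient.out ω) (r • e j, t • e j)
    refine ⟨fun h0 => hne r t j hrt ?_, ?_⟩
    · rw [show q (Quotient.out ω) (r • e j, t • e j) = 0 from h0, map_zero] at h
      exact P.io_inj hf ((mv_inj _ (h.trans (mv_zero _).symm)).trans (map_zero _).symm)
    · rw [← P.Bt_io hf]
      show Bt σ₁ f (P.io (q (Quotient.out ω) (r • e j, t • e j))) (P.io (q (Quotient.out ω) (r • e j, t • e j))) = 0
      rw [← h, C.pres (C.iso (hK _).1), P.Bt_io hf]
      simp only [hf.smul_left, hf.smul_right', he0, mul_zero, add_zero]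
  have hinj : Function.Injective fun d => (⟨img d, himg d⟩ :
      {p : (Fin k → F) × (Fin k → F) // p ≠ 0 ∧ f p.1 p.1 + f p.2 p.2 = 0}) := by
    rintro ⟨ω, j, ⟨r, t⟩, hrt⟩ ⟨ω', j', ⟨r', t'⟩, hrt'⟩ heq
    have heq' : img (ω, j, ⟨(r, t), hrt⟩) = img (ω', j', ⟨(r', t'), hrt'⟩) := congrArg Subtype.val heq
    simp only [img] at heq'
    set g := Quotient.out ω with hg
    set g' := Quotient.out ω' with hg'
    have hz : mv (g : GL (J → Fin k) F) (P.io (r • e j, t • e j)) =
        mv (g' : GL (J → Fin k) F) (P.io (r' • e j', t' • e j')) := by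
      rw [hqe, hqe, heq']
    set h : K := g'⁻¹ * g with hh
    have hhz : mv (h : GL (J → Fin k) F) (P.io (r • e j, t • e j)) = P.io (r' • e j', t' • e j') := by
      rw [hh, Subgroup.coe_mul, Subgroup.coe_inv, mv_mul, hz, mv_inv_mv]
    have hhsz : mv (h : GL (J → Fin k) F) (P.io (-(t • e j), r • e j)) = P.io (-(t' • e j'), r' • e j') := by
      have e1 := P.R_io hf (r • e j, t • e j)
      have e2 := P.R_io hf (r' • e j', t' • e j')
      simp only at e1 e2
      rw [← e1, ← mv_mul, (hK h).2.2.eq, mv_mul, hhz, e2]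
    obtain ⟨T, ρ, hT, -, hTe⟩ := C.exists_move (hene j') (he0 j') (hene j) (he0 j)
    have hmono : Mono (h : GL (J → Fin k) F) := by
      have hm := C.pair_line_mono hJ hX B IH h4 P (g := fac P.m T * h) (X.mul_mem (hT.2 P.m) (hK h).1)
        (Commute.mul_left (fac_comm P.him.symm _ _) (hK h).2.1) (hene j) (he0 j) fun p s => by
          have hN := sq_sum_ne h3 hrt
          have hN2 : r ^ 2 + t ^ 2 ≠ 0 := by rwa [pow_two, pow_two]
          have hN3 : t ^ 2 + r ^ 2 ≠ 0 := by rwa [add_comm]
          set α := (p * r + s * t) / (r * r + t * t)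
          set β := (s * r - p * t) / (r * r + t * t)
          refine ⟨(α * r' - β * t') * ρ, (α * t' + β * r') * ρ, ?_⟩
          have e0 : (p • e j, s • e j) = α • (r • e j, t • e j) + β • (-(t • e j), r • e j) := by
            refine Prod.ext ?_ ?_
            · show p • e j = α • r • e j + β • -(t • e j)
              match_scalars
              simp only [α, β]; field_simp; ring
            · show s • e j = α • t • e j + β • r • e j
              match_scalars
              simp only [α, β]; field_simp; ring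
          rw [e0, mv_mul, map_add, map_smul, map_smul, mv_add, mv_smul, mv_smul, hhz, hhsz, ← (P.io).map_smul,
            ← (P.io).map_smul, ← (P.io).map_add, P.fac_m_io hf]
          congr 1
          refine Prod.ext ?_ ?_
          · show mv T (α • r' • e j' + β • -(t' • e j')) = _
            rw [show α • r' • e j' + β • -(t' • e j') = (α * r' - β * t') • e j' by module, mv_smul, hTe, smul_smul]
          · show mv T (α • t' • e j' + β • r' • e j') = _
            rw [show α • t' • e j' + β • r' • e j' = (α * t' + β * r') • e j' by module, mv_smul, hTe, smul_smul]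
      have := mono_mul (mono_inv (⟨1, monoOf_fac _ _⟩ : Mono (fac (J := J) P.m T))) hm
      rwa [inv_mul_cancel_left] at this
    have hω : ω' = ω := by
      rw [← Quotient.out_eq ω, ← Quotient.out_eq ω', ← hg, ← hg']
      exact QuotientGroup.eq.2 hmono
    subst hω
    have hp : (r • e j, t • e j) = (r' • e j', t' • e j') := P.io_inj hf (mv_inj _ hz)
    obtain ⟨hp1, hp2⟩ := Prod.mk.inj hp
    have key : ∀ u u' : F, u ≠ 0 → u • e j = u' • e j' → j = j' := fun u u' hu h' => by
      refine line10_inj j j' (φ.symm (u' / u)) (ψ.injective ?_)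
      rw [hψs, φ.apply_symm_apply, div_eq_inv_mul, ← smul_smul]
      show e j = u⁻¹ • u' • e j'
      rw [← h', smul_smul, inv_mul_cancel₀ hu, one_smul]
    have hj : j = j' := by
      by_cases hr : r = 0
      · exact key t t' (fun ht => hrt (Prod.mk_eq_zero.2 ⟨hr, ht⟩)) hp2
      · exact key r r' hr hp1
    subst hj
    obtain rfl := smul_left_injective F (hene j) hp1
    obtain rfl := smul_left_injective F (hene j) hp2
    rfl
  have hle := Nat.card_le_card_of_injective _ hinj
  rw [P.E.null_pairs hf] at hle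
  have h8 : Nat.card {rt : F × F // rt ≠ 0} = 8 := by
    simp [Nat.card_eq_fintype_card, Fintype.card_subtype_compl,
      show Fintype.card F = 3 by rw [← Nat.card_eq_fintype_card]; exact h3]
  calc H.index * 80 = Nat.card D := by
        show Nat.card (K ⧸ H) * 80 = Nat.card ((K ⧸ H) × Fin 10 × {rt : F × F // rt ≠ 0})
        rw [Nat.card_prod, Nat.card_prod, h8, Nat.card_eq_fintype_card (α := Fin 10), Fintype.card_fin]
    _ ≤ 2240 := hle

/-- The roots of the second slot permute the other cosets freely. -/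
theorem roots_dvd (h4 : k = 4) (P : Two f J) : 9 ∣ (P.HK C.hf X).index - 1 := by
  classical
  have hf := C.hf
  haveI : Fintype F := Fintype.ofFinite F
  set K := P.K C.hf X
  set H := P.HK C.hf X
  set c := P.E.x + P.E.y
  have hc : f c c = 0 := by
    simp only [c, hf.add_left, hf.add_right, P.E.xx, P.E.yy, P.E.xy, P.E.yx hf]; ring
  have hc0 : c ≠ 0 := fun e => one_ne_zero (α := F) (by
    have := congrArg (fun v => f v P.E.x) e
    simpa [c, hf.add_left, P.E.xx, P.E.yx hf, hf.zero_left] using this)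
  let w : F × F → Fin k → F := fun p => p.1 • P.E.a + p.2 • P.E.b
  have hwc : ∀ p, f (w p) c = 0 := fun p => by
    simp [w, c, hf.add_left, hf.add_right, hf.smul_left, P.E.ax hf, P.E.ay hf, P.E.bx hf, P.E.by' hf]
  have hw : ∀ p, p ≠ 0 → f (w p) (w p) ≠ 0 := fun p hp e => sq_sum_ne P.E.three hp (by
    simp only [w, hf.add_left, hf.add_right, hf.smul_left, hf.smul_right', P.E.aa, P.E.bb, P.E.ab, P.E.ba hf] at e
    linear_combination e)
  let φA : Multiplicative (F × F) →* K :=
    { toFun := fun u => ⟨fac P.m (eA hf c (w u.toAdd)), C.slot_mem_K P (C.root _ c _ hc (hwc _))⟩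
      map_one' := Subtype.ext (by
        show fac P.m (eA hf c (w 0)) = 1
        rw [show w 0 = 0 by simp [w], eA_zero hf C.two hc, fac_one])
      map_mul' := fun u v => Subtype.ext (by
        show fac P.m (eA hf c (w (u.toAdd + v.toAdd))) = fac P.m _ * fac P.m _
        rw [← fac_mul, eA_mul hf C.two hc (hwc _) (hwc _)]
        congr 2
        simp only [w, Prod.fst_add, Prod.snd_add]
        module) }
  letI : MulAction (Multiplicative (F × F)) (K ⧸ H) := MulAction.compHom _ φA
  have h9 : Nat.card (Multiplicative (F × F)) = 9 := by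
    rw [Nat.card_congr Multiplicative.toAdd, Nat.card_prod, P.E.three]
  rw [← h9]
  refine semireg_dvd (((1 : K) : K ⧸ H)) (fun u => ?_) fun a ha u hu => ?_
  · show ((φA u * 1 : K) : K ⧸ H) = ((1 : K) : K ⧸ H)
    rw [mul_one, QuotientGroup.eq, mul_one]
    exact H.inv_mem ⟨1, monoOf_fac _ _⟩
  · by_contra hne
    obtain ⟨g, rfl⟩ := QuotientGroup.mk_surjective a
    have hfix : ((φA u * g : K) : K ⧸ H) = (g : K ⧸ H) := hu
    rw [QuotientGroup.eq] at hfix
    have hm : Mono ((g⁻¹ * φA u * g : K) : GL (J → Fin k) F) := by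
      have := H.inv_mem hfix
      rwa [show ((φA u * g)⁻¹ * g)⁻¹ = g⁻¹ * φA u * g by group] at this
    refine ha (QuotientGroup.eq.2 ?_)
    rw [mul_one, inv_mem_iff]
    have hg := P.mem_K.1 g.2
    have := C.root_fus2 hJ hX B IH h4 P.card2 (g := (g : GL (J → Fin k) F)⁻¹) (X.inv_mem hg.1) (i := P.m) hc0 hc
      (hwc u.toAdd) (hw _ fun h0 => hne (Multiplicative.toAdd.injective h0)) (by
        rw [inv_inv]
        exact hm)
    show Mono (g : GL (J → Fin k) F)
    have h' := mono_inv this
    rwa [inv_inv] at h'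

end Ctx

end Cfsg.Agent.OrthEvenWreath
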