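/-
Tensor powers of a symmetric form of dimension four over three elements, two slots: the cosets fixed by a five-cycle.
-/
import Cfsg.Agent.Lib.OrthWreathEven.FourCount
import Cfsg.Agent.Lib.OrthWreathEven.FourSim
import Cfsg.Agent.Lib.OrthWreathEven.FourPow

set_option autoImplicit false
set_option linter.unusedSectionVars false

namespace Cfsg.Agent.OrthEvenWreath

open scoped Matrix
open Matrix Cfsg.Agent.Transvec Cfsg.Agent.TensorMax Cfsg.Agent.WreathMax
open Cfsg.Agent.FormWreath hiding up mv_up_ins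
open Cfsg.Agent.OrthWreath hiding Sl Ctx Base Ind Inv Gd fixsp_mir small_mir split_sim rho_omega fix_line_mono
  exists_noncomm
open Cfsg.Agent.UWreath (mono_mul mono_inv)

variable {F : Type*} [Field F] [Finite F] {k : ℕ} {J : Type} [Fintype J] [DecidableEq J]
variable {f : (Fin k → F) → (Fin k → F) → F} {κ : F}

local notation "σ₁" => RingEquiv.refl F

namespace Std

variable (E : Std f) (hf : Sym f)
include E hf

theorem mx_y : mv (mr hf E.x) E.y = -E.y := mr_perp hf E.x0 (E.yx hf)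
theorem mx_a : mv (mr hf E.x) E.a = -E.a := mr_perp hf E.x0 (E.ax hf)
theorem mx_b : mv (mr hf E.x) E.b = -E.b := mr_perp hf E.x0 (E.bx hf)

theorem mx_D : mr hf E.x * E.D hf = E.D hf * mr hf E.x :=
  E.ext4 hf (by simp [mv_mul, mv_neg, E.Dx hf, mr_self hf E.x0]) (by simp [mv_mul, mv_neg, E.Dy hf, E.mx_y hf])
    (by simp [mv_mul, mv_neg, E.Da hf, E.mx_a hf]) (by simp [mv_mul, mv_neg, E.Db hf, E.mx_b hf])

theorem mx_R : mr hf E.x * E.R hf = E.R hf * mr hf E.x :=
  E.ext4 hf (by simp [mv_mul, E.Rx hf, mr_self hf E.x0]) (by simp [mv_mul, mv_neg, E.Ry hf, E.mx_y hf])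
    (by simp [mv_mul, mv_neg, E.Ra hf, E.mx_a hf, E.mx_b hf]) (by simp [mv_mul, mv_neg, E.Rb hf, E.mx_a hf, E.mx_b hf])

open Fin.NatCast in
theorem Z_pow_apply (n : ℕ) : mv (E.Z hf ^ n) (E.v5 0) = E.v5 (n : Fin 5) := by
  induction n with
  | zero => simp [mv_one]
  | succ n ih => rw [pow_succ', mv_mul, ih, E.Z_apply hf]; congr 1; push_cast; rfl

theorem T5_Z (v : Fin k → F) : E.T5 hf (mv (E.Z hf) v) = mv (E.Z hf) (E.T5 hf v) := by
  simp only [T5_apply, mv_add, mv_sub, mv_inv_mv, mv_mv_inv]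

theorem big_five : Big F 5 := ⟨by norm_num, by norm_num, by rw [E.three]; norm_num⟩

theorem Z_fixed (W : Submodule F (Fin k → F)) (h4 : k = 4) (hW : ∀ w ∈ W, mv (E.Z hf) w ∈ W) (hne : W ≠ ⊥) :
    W = ⊤ := by
  by_contra h
  refine hne (E.big_five hf |>.inv_bot h4 (L := mvLin (E.Z hf)) ?_ (fun e => E.Z_ne hf (ext_mv fun v =>
    (LinearMap.congr_fun e v).trans (mv_one v).symm)) W hW h)
  have hmv : ∀ n : ℕ, (mvLin (E.Z hf) : Module.End F (Fin k → F)) ^ n = mvLin (E.Z hf ^ n) := fun n => by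
    induction n with
    | zero => exact LinearMap.ext fun v => by rw [pow_zero, pow_zero]; exact (mv_one v).symm
    | succ n ih => exact LinearMap.ext fun v => by
                    rw [pow_succ, pow_succ, ih]; exact (mv_mul (E.Z hf ^ n) (E.Z hf) v).symm
  rw [hmv, E.Z_five hf]
  exact LinearMap.ext fun v => mv_one v

end Std

namespace Two

variable (P : Two f J) (hf : Sym f)
include P hf

theorem commute_bb : Commute (fac P.i (mr hf P.E.x) * fac P.m (P.E.B hf)) (fac P.i (P.E.D hf)) ∧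
    Commute (fac P.i (mr hf P.E.x) * fac P.m (P.E.B hf)) (fac P.i (P.E.R hf)) := by
  refine ⟨Commute.mul_left ?_ (fac_comm P.him.symm _ _), Commute.mul_left ?_ (fac_comm P.him.symm _ _)⟩
  · show _ = _; rw [← fac_mul, ← fac_mul, P.E.mx_D hf]
  · show _ = _; rw [← fac_mul, ← fac_mul, P.E.mx_R hf]

theorem bb_conj : fac P.i (mr hf P.E.x) * fac P.m (P.E.B hf) * fac P.m (P.E.Z hf) *
    (fac P.i (mr hf P.E.x) * fac P.m (P.E.B hf))⁻¹ = fac P.m (P.E.Z hf ^ 2) := by
  have h : fac P.m (P.E.B hf) * fac P.m (P.E.Z hf) = fac P.m (P.E.Z hf ^ 2) * fac P.m (P.E.B hf) := by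
    rw [← fac_mul, ← fac_mul, P.E.BZ hf]
  rw [mul_assoc (fac P.i _) _ (fac P.m (P.E.Z hf)), h, ← mul_assoc, fac_comm P.him, mul_assoc (fac P.m _) _ _,
    mul_inv_cancel_right]

end Two

variable {Q : ((J → Fin k) → F) → F} {X : Subgroup (GL (J → Fin k) F)}

namespace Ctx

variable (C : Ctx f Q κ X) (hJ : 2 ≤ Fintype.card J) (hX : ¬ Geo.omegaGL Q ≤ X) (B : Base f Q κ) (IH : Ind f κ J)
include C hJ hX B IH

set_option maxHeartbeats 800000 in
/-- Cosets fixed by the five-cycle come from its centraliser. -/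
theorem fixed_orbit (h4 : k = 4) (P : Two f J) : ∀ (zK : P.K C.hf X),
    (zK : GL (J → Fin k) F) = fac P.m (P.E.Z C.hf) → ∀ ω : P.K C.hf X ⧸ P.HK C.hf X, zK • ω = ω →
    ∃ c : P.K C.hf X, c ∈ Subgroup.centralizer {zK} ∧ (c : P.K C.hf X ⧸ P.HK C.hf X) = ω := by
  classical
  have hf := C.hf
  have hk : 0 < k := by omega
  have h3 := P.E.three
  haveI : Fintype F := Fintype.ofFinite F
  set K := P.K C.hf X
  set H := P.HK C.hf X
  intro zK hzK ω hω
  obtain ⟨g, rfl⟩ := QuotientGroup.mk_surjective ω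
  have hm0 : g⁻¹ * zK⁻¹ * g ∈ H := by
    have h' : ((zK * g : K) : K ⧸ H) = (g : K ⧸ H) := hω
    rw [QuotientGroup.eq] at h'
    rwa [show (zK * g)⁻¹ * g = g⁻¹ * zK⁻¹ * g by group] at h'
  have hnm : g⁻¹ * zK * g ∈ H := by
    have := H.inv_mem hm0
    rwa [show (g⁻¹ * zK⁻¹ * g)⁻¹ = g⁻¹ * zK * g by group] at this
  set n : K := g⁻¹ * zK * g
  have hz5 : zK ^ 5 = 1 := Subtype.ext (by
    rw [SubgroupClass.coe_pow, hzK, fac_pow, P.E.Z_five hf, fac_one]; rfl)
  have hn5 : (n : GL (J → Fin k) F) ^ 5 = 1 := by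
    rw [← SubgroupClass.coe_pow, show n ^ 5 = g⁻¹ * zK ^ 5 * g from ?_, hz5, mul_one, inv_mul_cancel]
    · rfl
    · have := conj_pow (i := 5) (b := zK) (a := g⁻¹)
      rwa [inv_inv] at this
  obtain ⟨T, T', hTe, -, hT'i, hT5, hT'5⟩ := C.toSl.pow_split P.him P.card2 (p := 5) (by decide)
    (fun y hy => by
      rcases three_elems h3 y with rfl | rfl | rfl
      · norm_num at hy
      · rfl
      · norm_num at hy
        exact absurd hy (fun e => C.two (by linear_combination -e)))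
    (fun y => ⟨y, by rcases three_elems h3 y with rfl | rfl | rfl <;> norm_num⟩)
    (C.pres (C.iso (P.mem_K.1 n.2).1)) hn5 hnm
  have hTD : T * P.E.D hf = P.E.D hf * T := by
    have h := (P.mem_K.1 n.2).2.1.eq
    rw [hTe, mul_assoc, fac_comm P.him.symm, ← mul_assoc, ← fac_mul, ← mul_assoc, ← fac_mul] at h
    exact fac_inj hk P.i (mul_right_cancel h)
  have hT1 : T = 1 := by
    have hDpl := C.toSl.isPl_mr P.E.x0 P.E.y0 P.E.xy
    have hL : (mvLin T : Module.End F (Fin k → F)) ^ 5 = 1 := LinearMap.ext fun v => by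
      have e : ∀ (j : ℕ) (v : Fin k → F), ((mvLin T : Module.End F (Fin k → F)) ^ j) v = mv (T ^ j) v := fun j => by
        induction j with
        | zero => intro v; rw [pow_zero, pow_zero, mv_one]; rfl
        | succ j ih => intro v; rw [pow_succ, pow_succ, Module.End.mul_apply, ih, mv_mul]; rfl
      rw [e, hT5, mv_one]; rfl
    have key : ∀ A : GL (Fin k) F, T * A = A * T → Module.finrank F (fixsp A) ≤ 3 →
        ∀ v, mv A v = v → mv T v = v := fun A hA hd v hv =>
      (P.E.big_five hf).fixed_of_small (mvLin T) hL (fixsp A) (fun w hw => mem_fixsp.2 (by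
        show mv A (mv T w) = mv T w
        rw [← mv_mul, ← hA, mv_mul, mem_fixsp.1 hw])) (by omega) v (mem_fixsp.2 hv)
    have hd := hDpl.2.2
    have hd' := C.toSl.isPl_fix hDpl
    have hP := key (P.E.D hf) hTD (by
      show Module.finrank F (fixsp (mr C.hf P.E.x * mr C.hf P.E.y)) ≤ 3
      omega)
    have hM := key (-P.E.D hf) (by rw [mul_neg, neg_mul, hTD]) (le_of_eq_of_le hd' (by norm_num))
    refine P.E.ext4 hf ?_ ?_ ?_ ?_ <;> rw [mv_one]
    · exact hM _ (by rw [mv_neg_gl, P.E.Dx hf, neg_neg])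
    · exact hM _ (by rw [mv_neg_gl, P.E.Dy hf, neg_neg])
    · exact hP _ (P.E.Da hf)
    · exact hP _ (P.E.Db hf)
  subst hT1
  rw [fac_one, one_mul] at hTe
  -- conjugacy inside the group of the second slot
  let G' : Subgroup (GL (Fin k) F) :=
    { carrier := {S | fac P.m S ∈ X}
      one_mem' := by show fac P.m (1 : GL (Fin k) F) ∈ X; rw [fac_one]; exact X.one_mem
      mul_mem' := fun {a b} ha hb => by show fac P.m (a * b) ∈ X; rw [fac_mul]; exact X.mul_mem ha hb
      inv_mem' := fun {a} ha => by show fac P.m a⁻¹ ∈ X; rw [← fac_inv]; exact X.inv_mem ha }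
  have hZG : P.E.Z hf ∈ G' := C.Z_mem P.E P.m
  have hT'G : T' ∈ G' := by show fac P.m T' ∈ X; rw [← hTe]; exact (P.mem_K.1 n.2).1
  obtain ⟨g₀, a, hga⟩ := conj_five (G := G')
    (fun h => gl_four_five h4 h3 (h.trans (Subgroup.card_subgroup_dvd_card G')))
    (a := ⟨P.E.Z hf, hZG⟩) (b := ⟨T', hT'G⟩) (Subtype.ext (P.E.Z_five hf))
    (fun e => P.E.Z_ne hf (congrArg Subtype.val e)) (Subtype.ext hT'5)
  have hga' : (g₀ : GL (Fin k) F) * T' * (g₀ : GL (Fin k) F)⁻¹ = P.E.Z hf ^ a := by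
    simpa using congrArg Subtype.val hga
  set mK : K := ⟨fac P.m (g₀ : GL (Fin k) F), C.slot_mem_K P g₀.2⟩
  set h₀ : K := g * mK⁻¹
  have hh₀ : h₀⁻¹ * zK * h₀ = zK ^ a := by
    rw [show h₀⁻¹ * zK * h₀ = mK * n * mK⁻¹ by simp only [h₀, n]; group]
    refine Subtype.ext ?_
    rw [Subgroup.coe_mul, Subgroup.coe_mul, Subgroup.coe_inv, SubgroupClass.coe_pow, hzK, fac_pow, ← hga', hTe,
      fac_mul, fac_mul, fac_inv]
  have ha0 : a % 5 ≠ 0 := fun e => by
    obtain ⟨q, hq⟩ := Nat.dvd_of_mod_eq_zero e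
    have hz1 : zK = 1 := by
      rw [hq, pow_mul, hz5, one_pow] at hh₀
      rw [show zK = h₀ * (h₀⁻¹ * zK * h₀) * h₀⁻¹ by group, hh₀, mul_one, mul_inv_cancel]
    rw [hz1, OneMemClass.coe_one, eq_comm, fac_one_iff hk] at hzK
    exact P.E.Z_ne hf hzK
  set bK : K := ⟨fac P.i (mr hf P.E.x) * fac P.m (P.E.B hf),
    P.mem_K.2 ⟨C.B_mem P.E P.him, P.commute_bb hf⟩⟩
  have hb : bK⁻¹ * zK * bK = zK ^ 3 := by
    have h2 : bK * zK * bK⁻¹ = zK ^ 2 := Subtype.ext (by
      rw [Subgroup.coe_mul, Subgroup.coe_mul, Subgroup.coe_inv, SubgroupClass.coe_pow, hzK, fac_pow]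
      exact P.bb_conj hf)
    have h6 : bK * zK ^ 3 * bK⁻¹ = zK := by
      rw [← conj_pow, h2, ← pow_mul, show 2 * 3 = 5 + 1 from rfl, pow_add, hz5, one_mul, pow_one]
    calc bK⁻¹ * zK * bK = bK⁻¹ * (bK * zK ^ 3 * bK⁻¹) * bK := by rw [h6]
      _ = zK ^ 3 := by group
  have hbj : ∀ j : ℕ, (bK ^ j)⁻¹ * zK * bK ^ j = zK ^ (3 ^ j) := fun j => by
    induction j with
    | zero => simp
    | succ j ih =>
      have e : (bK ^ (j + 1))⁻¹ * zK * bK ^ (j + 1) = bK⁻¹ * ((bK ^ j)⁻¹ * zK * bK ^ j) * bK := by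
        rw [pow_succ]; group
      rw [e, ih, pow_succ', pow_mul, ← hb]
      have := conj_pow (i := 3 ^ j) (b := zK) (a := bK⁻¹)
      rw [inv_inv] at this
      exact this.symm
  obtain ⟨j, hj⟩ : ∃ j : Fin 4, 3 ^ (j : ℕ) * a % 5 = 1 := by
    have : ∀ r : Fin 5, r ≠ 0 → ∃ j : Fin 4, 3 ^ (j : ℕ) * (r : ℕ) % 5 = 1 := by decide
    obtain ⟨j, hj⟩ := this ⟨a % 5, Nat.mod_lt _ (by norm_num)⟩ (fun e => ha0 (congrArg Fin.val e))
    exact ⟨j, by rw [Nat.mul_mod] ; rw [Nat.mul_mod] at hj; simpa using hj⟩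
  refine ⟨h₀ * bK ^ (j : ℕ), Subgroup.mem_centralizer_singleton_iff.2 ?_, ?_⟩
  · have e : (h₀ * bK ^ (j : ℕ))⁻¹ * zK * (h₀ * bK ^ (j : ℕ)) = zK := by
      rw [show (h₀ * bK ^ (j : ℕ))⁻¹ * zK * (h₀ * bK ^ (j : ℕ)) =
        (bK ^ (j : ℕ))⁻¹ * (h₀⁻¹ * zK * h₀) * bK ^ (j : ℕ) by group, hh₀]
      have := conj_pow (i := a) (b := zK) (a := (bK ^ (j : ℕ))⁻¹)
      rw [inv_inv, hbj, ← pow_mul] at this
      rw [← this, ← Nat.mod_add_div (3 ^ (j : ℕ) * a) 5, hj, pow_add, pow_mul, hz5, one_pow, mul_one, pow_one]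
    calc h₀ * bK ^ (j : ℕ) * zK = h₀ * bK ^ (j : ℕ) * ((h₀ * bK ^ (j : ℕ))⁻¹ * zK * (h₀ * bK ^ (j : ℕ))) := by rw [e]
      _ = zK * (h₀ * bK ^ (j : ℕ)) := by group
  · refine QuotientGroup.eq.2 ?_
    rw [show (h₀ * bK ^ (j : ℕ))⁻¹ * g = (bK ^ (j : ℕ))⁻¹ * mK by simp only [h₀]; group]
    refine H.mul_mem (H.inv_mem (H.pow_mem ?_ _)) ⟨1, monoOf_fac _ _⟩
    exact mono_mul ⟨1, monoOf_fac _ _⟩ ⟨1, monoOf_fac _ _⟩

set_option maxHeartbeats 1600000 in
/-- The centraliser of the five-cycle moves the base coset little. -/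
theorem orbit_small (h4 : k = 4) (P : Two f J) : ∀ (zK : P.K C.hf X),
    (zK : GL (J → Fin k) F) = fac P.m (P.E.Z C.hf) →
    (MulAction.stabilizer (Subgroup.centralizer {zK}) (((1 : P.K C.hf X) : P.K C.hf X ⧸ P.HK C.hf X))).index
      ∈ ({1, 2, 4} : Finset ℕ) := by
  classical
  have hf := C.hf
  have h2 := C.two
  haveI : Fintype F := Fintype.ofFinite F
  set K := P.K C.hf X
  set H := P.HK C.hf X
  intro zK hzK
  set C' := Subgroup.centralizer ({zK} : Set K)
  set T := P.E.T5 hf with hTd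
  have hK : ∀ g : K, (g : GL (J → Fin k) F) ∈ X ∧ Commute (g : GL (J → Fin k) F) (fac P.i (P.E.D hf)) ∧
      Commute (g : GL (J → Fin k) F) (fac P.i (P.E.R hf)) := fun g => P.mem_K.1 g.2
  have hzc : ∀ c : C', Commute (c.1 : GL (J → Fin k) F) (fac P.m (P.E.Z hf)) := fun c => by
    have h := congrArg Subtype.val (Subgroup.mem_centralizer_singleton_iff.1 c.2)
    simp only [Subgroup.coe_mul, hzK] at h
    exact h
  let Up : ((J → Fin k) → F) → Prop := fun z => z ≠ 0 ∧ mv (fac P.i (P.E.D hf)) z = z ∧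
    mv (fac P.m (P.E.Z hf)) z + mv (fac P.m (P.E.Z hf))⁻¹ z - z = mv (fac P.i (P.E.R hf)) z
  have hUp : ∀ (g : GL (J → Fin k) F), Commute g (fac P.i (P.E.D hf)) → Commute g (fac P.i (P.E.R hf)) →
      Commute g (fac P.m (P.E.Z hf)) → ∀ z, Up z → Up (mv g z) := fun g h1 h2' h3 z hz => by
    refine ⟨fun e => hz.1 (mv_inj g (e.trans (mv_zero g).symm)), by rw [← mv_mul, ← h1.eq, mv_mul, hz.2.1], ?_⟩
    rw [← mv_mul, ← mv_mul, ← mv_mul, ← h3.eq, ← h2'.eq, ← h3.inv_right.eq, mv_mul, mv_mul, mv_mul, ← mv_add,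
      ← mv_sub, hz.2.2]
  have hio : ∀ p, Up (P.io p) ↔ p ≠ 0 ∧ p.2 = -T p.1 := fun p => by
    constructor
    · rintro ⟨h0, -, h⟩
      rw [P.T5_io hf, P.R_io hf] at h
      have h1 := congrArg Prod.fst (P.io_inj hf h)
      simp only at h1
      exact ⟨fun e => h0 (by rw [e, map_zero]), by rw [hTd, h1, neg_neg]⟩
    · rintro ⟨h0, h⟩
      refine ⟨fun e => h0 (P.io_inj hf (e.trans (map_zero _).symm)), P.D_io hf p, ?_⟩
      rw [P.T5_io hf, P.R_io hf, h]
      simp only [hTd, map_neg, neg_neg, P.E.T5_sq hf]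
  let U := {z : (J → Fin k) → F // Up z}
  letI : MulAction C' U :=
    { smul := fun c z => ⟨mv (c.1 : GL (J → Fin k) F) z.1, hUp _ (hK c.1).2.1 (hK c.1).2.2 (hzc c) _ z.2⟩
      one_smul := fun z => Subtype.ext (mv_one _)
      mul_smul := fun c d z => Subtype.ext (mv_mul (c.1 : GL (J → Fin k) F) (d.1 : GL (J → Fin k) F) z.1) }
  have hsmul : ∀ (c : C') (z : U), (c • z).1 = mv (c.1 : GL (J → Fin k) F) z.1 := fun c z => rfl
  -- eighty points
  let ι : {v : Fin k → F // v ≠ 0} → U := fun v =>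
    ⟨P.io (v.1, -T v.1), (hio _).2 ⟨fun e => v.2 (congrArg Prod.fst e), rfl⟩⟩
  have hι : Function.Bijective ι := by
    refine ⟨fun v w e => Subtype.ext (congrArg Prod.fst (P.io_inj hf (congrArg Subtype.val e))), fun z => ?_⟩
    obtain ⟨p, hp⟩ := (P.fix_iff hf C.toSl h4).1 z.2.2.1
    obtain ⟨hp0, hp2⟩ := (hio p).1 (hp ▸ z.2)
    refine ⟨⟨p.1, fun e => hp0 (Prod.ext e (by rw [hp2, e, map_zero, neg_zero]; rfl))⟩, Subtype.ext ?_⟩
    show P.io (p.1, -T p.1) = z.1
    rw [← hp, ← hp2]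
  have hcard : Nat.card U = 80 := by
    rw [← Nat.card_congr (Equiv.ofBijective ι hι)]
    subst h4
    simp [Nat.card_eq_fintype_card, Fintype.card_subtype_compl,
      show Fintype.card F = 3 by rw [← Nat.card_eq_fintype_card]; exact P.E.three]
  -- fixing one point is fixing all
  have hall : ∀ (c : C') (z : U), c • z = z → ∀ p, mv (c.1 : GL (J → Fin k) F) (P.io p) = P.io p := by
    intro c z hz
    set g := (c.1 : GL (J → Fin k) F)
    have hg := hK c.1
    obtain ⟨v₀, rfl⟩ := hι.2 z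
    let W : Submodule F (Fin k → F) :=
      { carrier := {v | mv g (P.io (v, -T v)) = P.io (v, -T v)}
        add_mem' := fun {a b} ha hb => by
          show mv g (P.io (a + b, -T (a + b))) = _
          have ha' : mv g (P.io (a, -T a)) = P.io (a, -T a) := ha
          have hb' : mv g (P.io (b, -T b)) = P.io (b, -T b) := hb
          rw [map_add, neg_add, ← Prod.mk_add_mk, map_add, mv_add, ha', hb']
        zero_mem' := by
          show mv g (P.io (0, -T 0)) = _
          rw [map_zero, neg_zero, Prod.mk_zero_zero, map_zero, mv_zero]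
        smul_mem' := fun r a ha => by
          show mv g (P.io (r • a, -T (r • a))) = _
          have ha' : mv g (P.io (a, -T a)) = P.io (a, -T a) := ha
          rw [map_smul, ← smul_neg, ← Prod.smul_mk, map_smul, mv_smul, ha'] }
    have hWtop : W = ⊤ := P.E.Z_fixed hf W h4 (fun w hw => by
      show mv g (P.io (mv (P.E.Z hf) w, -T (mv (P.E.Z hf) w))) = _
      rw [hTd, P.E.T5_Z hf, ← mv_neg, ← P.fac_m_io hf (P.E.Z hf) (w, -P.E.T5 hf w), ← mv_mul, (hzc c).eq, mv_mul]
      exact congrArg _ hw)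
      ((Submodule.ne_bot_iff W).2 ⟨v₀.1, congrArg Subtype.val hz, v₀.2⟩)
    have hplus : ∀ v, mv g (P.io (v, -T v)) = P.io (v, -T v) := fun v => (hWtop ▸ Submodule.mem_top : v ∈ W)
    have hminus : ∀ v, mv g (P.io (v, T v)) = P.io (v, T v) := fun v => by
      obtain ⟨⟨q1, q2⟩, hq⟩ := P.act hf C.toSl h4 hg.2.1 (v, T v)
      have hq2 : q2 = T q1 := by
        have e := P.T5_io hf (q1, q2)
        rw [← hq, ← mv_mul, ← mv_mul, ← (hzc c).eq, ← (hzc c).inv_right.eq, mv_mul, mv_mul, ← mv_add, ← mv_sub,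
          P.T5_io hf] at e
        have e' : P.io (P.E.T5 hf v, P.E.T5 hf (T v)) = -mv (fac P.i (P.E.R hf)) (P.io (v, T v)) := by
          rw [P.R_io hf, ← map_neg]
          simp only [hTd, P.E.T5_sq hf, Prod.neg_mk, neg_neg]
        rw [e', mv_neg, ← mv_mul, hg.2.2.eq, mv_mul, hq, P.R_io hf, ← map_neg] at e
        have := congrArg Prod.fst (P.io_inj hf e)
        simpa [hTd] using this
      subst hq2
      have key : ∀ u, f (q1 - v) u = 0 := fun u => by
        have e := C.pres (C.iso hg.1) (P.io (v, T v)) (P.io (u, -T u))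
        rw [hq, hplus, P.Bt_io hf, P.Bt_io hf] at e
        simp only [hf.neg_right] at e
        rw [hTd, P.E.T5_adj hf, P.E.T5_sq hf, P.E.T5_adj hf, P.E.T5_sq hf, hf.neg_right, hf.neg_right] at e
        rw [hf.sub_left]
        exact (mul_eq_zero.1 (by linear_combination e : (2 : F) * (f q1 u - f v u) = 0)).resolve_left h2
      rw [hq, sub_eq_zero.1 (hf.nondeg _ key)]
    intro p
    have e : (2 : F) • p = ((p.1 + T p.2), -T (p.1 + T p.2)) + (p.1 - T p.2, T (p.1 - T p.2)) := by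
      refine Prod.ext ?_ ?_
      · show (2 : F) • p.1 = p.1 + T p.2 + (p.1 - T p.2)
        module
      · show (2 : F) • p.2 = -T (p.1 + T p.2) + T (p.1 - T p.2)
        rw [map_add, map_sub, hTd, P.E.T5_sq hf]
        module
    refine smul_right_injective _ h2 ?_
    show (2 : F) • mv g (P.io p) = (2 : F) • P.io p
    rw [← mv_smul, ← map_smul, e, map_add, mv_add, hplus, hminus]
  -- the base point
  have hy0 : P.E.y ≠ 0 := fun e => P.E.y0 (by rw [e, hf.zero_left])
  set z₀ : U := ι ⟨P.E.y, hy0⟩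
  set S := MulAction.stabilizer C' z₀
  have hS : ∀ z : U, MulAction.stabilizer C' z = S := fun z => by
    ext c
    rw [MulAction.mem_stabilizer_iff, MulAction.mem_stabilizer_iff]
    refine ⟨fun h => Subtype.ext ?_, fun h => Subtype.ext ?_⟩ <;> rw [hsmul]
    · exact hall c z h _
    · obtain ⟨v, rfl⟩ := hι.2 z
      exact hall c z₀ h _
  set O : K ⧸ H := ((1 : K) : K ⧸ H)
  set CH := MulAction.stabilizer C' O
  have hmemCH : ∀ c : C', c ∈ CH ↔ Mono (c.1 : GL (J → Fin k) F) := fun c => by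
    rw [MulAction.mem_stabilizer_iff]
    show ((c.1 * 1 : K) : K ⧸ H) = ((1 : K) : K ⧸ H) ↔ _
    rw [QuotientGroup.eq, mul_one, mul_one, inv_mem_iff]
    exact P.mem_HK
  have hSle : S ≤ CH := fun c hc => (hmemCH c).2
    (C.pair_fix_mono hJ hX B IH h4 P (hK c.1).1 (hall c z₀ hc))
  have hdvd : S.index ∣ 80 := hcard ▸ orbit_dvd S hS
  have hmul := Subgroup.relIndex_mul_index hSle
  -- twenty images
  have hge : 20 ≤ S.relIndex CH := by
    have hrel : S.relIndex CH = (MulAction.stabilizer CH z₀).index := by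
      show (S.subgroupOf CH).index = _
      congr 1
    rw [hrel, MulAction.index_stabilizer, ← Nat.card_coe_set_eq]
    let R0 : Set (Fin k → F) := {u | ∃ c ∈ MulAction.orbit CH z₀, (c : U).1 = P.io (u, -T u)}
    have hstep : ∀ (g : K) (hg : g ∈ C'), Mono (g : GL (J → Fin k) F) → ∀ u ∈ R0, ∀ u',
        mv (g : GL (J → Fin k) F) (P.io (u, -T u)) = P.io (u', -T u') → u' ∈ R0 := by
      rintro g hg hm u ⟨z, hz, hzu⟩ u' e
      refine ⟨(⟨⟨g, hg⟩, (hmemCH _).2 hm⟩ : CH) • z, MulAction.mem_orbit_of_mem_orbit _ hz, ?_⟩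
      show mv (g : GL (J → Fin k) F) z.1 = _
      rw [hzu, e]
    have hsC : (⟨fac P.i (P.E.R hf), P.mem_K.2 ⟨C.mm P.i _ _ (P.E.apb hf) P.E.a0, by
        show _ = _
        rw [← fac_mul, ← fac_mul, eq_comm]
        refine congrArg _ (P.E.ext4 hf ?_ ?_ ?_ ?_)
        all_goals simp [mv_mul, mv_neg, P.E.Rx hf, P.E.Ry hf, P.E.Ra hf, P.E.Rb hf, P.E.Dx hf, P.E.Dy hf, P.E.Da hf,
          P.E.Db hf], Commute.refl _⟩⟩ : K) ∈ C' := Subgroup.mem_centralizer_singleton_iff.2 (Subtype.ext (by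
      rw [Subgroup.coe_mul, Subgroup.coe_mul, hzK]
      exact fac_comm P.him _ _))
    have hzC : zK ∈ C' := Subgroup.mem_centralizer_singleton_iff.2 rfl
    have hR0y : P.E.v5 0 ∈ R0 := ⟨z₀, MulAction.mem_orbit_self z₀, rfl⟩
    have hR0T : ∀ u ∈ R0, T u ∈ R0 := fun u hu => hstep _ hsC ⟨1, monoOf_fac _ _⟩ u hu _ (by
      show mv (fac P.i (P.E.R hf)) _ = _
      rw [P.R_io hf]
      simp only [hTd, P.E.T5_sq hf, neg_neg])
    have hR0Z : ∀ u ∈ R0, mv (P.E.Z hf) u ∈ R0 := fun u hu => hstep zK hzC (by rw [hzK]; exact ⟨1, monoOf_fac _ _⟩)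
      u hu _ (by rw [hzK, P.fac_m_io hf, hTd, P.E.T5_Z hf, ← mv_neg])
    have hR0v : ∀ j : Fin 5, P.E.v5 j ∈ R0 := fun j => by
      have : ∀ n : ℕ, mv (P.E.Z hf ^ n) (P.E.v5 0) ∈ R0 := fun n => by
        induction n with
        | zero => rw [pow_zero, mv_one]; exact hR0y
        | succ n ih => rw [pow_succ', mv_mul]; exact hR0Z _ ih
      have := this j
      rwa [P.E.Z_pow_apply hf, Fin.cast_val_eq_self] at this
    have hR0n : ∀ u ∈ R0, -u ∈ R0 := fun u hu => by
      have := hR0T _ (hR0T u hu)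
      rwa [hTd, P.E.T5_sq hf] at this
    let sgn : Bool → F := fun b => if b then 1 else -1
    let pt : Bool × Bool × Fin 5 → Fin k → F := fun d =>
      sgn d.1 • (if d.2.1 then T (P.E.v5 d.2.2) else P.E.v5 d.2.2)
    have hpt : ∀ d, pt d ∈ R0 := by
      rintro ⟨s, t, j⟩
      have hb : (if t then T (P.E.v5 j) else P.E.v5 j) ∈ R0 := by
        cases t
        · exact hR0v j
        · exact hR0T _ (hR0v j)
      cases s
      · simp only [pt, sgn, Bool.false_eq_true, if_false, neg_one_smul]; exact hR0n _ hb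
      · simp only [pt, sgn, if_true, one_smul]; exact hb
    have hd5 : ∀ j l : Fin 5, ∃ d : Fin 5, d ≠ j ∧ d ≠ l := by decide
    have hv5 : ∀ (s s' : F) (j l : Fin 5), s' ≠ 0 → s • P.E.v5 j = s' • P.E.v5 l → j = l ∧ s = s' := by
      intro s s' j l hs0 e
      obtain ⟨d, hdj, hdl⟩ := hd5 j l
      have e1 := congrArg (fun u => f u (P.E.v5 d)) e
      simp only [hf.smul_left, P.E.v5_gram hf, if_neg hdj.symm, if_neg hdl.symm, mul_one] at e1
      refine ⟨?_, e1⟩
      by_contra hjl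
      have e2 := congrArg (fun u => f u (P.E.v5 j)) e
      simp only [hf.smul_left, P.E.v5_gram hf, if_neg (Ne.symm hjl), if_true, mul_one, e1] at e2
      exact hs0 ((mul_eq_zero.1 (show (2 : F) * s' = 0 by first
        | linear_combination e2
        | linear_combination -e2)).resolve_left h2)
    have hsgn : ∀ s, sgn s ≠ 0 ∧ sgn s * sgn s = 1 := fun s => by cases s <;> simp [sgn]
    have hinj : Function.Injective pt := by
      rintro ⟨s, t, j⟩ ⟨s', t', l⟩ e
      have hn : ∀ (s : Bool) (t : Bool) (j : Fin 5), f (pt (s, t, j)) (pt (s, t, j)) = if t then 1 else -1 := by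
        intro s t j
        show f (sgn s • _) (sgn s • _) = _
        rw [hf.smul_left, hf.smul_right', ← mul_assoc, (hsgn s).2, one_mul]
        cases t
        · simp [P.E.v5_gram hf]
        · simp [hTd, P.E.T5_adj hf, P.E.T5_sq hf, hf.neg_right, P.E.v5_gram hf]
      have ht : t = t' := by
        have h := hn s t j
        rw [e, hn] at h
        cases t <;> cases t' <;> first | rfl | (exfalso; simp at h; exact h2 (by first | linear_combination h | linear_combination -h))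
      subst ht
      obtain ⟨hjl, hs⟩ : j = l ∧ sgn s = sgn s' := by
        cases t
        · exact hv5 _ _ _ _ (hsgn _).1 e
        · simp only [pt, if_true, ← map_smul] at e
          have e' := congrArg T e
          rw [hTd, P.E.T5_sq hf, P.E.T5_sq hf, neg_inj] at e'
          exact hv5 _ _ _ _ (hsgn _).1 e'
      subst hjl
      cases s <;> cases s' <;> first | rfl | (exfalso; simp [sgn] at hs; exact h2 (by first | linear_combination hs | linear_combination -hs))
    choose z hz hzv using hpt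
    have hzi : Function.Injective fun d => (⟨z d, hz d⟩ : MulAction.orbit CH z₀) := fun d d' e => by
      refine hinj (congrArg Prod.fst (P.io_inj hf (a₁ := (pt d, -T (pt d))) (a₂ := (pt d', -T (pt d'))) ?_))
      rw [← hzv d, ← hzv d']
      exact congrArg Subtype.val (congrArg Subtype.val e)
    have := Nat.card_le_card_of_injective _ hzi
    simpa [Nat.card_eq_fintype_card] using this
  have h1 : CH.index ∣ 80 := (Dvd.intro_left _ hmul).trans hdvd
  have h5 := Nat.le_of_dvd (by norm_num) hdvd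
  rw [← hmul] at h5
  have h6 := Nat.mul_le_mul_right CH.index hge
  have h8 : CH.index ≠ 0 := fun e => by rw [e] at h1; norm_num at h1
  have h9 : CH.index ≠ 3 := fun e => by rw [e] at h1; norm_num at h1
  simp only [Finset.mem_insert, Finset.mem_singleton]
  omega

/-- Over three elements with two slots everything commuting with the rotation is monomial. -/
theorem two_cent (h4 : k = 4) (P : Two f J) {v : GL (J → Fin k) F} (hv : v ∈ X)
    (hy : Commute v (fac P.i (P.E.D C.hf))) (hs : Commute v (fac P.i (P.E.R C.hf))) : Mono v := by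
  classical
  have hf := C.hf
  haveI : Fintype F := Fintype.ofFinite F
  set K := P.K C.hf X
  set H := P.HK C.hf X
  set zK : K := ⟨fac P.m (P.E.Z hf), C.slot_mem_K P (C.Z_mem P.E P.m)⟩
  have h5 : Fact (Nat.Prime 5) := ⟨by norm_num⟩
  have hp : IsPGroup 5 (Subgroup.zpowers zK) := by
    rintro ⟨_, n, rfl⟩
    refine ⟨1, Subtype.ext ?_⟩
    have hz : zK ^ 5 = 1 := Subtype.ext (by
      show fac P.m (P.E.Z hf) ^ 5 = 1
      rw [fac_pow, P.E.Z_five hf, fac_one])
    show (zK ^ n) ^ (5 ^ 1) = 1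
    rw [pow_one, ← zpow_natCast, ← _root_.zpow_mul, mul_comm, _root_.zpow_mul, zpow_natCast, hz, _root_.one_zpow]
  set O : K ⧸ H := ((1 : K) : K ⧸ H)
  set C' := Subgroup.centralizer ({zK} : Set K)
  have hfix : MulAction.fixedPoints (Subgroup.zpowers zK) (K ⧸ H) = MulAction.orbit C' O := by
    ext ω
    constructor
    · intro hω
      obtain ⟨c, hc, hcω⟩ := C.fixed_orbit hJ hX B IH h4 P zK rfl ω (hω ⟨zK, Subgroup.mem_zpowers zK⟩)
      refine ⟨⟨c, hc⟩, ?_⟩
      show ((c * 1 : K) : K ⧸ H) = ω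
      rw [mul_one, hcω]
    · rintro ⟨c, rfl⟩ ⟨_, n, rfl⟩
      suffices zK ∈ MulAction.stabilizer K ((c.1 : K) : K ⧸ H) by
        have h := MulAction.mem_stabilizer_iff.1 ((MulAction.stabilizer K ((c.1 : K) : K ⧸ H)).zpow_mem this n)
        show zK ^ n • ((c.1 * 1 : K) : K ⧸ H) = ((c.1 * 1 : K) : K ⧸ H)
        rw [mul_one]
        exact h
      rw [MulAction.mem_stabilizer_iff]
      show ((zK * c.1 : K) : K ⧸ H) = _
      rw [← Subgroup.mem_centralizer_singleton_iff.1 c.2, QuotientGroup.eq,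
        show (c.1 * zK)⁻¹ * c.1 = zK⁻¹ by group]
      exact H.inv_mem ⟨1, monoOf_fac _ _⟩
  have hmod := hp.card_modEq_card_fixedPoints (α := K ⧸ H)
  rw [hfix, Nat.card_coe_set_eq, ← MulAction.index_stabilizer] at hmod
  have hρ := C.orbit_small hJ hX B IH h4 P zK rfl
  simp only [Finset.mem_insert, Finset.mem_singleton] at hρ
  have hb : H.index * 80 ≤ 2240 := C.pair_bound hJ hX B IH h4 P
  have hr : 9 ∣ H.index - 1 := C.roots_dvd hJ hX B IH h4 P
  have hpos : H.index ≠ 0 := Subgroup.index_ne_zero_of_finite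
  have h19 : ¬ 19 ∣ H.index := fun h => gl_sixteen P.E.three (ι := J → Fin k)
    (by rw [Fintype.card_fun, P.card2, Fintype.card_fin, h4]; rfl)
    ((h.trans H.index_dvd_card).trans (Subgroup.card_subgroup_dvd_card K))
  have hm : Nat.card (K ⧸ H) = H.index := rfl
  rw [hm, Nat.ModEq] at hmod
  have h1 : H.index = 1 := by
    obtain ⟨q, hq⟩ := hr
    rcases hρ with hρ | hρ | hρ <;> rw [hρ] at hmod <;> by_contra hne <;>
      (apply h19; rw [show H.index = 19 by omega])
  have := Subgroup.index_eq_one.1 h1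
  exact P.mem_HK.1 (show (⟨v, P.mem_K.2 ⟨hv, hy, hs⟩⟩ : K) ∈ H by rw [this]; exact Subgroup.mem_top _)

end Ctx

end Cfsg.Agent.OrthEvenWreath
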