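/-
Tensor powers of a symmetric form of dimension four: all members are monomial, given the centralisers of plane involutions.
-/
import Cfsg.Agent.Lib.OrthWreathEven.FourCent

set_option autoImplicit false
set_option linter.unusedSectionVars false

namespace Cfsg.Agent.OrthEvenWreath

open scoped Matrix
open Matrix Cfsg.Agent.Transvec Cfsg.Agent.TensorMax Cfsg.Agent.WreathMax
open Cfsg.Agent.FormWreath hiding up mv_up_ins
open Cfsg.Agent.OrthWreath hiding Sl Ctx Base Ind Inv Gd fixsp_mir small_mir split_sim rho_omega fix_line_mono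
  exists_noncomm
open Cfsg.Agent.UWreath (mono_mul mono_inv)

variable {F : Type*} [Field F] [Finite F] {k : ℕ} {J : Type} [Fintype J] [DecidableEq J]
variable {f : (Fin k → F) → (Fin k → F) → F} {κ : F}

local notation "σ₁" => RingEquiv.refl F

namespace Sl

variable (S : Sl f κ)
include S

theorem mir_mr (h4 : k = 4) {x : Fin k → F} (hx : f x x ≠ 0) : IsMir f (mr S.hf x) := by
  refine ⟨mr_isom S.hf hx, mr_sq S.hf hx, ?_⟩
  have hx0 : x ≠ 0 := fun e => hx (by rw [e, S.hf.zero_left])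
  have : fixsp (mr S.hf x) = Submodule.span F {x} := by
    refine le_antisymm (fun u hu => ?_) ((Submodule.span_singleton_le_iff_mem _ _).2 (mem_fixsp.2 (mr_self S.hf hx)))
    rw [mem_fixsp, mv_mr S.hf hx] at hu
    refine Submodule.mem_span_singleton.2 ⟨f u x / f x x, smul_right_injective _ S.two ?_⟩
    show (2 : F) • (f u x / f x x) • x = (2 : F) • u
    rw [smul_smul, ← mul_div_assoc]
    linear_combination (norm := module) hu
  rw [this, finrank_span_singleton hx0]

/-- A plane involution commuting with a similitude of scalar square. -/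
theorem exists_pl_comm (h4 : k = 4) {A : GL (Fin k) F} {μ l : F} (hμ : μ ≠ 0)
    (hA : ∀ v, mv A (mv A v) = μ • v) (hl : ∀ u v, f (mv A u) (mv A v) = l * f u v) :
    ∃ E, IsPl f E ∧ A * E = E * A := by
  have hf := S.hf
  obtain ⟨rfl, hsa⟩ := S.sim_sq h4 hμ hA hl
  suffices H : ∃ x y, f x x ≠ 0 ∧ f y y ≠ 0 ∧ f x y = 0 ∧
      ∀ v, mv A (mv (mr hf x * mr hf y) v) = mv (mr hf x * mr hf y) (mv A v) by
    obtain ⟨x, y, hx, hy, hxy, h⟩ := H
    exact ⟨_, S.isPl_mr hx hy hxy, ext_mv fun v => by rw [mv_mul A, h, ← mv_mul _ A]⟩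
  by_cases hsq : IsSquare l
  · obtain ⟨α, rfl⟩ := hsq
    have hα : α ≠ 0 := fun e => hμ (by rw [e, mul_zero])
    obtain ⟨G, hG, hGi, hGA⟩ := S.sim_inv h4 hα hA hl
    obtain ⟨T, hT, hTi, hT2, hAT⟩ : ∃ T : GL (Fin k) F, T * T = 1 ∧ (∀ u v, f (mv T u) (mv T v) = f u v) ∧
        2 ≤ Module.finrank F (fixsp T) ∧ ∃ c : F, ∀ v, mv A v = c • mv T v := by
      have := S.eig_sum hG
      by_cases h2 : 2 ≤ Module.finrank F (fixsp G)
      · exact ⟨G, hG, hGi, h2, α, hGA⟩
      · exact ⟨-G, by rw [neg_mul_neg, hG], S.neg_isom hGi, by omega, -α,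
          fun v => by rw [mv_neg_gl, smul_neg, neg_smul, neg_neg, hGA]⟩
    obtain ⟨c, hc⟩ := hAT
    obtain ⟨x, hxm, hx⟩ := S.aniso_in (S.eig_nd hT hTi) (S.ne_bot_of (by omega))
    obtain ⟨hn, hd⟩ := S.perp_step (S.eig_nd hT hTi) hxm hx
    obtain ⟨y, hym, hy⟩ := S.aniso_in hn (S.ne_bot_of (by omega))
    obtain ⟨hyT, hyx⟩ := Submodule.mem_inf.1 hym
    rw [mem_prp] at hyx
    have hxy : f x y = 0 := by rw [hf.comm', hyx]
    refine ⟨x, y, hx, hy, hxy, fun v => ?_⟩
    have hTx := mem_fixsp.1 hxm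
    have hTy := mem_fixsp.1 hyT
    rw [S.mm_apply hx hy hxy, hc, hc, S.mm_apply hx hy hxy, mv_sub, mv_sub, mv_smul, mv_smul, hTx, hTy,
      hf.smul_left, hf.smul_left,
      show f (mv T v) x = f v x by conv_lhs => rw [← hTx, hTi],
      show f (mv T v) y = f v y by conv_lhs => rw [← hTy, hTi]]
    module
  · obtain ⟨v₀, -, hv₀, hv, -, -, -, -, -⟩ := S.sa_frame h4 hsq hA hsa
    have hAA : ∀ x y, f (mv A x) (mv A y) = l * f x y := fun x y => by rw [hsa, hA, hf.smul_right']
    have hx : f (mv A v₀) (mv A v₀) ≠ 0 := by rw [hAA]; exact mul_ne_zero hμ hv₀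
    have hxy : f v₀ (mv A v₀) = 0 := by rw [hf.comm']; exact hv
    refine ⟨v₀, mv A v₀, hv₀, hx, hxy, fun v => ?_⟩
    rw [S.mm_apply hv₀ hx hxy, S.mm_apply hv₀ hx hxy, mv_sub, mv_sub, mv_smul, mv_smul, hA, hAA, hAA,
      show f (mv A v) v₀ = f v (mv A v₀) from hsa v v₀, smul_smul]
    match_scalars <;> field_simp

end Sl

variable {Q : ((J → Fin k) → F) → F} {X : Subgroup (GL (J → Fin k) F)}

namespace Ctx

variable (C : Ctx f Q κ X) (hJ : 2 ≤ Fintype.card J) (hX : ¬ Geo.omegaGL Q ≤ X) (B : Base f Q κ) (IH : Ind f κ J)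
include C hJ hX B IH

omit hJ hX B IH in
theorem two_univ (hJ2 : Fintype.card J = 2) {a b : J} (hab : a ≠ b) (j : J) : j = a ∨ j = b := by
  by_contra hc
  push Not at hc
  have h3 := Finset.card_le_univ ({a, b, j} : Finset J)
  rw [Finset.card_insert_of_notMem (by simp [hab, hc.1.symm]), Finset.card_pair hc.2.symm, hJ2] at h3
  omega

omit hJ hX B IH in
/-- The conjugate of a pair of mirrors by a monomial member. -/
theorem mir_pair (hJ2 : Fintype.card J = 2) {a b : J} (hab : a ≠ b) {h : GL (J → Fin k) F} (hh : h ∈ X)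
    {π : Equiv.Perm J} {A : J → GL (Fin k) F} (hA : ∀ x, mv h (pten x) = pten fun j => mv (A j) (x (π j)))
    {M M' : GL (Fin k) F} (hM : IsMir f M) (hM' : IsMir f M') :
    ∃ P P', IsMir f P ∧ IsMir f P' ∧ h * (fac a M * fac b M') * h⁻¹ = fac a P * fac b P' ∧
      (π a = a → P = A a * M * (A a)⁻¹) := by
  rw [show h * (fac a M * fac b M') * h⁻¹ = h * fac a M * h⁻¹ * (h * fac b M' * h⁻¹) by group, conj_slot hA,
    conj_slot hA]
  obtain ⟨l, -, hl⟩ := C.toSl.slot_sim (C.pres (C.iso hh)) hA (π⁻¹ a)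
  obtain ⟨l', -, hl'⟩ := C.toSl.slot_sim (C.pres (C.iso hh)) hA (π⁻¹ b)
  have hP := C.toSl.mir_conj hl hM
  have hP' := C.toSl.mir_conj hl' hM'
  by_cases ha : π a = a
  · have e : π⁻¹ a = a := π.injective (by rw [show π (π⁻¹ a) = a from π.apply_symm_apply a, ha])
    have e' : π⁻¹ b = b := ((C.two_univ hJ2 hab (π⁻¹ b)).resolve_left fun e' => hab (π⁻¹.injective (e.trans e'.symm)))
    rw [e] at hP ⊢
    rw [e'] at hP' ⊢
    exact ⟨_, _, hP, hP', rfl, fun _ => rfl⟩
  · have e : π⁻¹ a = b := (C.two_univ hJ2 hab (π⁻¹ a)).resolve_left fun e => ha (by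
      conv_lhs => rw [← e]
      exact π.apply_symm_apply a)
    have e' : π⁻¹ b = a := (C.two_univ hJ2 hab (π⁻¹ b)).resolve_right fun e' => hab (π⁻¹.injective (e.trans e'.symm))
    rw [e] at hP ⊢
    rw [e'] at hP' ⊢
    exact ⟨_, _, hP', hP, fac_comm hab.symm _ _, fun h => absurd h ha⟩

/-- Members commuting with a pair of mirrors are monomial, for two slots. -/
theorem zcent (h4 : k = 4) (hC : CentPl f X) (hJ2 : Fintype.card J = 2) {a b : J} (hab : a ≠ b)
    {M M' : GL (Fin k) F} (hM : IsMir f M) (hM' : IsMir f M') {v : GL (J → Fin k) F} (hv : v ∈ X)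
    (hcomm : v * (fac a M * fac b M') = fac a M * fac b M' * v) : Mono v := by
  classical
  have hf := C.hf
  have hk : 0 < k := by omega
  obtain ⟨x, hx, hMx, -, hMp⟩ := C.toSl.mir_axis hM
  obtain ⟨hn, hd⟩ := C.toSl.perp_step C.toSl.nd_top Submodule.mem_top hx
  rw [C.toSl.finrank_top'] at hd
  obtain ⟨x₁, hx₁m, y₁, hy₁m, hx₁, hy₁, h₁⟩ := C.toSl.pair_in hn (by omega)
  obtain ⟨ε, hε⟩ := FiniteField.exists_nonsquare (F := F) fun e => C.two (by
    haveI : CharP F 2 := ringChar.eq_iff.1 e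
    exact CharP.cast_eq_zero F 2)
  have hε0 : ε ≠ 0 := fun e => hε ⟨0, by rw [e, mul_zero]⟩
  obtain ⟨hn1, hd1⟩ := C.toSl.perp_step hn hx₁m (hx₁ ▸ one_ne_zero)
  obtain ⟨y₂, hy₂m, hy₂⟩ := C.toSl.exists_value hn1 (by omega) (-ε)
  simp only [Submodule.mem_inf, mem_prp, Submodule.mem_top, true_and] at hx₁m hy₁m hy₂m
  obtain ⟨hy₂x, hy₂x₁⟩ := hy₂m
  have h₂ : f x₁ y₂ = 0 := by rw [hf.comm', hy₂x₁]
  have hx₁0 : f x₁ x₁ ≠ 0 := hx₁ ▸ one_ne_zero
  have hy₁0 : f y₁ y₁ ≠ 0 := hy₁ ▸ neg_ne_zero.2 one_ne_zero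
  have hy₂0 : f y₂ y₂ ≠ 0 := hy₂ ▸ neg_ne_zero.2 hε0
  set D := mr hf x₁ * mr hf y₁
  set D₁ := mr hf x₁ * mr hf y₂
  have hD : IsPl f D := C.toSl.isPl_mr hx₁0 hy₁0 h₁
  have hD₁ : IsPl f D₁ := C.toSl.isPl_mr hx₁0 hy₂0 h₂
  have hDx : mv D x = x :=
    C.toSl.mm_perp hx₁0 hy₁0 h₁ (by rw [hf.comm', hx₁m]) (by rw [hf.comm', hy₁m])
  have hD₁x : mv D₁ x = x :=
    C.toSl.mm_perp hx₁0 hy₂0 h₂ (by rw [hf.comm', hx₁m]) (by rw [hf.comm', hy₂x])
  set u := fac a M * fac b M' with hud
  have hcom : ∀ T : GL (Fin k) F, M * T = T * M → Commute u (fac a T) := fun T hT => by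
    show u * fac a T = fac a T * u
    rw [hud, mul_assoc, fac_comm hab.symm, ← mul_assoc, ← fac_mul, hT, fac_mul, mul_assoc]
  obtain ⟨h, hhX, huh, hm, -, hw⟩ := C.engine (u := u) (t := fac a D) (q := fac a D₁) (C.fac_pl hD a)
    (C.fac_pl hD₁ a) hv (by rw [← fac_mul, hD.2.1, fac_one]) (by rw [← fac_mul, hD₁.2.1, fac_one])
    ⟨1, monoOf_fac a D⟩
    (hcom D (C.toSl.mir_comm hM hx₁0 hy₁0 (hMp _ hx₁m) (hMp _ hy₁m)))
    (hcom D₁ (C.toSl.mir_comm hM hx₁0 hy₂0 (hMp _ hx₁m) (hMp _ hy₂x)))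
    hcomm.symm fun z hz => C.pl_step4 hJ hX B IH h4 hC hD hz
  have hhm := C.pl_fusion hJ hX B IH h4 hC hhX hD₁ hm
  obtain ⟨π, A, hA⟩ := id hhm
  have hq : h * fac a D₁ * h⁻¹ = fac (π⁻¹ a) (A (π⁻¹ a) * D₁ * (A (π⁻¹ a))⁻¹) := conj_slot hA a D₁
  obtain ⟨l, hl0, hlA⟩ := C.toSl.slot_sim (C.pres (C.iso hhX)) hA (π⁻¹ a)
  have hD'' := C.toSl.pl_conj' hlA hD₁
  set s := v * fac a D₁ * v⁻¹ with hs
  have hsX : s ∈ X := X.mul_mem (X.mul_mem hv (C.fac_pl hD₁ a)) (X.inv_mem hv)
  have hsm : Mono s := by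
    by_cases ha : π a = a
    · have e : π⁻¹ a = a := π.injective (by rw [show π (π⁻¹ a) = a from π.apply_symm_apply a, ha])
      rw [e] at hlA hD'' hq
      set D'' := A a * D₁ * (A a)⁻¹ with hD''d
      obtain ⟨P, P', hP, hP', hPe, hPA⟩ := C.mir_pair hJ2 hab hhX hA hM hM'
      rw [← hud, ← huh.eq, mul_inv_cancel_right, hud] at hPe
      have hPM : P = M := by
        refine (C.toSl.facs_sign hab hab hM.2.1 hM.1 hP.2.1 hP.1 hPe).resolve_right fun e' => ?_
        have h1 := hP.2.2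
        have h2 := C.toSl.eig_sum hM.2.1
        have h3 := hM.2.2
        rw [e'] at h1
        omega
      rw [hPA ha] at hPM
      have hD''x : mv D'' x = x := by
        have hAx : ∃ c : F, mv (A a) x = c • x := by
          obtain ⟨x', -, -, hx'fix, -⟩ := C.toSl.mir_axis hM
          have hfa : mv M (mv (A a) x) = mv (A a) x := by
            conv_lhs => rw [← hPM, mv_mul, mv_inv_mv, mv_mul, hMx]
          obtain ⟨c, hc⟩ := hx'fix _ hfa
          obtain ⟨c', hc'⟩ := hx'fix _ hMx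
          refine ⟨c / c', ?_⟩
          have hc'0 : c' ≠ 0 := fun e0 => hx (by rw [hc', e0, zero_smul, hf.zero_left])
          rw [hc, hc', smul_smul, div_mul_cancel₀ _ hc'0]
        obtain ⟨c, hc⟩ := hAx
        have hc0 : c ≠ 0 := fun e0 => hx (by
          have : x = 0 := mv_inj (A a) (by rw [hc, e0, zero_smul, mv_zero])
          rw [this, hf.zero_left])
        refine smul_right_injective _ hc0 ?_
        show c • mv D'' x = c • x
        rw [← mv_smul, ← hc, hD''d, mv_mul, mv_inv_mv, mv_mul, hD₁x]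
      rw [hq, ← fac_mul] at hw
      have hτ1 : fac a (D * D'') ≠ (1 : GL (J → Fin k) F) := fun e1 => by
        rw [fac_one_iff hk] at e1
        have hDD : D'' = D := by rw [← one_mul D'', ← hD.2.1, mul_assoc, e1, mul_one]
        set z := mv (A a)⁻¹ (x₁ + y₁)
        have hz : mv D₁ z = -z := by
          refine mv_inj (A a) ?_
          rw [mv_neg, mv_mv_inv, ← mv_mul, ← mv_mul, ← hD''d, hDD, mv_add, C.toSl.mm_left hx₁0 hy₁0 h₁,
            C.toSl.mm_right hx₁0 hy₁0 h₁]
          abel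
        have hz0 : z = 0 := C.toSl.aniso_plane hx₁ hε0 hε hy₂ h₂ hz (mul_left_cancel₀ hl0 (by
          rw [mul_zero, ← hlA, mv_mv_inv, hf.add_left, hf.add_right, hf.add_right, hx₁, hy₁, h₁, hf.comm' y₁ x₁, h₁]
          ring))
        have hxy0 : x₁ + y₁ = 0 := by rw [← mv_mv_inv (A a) (x₁ + y₁)]; show mv (A a) z = 0; rw [hz0, mv_zero]
        have h1 := congrArg (fun v => f v x₁) hxy0
        simp only [hf.add_left, hx₁, hf.comm' y₁ x₁, h₁, hf.zero_left, add_zero] at h1
        exact one_ne_zero h1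
      obtain ⟨n, hn1, hn2, -, hn4⟩ := hw.resolve_left hτ1
      rw [fac_pow] at hn1 hn2 hn4
      set N := D * D'' with hNd
      set G := N ^ n with hGd
      have hG2 : G * G = 1 := (fac_one_iff hk a).1 (by rw [fac_mul]; exact hn2)
      have hNi : ∀ p q, f (mv N p) (mv N q) = f p q := fun p q => by
        rw [hNd, mv_mul D D'' p, mv_mul D D'' q, hD.1, hD''.1]
      have hGi : ∀ p q, f (mv G p) (mv G q) = f p q := pow_isom hNi n
      have hG1 : G ≠ 1 := fun e1 => hn1 (by rw [e1, fac_one])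
      have hG1' : G ≠ -1 := fun e1 => by
        have := pow_fixed (T := N) (x := x) (by rw [hNd, mv_mul, hD''x, hDx]) n
        rw [show N ^ n = -1 from e1, mv_neg_gl, mv_one] at this
        exact hx (by rw [show x = 0 from (smul_eq_zero.1 (by linear_combination (norm := module) -this :
          (2 : F) • x = 0)).resolve_left C.two, hf.zero_left])
      exact C.conj_four hJ hX B IH h4 hC hsX hG2 hGi hG2 hGi hG1 hG1' (i := a) (l := a)
        (by rw [hn4, mul_inv_cancel_right])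
    · have e : π⁻¹ a = b := (C.two_univ hJ2 hab (π⁻¹ a)).resolve_left fun e => ha (by
        conv_lhs => rw [← e]
        exact π.apply_symm_apply a)
      rw [e] at hlA hD'' hq
      set D'' := A b * D₁ * (A b)⁻¹
      rw [hq] at hw
      have hsq : fac a D * fac b D'' * (fac a D * fac b D'') = 1 := by
        rw [mul_assoc, ← mul_assoc (fac b D''), fac_comm hab.symm, mul_assoc, ← fac_mul b, hD''.2.1, fac_one,
          mul_one, ← fac_mul, hD.2.1, fac_one]
      obtain ⟨n, hn1, -, -, hn4⟩ := hw.resolve_left fun e1 => hab (fac_slot hk (C.toSl.isPl_ctl hD)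
        (B := D''⁻¹) (by rw [← fac_inv]; exact eq_inv_of_mul_eq_one_left e1))
      have hn : (fac a D * fac b D'') ^ n = fac a D * fac b D'' := by
        rcases Nat.even_or_odd n with ⟨r, rfl⟩ | ⟨r, rfl⟩
        · exact absurd (by rw [← two_mul, pow_mul, pow_two, hsq, one_pow]) hn1
        · rw [pow_succ, pow_mul, pow_two, hsq, one_pow, one_mul]
      rw [hn] at hn4
      exact C.pair_cent4 hJ hX B IH h4 hC hab hD hD'' hsX hn4
  exact C.pl_fusion hJ hX B IH h4 hC hv hD₁ hsm

/-- Fusion of pairs of mirrors, for two slots. -/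
theorem zfus (h4 : k = 4) (hC : CentPl f X) (hJ2 : Fintype.card J = 2) {a b : J} (hab : a ≠ b)
    {M M' : GL (Fin k) F} (hM : IsMir f M) (hM' : IsMir f M') (hzX : fac a M * fac b M' ∈ X)
    {h : GL (J → Fin k) F} (hh : h ∈ X) (hm : Mono (h * (fac a M * fac b M') * h⁻¹)) : Mono h := by
  classical
  have hf := C.hf
  have hk : 0 < k := by omega
  haveI : Nonempty J := ⟨a⟩
  set z := fac a M * fac b M' with hz
  have hzz : z * z = 1 := by
    rw [hz, mul_assoc, ← mul_assoc (fac b M'), fac_comm hab.symm, mul_assoc, ← fac_mul b, hM'.2.1, fac_one, mul_one,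
      ← fac_mul, hM.2.1, fac_one]
  set w := h * z * h⁻¹ with hw
  have hwX : w ∈ X := X.mul_mem (X.mul_mem hh hzX) (X.inv_mem hh)
  have hww : w * w = 1 := by
    rw [hw, show h * z * h⁻¹ * (h * z * h⁻¹) = h * (z * z) * h⁻¹ by group, hzz, mul_one, mul_inv_cancel]
  obtain ⟨π, A, hA⟩ := id hm
  obtain ⟨hπ, hdat⟩ := C.toSl.slot_data (C.pres (C.iso hwX)) hww hA
  -- a pair of plane involutions commuting with the image
  obtain ⟨E, E', hE, hE', hcu⟩ : ∃ E E', IsPl f E ∧ IsPl f E' ∧ Commute w (fac a E * fac b E') := by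
    by_cases ha : π a = a
    · have hb : π b = b := (C.two_univ hJ2 hab (π b)).resolve_left fun e => hab (π.injective (ha.trans e.symm))
      obtain ⟨μ, l, hμ, hμA, hlA⟩ := hdat a
      rw [ha] at hμA
      obtain ⟨μ', l', hμ', hμA', hlA'⟩ := hdat b
      rw [hb] at hμA'
      obtain ⟨E, hE, hcE⟩ := C.toSl.exists_pl_comm h4 hμ hμA hlA
      obtain ⟨E', hE', hcE'⟩ := C.toSl.exists_pl_comm h4 hμ' hμA' hlA'
      exact ⟨E, E', hE, hE', Commute.mul_right (fac_commute hA ha hcE) (fac_commute hA hb hcE')⟩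
    · have hab' : π⁻¹ b = a := π.injective (by
        rw [show π (π⁻¹ b) = b from π.apply_symm_apply b]
        exact ((C.two_univ hJ2 hab (π a)).resolve_left ha).symm)
      obtain ⟨μ, l, -, -, hlA⟩ := hdat a
      obtain ⟨x, -, y, -, hx, hy, hxy⟩ := C.toSl.pair_in C.toSl.nd_top (by rw [C.toSl.finrank_top']; omega)
      have hE' : IsPl f (mr hf x * mr hf y) :=
        C.toSl.isPl_mr (hx ▸ one_ne_zero) (hy ▸ neg_ne_zero.2 one_ne_zero) hxy
      set E' := mr hf x * mr hf y
      refine ⟨A a * E' * (A a)⁻¹, E', C.toSl.pl_conj' hlA hE', hE', ?_⟩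
      have e1 : w * fac b E' * w⁻¹ = fac a (A a * E' * (A a)⁻¹) := by rw [conj_slot hA, hab']
      have e2 : w * fac a (A a * E' * (A a)⁻¹) * w⁻¹ = fac b E' := by
        rw [← e1, show w * (w * fac b E' * w⁻¹) * w⁻¹ = (w * w) * fac b E' * (w * w)⁻¹ by group, hww, one_mul, inv_one,
          mul_one]
      show w * _ = _ * w
      rw [← mul_inv_eq_iff_eq_mul, show w * (fac a (A a * E' * (A a)⁻¹) * fac b E') * w⁻¹ =
        w * fac a (A a * E' * (A a)⁻¹) * w⁻¹ * (w * fac b E' * w⁻¹) by group, e2, e1, fac_comm hab.symm]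
  set u := fac a E * fac b E' with hu
  have huX : u ∈ X := X.mul_mem (C.fac_pl hE a) (C.fac_pl hE' b)
  have huu : u * u = 1 := by
    rw [hu, mul_assoc, ← mul_assoc (fac b E'), fac_comm hab.symm, mul_assoc, ← fac_mul b, hE'.2.1, fac_one, mul_one,
      ← fac_mul, hE.2.1, fac_one]
  set u₁ := h⁻¹ * u * h with hu1
  have hu1X : u₁ ∈ X := X.mul_mem (X.mul_mem (X.inv_mem hh) huX) hh
  have hu1z : u₁ * z = z * u₁ := by
    calc u₁ * z = h⁻¹ * (u * w) * h := by rw [hu1, hw]; group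
      _ = z * u₁ := by rw [← hcu.eq, hu1, hw]; group
  have hu1u : u₁ * u₁ = 1 := by
    rw [hu1, show h⁻¹ * u * h * (h⁻¹ * u * h) = h⁻¹ * (u * u) * h by group, huu, mul_one, inv_mul_cancel]
  obtain ⟨σ, N, hN⟩ := C.zcent hJ hX B IH h4 hC hJ2 hab hM hM' hu1X hu1z
  have hs : sgd u₁ = 0 := by
    rw [hu1, show h⁻¹ * u * h = h⁻¹ * u * h⁻¹⁻¹ by rw [inv_inv], sgd_conj]
    have e := C.toSl.sgd_fac2 hab hE.2.1 hE'.2.1
    rw [← hu, C.toSl.sgd_pl hE, show (k : ℤ) - 4 = 0 by omega, zero_mul, mul_zero] at e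
    exact (mul_eq_zero.1 e).resolve_right (by positivity)
  obtain ⟨c, hc, htr⟩ := C.toSl.exists_tr0 h4 (C.pres (C.iso hu1X)) hu1u hN hs
  obtain ⟨-, hdat'⟩ := C.toSl.slot_data (C.pres (C.iso hu1X)) hu1u hN
  obtain ⟨μ, l, hμ, hμN, hlN⟩ := hdat' c
  rw [hc] at hμN
  have hσ := C.two_fixed hJ2 hc
  -- the slot of trace zero commutes with its mirror
  obtain ⟨P, P', hP, hP', hPe, hPA⟩ := C.mir_pair hJ2 hab hu1X hN hM hM'
  rw [← hz, hu1z, mul_inv_cancel_right, hz] at hPe
  have hsign : ∀ X Y : GL (Fin k) F, IsMir f X → IsMir f Y → (Y = X ∨ Y = -X) → Y = X := fun X Y hX hY h => by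
    refine h.resolve_right fun e' => ?_
    have h1 := hY.2.2
    have h2 := C.toSl.eig_sum hX.2.1
    have h3 := hX.2.2
    rw [e'] at h1
    omega
  have hPM : P = M := hsign M P hM hP (C.toSl.facs_sign hab hab hM.2.1 hM.1 hP.2.1 hP.1 hPe)
  have hPM' : P' = M' := by
    rw [hPM] at hPe
    exact (fac_inj hk b (mul_left_cancel hPe)).symm
  obtain ⟨K, hK, hKM⟩ : ∃ K : GL (Fin k) F, IsMir f K ∧ N c * K = K * N c := by
    rcases C.two_univ hJ2 hab c with e | e
    · subst e
      refine ⟨M, hM, mul_inv_eq_iff_eq_mul.1 ?_⟩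
      rw [← hPA hc, hPM]
    · subst e
      refine ⟨M', hM', ?_⟩
      have h1 : fac a (N a * M * (N a)⁻¹) * fac c (N c * M' * (N c)⁻¹) = fac a M * fac c M' := by
        conv_rhs => rw [← hz]
        have := congrArg (· * u₁⁻¹) hu1z
        simp only [mul_inv_cancel_right] at this
        rw [← this, hz, show u₁ * (fac a M * fac c M') * u₁⁻¹ = u₁ * fac a M * u₁⁻¹ * (u₁ * fac c M' * u₁⁻¹) by group,
          conj_slot hN, conj_slot hN, hσ, inv_one, Equiv.Perm.one_apply, Equiv.Perm.one_apply]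
      have ha' : σ a = a := by rw [hσ]; rfl
      rw [← hPA ha', hPM] at h1
      exact mul_inv_eq_iff_eq_mul.1 (fac_inj hk c (mul_left_cancel h1))
  obtain ⟨α, hα⟩ : IsSquare μ := by
    obtain ⟨x, hx, hKx, hfix, -⟩ := C.toSl.mir_axis hK
    obtain ⟨g, hg⟩ := hfix (mv (N c) x) (by rw [← mv_mul, ← hKM, mv_mul, hKx])
    have e := hμN x
    rw [hg, mv_smul, hg, smul_smul] at e
    exact ⟨g, (smul_left_injective F (fun e0 => hx (by rw [e0, hf.zero_left])) e).symm⟩
  subst hα
  obtain ⟨E₁, hE₁, hNE⟩ := C.toSl.pl_of_tr0 h4 (fun e => hμ (by rw [e, mul_zero])) hμN hlN htr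
  have hcomm : u₁ * fac c E₁ = fac c E₁ * u₁ := fac_commute hN hc (ext_mv fun v => by
    rw [mv_mul, mv_mul, hNE, hNE, mv_smul])
  have heX : h * fac c E₁ * h⁻¹ ∈ X := X.mul_mem (X.mul_mem hh (C.fac_pl hE₁ c)) (X.inv_mem hh)
  refine C.pl_fusion hJ hX B IH h4 hC hh hE₁ (C.pair_cent4 hJ hX B IH h4 hC hab hE hE' heX ?_)
  calc h * fac c E₁ * h⁻¹ * u = h * (fac c E₁ * u₁) * h⁻¹ := by rw [hu1]; group
    _ = u * (h * fac c E₁ * h⁻¹) := by rw [← hcomm, hu1]; group

/-- All members are monomial, for at least three slots. -/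
theorem top_three (h4 : k = 4) (hC : CentPl f X) (hJ3 : 3 ≤ Fintype.card J) : ∀ g ∈ X, Mono g := by
  classical
  intro g hg
  have hf := C.hf
  have hk : 0 < k := by omega
  haveI : Nonempty J := Fintype.card_pos_iff.1 (by omega)
  obtain ⟨a⟩ := ‹Nonempty J›
  obtain ⟨x, -, y, -, hx, hy, hxy⟩ := C.toSl.pair_in C.toSl.nd_top (by rw [C.toSl.finrank_top']; omega)
  have hx0 : f x x ≠ 0 := hx ▸ one_ne_zero
  have hy0 : f y y ≠ 0 := hy ▸ neg_ne_zero.2 one_ne_zero
  set m := mr hf x with hmd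
  set D := mr hf x * mr hf y with hDd
  have hD : IsPl f D := C.toSl.isPl_mr hx0 hy0 hxy
  have hm := C.toSl.mir_mr h4 hx0
  obtain ⟨h, hhX, -, hhm', -, hw⟩ := C.engine (u := 1) (t := fac a m) (q := fac a D) (C.mir hJ3 a x hx0)
    (C.fac_pl hD a) hg (by rw [← fac_mul, mr_sq hf hx0, fac_one]) (by rw [← fac_mul, hD.2.1, fac_one])
    ⟨1, monoOf_fac a m⟩ (Commute.one_left _) (Commute.one_left _) (Commute.one_left _) fun z hz hzm => by
      have := C.mirror_fus hJ hX B IH h4 hC (X.inv_mem hz) hJ3 (i := a) hx0 (by rwa [inv_inv])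
      simpa using mono_inv this
  obtain ⟨j, D'', hD'', hje, -⟩ := C.pl_image4 hJ hX B IH h4 hC hhX hD hhm'
  rw [hje] at hw
  set s := g * fac a D * g⁻¹ with hs
  have hsX : s ∈ X := X.mul_mem (X.mul_mem hg (C.fac_pl hD a)) (X.inv_mem hg)
  have hsm : Mono s := by
    by_cases hja : j = a
    · subst hja
      rw [← fac_mul] at hw
      have hne : fac j (m * D'') ≠ (1 : GL (J → Fin k) F) := fun e => by
        rw [fac_one_iff hk] at e
        have e' : D'' = m := by rw [← one_mul D'', ← mr_sq hf hx0, mul_assoc, e, mul_one]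
        have h1 := hD''.2.2
        rw [e', hm.2.2] at h1
        omega
      obtain ⟨n, hn1, hn2, -, hn4⟩ := hw.resolve_left hne
      rw [fac_pow] at hn1 hn2 hn4
      set N := m * D'' with hNd
      set G := N ^ n with hGd
      have hG2 : G * G = 1 := (fac_one_iff hk j).1 (by rw [fac_mul]; exact hn2)
      have hNi : ∀ p q, f (mv N p) (mv N q) = f p q := fun p q => by
        rw [hNd, mv_mul m D'' p, mv_mul m D'' q, mr_isom hf hx0, hD''.1]
      have hG1 : G ≠ 1 := fun e1 => hn1 (by rw [e1, fac_one])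
      have hG1' : G ≠ -1 := fun e1 => by
        obtain ⟨v, hv, hv0⟩ := Submodule.exists_mem_ne_zero_of_ne_bot
          (p := fixsp (-D'') ⊓ LinearMap.ker (hf.formL x)) fun e' => by
            have h1 := Submodule.finrank_sup_add_finrank_inf_eq (fixsp (-D'')) (LinearMap.ker (hf.formL x))
            have h2 := LinearMap.finrank_range_add_finrank_ker (hf.formL x)
            have h3 := Submodule.finrank_le (LinearMap.range (hf.formL x))
            have h5 := Submodule.finrank_le (fixsp (-D'') ⊔ LinearMap.ker (hf.formL x))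
            have h6 := C.toSl.isPl_fix hD''
            rw [e', finrank_bot] at h1
            rw [Module.finrank_fintype_fun_eq_card, Fintype.card_fin] at h2 h5
            rw [Module.finrank_self] at h3
            omega
        obtain ⟨hv1, hv2⟩ := Submodule.mem_inf.1 hv
        rw [mem_prp] at hv2
        have := pow_fixed (T := N) (x := v) (by
          rw [hNd, mv_mul, mem_fixsp_neg.1 hv1, mv_neg, mr_perp hf hx0 hv2, neg_neg]) n
        rw [show N ^ n = -1 from e1, mv_neg_gl, mv_one] at this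
        exact hv0 ((smul_eq_zero.1 (by linear_combination (norm := module) -this : (2 : F) • v = 0)).resolve_left C.two)
      exact C.conj_four hJ hX B IH h4 hC hsX hG2 (pow_isom hNi n) hG2 (pow_isom hNi n) hG1 hG1' (i := j) (l := j)
        (by rw [hn4, mul_inv_cancel_right])
    · have hsq : fac a m * fac j D'' * (fac a m * fac j D'') = 1 := by
        rw [mul_assoc, ← mul_assoc (fac j D''), fac_comm hja, mul_assoc, ← fac_mul j, hD''.2.1, fac_one, mul_one,
          ← fac_mul, mr_sq hf hx0, fac_one]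
      obtain ⟨n, hn1, -, -, hn4⟩ := hw.resolve_left fun e1 => Ne.symm hja (fac_slot hk (C.toSl.mir_ctl hm)
        (B := D''⁻¹) (by rw [← fac_inv]; exact eq_inv_of_mul_eq_one_left e1))
      have hn : (fac a m * fac j D'') ^ n = fac a m * fac j D'' := by
        rcases Nat.even_or_odd n with ⟨r, rfl⟩ | ⟨r, rfl⟩
        · exact absurd (by rw [← two_mul, pow_mul, pow_two, hsq, one_pow]) hn1
        · rw [pow_succ, pow_mul, pow_two, hsq, one_pow, one_mul]
      rw [hn] at hn4
      exact C.mp_cent hJ hX B IH h4 hC hJ3 (Ne.symm hja) hx0 hD'' hsX hn4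
  exact C.pl_fusion hJ hX B IH h4 hC hg hD hsm

/-- All members are monomial, for two slots. -/
theorem top_two (h4 : k = 4) (hC : CentPl f X) (hJ2 : Fintype.card J = 2) : ∀ g ∈ X, Mono g := by
  classical
  intro g hg
  have hf := C.hf
  have hk : 0 < k := by omega
  haveI : Nonempty J := Fintype.card_pos_iff.1 (by omega)
  obtain ⟨a⟩ := ‹Nonempty J›
  obtain ⟨b, hba⟩ := Fintype.exists_ne_of_one_lt_card (α := J) (by omega) a
  obtain ⟨x, -, y, -, hx, hy, hxy⟩ := C.toSl.pair_in C.toSl.nd_top (by rw [C.toSl.finrank_top']; omega)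
  have hx0 : f x x ≠ 0 := hx ▸ one_ne_zero
  have hy0 : f y y ≠ 0 := hy ▸ neg_ne_zero.2 one_ne_zero
  set D := mr hf x * mr hf y
  have hD : IsPl f D := C.toSl.isPl_mr hx0 hy0 hxy
  have hM := C.toSl.mir_mr h4 hx0
  set z := fac a (mr hf x) * fac b (mr hf x) with hz
  have hzX : z ∈ X := C.pair a b x x hba.symm hx0 hx0
  have hzz : z * z = 1 := by
    rw [hz, mul_assoc, ← mul_assoc (fac b (mr hf x)), fac_comm hba, mul_assoc, ← fac_mul b, hM.2.1, fac_one, mul_one,
      ← fac_mul, hM.2.1, fac_one]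
  obtain ⟨h, hhX, -, hhm', -, hw⟩ := C.engine (u := 1) (t := fac a D) (q := z) (C.fac_pl hD a) hzX hg
    (by rw [← fac_mul, hD.2.1, fac_one]) hzz ⟨1, monoOf_fac a D⟩ (Commute.one_left _) (Commute.one_left _)
    (Commute.one_left _) fun z hz => C.pl_step4 hJ hX B IH h4 hC hD hz
  obtain ⟨π, A, hA⟩ := C.zfus hJ hX B IH h4 hC hJ2 hba.symm hM hM hzX hhX hhm'
  obtain ⟨P, P', hP, hP', hPe, -⟩ := C.mir_pair hJ2 hba.symm hhX hA hM hM
  rw [hPe, ← mul_assoc, ← fac_mul] at hw
  set s := g * z * g⁻¹ with hs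
  have hsX : s ∈ X := X.mul_mem (X.mul_mem hg hzX) (X.inv_mem hg)
  set N := D * P with hNd
  have hNi : ∀ p q, f (mv N p) (mv N q) = f p q := fun p q => by
    rw [hNd, mv_mul D P p, mv_mul D P q, hD.1, hP.1]
  have hpow : ∀ n, (fac a N * fac b P') ^ n = fac a (N ^ n) * fac b (P' ^ n) := fun n => by
    rw [(show Commute (fac a N) (fac b P') from fac_comm hba.symm _ _).mul_pow, fac_pow, fac_pow]
  have hne : fac a N * fac b P' ≠ (1 : GL (J → Fin k) F) := fun e1 =>
    hba.symm (fac_slot hk (C.toSl.mir_ctl hP') (B := N⁻¹) (by rw [← fac_inv]; exact eq_inv_of_mul_eq_one_right e1)).symm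
  obtain ⟨n, hn1, hn2, hn3, hn4⟩ := hw.resolve_left hne
  rw [hpow] at hn1 hn2 hn3 hn4
  set G := N ^ n with hGd
  have hGi : ∀ p q, f (mv G p) (mv G q) = f p q := pow_isom hNi n
  have hsm : Mono s := by
    obtain ⟨r, rfl | rfl⟩ := Nat.even_or_odd' n
    · rw [pow_mul P', pow_two, hP'.2.1, one_pow, fac_one, mul_one] at hn1 hn2 hn4
      have hG2 : G * G = 1 := (fac_one_iff hk a).1 (by rw [fac_mul]; exact hn2)
      have hG1 : G ≠ 1 := fun e1 => hn1 (by rw [e1, fac_one])
      have hG1' : G ≠ -1 := fun e1 => by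
        obtain ⟨x', hx', -, -, hPp⟩ := C.toSl.mir_axis hP
        obtain ⟨v, hv, hv0⟩ := Submodule.exists_mem_ne_zero_of_ne_bot
          (p := fixsp (-D) ⊓ LinearMap.ker (hf.formL x')) fun e' => by
            have h1 := Submodule.finrank_sup_add_finrank_inf_eq (fixsp (-D)) (LinearMap.ker (hf.formL x'))
            have h2 := LinearMap.finrank_range_add_finrank_ker (hf.formL x')
            have h3 := Submodule.finrank_le (LinearMap.range (hf.formL x'))
            have h5 := Submodule.finrank_le (fixsp (-D) ⊔ LinearMap.ker (hf.formL x'))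
            have h6 := C.toSl.isPl_fix hD
            rw [e', finrank_bot] at h1
            rw [Module.finrank_fintype_fun_eq_card, Fintype.card_fin] at h2 h5
            rw [Module.finrank_self] at h3
            omega
        obtain ⟨hv1, hv2⟩ := Submodule.mem_inf.1 hv
        rw [mem_prp] at hv2
        have := pow_fixed (T := N) (x := v) (by
          rw [hNd, mv_mul, hPp v hv2, mv_neg, mem_fixsp_neg.1 hv1, neg_neg]) (2 * r)
        rw [show N ^ (2 * r) = -1 from e1, mv_neg_gl, mv_one] at this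
        exact hv0 ((smul_eq_zero.1 (by linear_combination (norm := module) -this : (2 : F) • v = 0)).resolve_left C.two)
      exact C.conj_four hJ hX B IH h4 hC hsX hG2 hGi hG2 hGi hG1 hG1' (i := a) (l := a)
        (by rw [hn4, mul_inv_cancel_right])
    · rw [pow_succ P', pow_mul P', pow_two, hP'.2.1, one_pow, one_mul] at hn1 hn2 hn3 hn4
      have hG2 : G * G = 1 := (fac_one_iff hk a).1 (by
        rw [show fac a G * fac b P' * (fac a G * fac b P') = fac a G * (fac b P' * fac a G) * fac b P' by group,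
          fac_comm hba, show fac a G * (fac a G * fac b P') * fac b P' = fac a G * fac a G * (fac b P' * fac b P') by
            group, ← fac_mul b, hP'.2.1, fac_one, mul_one] at hn2
        rw [fac_mul]
        exact hn2)
      have hDG : D * G = G * D := fac_inj hk a (mul_right_cancel (b := fac b P') (by
        rw [fac_mul a D G, fac_mul a G D]
        calc fac a D * fac a G * fac b P' = fac a D * (fac a G * fac b P') := mul_assoc _ _ _
          _ = fac a G * fac b P' * fac a D := hn3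
          _ = fac a G * fac a D * fac b P' := by rw [mul_assoc, fac_comm hba, ← mul_assoc]))
      by_cases hG1 : G = 1
      · rw [hG1, fac_one, one_mul] at hn4
        exact C.conj_four hJ hX B IH h4 hC hsX hP'.2.1 hP'.1 hP'.2.1 hP'.1 (C.toSl.mir_ne hP').1
          (C.toSl.mir_ne hP').2 (i := b) (l := b) (by rw [hn4, mul_inv_cancel_right])
      by_cases hG1' : G = -1
      · rw [hG1', fac_neg, fac_one, neg_mul, one_mul, mul_neg, neg_mul, neg_inj] at hn4
        exact C.conj_four hJ hX B IH h4 hC hsX hP'.2.1 hP'.1 hP'.2.1 hP'.1 (C.toSl.mir_ne hP').1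
          (C.toSl.mir_ne hP').2 (i := b) (l := b) (by rw [hn4, mul_inv_cancel_right])
      have hsum := C.toSl.eig_sum hG2
      have htop : ∀ T : GL (Fin k) F, Module.finrank F (fixsp T) = k → T = 1 := fun T e => ext_mv fun v => by
        have htop : fixsp T = ⊤ := Submodule.eq_top_of_finrank_eq (by
          rw [Module.finrank_fintype_fun_eq_card, Fintype.card_fin, e])
        rw [mv_one]
        exact mem_fixsp.1 (htop ▸ Submodule.mem_top)
      have h4' : Module.finrank F (fixsp G) ≠ 4 := fun e => hG1 (htop G (by omega))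
      have h0' : Module.finrank F (fixsp (-G)) ≠ 4 := fun e => hG1' (by rw [← neg_neg G, htop (-G) (by omega)])
      have hG3 : Module.finrank F (fixsp G) ≠ 2 := fun e2 => by
        have hGpl : IsPl f G := ⟨hGi, hG2, by omega⟩
        set R := (N ^ r)⁻¹ * P * N ^ r
        have hRi : IsMir f R := by
          have := C.toSl.mir_conj (B := (N ^ r)⁻¹) (l := 1) (fun p q => by
            rw [one_mul, ← pow_isom hNi r (mv (N ^ r)⁻¹ p) (mv (N ^ r)⁻¹ q), mv_mv_inv, mv_mv_inv]) hP
          rwa [inv_inv] at this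
        have hGR : G = D * R := by
          have h1 := dih_succ hD.2.1 hP.2.1 r
          rw [← hNd, ← hGd] at h1
          have h2 : D * G = R := h1
          rw [← h2, ← mul_assoc, hD.2.1, one_mul]
        refine C.toSl.pl_refl_false h4 hD (M := -R) (by rw [neg_mul_neg, hRi.2.1]) (C.toSl.neg_isom hRi.1) ?_
          (by have := C.toSl.eig_sum hRi.2.1; have := hRi.2.2; omega) (by rw [mul_neg, ← hGR]; exact C.toSl.pl_neg h4 hGpl)
        rw [mul_neg, neg_mul, ← hGR]
        congr 1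
        have e3 : R = D * G := by rw [hGR, ← mul_assoc, hD.2.1, one_mul]
        rw [e3, hDG, mul_assoc, hD.2.1, mul_one]
      rcases (by omega : Module.finrank F (fixsp G) = 1 ∨ Module.finrank F (fixsp (-G)) = 1) with h1 | h1
      · exact C.zcent hJ hX B IH h4 hC hJ2 hba.symm ⟨hGi, hG2, h1⟩ hP' hsX hn4
      · refine C.zcent hJ hX B IH h4 hC hJ2 hba.symm
          (M := -G) ⟨C.toSl.neg_isom hGi, by rw [neg_mul_neg, hG2], h1⟩ hP' hsX ?_
        rw [fac_neg, neg_mul, mul_neg, neg_mul, hn4]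
  exact C.zfus hJ hX B IH h4 hC hJ2 hba.symm hM hM hzX hg hsm

/-- All members are monomial. -/
theorem top_four (h4 : k = 4) (hC : CentPl f X) : ∀ g ∈ X, Mono g := by
  rcases (by omega : 3 ≤ Fintype.card J ∨ Fintype.card J = 2) with h | h
  · exact C.top_three hJ hX B IH h4 hC h
  · exact C.top_two hJ hX B IH h4 hC h

end Ctx

end Cfsg.Agent.OrthEvenWreath
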