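/-
Tensor powers of a symmetric form of dimension four: centralisers of hyperbolic plane involutions, q at least five.
-/
import Cfsg.Agent.Lib.OrthWreathEven.FourPlane

set_option autoImplicit false
set_option linter.unusedSectionVars false

namespace Cfsg.Agent.OrthEvenWreath

open scoped Matrix
open Matrix Cfsg.Agent.Transvec Cfsg.Agent.TensorMax Cfsg.Agent.WreathMax
open Cfsg.Agent.FormWreath hiding up mv_up_ins
open Cfsg.Agent.OrthWreath hiding Sl Ctx Base Ind Inv Gd fixsp_mir small_mir split_sim rho_omega fix_line_mono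
  exists_noncomm

variable {F : Type*} [Field F] [Finite F] {k : ℕ} {J : Type} [Fintype J] [DecidableEq J]
variable {f : (Fin k → F) → (Fin k → F) → F} {κ : F}

local notation "σ₁" => RingEquiv.refl F

variable {Q : ((J → Fin k) → F) → F} {X : Subgroup (GL (J → Fin k) F)}

namespace Ctx

variable (C : Ctx f Q κ X) (hJ : 2 ≤ Fintype.card J) (hX : ¬ Geo.omegaGL Q ≤ X) (B : Base f Q κ) (IH : Ind f κ J)
include C hJ hX B IH

set_option maxHeartbeats 800000 in
/-- Centralisers of hyperbolic plane involutions, over more than three elements. -/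
theorem cent_torus (h4 : k = 4) (hq : 5 ≤ Nat.card F) {v : GL (J → Fin k) F} (hv : v ∈ X) {i : J}
    {x y : Fin k → F} (hx : f x x = 1) (hy : f y y = -1) (hxy : f x y = 0)
    (hcomm : v * fac i (mr C.hf x * mr C.hf y) = fac i (mr C.hf x * mr C.hf y) * v) : Mono v := by
  classical
  have hf := C.hf
  have h2 := C.two
  have hk : 0 < k := by omega
  haveI : Fintype F := Fintype.ofFinite F
  obtain ⟨l, -, hl⟩ := Finset.exists_mem_notMem_of_card_lt_card
    (s := ({0, 1, -1} : Finset F)) (t := Finset.univ)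
    (Finset.card_le_three.trans_lt (by rw [Finset.card_univ, ← Nat.card_eq_fintype_card]; omega))
  simp only [Finset.mem_insert, Finset.mem_singleton, not_or] at hl
  obtain ⟨hl0, hl1, hl2⟩ := hl
  have hll : l * l ≠ 1 := fun e => (mul_self_eq_one_iff.1 e).elim hl1 hl2
  have hx0 : f x x ≠ 0 := hx ▸ one_ne_zero
  have hy0 : f y y ≠ 0 := hy ▸ neg_ne_zero.2 one_ne_zero
  set D := mr hf x * mr hf y
  obtain ⟨hDi, hDD, -⟩ : IsPl f D := C.toSl.isPl_mr hx0 hy0 hxy
  set c := x + y with hcd'
  set d := (2⁻¹ : F) • (x - y) with hdd'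
  have hcc : f c c = 0 := by
    simp only [c, hf.add_left, hf.add_right, hx, hy, hxy, hf.comm' y x]; ring
  have hdd : f d d = 0 := by
    simp only [d, hf.sub_left, hf.sub_right, hf.smul_left, hf.smul_right', hx, hy, hxy, hf.comm' y x]; ring
  have hcd : f c d = 1 := by
    simp only [c, d, hf.add_left, hf.sub_right, hf.smul_right', hx, hy, hxy, hf.comm' y x]
    field_simp
    ring
  have hdc : f d c = 1 := by rw [hf.comm', hcd]
  have hc0 : c ≠ 0 := fun e => one_ne_zero (α := F) (by rw [← hcd, e, hf.zero_left])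
  have hd0 : d ≠ 0 := fun e => one_ne_zero (α := F) (by rw [← hdc, e, hf.zero_left])
  set A := c + d
  set B' := c + l • d
  have hA : f A A = 2 := by
    simp only [A, hf.add_left, hf.add_right, hcc, hdd, hcd, hdc]; ring
  have hB : f B' B' = 2 * l := by
    simp only [B', hf.add_left, hf.add_right, hf.smul_left, hf.smul_right', hcc, hdd, hcd, hdc]; ring
  have hA0 : f A A ≠ 0 := hA ▸ h2
  have hB0 : f B' B' ≠ 0 := hB ▸ mul_ne_zero h2 hl0
  set T := mr hf A * mr hf B'
  have hTi : ∀ u w, f (mv T u) (mv T w) = f u w := fun u w => by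
    rw [mv_mul, mv_mul, mr_isom hf hA0, mr_isom hf hB0]
  have hTc : mv T c = l • c := by
    rw [mv_mul, mv_mr hf hB0, hB, show f c B' = l by
      simp only [B', hf.add_right, hf.smul_right', hcc, hcd]; ring]
    rw [mv_sub, mv_smul, mv_mr hf hA0, mv_mr hf hA0, hA, show f B' A = 1 + l by
      simp only [A, B', hf.add_left, hf.add_right, hf.smul_left, hcc, hdd, hcd, hdc]; ring,
      show f c A = 1 by simp only [A, hf.add_right, hcc, hcd]; ring]
    simp only [A, B']
    match_scalars <;> field_simp <;> ring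
  have hTd : mv T d = l⁻¹ • d := by
    rw [mv_mul, mv_mr hf hB0, hB, show f d B' = 1 by
      simp only [B', hf.add_right, hf.smul_right', hdd, hdc]; ring]
    rw [mv_sub, mv_smul, mv_mr hf hA0, mv_mr hf hA0, hA, show f B' A = 1 + l by
      simp only [A, B', hf.add_left, hf.add_right, hf.smul_left, hcc, hdd, hcd, hdc]; ring,
      show f d A = 1 by simp only [A, hf.add_right, hdd, hdc]; ring]
    simp only [A, B']
    match_scalars <;> field_simp <;> ring
  have hTw : ∀ w, f w c = 0 → f w d = 0 → mv T w = w := fun w hwc hwd => by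
    rw [mv_mul, mr_perp hf hB0 (by rw [hf.add_right, hf.smul_right', hwc, hwd, mul_zero, add_zero]), mv_neg,
      mr_perp hf hA0 (by rw [hf.add_right, hwc, hwd, add_zero]), neg_neg]
  have hTX : fac i T ∈ X := C.mm i A B' hA0 hB0
  obtain ⟨w₀, hw₀c, -, hw₀⟩ := C.toSl.exists_W_aniso hcc hdd hcd
  obtain ⟨d', z, hd', hcd'', hwd', hzc, hzd, hzw, hz, -⟩ := C.toSl.frame_four h4 hc0 hcc hw₀c hw₀
  obtain ⟨w₁, w₂, hw₁, hw₂, hw₁₂, hDe⟩ := C.toSl.isPl_exists_mr (C.toSl.pl_neg h4
    (C.toSl.isPl_mr hx0 hy0 hxy))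
  have hWf : ∀ w, mv (-D) w = -w → mv D w = w := fun w h => by rwa [mv_neg_gl, neg_inj] at h
  have hw₁D : mv D w₁ = w₁ := hWf _ (by
    show mv (-(mr hf x * mr hf y)) w₁ = -w₁
    rw [hDe]; exact C.toSl.mm_left hw₁ hw₂ hw₁₂)
  have hw₂D : mv D w₂ = w₂ := hWf _ (by
    show mv (-(mr hf x * mr hf y)) w₂ = -w₂
    rw [hDe]; exact C.toSl.mm_right hw₁ hw₂ hw₁₂)
  have hWperp : ∀ w, mv D w = w → f w c = 0 ∧ f w d = 0 := fun w hw => by
    have e1 := C.toSl.eig_orth hDi hw (C.toSl.mm_left hx0 hy0 hxy)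
    have e2 := C.toSl.eig_orth hDi hw (C.toSl.mm_right hx0 hy0 hxy)
    exact ⟨by rw [hf.add_right, e1, e2, add_zero], by rw [hf.smul_right', hf.sub_right, e1, e2, sub_zero, mul_zero]⟩
  have hTfix : ∀ w, mv D w = w → mv T w = w := fun w hw => hTw w (hWperp w hw).1 (hWperp w hw).2
  set h := v * fac i T * v⁻¹
  have hhX : h ∈ X := X.mul_mem (X.mul_mem hv hTX) (X.inv_mem hv)
  have hfix : ∀ w, mv D w = w → ∀ u, mv h (ins i w u) = ins i w u := fun w hw u => by
    rw [mv_mul, mv_mul, fix_eig h2 i hDD hTfix (z := mv v⁻¹ (ins i w u)) ?_, mv_mv_inv]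
    rw [← mv_mul, show fac i D * v⁻¹ = v⁻¹ * fac i D from
      (show Commute v (fac i D) from hcomm).inv_left.symm.eq, mv_mul, mv_fac_ins, hw]
  have hw₁0 : w₁ ≠ 0 := fun e => hw₁ (by rw [e, hf.zero_left])
  obtain ⟨T', hT', -, -⟩ := fix_line_mono C.toSl
    (C.plane_group hJ hX B IH h4 hhX hw₁ hw₂ hw₁₂ (hfix w₁ hw₁D) (hfix w₂ hw₂D)) (C.pres (C.iso hhX)) hw₁0
    (hfix w₁ hw₁D)
  obtain ⟨L, hL⟩ := exists_smul_gl (k := k) l⁻¹ (inv_ne_zero hl0)
  have hLz : ∀ z : (J → Fin k) → F, mv (fac i L) z = l⁻¹ • z := fun z => by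
    have e : mvLin (fac i L) = l⁻¹ • LinearMap.id := ext_ins i fun a b => by
      show mv (fac i L) (ins i a b) = l⁻¹ • ins i a b
      rw [mv_fac_ins, hL, ins_smul_vec]
    exact LinearMap.congr_fun e z
  have hconj : v * fac i (L * T) * v⁻¹ = fac i (L * T') := by
    refine ext_mv fun z => ?_
    rw [fac_mul i L T, fac_mul i L T', mv_mul, mv_mul, mv_mul (fac i L), mv_mul (fac i L), hLz, hLz, mv_smul, ← hT']
    simp only [h, mv_mul]
  have hfc : fixsp (L * T) = Submodule.span F {c} := by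
    refine le_antisymm (fun u hu => ?_) (by
      rw [Submodule.span_le, Set.singleton_subset_iff]
      exact mem_fixsp.2 (by rw [mv_mul, hTc, hL, smul_smul, inv_mul_cancel₀ hl0, one_smul]))
    rw [mem_fixsp, mv_mul, hL] at hu
    set r := u - (f u d • c + f u c • d) with hr
    have hrc : f r c = 0 := by
      rw [hr, hf.sub_left, hf.add_left, hf.smul_left, hf.smul_left, hcc, hdc]; ring
    have hrd : f r d = 0 := by
      rw [hr, hf.sub_left, hf.add_left, hf.smul_left, hf.smul_left, hdd, hcd]; ring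
    have hue : u = f u d • c + f u c • d + r := by rw [hr]; abel
    have e1 : mv T u = l • u := by
      conv_rhs => rw [← hu, smul_smul, mul_inv_cancel₀ hl0, one_smul]
    rw [hue, mv_add, mv_add, mv_smul, mv_smul, hTc, hTd, hTw r hrc hrd] at e1
    have e2 := congrArg (fun w => f w c) e1
    simp only [hf.add_left, hf.smul_left, hcc, hdc, hrc, mul_zero, add_zero, zero_add, mul_one] at e2
    have hu1 : f u c = 0 := by
      refine (mul_eq_zero.1 (show (1 - l * l) * f u c = 0 from ?_)).resolve_left (sub_ne_zero.2 (Ne.symm hll))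
      field_simp at e2
      linear_combination e2
    simp only [hu1, zero_smul, zero_mul, add_zero, smul_add, smul_smul, mul_comm (f u d) l] at e1
    rw [add_right_inj] at e1
    have hr0 : r = 0 := by
      refine (smul_eq_zero.1 (show (1 - l) • r = 0 from ?_)).resolve_left (sub_ne_zero.2 (Ne.symm hl1))
      linear_combination (norm := module) e1
    rw [hue, hu1, hr0, zero_smul, add_zero, add_zero]
    exact Submodule.smul_mem _ _ (Submodule.mem_span_singleton_self c)
  have hrest : 0 < Fintype.card (Rest i k) := by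
    haveI : NeZero k := ⟨by omega⟩
    exact Fintype.card_pos
  have hdim : Module.finrank F (fixsp (L * T')) = 1 := by
    have := finrank_fixsp_conj v (fac i (L * T))
    rw [hconj, finrank_fixsp_fac, finrank_fixsp_fac, hfc, finrank_span_singleton hc0] at this
    exact Nat.eq_of_mul_eq_mul_left hrest this
  obtain ⟨c', hc'm, hc'0⟩ := Submodule.exists_mem_ne_zero_of_ne_bot (C.toSl.ne_bot_of (P := fixsp (L * T'))
    (by omega))
  have hle : Ln i c' ≤ fixsp (fac i (L * T')) := fun z hz => by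
    obtain ⟨u, rfl⟩ := mem_Ln_ins hz
    rw [mem_fixsp, mv_fac_ins, mem_fixsp.1 hc'm]
  have heq : Ln i c' = fixsp (fac i (L * T')) := Submodule.eq_of_le_of_finrank_le hle (by
    rw [finrank_fixsp_fac, hdim, mul_one, finrank_Ln i hc'0])
  have hmap : (Ln i c).map (mvLin v) = Ln i c' := by
    refine Submodule.eq_of_le_of_finrank_le (fun z hz => ?_)
      (by rw [finrank_map_gl, finrank_Ln i hc0, finrank_Ln i hc'0])
    obtain ⟨z', hz', rfl⟩ := mem_map_gl.1 hz
    obtain ⟨u, rfl⟩ := mem_Ln_ins hz'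
    rw [heq, mem_fixsp, ← hconj, mv_mul, mv_mul, mv_inv_mv, mv_fac_ins, mv_mul, hTc, hL, smul_smul,
      inv_mul_cancel₀ hl0, one_smul]
  exact C.stab hJ hX B IH hv hc0 hcc hc'0 (C.line_iso hJ hv hcc hmap) hmap

end Ctx

end Cfsg.Agent.OrthEvenWreath
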