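/-
The stabiliser of a tensor power of a symmetric form of even dimension is maximal.
-/
import Cfsg.Agent.Lib.OrthWreathEven.FourTop
import Cfsg.Agent.Lib.OrthWreathEven.FourTorus
import Cfsg.Agent.Lib.OrthWreathEven.FourFixed
import Cfsg.Agent.Lib.OrthWreathEven.Six
import Cfsg.Agent.Lib.FormWreath.OmegaMax
import Cfsg.Agent.Lib.Transvec.OrthStab
import Cfsg.Agent.Lib.OrthWreath.Main

set_option autoImplicit false
set_option linter.unusedSectionVars false

namespace Cfsg.Agent.OrthEvenWreath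

open scoped Matrix
open Matrix Cfsg.Agent.Transvec Cfsg.Agent.TensorMax Cfsg.Agent.WreathMax
open Cfsg.Agent.FormWreath hiding up mv_up_ins
open Cfsg.Agent.OrthWreath hiding Sl Ctx Base Ind Inv Gd fixsp_mir small_mir split_sim rho_omega fix_line_mono
  exists_noncomm exists_not_mono all_mono_of_proper
open Cfsg.Agent.UWreath (mono_mul mono_inv)

variable {F : Type*} [Field F] [Finite F] {k : ℕ} {f : (Fin k → F) → (Fin k → F) → F} {κ : F}

local notation "σ₁" => RingEquiv.refl F

namespace Ctx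

variable {J : Type} [Fintype J] [DecidableEq J] {Q : ((J → Fin k) → F) → F} {X : Subgroup (GL (J → Fin k) F)}
variable (C : Ctx f Q κ X) (hJ : 2 ≤ Fintype.card J) (hX : ¬ Geo.omegaGL Q ≤ X) (B : Base f Q κ) (IH : Ind f κ J)
include C hJ hX B IH

/-- Centralisers of plane involutions are monomial, over three elements. -/
theorem cent_pl_three (h4 : k = 4) (h3 : Nat.card F = 3) : CentPl f X := by
  have hf := C.hf
  refine C.toSl.cent_pl_of_hyp h4 fun v hv i x y hx hy hxy hcomm => ?_
  obtain ⟨E, rfl, rfl⟩ := C.toSl.exists_std h4 h3 hx hy hxy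
  by_cases hJ3 : 3 ≤ Fintype.card J
  · exact C.cent_three hJ hX B IH h4 hJ3 E hv hcomm
  have hJ2 : Fintype.card J = 2 := by omega
  obtain ⟨m, hm⟩ := Fintype.exists_ne_of_one_lt_card (α := J) (by omega) i
  let P : Two f J := ⟨E, i, m, hm.symm, hJ2⟩
  rcases C.rot_conj hJ hX B IH h4 E hv hcomm with e | e
  · exact C.two_cent hJ hX B IH h4 P hv hcomm (mul_inv_eq_iff_eq_mul.1 e)
  set n := fac i (mr hf E.a) * fac m (mr hf E.a) with hn
  have hnX : n ∈ X := C.pair i m _ _ hm.symm E.a0 E.a0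
  have hax : mv (mr hf E.a) E.x = -E.x := mr_perp hf E.a0 E.xa
  have hay : mv (mr hf E.a) E.y = -E.y := mr_perp hf E.a0 E.ya
  have haa : mv (mr hf E.a) E.a = E.a := mr_self hf E.a0
  have hab : mv (mr hf E.a) E.b = -E.b := mr_perp hf E.a0 (E.ba hf)
  have hD : mr hf E.a * E.D hf = E.D hf * mr hf E.a := E.ext4 hf (by simp [mv_mul, mv_neg, E.Dx hf, hax])
    (by simp [mv_mul, mv_neg, E.Dy hf, hay]) (by simp [mv_mul, E.Da hf, haa])
    (by simp [mv_mul, mv_neg, E.Db hf, hab])
  have hR : mr hf E.a * (E.R hf)⁻¹ = E.R hf * mr hf E.a := by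
    rw [mul_inv_eq_iff_eq_mul]
    exact E.ext4 hf (by simp [mv_mul, mv_neg, E.Rx hf, hax]) (by simp [mv_mul, mv_neg, E.Ry hf, hay])
      (by simp [mv_mul, mv_neg, E.Ra hf, E.Rb hf, haa, hab]) (by simp [mv_mul, mv_neg, E.Ra hf, E.Rb hf, haa, hab])
  have hnD : Commute n (fac i (E.D hf)) := Commute.mul_left (by show _ = _; rw [← fac_mul, ← fac_mul, hD])
    (fac_comm hm _ _)
  have hnR : n * fac i (E.R hf)⁻¹ = fac i (E.R hf) * n := by
    rw [hn, mul_assoc, fac_comm hm, ← mul_assoc, ← fac_mul, hR, fac_mul, mul_assoc]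
  have hm' : Mono (n * v) := C.two_cent hJ hX B IH h4 P (X.mul_mem hnX hv) (hnD.mul_left hcomm) (by
    show n * v * fac i (E.R hf) = fac i (E.R hf) * (n * v)
    rw [mul_assoc, mul_inv_eq_iff_eq_mul.1 e, ← mul_assoc, hnR, mul_assoc])
  have := mono_mul (mono_inv (mono_mul ⟨1, monoOf_fac i (mr hf E.a)⟩ ⟨1, monoOf_fac m (mr hf E.a)⟩ : Mono n)) hm'
  rwa [inv_mul_cancel_left] at this

/-- Centralisers of plane involutions are monomial, in dimension four. -/
theorem cent_pl (h4 : k = 4) : CentPl f X := by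
  by_cases hq : 5 ≤ Nat.card F
  · exact C.toSl.cent_pl_of_hyp h4 fun v hv i x y hx hy hxy hcomm =>
      C.cent_torus hJ hX B IH h4 hq hv hx hy hxy hcomm
  · refine C.cent_pl_three hJ hX B IH h4 ?_
    haveI : Fintype F := Fintype.ofFinite F
    have h1 := Fintype.one_lt_card (α := F)
    have ho : Odd (Fintype.card F) := Nat.odd_iff.2 (FiniteField.odd_card_of_char_ne_two fun h => C.two (by
      haveI : CharP F 2 := ringChar.eq_iff.1 h
      exact CharP.cast_eq_zero F 2))
    obtain ⟨a, ha⟩ := ho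
    rw [Nat.card_eq_fintype_card] at hq ⊢
    omega

/-- All members are monomial. -/
theorem all_mono {g : GL (J → Fin k) F} (hg : g ∈ X) : Mono g := by
  obtain ⟨a, ha⟩ := C.even
  have := C.hk
  by_cases h6 : 6 ≤ k
  · exact C.top_six hJ hX B IH h6 g hg
  · have h4 : k = 4 := by omega
    exact C.top_four hJ hX B IH h4 (C.cent_pl hJ hX B IH h4) g hg

end Ctx

/-- Proper groups over the monomial part are monomial. -/
theorem all_mono_of_proper : ∀ (n : ℕ) (J : Type) [Fintype J] [DecidableEq J], Fintype.card J = n →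
    ∀ (Q : ((J → Fin k) → F) → F) (X : Subgroup (GL (J → Fin k) F)),
      Base f Q κ → Ctx f Q κ X → ¬ Geo.omegaGL Q ≤ X → ∀ g ∈ X, Mono g := by
  intro n
  induction n using Nat.strong_induction_on with
  | _ n ih =>
    intro J _ _ hn Q X B C hX g hg
    exact C.all_mono B.hJ hX B (fun J' _ _ h Q' X' B' C' h' => ih _ (hn ▸ h) J' rfl Q' X' B' C' h') hg

/-- The commutator subgroup has a member that is not monomial. -/
theorem exists_not_mono {J : Type} [Fintype J] [DecidableEq J] {Q : ((J → Fin k) → F) → F} (B : Base f Q κ) :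
    ∃ g ∈ Geo.omegaGL Q, ¬ Mono g := by
  classical
  have hf := B.hf
  have hk4 := B.hk
  have hk3 : 3 ≤ k := by omega
  haveI : Fintype F := Fintype.ofFinite F
  haveI : Nonempty J := Fintype.card_pos_iff.1 (by have := B.hJ; omega)
  obtain ⟨a, b, hab⟩ := Fintype.exists_pair_of_one_lt_card (α := J) (by have := B.hJ; omega)
  obtain ⟨c, hc0, hc⟩ := B.toSl.exists_isotropic
  obtain ⟨d, hd, hcd⟩ := B.toSl.exists_pair hc0 hc
  obtain ⟨x, hxc, -, hx⟩ := B.toSl.exists_W_aniso hc hd hcd
  set u := pten (fun _ : J => c)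
  set y := pten (Function.update (fun _ : J => x) a c)
  have hu : Q u = 0 := by
    refine mul_left_cancel₀ B.two ?_
    rw [mul_zero, ← Transvec.Orth.pol_self B.hQ, B.hpol, Bt_pten hf]
    exact Finset.prod_eq_zero (Finset.mem_univ a) hc
  have huy : Transvec.Orth.pol Q u y = 0 := by
    rw [B.hpol, Bt_pten hf]
    exact Finset.prod_eq_zero (Finset.mem_univ a) (by rw [Function.update_self, hc])
  obtain ⟨g, hg, hgs⟩ := Transvec.Orth.exists_siegel B.hQ hu huy
  have hn : 7 ≤ Fintype.card (J → Fin k) := by have := B.card_ge; omega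
  refine ⟨g, Transvec.Orth.siegel_mem_omega B.hQ hn hu huy hgs, fun ⟨σ, hσ⟩ => ?_⟩
  set z := pten (fun _ : J => d)
  have hzu : Transvec.Orth.pol Q z u = 1 := by
    rw [B.hpol, Bt_pten hf]
    exact Finset.prod_eq_one fun _ _ => by rw [hf.comm', hcd]
  have hne : g ≠ 1 := fun e => by
    have h := hgs z
    rw [e, mv_one, hzu, one_smul] at h
    have h' : y = (Transvec.Orth.pol Q z y + Q y * 1) • u := by linear_combination (norm := module) (-1 : F) • h
    have h1 := congrArg (fun v => Bt σ₁ f v (pten (Function.update (fun _ : J => x) a d))) h'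
    simp only [(Bt_sym hf).smul_left] at h1
    rw [Bt_pten hf, Bt_pten hf,
      Finset.prod_eq_zero (f := fun j => f c (Function.update (fun _ : J => x) a d j)) (Finset.mem_univ b) (by
        rw [Function.update_of_ne hab.symm, hf.comm', hxc]), mul_zero] at h1
    refine Finset.prod_ne_zero_iff.2 (fun j _ => ?_) h1
    by_cases hj : j = a
    · rw [hj, Function.update_self, Function.update_self, hcd]; exact one_ne_zero
    · rw [Function.update_of_ne hj, Function.update_of_ne hj]; exact hx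
  have h3 := (mono_rank hk3 hσ hne).1
  have h4 : Module.finrank F (LinearMap.range (WreathMax.dev g)) ≤ 2 := by
    refine (Submodule.finrank_mono (t := Submodule.span F (Set.range ![u, y])) ?_).trans
      ((finrank_range_le_card (R := F) ![u, y]).trans (by simp))
    rintro _ ⟨v, rfl⟩
    rw [WreathMax.dev_apply, hgs, show v + Transvec.Orth.pol Q v u • y -
      (Transvec.Orth.pol Q v y + Q y * Transvec.Orth.pol Q v u) • u - v =
      Transvec.Orth.pol Q v u • y - (Transvec.Orth.pol Q v y + Q y * Transvec.Orth.pol Q v u) • u by abel]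
    exact Submodule.sub_mem _ (Submodule.smul_mem _ _ (Submodule.subset_span ⟨1, rfl⟩))
      (Submodule.smul_mem _ _ (Submodule.subset_span ⟨0, rfl⟩))
  have h5 : k ^ 2 ≤ k ^ Fintype.card J := Nat.pow_le_pow_right (by omega) B.hJ
  have h6 := h3.trans (Nat.mul_le_mul_left k h4)
  rw [pow_two] at h5
  have h7 : 3 * k ≤ k * k := Nat.mul_le_mul_right k hk3
  omega

/-- The monomial members form a maximal subgroup of the commutator subgroup. -/
theorem even_maximal_std {t : ℕ} {Q : ((Fin t → Fin k) → F) → F} (B : Base f Q κ) :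
    Geo.IsMaximalIn (Geo.omegaGL Q) (Geo.tensorWreathStandard k t F ⊓ Geo.omegaGL Q) := by
  classical
  refine ⟨lt_of_le_of_ne inf_le_right fun heq => ?_, fun M h1 h2 => ?_⟩
  · obtain ⟨g, hg, hnot⟩ := exists_not_mono B
    rw [← heq] at hg
    exact hnot ((mem_standard_iff _).1 hg.1)
  by_cases hM : Geo.omegaGL Q ≤ M
  · exact Or.inr (le_antisymm h2 hM)
  · refine Or.inl (le_antisymm (fun g hg => ⟨(mem_standard_iff g).2 ?_, h2 hg⟩) h1)
    exact all_mono_of_proper _ (Fin t) rfl Q M B
      (B.ctx h2 fun g hg hm => h1 ⟨(mem_standard_iff g).2 hm, hg⟩) hM g hg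

/-- The stabiliser of an orthogonal tensor power decomposition of even dimension is maximal. -/
theorem orth_even_tensor_wreath_maximal {ι : Type} [Fintype ι] [DecidableEq ι] (hι : 13 ≤ Fintype.card ι)
    (h2 : (2 : F) ≠ 0) (Q : (ι → F) → F) (hQ : Geo.IsNondegenerateQuadraticForm Q)
    (k' t : ℕ) (hk : 4 ≤ k') (hke : Even k') (ht : 2 ≤ t) (e : ι ≃ (Fin t → Fin k')) (P : GL ι F)
    (f₁ : (Fin k' → F) → (Fin k' → F) → F) (hf₁ : Geo.IsSymmetricForm f₁)
    (hminus : k' = 4 → ¬ Geo.IsPlusTypeOn (fun v : Fin k' → F => f₁ v v) ⊤)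
    (hT : Geo.IsTensorPowerFormStructure id (QuadraticMap.polar Q) f₁ e P) :
    Geo.IsMaximalIn (Geo.omegaGL Q) (Geo.tensorWreathSubgroup k' t e P ⊓ Geo.omegaGL Q) := by
  classical
  have hs := OrthWreath.sym_of_symm hf₁
  have hmnus : k' = 4 → ∀ c d x, f₁ c c = 0 → f₁ d d = 0 → f₁ c d = 1 → f₁ x c = 0 → f₁ x d = 0 → f₁ x x = 0 →
      x = 0 := by
    intro h4 c d x hc hd hcd hxc hxd hxx
    by_contra hx
    refine hminus h4 ⟨Submodule.span F (Set.range ![c, x]), le_top, ?_, ?_⟩
    · intro w hw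
      obtain ⟨a, rfl⟩ := (Submodule.mem_span_range_iff_exists_fun F).1 hw
      simp only [Fin.sum_univ_two, Matrix.cons_val_zero, Matrix.cons_val_one, hs.add_left, hs.add_right, hs.smul_left,
        hs.smul_right', hc, hxc, hs.comm' c x, hxx]
      ring
    · have hli : LinearIndependent F ![c, x] := by
        rw [Fintype.linearIndependent_iff]
        intro g hg
        simp only [Fin.sum_univ_two, Matrix.cons_val_zero, Matrix.cons_val_one] at hg
        have h1 := congrArg (fun v => f₁ v d) hg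
        simp only [hs.add_left, hs.smul_left, hcd, hxd, mul_one, mul_zero, add_zero, hs.zero_left] at h1
        rw [h1, zero_smul, zero_add, smul_eq_zero] at hg
        intro j
        fin_cases j
        · exact h1
        · exact hg.resolve_right hx
      rw [finrank_span_eq_card hli, finrank_top, Module.finrank_fintype_fun_eq_card, Fintype.card_fin,
        Fintype.card_fin, h4]
  have S₁ : Sl f₁ 1 := ⟨hs, h2, hk, hke, hmnus, one_ne_zero⟩
  obtain ⟨c, hc, hT⟩ := hT
  set Q' : ((Fin t → Fin k') → F) → F := fun x => c⁻¹ * Q (mv P (x ∘ e)) with hQ'def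
  have hB := Bt_sym (J := Fin t) hs
  have hpol' : ∀ x y, Transvec.Orth.pol Q' x y = Bt σ₁ f₁ x y := fun x y => by
    have e1 : Transvec.Orth.pol Q' x y = c⁻¹ * QuadraticMap.polar Q (mv P (x ∘ e)) (mv P (y ∘ e)) := by
      simp only [hQ'def, Transvec.Orth.pol, QuadraticMap.polar, ← mv_add]
      rw [show (x + y) ∘ e = x ∘ e + y ∘ e from rfl]
      ring
    rw [e1, show QuadraticMap.polar Q (mv P (x ∘ e)) (mv P (y ∘ e)) = c * Bt σ₁ f₁ x y from hT x y,
      inv_mul_cancel_left₀ hc]
  have hQ' : Geo.IsNondegenerateQuadraticForm Q' := by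
    refine ⟨fun r v => ?_, ⟨fun x y v => ?_, fun r x v => ?_, fun v x y => ?_, fun r v x => ?_⟩, fun v hv => ?_⟩
    · simp only [hQ'def]
      rw [show (r • v) ∘ e = r • (v ∘ e) from rfl, mv_smul, Transvec.Orth.q_smul hQ]
      ring
    · show Transvec.Orth.pol Q' _ _ = Transvec.Orth.pol Q' _ _ + Transvec.Orth.pol Q' _ _
      rw [hpol', hpol', hpol', hB.add_left]
    · show Transvec.Orth.pol Q' _ _ = r * Transvec.Orth.pol Q' _ _
      rw [hpol', hpol', hB.smul_left]
    · show Transvec.Orth.pol Q' _ _ = Transvec.Orth.pol Q' _ _ + Transvec.Orth.pol Q' _ _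
      rw [hpol', hpol', hpol', hB.add_right]
    · show Transvec.Orth.pol Q' _ _ = r * Transvec.Orth.pol Q' _ _
      rw [hpol', hpol', hB.smul_right']
    · obtain ⟨y, hy⟩ : ∃ y, Bt σ₁ f₁ v y ≠ 0 := by
        by_contra hcon
        push Not at hcon
        exact hv (hB.nondeg v hcon)
      refine ⟨⟨y, show Transvec.Orth.pol Q' y v ≠ 0 from ?_⟩, ⟨y, show Transvec.Orth.pol Q' v y ≠ 0 from ?_⟩⟩
      · rw [Transvec.Orth.pol_comm, hpol']; exact hy
      · rw [hpol']; exact hy
  have B : Base f₁ Q' 1 :=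
    { toSl := S₁, hQ := hQ', hpol := hpol', hJ := by rw [Fintype.card_fin]; exact ht }
  have h' := TensorMax.isMaximalIn_map (MulAut.conj P)
    (TensorMax.isMaximalIn_map (Geo.glReindex e.symm) (even_maximal_std B))
  simp only [Subgroup.map_inf _ _ (Geo.glReindex (F := F) e.symm).toMonoidHom (Geo.glReindex e.symm).injective,
    Subgroup.map_inf _ _ (MulAut.conj P).toMonoidHom (MulAut.conj P).injective] at h'
  rw [TensorMax.S.map_omega e P hQ hQ' (inv_ne_zero hc) (fun x => rfl) (by omega)] at h'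
  exact h'

end Cfsg.Agent.OrthEvenWreath
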